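import Cfsg.Agent.J4p.GC
set_option autoImplicit false
set_option maxRecDepth 100000
namespace CA.J4p
open CA.TC
/-- The seven relators. -/
def axs : List (List ℕ) := [rp 2 [0], rp 3 [2], rp 23 [0, 2], rp 12 [1, 3, 0, 2], rp 5 [1, 3, 1, 3, 0, 2, 0, 2],
  rp 4 ([0, 2] ++ rp 3 [0, 2, 0, 3]), rp 3 [0, 2, 0, 2, 0, 3] ++ rp 3 [0, 2, 0, 3, 0, 3]]
/-- Definitions of the Schreier generators. -/
def dE (k : ℕ) : List ℕ := [[0], [2], [2], [0, 0], [0, 2, 2, 2, 1], [0, 2, 0, 0, 3, 1], [0, 3, 0, 0, 2, 1], [0, 2, 0, 2, 2, 2, 1, 3, 1], [0, 3, 0, 2, 0, 2, 1, 2, 1], [0, 3, 0, 2, 2, 2, 1, 2, 1], [0, 3, 0, 3, 0, 3, 1, 2, 1], [0, 2, 0, 2, 0, 0, 3, 1, 3, 1], [0, 2, 0, 3, 0, 0, 2, 1, 3, 1], [0, 2, 0, 2, 0, 2, 2, 2, 1, 3, 1, 3, 1], [0, 2, 0, 3, 0, 2, 2, 2, 1, 2, 1, 3, 1], [0, 2, 0, 2, 0, 2, 0, 0, 3, 1, 3, 1, 3, 1], [0, 2, 0, 2, 0, 2, 0, 2, 1, 3, 1, 3, 1, 3, 1], [0, 2, 0, 2, 0, 3, 0, 0, 2, 1, 3, 1, 3, 1], [0, 2, 0, 2, 0, 3, 0, 2, 1, 2, 1, 3, 1, 3, 1], [0, 2, 0,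 3, 0, 2, 0, 0, 3, 1, 2, 1, 3, 1], [0, 2, 0, 3, 0, 2, 0, 2, 1, 3, 1, 2, 1, 3, 1], [0, 2, 0, 3, 0, 3, 0, 0, 2, 1, 2, 1, 3, 1], [0, 2, 0, 3, 0, 3, 0, 2, 2, 2, 1, 2, 1, 2, 1, 3, 1], [0, 2, 0, 3, 0, 3, 0, 2, 0, 0, 3, 1, 2, 1, 2, 1, 3, 1], [0, 2, 0, 3, 0, 3, 0, 2, 0, 2, 1, 3, 1, 2, 1, 2, 1, 3, 1], [0, 2, 0, 3, 0, 3, 0, 3, 0, 0, 2, 1, 2, 1, 2, 1, 3, 1], [0, 2, 0, 3, 0, 3, 0, 3, 0, 2, 1, 2, 1, 2, 1, 2, 1, 3, 1]].getD k []
def rl1 : List (List ℕ) := [[4, 4, 4], [32, 32, 32], [36, 36, 36], [40, 40, 40], [48, 48, 48], [52, 52, 52], [5, 48, 4, 41], [5, 36, 21, 21, 41], [4, 48, 40, 53, 36], [52, 40, 52, 40, 33], [5, 21, 33, 36, 32, 20], [32, 41, 49, 53, 48, 40], [32, 37, 48, 36, 33, 37], [48, 53, 32, 52, 49, 53], [49, 36, 20, 4, 21, 37], [49, 36, 20, 33, 41, 20], [4, 32, 36, 40, 48, 52, 21], [4, 21, 21, 36, 32, 49, 53, 40], [4, 41, 52, 40, 4, 41, 52, 40], [32, 49, 52, 48, 32, 49, 52, 48], [48, 33, 36, 32, 48, 33, 36, 32], [37, 49, 53, 33, 37, 49, 53,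 33], [5, 36, 5, 36, 32, 41, 52, 48, 53], [4, 21, 36, 32, 37, 20, 20, 20, 5, 40], [33, 37, 21, 21, 36, 20, 20, 4, 21, 21], [21, 5, 41, 49, 53, 40, 52, 48, 4, 21], [37, 32, 37, 32, 37, 32, 37, 32, 37, 32], [53, 48, 53, 48, 53, 48, 53, 48, 53, 48], [20, 20, 20, 20, 20, 20, 20, 20, 20, 20, 20, 20, 20, 20, 20, 20, 20, 20, 20, 20, 20, 20, 20]]
def rl2 : List (List ℕ) := [[32, 32, 32], [36, 36, 36], [48, 48, 48], [52, 52, 52], [32, 37, 48, 36, 33, 37], [48, 53, 32, 52, 49, 53], [32, 49, 52, 48, 32, 49, 52, 48], [48, 33, 36, 32, 48, 33, 36, 32], [37, 49, 53, 33, 37, 49, 53, 33], [37, 32, 37, 32, 37, 32, 37, 32, 37, 32], [53, 48, 53, 48, 53, 48, 53, 48, 53, 48]]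
def rl3 : List (List ℕ) := [[32, 32, 32], [36, 36, 36], [48, 48, 48], [32, 37, 48, 36, 33, 37], [48, 33, 36, 32, 48, 33, 36, 32], [37, 32, 37, 32, 37, 32, 37, 32, 37, 32]]
def wq : List ℕ := [37, 32, 48, 37, 32, 48]
def rex : List ℕ := [32, 37, 32, 48, 37, 32, 48, 33, 49, 33, 36, 49, 33, 36]
noncomputable def sK0000 : BT (List ℕ × Ju) := (.node (.node (.node (.node (.node (.leaf ([(nat_lit 2), (nat_lit 2), (nat_lit 2)], .ax (nat_lit 1))) (.leaf ([(nat_lit 22), (nat_lit 14), (nat_lit 49), (nat_lit 46), (nat_lit 44), (nat_lit 52), (nat_lit 50), (nat_lit 45), (nat_lit 48), (nat_lit 46), (nat_lit 42), (nat_lit 24), (nat_lit 15), (nat_lit 32), (nat_lit 49), (nat_lit 52), (nat_lit 48), (nat_lit 32)], .mu (nat_lit 255) (nat_lit 75) (nat_lit 1) (nat_lit 0) (nat_lit 1)))) (.node (.leaf ([(nat_lit 44), (nat_lit 53), (nat_lit 50), (nat_lit 42), (nat_lit 24), (nat_lit 15), (nat_lit 32), (nat_lit 30), (nat_lit 22), (nat_lit 14), (nat_lit 52), (nat_lit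 50), (nat_lit 45), (nat_lit 49), (nat_lit 46), (nat_lit 44), (nat_lit 53), (nat_lit 50), (nat_lit 45), (nat_lit 48)], .mu (nat_lit 127) (nat_lit 10) (nat_lit 1) (nat_lit 0) (nat_lit 1))) (.leaf ([(nat_lit 42), (nat_lit 29), (nat_lit 40), (nat_lit 38), (nat_lit 28), (nat_lit 52), (nat_lit 50), (nat_lit 45), (nat_lit 48), (nat_lit 46), (nat_lit 42), (nat_lit 24), (nat_lit 10), (nat_lit 6), (nat_lit 4), (nat_lit 16), (nat_lit 19), (nat_lit 16), (nat_lit 5), (nat_lit 41), (nat_lit 49), (nat_lit 53)], .mu (nat_lit 383) (nat_lit 54) (nat_lit 1) (nat_lit 0) (nat_lit 1))))) (.node (.node (.leaf ([(nat_lit 42), (nat_lit 29), (nat_lit 40), (nat_lit 38), (nat_lit 28), (nat_lit 52), (nat_lit 50), (nat_lit 42), (nat_lit 29), (nat_lit 40), (nat_lit 38), (nat_lit 24), (nat_lit 15), (nat_lit 33), (nat_lit 30), (nat_lit 22), (nat_lit 14), (nat_lit 52)], .mu (nat_lit 63) (nat_lit 54) (nat_lit 1) (nat_lit 0) (nat_lit 1))) (.leaf ([(nat_lit 52), (nat_lit 50),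 (nat_lit 45), (nat_lit 48), (nat_lit 46), (nat_lit 44), (nat_lit 53), (nat_lit 50), (nat_lit 42), (nat_lit 29), (nat_lit 40), (nat_lit 38), (nat_lit 24), (nat_lit 10), (nat_lit 8), (nat_lit 20), (nat_lit 18), (nat_lit 20), (nat_lit 12), (nat_lit 6), (nat_lit 5), (nat_lit 36), (nat_lit 32), (nat_lit 41)], .mu (nat_lit 319) (nat_lit 49) (nat_lit 1) (nat_lit 0) (nat_lit 0)))) (.node (.leaf ([(nat_lit 40), (nat_lit 38), (nat_lit 28), (nat_lit 48), (nat_lit 46), (nat_lit 44), (nat_lit 52), (nat_lit 50), (nat_lit 42), (nat_lit 24), (nat_lit 10), (nat_lit 8), (nat_lit 16), (nat_lit 12), (nat_lit 6), (nat_lit 4), (nat_lit 32), (nat_lit 36)], .mu (nat_lit 191) (nat_lit 58) (nat_lit 1) (nat_lit 0) (nat_lit 0))) (.leaf ([(nat_lit 20), (nat_lit 18), (nat_lit 20), (nat_lit 18), (nat_lit 20), (nat_lit 18), (nat_lit 20), (nat_lit 18), (nat_lit 20), (nat_lit 18), (nat_lit 20), (nat_lit 18), (nat_lit 20), (nat_lit 18), (nat_lit 20), (nat_lit 18), (nat_lit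 20), (nat_lit 18), (nat_lit 20), (nat_lit 18), (nat_lit 20), (nat_lit 18), (nat_lit 20), (nat_lit 18), (nat_lit 20), (nat_lit 18), (nat_lit 20), (nat_lit 18), (nat_lit 20), (nat_lit 18), (nat_lit 20), (nat_lit 20), (nat_lit 20), (nat_lit 20), (nat_lit 20), (nat_lit 20), (nat_lit 20), (nat_lit 20)], .mu (nat_lit 447) (nat_lit 33) (nat_lit 1) (nat_lit 0) (nat_lit 1)))))) (.node (.node (.node (.leaf ([(nat_lit 16), (nat_lit 19), (nat_lit 16), (nat_lit 12), (nat_lit 9), (nat_lit 41), (nat_lit 38), (nat_lit 24), (nat_lit 10), (nat_lit 6), (nat_lit 5), (nat_lit 36)], .mu (nat_lit 30) (nat_lit 31) (nat_lit 1) (nat_lit 0) (nat_lit 0))) (.leaf ([(nat_lit 14), (nat_lit 48), (nat_lit 33), (nat_lit 36), (nat_lit 32), (nat_lit 48), (nat_lit 33), (nat_lit 36), (nat_lit 32)], .mu (nat_lit 287) (nat_lit 28) (nat_lit 1) (nat_lit 0) (nat_lit 0)))) (.node (.leaf ([(nat_lit 10), (nat_lit 6), (nat_lit 4), (nat_lit 20), (nat_lit 18), (nat_lit 20), (nat_lit 12),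 (nat_lit 9), (nat_lit 37), (nat_lit 48)], .mu (nat_lit 159) (nat_lit 14) (nat_lit 1) (nat_lit 0) (nat_lit 0))) (.leaf ([(nat_lit 32), (nat_lit 30), (nat_lit 26), (nat_lit 37), (nat_lit 32), (nat_lit 37), (nat_lit 32), (nat_lit 37), (nat_lit 32), (nat_lit 37), (nat_lit 32), (nat_lit 37)], .mu (nat_lit 415) (nat_lit 83) (nat_lit 0) (nat_lit 0) (nat_lit 1))))) (.node (.node (.leaf ([(nat_lit 14), (nat_lit 41), (nat_lit 38), (nat_lit 28), (nat_lit 49), (nat_lit 46), (nat_lit 44), (nat_lit 53), (nat_lit 50), (nat_lit 45), (nat_lit 48), (nat_lit 46), (nat_lit 42), (nat_lit 29), (nat_lit 40), (nat_lit 38), (nat_lit 24), (nat_lit 15), (nat_lit 32)], .mu (nat_lit 95) (nat_lit 28) (nat_lit 1) (nat_lit 0) (nat_lit 0))) (.leaf ([(nat_lit 10), (nat_lit 6), (nat_lit 4), (nat_lit 16), (nat_lit 36), (nat_lit 32), (nat_lit 37), (nat_lit 20), (nat_lit 20), (nat_lit 20), (nat_lit 5), (nat_lit 40)], .mu (nat_lit 351) (nat_lit 14) (nat_lit 1) (nat_lit 0) (nat_lit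 0)))) (.node (.leaf ([(nat_lit 0), (nat_lit 2), (nat_lit 0), (nat_lit 2), (nat_lit 0), (nat_lit 3), (nat_lit 0), (nat_lit 2), (nat_lit 0), (nat_lit 3), (nat_lit 0), (nat_lit 2), (nat_lit 0), (nat_lit 3), (nat_lit 0), (nat_lit 2), (nat_lit 0), (nat_lit 2), (nat_lit 0), (nat_lit 3), (nat_lit 0), (nat_lit 2), (nat_lit 0), (nat_lit 3), (nat_lit 0), (nat_lit 2), (nat_lit 0), (nat_lit 3), (nat_lit 0), (nat_lit 2), (nat_lit 0), (nat_lit 2), (nat_lit 0), (nat_lit 3), (nat_lit 0), (nat_lit 2), (nat_lit 0), (nat_lit 3), (nat_lit 0), (nat_lit 2), (nat_lit 0), (nat_lit 3), (nat_lit 0), (nat_lit 2), (nat_lit 0), (nat_lit 2), (nat_lit 0), (nat_lit 3), (nat_lit 0), (nat_lit 2), (nat_lit 0), (nat_lit 3), (nat_lit 0), (nat_lit 2), (nat_lit 0), (nat_lit 3)], .ax (nat_lit 5))) (.leaf ([], .ax (nat_lit 1000))))))) (.node (.node (.node (.node (.leaf ([(nat_lit 10)], .ex (nat_lit 9) [(nat_lit 0), (nat_lit 2)])) (.leaf ([(nat_lit 26), (nat_lit 36), (nat_lit 34),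 (nat_lit 27), (nat_lit 32), (nat_lit 30), (nat_lit 22), (nat_lit 14), (nat_lit 48), (nat_lit 46), (nat_lit 42), (nat_lit 24), (nat_lit 15), (nat_lit 33), (nat_lit 30), (nat_lit 26), (nat_lit 36), (nat_lit 34), (nat_lit 27), (nat_lit 32), (nat_lit 30), (nat_lit 22), (nat_lit 14), (nat_lit 48), (nat_lit 33)], .mu (nat_lit 271) (nat_lit 75) (nat_lit 1) (nat_lit 0) (nat_lit 1)))) (.node (.leaf ([(nat_lit 20), (nat_lit 18), (nat_lit 20), (nat_lit 12), (nat_lit 6), (nat_lit 4), (nat_lit 16), (nat_lit 12), (nat_lit 9), (nat_lit 37), (nat_lit 34), (nat_lit 22), (nat_lit 10), (nat_lit 6), (nat_lit 4), (nat_lit 20)], .mu (nat_lit 143) (nat_lit 33) (nat_lit 1) (nat_lit 0) (nat_lit 1))) (.leaf ([(nat_lit 32), (nat_lit 30), (nat_lit 26), (nat_lit 35), (nat_lit 37), (nat_lit 27), (nat_lit 32), (nat_lit 30), (nat_lit 26), (nat_lit 35), (nat_lit 37), (nat_lit 27), (nat_lit 32), (nat_lit 30), (nat_lit 26), (nat_lit 35), (nat_lit 37), (nat_lit 27), (nat_lit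 32), (nat_lit 30), (nat_lit 26), (nat_lit 35), (nat_lit 37), (nat_lit 27), (nat_lit 32), (nat_lit 30), (nat_lit 26), (nat_lit 37)], .mu (nat_lit 399) (nat_lit 83) (nat_lit 0) (nat_lit 0) (nat_lit 1))))) (.node (.node (.leaf ([(nat_lit 9), (nat_lit 33), (nat_lit 30), (nat_lit 26), (nat_lit 36), (nat_lit 34), (nat_lit 27), (nat_lit 32), (nat_lit 30), (nat_lit 22), (nat_lit 10), (nat_lit 8), (nat_lit 20), (nat_lit 12), (nat_lit 6), (nat_lit 5), (nat_lit 16)], .mu (nat_lit 79) (nat_lit 35) (nat_lit 1) (nat_lit 0) (nat_lit 1))) (.leaf ([(nat_lit 16), (nat_lit 12), (nat_lit 9), (nat_lit 36), (nat_lit 34), (nat_lit 27), (nat_lit 32), (nat_lit 30), (nat_lit 26), (nat_lit 37), (nat_lit 34), (nat_lit 22), (nat_lit 10), (nat_lit 8), (nat_lit 20), (nat_lit 18), (nat_lit 20), (nat_lit 18), (nat_lit 20), (nat_lit 12), (nat_lit 6), (nat_lit 5), (nat_lit 40), (nat_lit 38), (nat_lit 24), (nat_lit 10), (nat_lit 6), (nat_lit 4)], .ex (nat_lit 224) [(nat_lit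 0), (nat_lit 3)]))) (.node (.leaf ([(nat_lit 16), (nat_lit 9), (nat_lit 23), (nat_lit 36), (nat_lit 27), (nat_lit 32), (nat_lit 22), (nat_lit 14), (nat_lit 25), (nat_lit 47), (nat_lit 49), (nat_lit 46), (nat_lit 44), (nat_lit 51), (nat_lit 53), (nat_lit 50), (nat_lit 29), (nat_lit 40), (nat_lit 24), (nat_lit 6), (nat_lit 4), (nat_lit 21)], .mu (nat_lit 207) (nat_lit 33) (nat_lit 0) (nat_lit 0) (nat_lit 1))) (.leaf ([], .ax (nat_lit 1000)))))) (.node (.node (.node (.leaf ([(nat_lit 48), (nat_lit 29), (nat_lit 40), (nat_lit 38), (nat_lit 28), (nat_lit 43), (nat_lit 51), (nat_lit 53), (nat_lit 50), (nat_lit 42), (nat_lit 15), (nat_lit 23), (nat_lit 36), (nat_lit 34), (nat_lit 6), (nat_lit 4)], .mu (nat_lit 47) (nat_lit 14) (nat_lit 0) (nat_lit 0) (nat_lit 0))) (.leaf ([(nat_lit 49), (nat_lit 46), (nat_lit 44), (nat_lit 53), (nat_lit 50), (nat_lit 42), (nat_lit 24), (nat_lit 15), (nat_lit 33), (nat_lit 30), (nat_lit 26), (nat_lit 37), (nat_lit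 49), (nat_lit 53), (nat_lit 33), (nat_lit 37)], .mu (nat_lit 303) (nat_lit 58) (nat_lit 1) (nat_lit 0) (nat_lit 0)))) (.node (.leaf ([(nat_lit 39), (nat_lit 41), (nat_lit 24), (nat_lit 10), (nat_lit 8), (nat_lit 13), (nat_lit 17), (nat_lit 12), (nat_lit 6), (nat_lit 4), (nat_lit 20), (nat_lit 20), (nat_lit 17), (nat_lit 33)], .mu (nat_lit 175) (nat_lit 58) (nat_lit 1) (nat_lit 0) (nat_lit 0))) (.leaf ([(nat_lit 53), (nat_lit 45), (nat_lit 48), (nat_lit 46), (nat_lit 44), (nat_lit 51), (nat_lit 53), (nat_lit 45), (nat_lit 48), (nat_lit 46), (nat_lit 44), (nat_lit 53), (nat_lit 48), (nat_lit 53), (nat_lit 48), (nat_lit 53), (nat_lit 48)], .mu (nat_lit 431) (nat_lit 54) (nat_lit 0) (nat_lit 0) (nat_lit 0))))) (.node (.node (.leaf ([(nat_lit 26), (nat_lit 37), (nat_lit 34), (nat_lit 22), (nat_lit 14), (nat_lit 48), (nat_lit 46), (nat_lit 42), (nat_lit 24), (nat_lit 15), (nat_lit 36), (nat_lit 34), (nat_lit 27), (nat_lit 33), (nat_lit 30), (nat_lit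 26), (nat_lit 37), (nat_lit 34), (nat_lit 27), (nat_lit 32)], .mu (nat_lit 111) (nat_lit 75) (nat_lit 1) (nat_lit 0) (nat_lit 1))) (.leaf ([(nat_lit 8), (nat_lit 20), (nat_lit 18), (nat_lit 20), (nat_lit 12), (nat_lit 6), (nat_lit 4), (nat_lit 16), (nat_lit 19), (nat_lit 16), (nat_lit 12), (nat_lit 9), (nat_lit 33), (nat_lit 37), (nat_lit 16), (nat_lit 16), (nat_lit 36)], .mu (nat_lit 367) (nat_lit 16) (nat_lit 1) (nat_lit 0) (nat_lit 0)))) (.node (.leaf ([(nat_lit 40), (nat_lit 38), (nat_lit 24), (nat_lit 10), (nat_lit 4), (nat_lit 41), (nat_lit 52), (nat_lit 40), (nat_lit 4), (nat_lit 41), (nat_lit 52)], .mu (nat_lit 239) (nat_lit 49) (nat_lit 0) (nat_lit 0) (nat_lit 0))) (.leaf ([], .ax (nat_lit 1000))))))))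
noncomputable def sK0001 : BT (List ℕ × Ju) := (.node (.node (.node (.node (.node (.leaf ([(nat_lit 48), (nat_lit 46), (nat_lit 42), (nat_lit 24), (nat_lit 10), (nat_lit 6), (nat_lit 4), (nat_lit 41), (nat_lit 38), (nat_lit 24), (nat_lit 10), (nat_lit 6), (nat_lit 5)], .ex (nat_lit 7) [(nat_lit 0), (nat_lit 2), (nat_lit 0), (nat_lit 3), (nat_lit 0), (nat_lit 3)])) (.leaf ([(nat_lit 24), (nat_lit 15), (nat_lit 32), (nat_lit 49), (nat_lit 52), (nat_lit 48), (nat_lit 32), (nat_lit 49), (nat_lit 52), (nat_lit 48)], .mu (nat_lit 263) (nat_lit 12) (nat_lit 1) (nat_lit 0) (nat_lit 0)))) (.node (.leaf ([(nat_lit 52), (nat_lit 50), (nat_lit 45), (nat_lit 49), (nat_lit 46), (nat_lit 44), (nat_lit 53), (nat_lit 50), (nat_lit 45), (nat_lit 48), (nat_lit 53), (nat_lit 32)], .mu (nat_lit 135) (nat_lit 58) (nat_lit 1) (nat_lit 0) (nat_lit 0))) (.leaf ([(nat_lit 24), (nat_lit 10), (nat_lit 6), (nat_lit 4), (nat_lit 16), (nat_lit 19), (nat_lit 16), (nat_lit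 5), (nat_lit 41), (nat_lit 49), (nat_lit 53), (nat_lit 40), (nat_lit 52), (nat_lit 48)], .mu (nat_lit 391) (nat_lit 12) (nat_lit 1) (nat_lit 0) (nat_lit 0))))) (.node (.node (.leaf ([(nat_lit 24), (nat_lit 15), (nat_lit 33), (nat_lit 30), (nat_lit 22), (nat_lit 14), (nat_lit 52), (nat_lit 40), (nat_lit 52), (nat_lit 40)], .mu (nat_lit 71) (nat_lit 20) (nat_lit 1) (nat_lit 0) (nat_lit 1))) (.leaf ([(nat_lit 24), (nat_lit 10), (nat_lit 8), (nat_lit 20), (nat_lit 18), (nat_lit 20), (nat_lit 12), (nat_lit 6), (nat_lit 5), (nat_lit 36), (nat_lit 32), (nat_lit 41), (nat_lit 52), (nat_lit 48), (nat_lit 53), (nat_lit 40)], .mu (nat_lit 327) (nat_lit 20) (nat_lit 1) (nat_lit 0) (nat_lit 1)))) (.node (.leaf ([(nat_lit 8), (nat_lit 16), (nat_lit 12), (nat_lit 6), (nat_lit 4), (nat_lit 32), (nat_lit 36), (nat_lit 40), (nat_lit 48), (nat_lit 52)], .mu (nat_lit 199) (nat_lit 16) (nat_lit 1) (nat_lit 0) (nat_lit 0))) (.leaf ([(nat_lit 20), (nat_lit 18),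 (nat_lit 20), (nat_lit 18), (nat_lit 20), (nat_lit 18), (nat_lit 20), (nat_lit 18), (nat_lit 20), (nat_lit 18), (nat_lit 20), (nat_lit 18), (nat_lit 20), (nat_lit 18), (nat_lit 20), (nat_lit 20), (nat_lit 20), (nat_lit 20), (nat_lit 20), (nat_lit 20), (nat_lit 20), (nat_lit 20), (nat_lit 20), (nat_lit 20), (nat_lit 20), (nat_lit 20), (nat_lit 20), (nat_lit 20), (nat_lit 20), (nat_lit 20)], .mu (nat_lit 455) (nat_lit 33) (nat_lit 1) (nat_lit 0) (nat_lit 1)))))) (.node (.node (.node (.leaf ([(nat_lit 6), (nat_lit 5), (nat_lit 36), (nat_lit 16), (nat_lit 16), (nat_lit 41)], .mu (nat_lit 39) (nat_lit 16) (nat_lit 1) (nat_lit 0) (nat_lit 0))) (.leaf ([(nat_lit 42), (nat_lit 24), (nat_lit 15), (nat_lit 33), (nat_lit 30), (nat_lit 26), (nat_lit 37), (nat_lit 34), (nat_lit 22), (nat_lit 14), (nat_lit 49), (nat_lit 46), (nat_lit 44), (nat_lit 53), (nat_lit 50), (nat_lit 42), (nat_lit 24), (nat_lit 15), (nat_lit 33), (nat_lit 30), (nat_lit 26), (nat_lit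 37), (nat_lit 49), (nat_lit 53)], .mu (nat_lit 295) (nat_lit 54) (nat_lit 1) (nat_lit 0) (nat_lit 1)))) (.node (.leaf ([(nat_lit 7), (nat_lit 13), (nat_lit 20), (nat_lit 18), (nat_lit 20), (nat_lit 18), (nat_lit 17), (nat_lit 9), (nat_lit 31), (nat_lit 33), (nat_lit 22), (nat_lit 14), (nat_lit 39), (nat_lit 41), (nat_lit 24), (nat_lit 10), (nat_lit 8), (nat_lit 13), (nat_lit 17), (nat_lit 12), (nat_lit 6), (nat_lit 4)], .ex (nat_lit 45) [])) (.leaf ([(nat_lit 53), (nat_lit 45), (nat_lit 48), (nat_lit 46), (nat_lit 44), (nat_lit 51), (nat_lit 53), (nat_lit 45), (nat_lit 48), (nat_lit 46), (nat_lit 44), (nat_lit 51), (nat_lit 53), (nat_lit 45), (nat_lit 48), (nat_lit 46), (nat_lit 44), (nat_lit 51), (nat_lit 53), (nat_lit 45), (nat_lit 48), (nat_lit 46), (nat_lit 44), (nat_lit 53), (nat_lit 48)], .mu (nat_lit 423) (nat_lit 54) (nat_lit 0) (nat_lit 0) (nat_lit 0))))) (.node (.node (.leaf ([(nat_lit 48), (nat_lit 46), (nat_lit 42), (nat_lit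 29), (nat_lit 40), (nat_lit 38), (nat_lit 24), (nat_lit 15), (nat_lit 32), (nat_lit 41), (nat_lit 49), (nat_lit 53)], .mu (nat_lit 103) (nat_lit 101) (nat_lit 0) (nat_lit 0) (nat_lit 0))) (.leaf ([(nat_lit 10), (nat_lit 8), (nat_lit 16), (nat_lit 19), (nat_lit 16), (nat_lit 12), (nat_lit 9), (nat_lit 36), (nat_lit 34), (nat_lit 22), (nat_lit 10), (nat_lit 8), (nat_lit 20), (nat_lit 18), (nat_lit 20), (nat_lit 12), (nat_lit 6), (nat_lit 4), (nat_lit 16), (nat_lit 19), (nat_lit 16), (nat_lit 12), (nat_lit 9), (nat_lit 33), (nat_lit 37)], .mu (nat_lit 359) (nat_lit 28) (nat_lit 1) (nat_lit 0) (nat_lit 0)))) (.node (.leaf ([(nat_lit 24), (nat_lit 10), (nat_lit 6), (nat_lit 4), (nat_lit 41), (nat_lit 38), (nat_lit 28), (nat_lit 52), (nat_lit 50), (nat_lit 42), (nat_lit 29), (nat_lit 40), (nat_lit 38), (nat_lit 24), (nat_lit 10), (nat_lit 4), (nat_lit 41), (nat_lit 52), (nat_lit 40)], .mu (nat_lit 231) (nat_lit 20) (nat_lit 1) (nat_lit 0) (nat_lit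 1))) (.leaf ([], .ax (nat_lit 1000))))))) (.node (.node (.node (.node (.leaf ([(nat_lit 5), (nat_lit 48), (nat_lit 4), (nat_lit 41)], .mu (nat_lit 23) (nat_lit 18) (nat_lit 1) (nat_lit 0) (nat_lit 0))) (.leaf ([(nat_lit 24), (nat_lit 15), (nat_lit 33), (nat_lit 30), (nat_lit 26), (nat_lit 36), (nat_lit 34), (nat_lit 27), (nat_lit 32), (nat_lit 30), (nat_lit 22), (nat_lit 14), (nat_lit 48), (nat_lit 33), (nat_lit 36), (nat_lit 32), (nat_lit 48)], .mu (nat_lit 279) (nat_lit 12) (nat_lit 1) (nat_lit 0) (nat_lit 0)))) (.node (.leaf ([(nat_lit 6), (nat_lit 4), (nat_lit 20), (nat_lit 20), (nat_lit 20), (nat_lit 4), (nat_lit 16), (nat_lit 37)], .mu (nat_lit 151) (nat_lit 16) (nat_lit 1) (nat_lit 0) (nat_lit 0))) (.leaf ([(nat_lit 32), (nat_lit 30), (nat_lit 26), (nat_lit 35), (nat_lit 37), (nat_lit 27), (nat_lit 32), (nat_lit 30), (nat_lit 26), (nat_lit 35), (nat_lit 37), (nat_lit 27), (nat_lit 32), (nat_lit 30), (nat_lit 26), (nat_lit 37), (nat_lit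 32), (nat_lit 37), (nat_lit 32), (nat_lit 37)], .mu (nat_lit 407) (nat_lit 83) (nat_lit 0) (nat_lit 0) (nat_lit 1))))) (.node (.node (.leaf ([(nat_lit 10), (nat_lit 8), (nat_lit 20), (nat_lit 12), (nat_lit 6), (nat_lit 5), (nat_lit 16), (nat_lit 33), (nat_lit 36), (nat_lit 32)], .mu (nat_lit 87) (nat_lit 28) (nat_lit 1) (nat_lit 0) (nat_lit 0))) (.leaf ([(nat_lit 10), (nat_lit 8), (nat_lit 20), (nat_lit 18), (nat_lit 20), (nat_lit 18), (nat_lit 20), (nat_lit 12), (nat_lit 6), (nat_lit 5), (nat_lit 40), (nat_lit 38), (nat_lit 24), (nat_lit 10), (nat_lit 6), (nat_lit 4), (nat_lit 16), (nat_lit 36), (nat_lit 32), (nat_lit 37)], .mu (nat_lit 343) (nat_lit 28) (nat_lit 1) (nat_lit 0) (nat_lit 0)))) (.node (.leaf ([(nat_lit 44), (nat_lit 51), (nat_lit 53), (nat_lit 50), (nat_lit 29), (nat_lit 40), (nat_lit 24), (nat_lit 6), (nat_lit 4), (nat_lit 21), (nat_lit 16), (nat_lit 36), (nat_lit 32), (nat_lit 49)], .mu (nat_lit 215) (nat_lit 10) (nat_lit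 1) (nat_lit 0) (nat_lit 1))) (.leaf ([], .ax (nat_lit 1000)))))) (.node (.node (.node (.leaf ([(nat_lit 42), (nat_lit 15), (nat_lit 23), (nat_lit 36), (nat_lit 34), (nat_lit 6), (nat_lit 4), (nat_lit 48), (nat_lit 40), (nat_lit 53)], .mu (nat_lit 55) (nat_lit 54) (nat_lit 1) (nat_lit 0) (nat_lit 1))) (.leaf ([(nat_lit 37), (nat_lit 49), (nat_lit 53), (nat_lit 33), (nat_lit 37), (nat_lit 49), (nat_lit 53), (nat_lit 33)], .mu (nat_lit 311) (nat_lit 83) (nat_lit 1) (nat_lit 0) (nat_lit 0)))) (.node (.leaf ([(nat_lit 49), (nat_lit 36), (nat_lit 17), (nat_lit 33), (nat_lit 41), (nat_lit 17)], .mu (nat_lit 183) (nat_lit 165) (nat_lit 1) (nat_lit 3) (nat_lit 0))) (.leaf ([(nat_lit 20), (nat_lit 18), (nat_lit 20), (nat_lit 18), (nat_lit 20), (nat_lit 18), (nat_lit 20), (nat_lit 18), (nat_lit 20), (nat_lit 18), (nat_lit 20), (nat_lit 18), (nat_lit 20), (nat_lit 18), (nat_lit 20), (nat_lit 18), (nat_lit 20), (nat_lit 18), (nat_lit 20), (nat_lit 18),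 (nat_lit 20), (nat_lit 18), (nat_lit 20), (nat_lit 18), (nat_lit 20), (nat_lit 18), (nat_lit 20), (nat_lit 18), (nat_lit 20), (nat_lit 18), (nat_lit 20), (nat_lit 18), (nat_lit 20), (nat_lit 18), (nat_lit 20), (nat_lit 18), (nat_lit 20), (nat_lit 18), (nat_lit 20), (nat_lit 18), (nat_lit 20), (nat_lit 18), (nat_lit 20), (nat_lit 18), (nat_lit 20), (nat_lit 18)], .ex (nat_lit 186) [(nat_lit 0), (nat_lit 3), (nat_lit 0), (nat_lit 3)])))) (.node (.node (.leaf ([(nat_lit 36), (nat_lit 34), (nat_lit 27), (nat_lit 33), (nat_lit 30), (nat_lit 26), (nat_lit 37), (nat_lit 34), (nat_lit 27), (nat_lit 32), (nat_lit 37), (nat_lit 48)], .mu (nat_lit 119) (nat_lit 58) (nat_lit 0) (nat_lit 0) (nat_lit 0))) (.leaf ([(nat_lit 33), (nat_lit 37), (nat_lit 21), (nat_lit 21), (nat_lit 36), (nat_lit 20), (nat_lit 20), (nat_lit 4), (nat_lit 21), (nat_lit 21)], .su (nat_lit 375) (nat_lit 43)))) (.node (.leaf ([(nat_lit 44), (nat_lit 52), (nat_lit 50), (nat_lit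 45), (nat_lit 48), (nat_lit 46), (nat_lit 42), (nat_lit 24), (nat_lit 15), (nat_lit 32), (nat_lit 30), (nat_lit 22), (nat_lit 14), (nat_lit 49), (nat_lit 46), (nat_lit 44), (nat_lit 52), (nat_lit 50), (nat_lit 45), (nat_lit 48), (nat_lit 46), (nat_lit 42), (nat_lit 24), (nat_lit 15), (nat_lit 32), (nat_lit 49)], .mu (nat_lit 247) (nat_lit 10) (nat_lit 1) (nat_lit 0) (nat_lit 1))) (.leaf ([], .ax (nat_lit 1000))))))))
noncomputable def sK000 : BT (List ℕ × Ju) := .node sK0000 sK0001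
noncomputable def sK0010 : BT (List ℕ × Ju) := (.node (.node (.node (.node (.node (.leaf ([(nat_lit 40), (nat_lit 40), (nat_lit 40)], .ex (nat_lit 0) [(nat_lit 0), (nat_lit 2), (nat_lit 0), (nat_lit 3), (nat_lit 0), (nat_lit 2), (nat_lit 0)])) (.leaf ([(nat_lit 52), (nat_lit 50), (nat_lit 45), (nat_lit 48), (nat_lit 46), (nat_lit 42), (nat_lit 24), (nat_lit 15), (nat_lit 32), (nat_lit 49), (nat_lit 52), (nat_lit 48), (nat_lit 32), (nat_lit 49)], .mu (nat_lit 259) (nat_lit 101) (nat_lit 1) (nat_lit 0) (nat_lit 0)))) (.node (.leaf ([(nat_lit 15), (nat_lit 32), (nat_lit 30), (nat_lit 22), (nat_lit 14), (nat_lit 52), (nat_lit 50), (nat_lit 45), (nat_lit 49), (nat_lit 46), (nat_lit 44), (nat_lit 53), (nat_lit 50), (nat_lit 45), (nat_lit 48), (nat_lit 53)], .mu (nat_lit 131) (nat_lit 14) (nat_lit 1) (nat_lit 0) (nat_lit 0))) (.leaf ([(nat_lit 52), (nat_lit 50), (nat_lit 45), (nat_lit 48), (nat_lit 46), (nat_lit 42), (nat_lit 24), (nat_lit 10),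 (nat_lit 6), (nat_lit 4), (nat_lit 16), (nat_lit 19), (nat_lit 16), (nat_lit 5), (nat_lit 41), (nat_lit 49), (nat_lit 53), (nat_lit 40)], .mu (nat_lit 387) (nat_lit 49) (nat_lit 1) (nat_lit 0) (nat_lit 0))))) (.node (.node (.leaf ([(nat_lit 52), (nat_lit 50), (nat_lit 42), (nat_lit 29), (nat_lit 40), (nat_lit 38), (nat_lit 24), (nat_lit 15), (nat_lit 33), (nat_lit 30), (nat_lit 22), (nat_lit 14), (nat_lit 52), (nat_lit 40)], .mu (nat_lit 67) (nat_lit 49) (nat_lit 1) (nat_lit 0) (nat_lit 0))) (.leaf ([(nat_lit 53), (nat_lit 50), (nat_lit 42), (nat_lit 29), (nat_lit 40), (nat_lit 38), (nat_lit 24), (nat_lit 10), (nat_lit 8), (nat_lit 20), (nat_lit 18), (nat_lit 20), (nat_lit 12), (nat_lit 6), (nat_lit 5), (nat_lit 36), (nat_lit 32), (nat_lit 41), (nat_lit 52), (nat_lit 48)], .mu (nat_lit 323) (nat_lit 101) (nat_lit 1) (nat_lit 0) (nat_lit 0)))) (.node (.leaf ([(nat_lit 52), (nat_lit 50), (nat_lit 42), (nat_lit 24), (nat_lit 10), (nat_lit 8),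 (nat_lit 16), (nat_lit 12), (nat_lit 6), (nat_lit 4), (nat_lit 32), (nat_lit 36), (nat_lit 40), (nat_lit 48)], .mu (nat_lit 195) (nat_lit 101) (nat_lit 1) (nat_lit 0) (nat_lit 0))) (.leaf ([(nat_lit 20), (nat_lit 18), (nat_lit 20), (nat_lit 18), (nat_lit 20), (nat_lit 18), (nat_lit 20), (nat_lit 18), (nat_lit 20), (nat_lit 18), (nat_lit 20), (nat_lit 18), (nat_lit 20), (nat_lit 18), (nat_lit 20), (nat_lit 18), (nat_lit 20), (nat_lit 18), (nat_lit 20), (nat_lit 18), (nat_lit 20), (nat_lit 18), (nat_lit 20), (nat_lit 20), (nat_lit 20), (nat_lit 20), (nat_lit 20), (nat_lit 20), (nat_lit 20), (nat_lit 20), (nat_lit 20), (nat_lit 20), (nat_lit 20), (nat_lit 20)], .mu (nat_lit 451) (nat_lit 33) (nat_lit 1) (nat_lit 0) (nat_lit 1)))))) (.node (.node (.node (.leaf ([(nat_lit 9), (nat_lit 41), (nat_lit 38), (nat_lit 24), (nat_lit 10), (nat_lit 6), (nat_lit 5), (nat_lit 36), (nat_lit 16), (nat_lit 16)], .mu (nat_lit 34) (nat_lit 35) (nat_lit 1) (nat_lit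 0) (nat_lit 1))) (.leaf ([(nat_lit 14), (nat_lit 49), (nat_lit 46), (nat_lit 44), (nat_lit 53), (nat_lit 50), (nat_lit 42), (nat_lit 24), (nat_lit 15), (nat_lit 33), (nat_lit 30), (nat_lit 26), (nat_lit 37), (nat_lit 34), (nat_lit 22), (nat_lit 14), (nat_lit 49), (nat_lit 46), (nat_lit 44), (nat_lit 53), (nat_lit 50), (nat_lit 42), (nat_lit 24), (nat_lit 15), (nat_lit 33), (nat_lit 30), (nat_lit 26), (nat_lit 37)], .mu (nat_lit 291) (nat_lit 28) (nat_lit 1) (nat_lit 0) (nat_lit 0)))) (.node (.leaf ([(nat_lit 9), (nat_lit 37), (nat_lit 48), (nat_lit 4), (nat_lit 20), (nat_lit 20)], .mu (nat_lit 163) (nat_lit 35) (nat_lit 1) (nat_lit 0) (nat_lit 1))) (.leaf ([(nat_lit 53), (nat_lit 45), (nat_lit 48), (nat_lit 46), (nat_lit 44), (nat_lit 51), (nat_lit 53), (nat_lit 45), (nat_lit 48), (nat_lit 46), (nat_lit 44), (nat_lit 51), (nat_lit 53), (nat_lit 45), (nat_lit 48), (nat_lit 46), (nat_lit 44), (nat_lit 51), (nat_lit 53), (nat_lit 45), (nat_lit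 48), (nat_lit 46), (nat_lit 44), (nat_lit 51), (nat_lit 53), (nat_lit 45), (nat_lit 48), (nat_lit 46), (nat_lit 44)], .mu (nat_lit 419) (nat_lit 54) (nat_lit 0) (nat_lit 0) (nat_lit 0))))) (.node (.node (.leaf ([(nat_lit 44), (nat_lit 53), (nat_lit 50), (nat_lit 45), (nat_lit 48), (nat_lit 46), (nat_lit 42), (nat_lit 29), (nat_lit 40), (nat_lit 38), (nat_lit 24), (nat_lit 15), (nat_lit 32), (nat_lit 41), (nat_lit 49)], .mu (nat_lit 99) (nat_lit 10) (nat_lit 1) (nat_lit 0) (nat_lit 1))) (.leaf ([(nat_lit 33), (nat_lit 30), (nat_lit 26), (nat_lit 37), (nat_lit 34), (nat_lit 22), (nat_lit 10), (nat_lit 8), (nat_lit 16), (nat_lit 19), (nat_lit 16), (nat_lit 12), (nat_lit 9), (nat_lit 36), (nat_lit 34), (nat_lit 22), (nat_lit 10), (nat_lit 8), (nat_lit 20), (nat_lit 18), (nat_lit 20), (nat_lit 12), (nat_lit 6), (nat_lit 4), (nat_lit 16), (nat_lit 19), (nat_lit 16), (nat_lit 12), (nat_lit 9)], .ex (nat_lit 224) [(nat_lit 0), (nat_lit 2)]))) (.node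 (.leaf ([(nat_lit 52), (nat_lit 50), (nat_lit 42), (nat_lit 29), (nat_lit 40), (nat_lit 38), (nat_lit 24), (nat_lit 10), (nat_lit 6), (nat_lit 4), (nat_lit 41), (nat_lit 38), (nat_lit 28), (nat_lit 52), (nat_lit 50), (nat_lit 42), (nat_lit 29), (nat_lit 40), (nat_lit 38), (nat_lit 24), (nat_lit 10), (nat_lit 4), (nat_lit 41)], .mu (nat_lit 227) (nat_lit 49) (nat_lit 1) (nat_lit 0) (nat_lit 0))) (.leaf ([], .ax (nat_lit 1000))))))) (.node (.node (.node (.node (.leaf ([(nat_lit 38)], .ex (nat_lit 9) [(nat_lit 0), (nat_lit 2), (nat_lit 0), (nat_lit 3), (nat_lit 0), (nat_lit 2)])) (.leaf ([(nat_lit 22), (nat_lit 14), (nat_lit 48), (nat_lit 46), (nat_lit 42), (nat_lit 24), (nat_lit 15), (nat_lit 33), (nat_lit 30), (nat_lit 26), (nat_lit 36), (nat_lit 34), (nat_lit 27), (nat_lit 32), (nat_lit 30), (nat_lit 22), (nat_lit 14), (nat_lit 48), (nat_lit 33), (nat_lit 36), (nat_lit 32)], .mu (nat_lit 275) (nat_lit 75) (nat_lit 1) (nat_lit 0) (nat_lit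 1)))) (.node (.leaf ([(nat_lit 9), (nat_lit 37), (nat_lit 34), (nat_lit 22), (nat_lit 10), (nat_lit 6), (nat_lit 4), (nat_lit 20), (nat_lit 20), (nat_lit 20), (nat_lit 4), (nat_lit 16)], .mu (nat_lit 147) (nat_lit 35) (nat_lit 1) (nat_lit 0) (nat_lit 2))) (.leaf ([(nat_lit 32), (nat_lit 30), (nat_lit 26), (nat_lit 35), (nat_lit 37), (nat_lit 27), (nat_lit 32), (nat_lit 30), (nat_lit 26), (nat_lit 35), (nat_lit 37), (nat_lit 27), (nat_lit 32), (nat_lit 30), (nat_lit 26), (nat_lit 35), (nat_lit 37), (nat_lit 27), (nat_lit 32), (nat_lit 30), (nat_lit 26), (nat_lit 37), (nat_lit 32), (nat_lit 37)], .mu (nat_lit 403) (nat_lit 83) (nat_lit 0) (nat_lit 0) (nat_lit 1))))) (.node (.node (.leaf ([(nat_lit 36), (nat_lit 34), (nat_lit 27), (nat_lit 32), (nat_lit 30), (nat_lit 22), (nat_lit 10), (nat_lit 8), (nat_lit 20), (nat_lit 12), (nat_lit 6), (nat_lit 5), (nat_lit 16), (nat_lit 33)], .mu (nat_lit 82) (nat_lit 83) (nat_lit 1) (nat_lit 0) (nat_lit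 0))) (.leaf ([(nat_lit 32), (nat_lit 30), (nat_lit 26), (nat_lit 37), (nat_lit 34), (nat_lit 22), (nat_lit 10), (nat_lit 8), (nat_lit 20), (nat_lit 18), (nat_lit 20), (nat_lit 18), (nat_lit 20), (nat_lit 12), (nat_lit 6), (nat_lit 5), (nat_lit 40), (nat_lit 38), (nat_lit 24), (nat_lit 10), (nat_lit 6), (nat_lit 4), (nat_lit 16), (nat_lit 36)], .mu (nat_lit 339) (nat_lit 83) (nat_lit 0) (nat_lit 0) (nat_lit 0)))) (.node (.leaf ([(nat_lit 14), (nat_lit 25), (nat_lit 47), (nat_lit 49), (nat_lit 46), (nat_lit 44), (nat_lit 51), (nat_lit 53), (nat_lit 50), (nat_lit 29), (nat_lit 40), (nat_lit 24), (nat_lit 6), (nat_lit 4), (nat_lit 21), (nat_lit 16), (nat_lit 36), (nat_lit 32)], .mu (nat_lit 211) (nat_lit 28) (nat_lit 1) (nat_lit 0) (nat_lit 1))) (.leaf ([], .ax (nat_lit 1000)))))) (.node (.node (.node (.leaf ([(nat_lit 43), (nat_lit 51), (nat_lit 53), (nat_lit 50), (nat_lit 42), (nat_lit 15), (nat_lit 23), (nat_lit 36), (nat_lit 34), (nat_lit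 6), (nat_lit 4), (nat_lit 48), (nat_lit 40)], .mu (nat_lit 51) (nat_lit 49) (nat_lit 1) (nat_lit 0) (nat_lit 0))) (.leaf ([(nat_lit 24), (nat_lit 15), (nat_lit 33), (nat_lit 30), (nat_lit 26), (nat_lit 37), (nat_lit 49), (nat_lit 53), (nat_lit 33), (nat_lit 37), (nat_lit 49), (nat_lit 53)], .mu (nat_lit 307) (nat_lit 12) (nat_lit 1) (nat_lit 0) (nat_lit 0)))) (.node (.leaf ([(nat_lit 13), (nat_lit 17), (nat_lit 12), (nat_lit 6), (nat_lit 4), (nat_lit 20), (nat_lit 20), (nat_lit 17), (nat_lit 33), (nat_lit 41)], .mu (nat_lit 179) (nat_lit 31) (nat_lit 1) (nat_lit 0) (nat_lit 0))) (.leaf ([(nat_lit 53), (nat_lit 45), (nat_lit 48), (nat_lit 46), (nat_lit 44), (nat_lit 53), (nat_lit 48), (nat_lit 53), (nat_lit 48), (nat_lit 53), (nat_lit 48), (nat_lit 53), (nat_lit 48)], .mu (nat_lit 435) (nat_lit 54) (nat_lit 0) (nat_lit 0) (nat_lit 0))))) (.node (.node (.leaf ([(nat_lit 48), (nat_lit 46), (nat_lit 42), (nat_lit 24), (nat_lit 15), (nat_lit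 36), (nat_lit 34), (nat_lit 27), (nat_lit 33), (nat_lit 30), (nat_lit 26), (nat_lit 37), (nat_lit 34), (nat_lit 27), (nat_lit 32), (nat_lit 37)], .mu (nat_lit 115) (nat_lit 58) (nat_lit 1) (nat_lit 0) (nat_lit 0))) (.leaf ([(nat_lit 4), (nat_lit 16), (nat_lit 19), (nat_lit 16), (nat_lit 12), (nat_lit 9), (nat_lit 33), (nat_lit 37), (nat_lit 16), (nat_lit 16), (nat_lit 36), (nat_lit 20), (nat_lit 20)], .mu (nat_lit 371) (nat_lit 18) (nat_lit 1) (nat_lit 0) (nat_lit 0)))) (.node (.leaf ([(nat_lit 32), (nat_lit 30), (nat_lit 22), (nat_lit 14), (nat_lit 49), (nat_lit 46), (nat_lit 44), (nat_lit 52), (nat_lit 50), (nat_lit 45), (nat_lit 48), (nat_lit 46), (nat_lit 42), (nat_lit 24), (nat_lit 15), (nat_lit 32), (nat_lit 30), (nat_lit 22), (nat_lit 14), (nat_lit 49), (nat_lit 46), (nat_lit 44), (nat_lit 52), (nat_lit 50), (nat_lit 45), (nat_lit 48), (nat_lit 46), (nat_lit 42), (nat_lit 24), (nat_lit 15)], .ex (nat_lit 224) [(nat_lit 0), (nat_lit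 2), (nat_lit 0), (nat_lit 2)])) (.leaf ([], .ax (nat_lit 1000))))))))
noncomputable def sK0011 : BT (List ℕ × Ju) := (.node (.node (.node (.node (.node (.leaf ([(nat_lit 42)], .ex (nat_lit 9) [(nat_lit 0), (nat_lit 2), (nat_lit 0), (nat_lit 3), (nat_lit 0), (nat_lit 3)])) (.leaf ([(nat_lit 42), (nat_lit 24), (nat_lit 15), (nat_lit 33), (nat_lit 30), (nat_lit 26), (nat_lit 36), (nat_lit 34), (nat_lit 27), (nat_lit 32), (nat_lit 30), (nat_lit 22), (nat_lit 14), (nat_lit 48), (nat_lit 46), (nat_lit 42), (nat_lit 24), (nat_lit 15), (nat_lit 33), (nat_lit 30), (nat_lit 26), (nat_lit 36), (nat_lit 34), (nat_lit 27), (nat_lit 32), (nat_lit 30), (nat_lit 22), (nat_lit 14), (nat_lit 48)], .mu (nat_lit 267) (nat_lit 10) (nat_lit 1) (nat_lit 0) (nat_lit 1)))) (.node (.leaf ([(nat_lit 53), (nat_lit 50), (nat_lit 45), (nat_lit 48), (nat_lit 53), (nat_lit 32), (nat_lit 52), (nat_lit 49)], .mu (nat_lit 139) (nat_lit 101) (nat_lit 1) (nat_lit 0) (nat_lit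 0))) (.leaf ([(nat_lit 16), (nat_lit 5), (nat_lit 41), (nat_lit 49), (nat_lit 53), (nat_lit 40), (nat_lit 52), (nat_lit 48), (nat_lit 4), (nat_lit 16)], .mu (nat_lit 395) (nat_lit 33) (nat_lit 0) (nat_lit 0) (nat_lit 2))))) (.node (.node (.leaf ([(nat_lit 22), (nat_lit 14), (nat_lit 52), (nat_lit 40), (nat_lit 52), (nat_lit 40), (nat_lit 33)], .mu (nat_lit 74) (nat_lit 75) (nat_lit 1) (nat_lit 0) (nat_lit 1))) (.leaf ([(nat_lit 20), (nat_lit 12), (nat_lit 6), (nat_lit 5), (nat_lit 36), (nat_lit 32), (nat_lit 41), (nat_lit 52), (nat_lit 48), (nat_lit 53), (nat_lit 40), (nat_lit 20)], .mu (nat_lit 331) (nat_lit 33) (nat_lit 1) (nat_lit 0) (nat_lit 1)))) (.node (.leaf ([(nat_lit 4), (nat_lit 32), (nat_lit 36), (nat_lit 40), (nat_lit 48), (nat_lit 52), (nat_lit 21)], .su (nat_lit 203) (nat_lit 43))) (.leaf ([(nat_lit 20), (nat_lit 18), (nat_lit 20), (nat_lit 18), (nat_lit 20), (nat_lit 18), (nat_lit 20), (nat_lit 20), (nat_lit 20), (nat_lit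 20), (nat_lit 20), (nat_lit 20), (nat_lit 20), (nat_lit 20), (nat_lit 20), (nat_lit 20), (nat_lit 20), (nat_lit 20), (nat_lit 20), (nat_lit 20), (nat_lit 20), (nat_lit 20), (nat_lit 20), (nat_lit 20), (nat_lit 20), (nat_lit 20)], .mu (nat_lit 459) (nat_lit 33) (nat_lit 1) (nat_lit 0) (nat_lit 1)))))) (.node (.node (.node (.leaf ([(nat_lit 5), (nat_lit 36), (nat_lit 21), (nat_lit 21), (nat_lit 41)], .su (nat_lit 41) (nat_lit 43))) (.leaf ([(nat_lit 26), (nat_lit 37), (nat_lit 34), (nat_lit 22), (nat_lit 14), (nat_lit 49), (nat_lit 46), (nat_lit 44), (nat_lit 53), (nat_lit 50), (nat_lit 42), (nat_lit 24), (nat_lit 15), (nat_lit 33), (nat_lit 30), (nat_lit 26), (nat_lit 37), (nat_lit 49), (nat_lit 53), (nat_lit 33)], .mu (nat_lit 299) (nat_lit 75) (nat_lit 1) (nat_lit 0) (nat_lit 1)))) (.node (.leaf ([(nat_lit 17), (nat_lit 9), (nat_lit 31), (nat_lit 33), (nat_lit 22), (nat_lit 14), (nat_lit 39), (nat_lit 41), (nat_lit 24), (nat_lit 10), (nat_lit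 8), (nat_lit 13), (nat_lit 17), (nat_lit 12), (nat_lit 6), (nat_lit 4), (nat_lit 20), (nat_lit 20)], .mu (nat_lit 171) (nat_lit 33) (nat_lit 1) (nat_lit 0) (nat_lit 1))) (.leaf ([(nat_lit 53), (nat_lit 45), (nat_lit 48), (nat_lit 46), (nat_lit 44), (nat_lit 51), (nat_lit 53), (nat_lit 45), (nat_lit 48), (nat_lit 46), (nat_lit 44), (nat_lit 51), (nat_lit 53), (nat_lit 45), (nat_lit 48), (nat_lit 46), (nat_lit 44), (nat_lit 53), (nat_lit 48), (nat_lit 53), (nat_lit 48)], .mu (nat_lit 427) (nat_lit 54) (nat_lit 0) (nat_lit 0) (nat_lit 0))))) (.node (.node (.leaf ([(nat_lit 24), (nat_lit 15), (nat_lit 32), (nat_lit 41), (nat_lit 49), (nat_lit 53), (nat_lit 48), (nat_lit 40)], .mu (nat_lit 107) (nat_lit 20) (nat_lit 1) (nat_lit 0) (nat_lit 1))) (.leaf ([(nat_lit 9), (nat_lit 36), (nat_lit 34), (nat_lit 22), (nat_lit 10), (nat_lit 8), (nat_lit 20), (nat_lit 18), (nat_lit 20), (nat_lit 12), (nat_lit 6), (nat_lit 4), (nat_lit 16), (nat_lit 19),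 (nat_lit 16), (nat_lit 12), (nat_lit 9), (nat_lit 33), (nat_lit 37), (nat_lit 16), (nat_lit 16)], .mu (nat_lit 363) (nat_lit 35) (nat_lit 1) (nat_lit 0) (nat_lit 1)))) (.node (.leaf ([(nat_lit 28), (nat_lit 52), (nat_lit 50), (nat_lit 42), (nat_lit 29), (nat_lit 40), (nat_lit 38), (nat_lit 24), (nat_lit 10), (nat_lit 4), (nat_lit 41), (nat_lit 52), (nat_lit 40), (nat_lit 4), (nat_lit 41)], .mu (nat_lit 235) (nat_lit 20) (nat_lit 1) (nat_lit 0) (nat_lit 2))) (.leaf ([], .ax (nat_lit 1000))))))) (.node (.node (.node (.node (.leaf ([(nat_lit 22)], .ex (nat_lit 9) [(nat_lit 0), (nat_lit 2), (nat_lit 0), (nat_lit 2)])) (.leaf ([(nat_lit 36), (nat_lit 34), (nat_lit 27), (nat_lit 32), (nat_lit 30), (nat_lit 22), (nat_lit 14), (nat_lit 48), (nat_lit 33), (nat_lit 36), (nat_lit 32), (nat_lit 48), (nat_lit 33)], .mu (nat_lit 283) (nat_lit 83) (nat_lit 1) (nat_lit 0) (nat_lit 0)))) (.node (.leaf ([(nat_lit 14), (nat_lit 48), (nat_lit 46), (nat_lit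 42), (nat_lit 24), (nat_lit 10), (nat_lit 6), (nat_lit 4), (nat_lit 20), (nat_lit 18), (nat_lit 20), (nat_lit 12), (nat_lit 9), (nat_lit 37)], .mu (nat_lit 155) (nat_lit 28) (nat_lit 1) (nat_lit 0) (nat_lit 0))) (.leaf ([(nat_lit 32), (nat_lit 30), (nat_lit 26), (nat_lit 35), (nat_lit 37), (nat_lit 27), (nat_lit 32), (nat_lit 30), (nat_lit 26), (nat_lit 37), (nat_lit 32), (nat_lit 37), (nat_lit 32), (nat_lit 37), (nat_lit 32), (nat_lit 37)], .mu (nat_lit 411) (nat_lit 83) (nat_lit 0) (nat_lit 0) (nat_lit 1))))) (.node (.node (.leaf ([(nat_lit 5), (nat_lit 16), (nat_lit 33), (nat_lit 36), (nat_lit 32), (nat_lit 20)], .mu (nat_lit 91) (nat_lit 18) (nat_lit 1) (nat_lit 0) (nat_lit 0))) (.leaf ([(nat_lit 20), (nat_lit 12), (nat_lit 6), (nat_lit 5), (nat_lit 40), (nat_lit 38), (nat_lit 24), (nat_lit 10), (nat_lit 6), (nat_lit 4), (nat_lit 16), (nat_lit 36), (nat_lit 32), (nat_lit 37), (nat_lit 20), (nat_lit 20)], .mu (nat_lit 347) (nat_lit 33)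 (nat_lit 1) (nat_lit 0) (nat_lit 1)))) (.node (.leaf ([(nat_lit 40), (nat_lit 24), (nat_lit 6), (nat_lit 4), (nat_lit 21), (nat_lit 16), (nat_lit 36), (nat_lit 32), (nat_lit 49), (nat_lit 53)], .mu (nat_lit 219) (nat_lit 49) (nat_lit 0) (nat_lit 0) (nat_lit 0))) (.leaf ([], .ax (nat_lit 1000)))))) (.node (.node (.node (.leaf ([(nat_lit 36), (nat_lit 34), (nat_lit 6), (nat_lit 4), (nat_lit 48), (nat_lit 40), (nat_lit 53)], .mu (nat_lit 59) (nat_lit 28) (nat_lit 0) (nat_lit 0) (nat_lit 0))) (.leaf ([(nat_lit 22), (nat_lit 14), (nat_lit 41), (nat_lit 38), (nat_lit 28), (nat_lit 52), (nat_lit 50), (nat_lit 45), (nat_lit 48), (nat_lit 46), (nat_lit 44), (nat_lit 53), (nat_lit 50), (nat_lit 42), (nat_lit 29), (nat_lit 40), (nat_lit 38), (nat_lit 24), (nat_lit 10), (nat_lit 8), (nat_lit 20), (nat_lit 18), (nat_lit 20), (nat_lit 12), (nat_lit 6), (nat_lit 5), (nat_lit 36), (nat_lit 32)], .mu (nat_lit 315) (nat_lit 75) (nat_lit 1) (nat_lit 0) (nat_lit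 1)))) (.node (.leaf ([(nat_lit 26), (nat_lit 36), (nat_lit 34), (nat_lit 22), (nat_lit 14), (nat_lit 40), (nat_lit 38), (nat_lit 28), (nat_lit 48), (nat_lit 46), (nat_lit 44), (nat_lit 52), (nat_lit 50), (nat_lit 42), (nat_lit 24), (nat_lit 10), (nat_lit 8), (nat_lit 16), (nat_lit 12), (nat_lit 6), (nat_lit 4), (nat_lit 32)], .mu (nat_lit 187) (nat_lit 75) (nat_lit 1) (nat_lit 0) (nat_lit 1))) (.leaf ([(nat_lit 20), (nat_lit 18), (nat_lit 20), (nat_lit 18), (nat_lit 20), (nat_lit 18), (nat_lit 20), (nat_lit 18), (nat_lit 20), (nat_lit 18), (nat_lit 20), (nat_lit 18), (nat_lit 20), (nat_lit 18), (nat_lit 20), (nat_lit 18), (nat_lit 20), (nat_lit 18), (nat_lit 20), (nat_lit 18), (nat_lit 20), (nat_lit 18), (nat_lit 20), (nat_lit 18), (nat_lit 20), (nat_lit 18), (nat_lit 20), (nat_lit 18), (nat_lit 20), (nat_lit 18), (nat_lit 20), (nat_lit 18), (nat_lit 20), (nat_lit 18), (nat_lit 20), (nat_lit 18), (nat_lit 20), (nat_lit 18), (nat_lit 20),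 (nat_lit 20), (nat_lit 20), (nat_lit 20)], .mu (nat_lit 443) (nat_lit 33) (nat_lit 1) (nat_lit 0) (nat_lit 1))))) (.node (.node (.leaf ([(nat_lit 37), (nat_lit 34), (nat_lit 27), (nat_lit 32), (nat_lit 37), (nat_lit 48), (nat_lit 36), (nat_lit 33)], .mu (nat_lit 123) (nat_lit 83) (nat_lit 1) (nat_lit 0) (nat_lit 0))) (.leaf ([(nat_lit 28), (nat_lit 49), (nat_lit 46), (nat_lit 44), (nat_lit 53), (nat_lit 50), (nat_lit 42), (nat_lit 29), (nat_lit 40), (nat_lit 38), (nat_lit 28), (nat_lit 52), (nat_lit 50), (nat_lit 45), (nat_lit 48), (nat_lit 46), (nat_lit 42), (nat_lit 24), (nat_lit 10), (nat_lit 6), (nat_lit 4), (nat_lit 16), (nat_lit 19), (nat_lit 16), (nat_lit 5), (nat_lit 41)], .mu (nat_lit 379) (nat_lit 20) (nat_lit 1) (nat_lit 0) (nat_lit 2)))) (.node (.leaf ([(nat_lit 42), (nat_lit 24), (nat_lit 15), (nat_lit 32), (nat_lit 30), (nat_lit 22), (nat_lit 14), (nat_lit 49), (nat_lit 46), (nat_lit 44), (nat_lit 52), (nat_lit 50), (nat_lit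 45), (nat_lit 48), (nat_lit 46), (nat_lit 42), (nat_lit 24), (nat_lit 15), (nat_lit 32), (nat_lit 49), (nat_lit 52), (nat_lit 48)], .mu (nat_lit 251) (nat_lit 10) (nat_lit 1) (nat_lit 0) (nat_lit 1))) (.leaf ([], .ax (nat_lit 1000))))))))
noncomputable def sK001 : BT (List ℕ × Ju) := .node sK0010 sK0011
noncomputable def sK00 : BT (List ℕ × Ju) := .node sK000 sK001
noncomputable def sK0100 : BT (List ℕ × Ju) := (.node (.node (.node (.node (.node (.leaf ([(nat_lit 32), (nat_lit 32), (nat_lit 32)], .ex (nat_lit 0) [(nat_lit 0), (nat_lit 2), (nat_lit 0), (nat_lit 2), (nat_lit 0), (nat_lit 2), (nat_lit 0)])) (.leaf ([(nat_lit 49), (nat_lit 46), (nat_lit 44), (nat_lit 52), (nat_lit 50), (nat_lit 45), (nat_lit 48), (nat_lit 46), (nat_lit 42), (nat_lit 24), (nat_lit 15), (nat_lit 32), (nat_lit 49), (nat_lit 52), (nat_lit 48), (nat_lit 32)], .mu (nat_lit 257) (nat_lit 58) (nat_lit 1) (nat_lit 0) (nat_lit 0)))) (.node (.leaf ([(nat_lit 42), (nat_lit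 24), (nat_lit 15), (nat_lit 32), (nat_lit 30), (nat_lit 22), (nat_lit 14), (nat_lit 52), (nat_lit 50), (nat_lit 45), (nat_lit 49), (nat_lit 46), (nat_lit 44), (nat_lit 53), (nat_lit 50), (nat_lit 45), (nat_lit 48), (nat_lit 53)], .mu (nat_lit 129) (nat_lit 54) (nat_lit 1) (nat_lit 0) (nat_lit 1))) (.leaf ([(nat_lit 40), (nat_lit 38), (nat_lit 28), (nat_lit 52), (nat_lit 50), (nat_lit 45), (nat_lit 48), (nat_lit 46), (nat_lit 42), (nat_lit 24), (nat_lit 10), (nat_lit 6), (nat_lit 4), (nat_lit 16), (nat_lit 19), (nat_lit 16), (nat_lit 5), (nat_lit 41), (nat_lit 49), (nat_lit 53)], .mu (nat_lit 385) (nat_lit 49) (nat_lit 0) (nat_lit 0) (nat_lit 0))))) (.node (.node (.leaf ([(nat_lit 40), (nat_lit 38), (nat_lit 28), (nat_lit 52), (nat_lit 50), (nat_lit 42), (nat_lit 29), (nat_lit 40), (nat_lit 38), (nat_lit 24), (nat_lit 15), (nat_lit 33), (nat_lit 30), (nat_lit 22), (nat_lit 14), (nat_lit 52)], .mu (nat_lit 65) (nat_lit 49) (nat_lit 0) (nat_lit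 0) (nat_lit 0))) (.leaf ([(nat_lit 48), (nat_lit 46), (nat_lit 44), (nat_lit 53), (nat_lit 50), (nat_lit 42), (nat_lit 29), (nat_lit 40), (nat_lit 38), (nat_lit 24), (nat_lit 10), (nat_lit 8), (nat_lit 20), (nat_lit 18), (nat_lit 20), (nat_lit 12), (nat_lit 6), (nat_lit 5), (nat_lit 36), (nat_lit 32), (nat_lit 41), (nat_lit 52)], .mu (nat_lit 321) (nat_lit 101) (nat_lit 0) (nat_lit 0) (nat_lit 0)))) (.node (.leaf ([(nat_lit 48), (nat_lit 46), (nat_lit 44), (nat_lit 52), (nat_lit 50), (nat_lit 42), (nat_lit 24), (nat_lit 10), (nat_lit 8), (nat_lit 16), (nat_lit 12), (nat_lit 6), (nat_lit 4), (nat_lit 32), (nat_lit 36), (nat_lit 40)], .mu (nat_lit 193) (nat_lit 49) (nat_lit 1) (nat_lit 0) (nat_lit 0))) (.leaf ([(nat_lit 20), (nat_lit 18), (nat_lit 20), (nat_lit 18), (nat_lit 20), (nat_lit 18), (nat_lit 20), (nat_lit 18), (nat_lit 20), (nat_lit 18), (nat_lit 20), (nat_lit 18), (nat_lit 20), (nat_lit 18), (nat_lit 20), (nat_lit 18), (nat_lit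 20), (nat_lit 18), (nat_lit 20), (nat_lit 18), (nat_lit 20), (nat_lit 18), (nat_lit 20), (nat_lit 18), (nat_lit 20), (nat_lit 18), (nat_lit 20), (nat_lit 20), (nat_lit 20), (nat_lit 20), (nat_lit 20), (nat_lit 20), (nat_lit 20), (nat_lit 20), (nat_lit 20), (nat_lit 20)], .mu (nat_lit 449) (nat_lit 33) (nat_lit 1) (nat_lit 0) (nat_lit 1)))))) (.node (.node (.node (.leaf ([(nat_lit 16), (nat_lit 12), (nat_lit 9), (nat_lit 41), (nat_lit 38), (nat_lit 24), (nat_lit 10), (nat_lit 6), (nat_lit 5), (nat_lit 36), (nat_lit 16)], .mu (nat_lit 32) (nat_lit 33) (nat_lit 0) (nat_lit 0) (nat_lit 1))) (.leaf ([(nat_lit 34), (nat_lit 22), (nat_lit 14), (nat_lit 49), (nat_lit 46), (nat_lit 44), (nat_lit 53), (nat_lit 50), (nat_lit 42), (nat_lit 24), (nat_lit 15), (nat_lit 33), (nat_lit 30), (nat_lit 26), (nat_lit 37), (nat_lit 34), (nat_lit 22), (nat_lit 14), (nat_lit 49), (nat_lit 46), (nat_lit 44), (nat_lit 53), (nat_lit 50), (nat_lit 42), (nat_lit 24),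 (nat_lit 15), (nat_lit 33), (nat_lit 30), (nat_lit 26), (nat_lit 37)], .ex (nat_lit 224) [(nat_lit 0), (nat_lit 2), (nat_lit 0), (nat_lit 2), (nat_lit 0), (nat_lit 3), (nat_lit 0)]))) (.node (.leaf ([(nat_lit 4), (nat_lit 20), (nat_lit 18), (nat_lit 20), (nat_lit 12), (nat_lit 9), (nat_lit 37), (nat_lit 48)], .mu (nat_lit 161) (nat_lit 18) (nat_lit 1) (nat_lit 0) (nat_lit 0))) (.leaf ([(nat_lit 37), (nat_lit 32), (nat_lit 37), (nat_lit 32), (nat_lit 37), (nat_lit 32), (nat_lit 37), (nat_lit 32), (nat_lit 37), (nat_lit 32)], .mu (nat_lit 417) (nat_lit 83) (nat_lit 1) (nat_lit 0) (nat_lit 0))))) (.node (.node (.leaf ([(nat_lit 28), (nat_lit 49), (nat_lit 46), (nat_lit 44), (nat_lit 53), (nat_lit 50), (nat_lit 45), (nat_lit 48), (nat_lit 46), (nat_lit 42), (nat_lit 29), (nat_lit 40), (nat_lit 38), (nat_lit 24), (nat_lit 15), (nat_lit 32), (nat_lit 41)], .mu (nat_lit 97) (nat_lit 20) (nat_lit 1) (nat_lit 0) (nat_lit 1))) (.leaf ([(nat_lit 4),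 (nat_lit 16), (nat_lit 36), (nat_lit 32), (nat_lit 37), (nat_lit 20), (nat_lit 20), (nat_lit 20), (nat_lit 5), (nat_lit 40)], .mu (nat_lit 353) (nat_lit 18) (nat_lit 1) (nat_lit 0) (nat_lit 0)))) (.node (.leaf ([(nat_lit 4), (nat_lit 41), (nat_lit 38), (nat_lit 28), (nat_lit 52), (nat_lit 50), (nat_lit 42), (nat_lit 29), (nat_lit 40), (nat_lit 38), (nat_lit 24), (nat_lit 10), (nat_lit 6), (nat_lit 4), (nat_lit 41), (nat_lit 38), (nat_lit 28), (nat_lit 52), (nat_lit 50), (nat_lit 42), (nat_lit 29), (nat_lit 40), (nat_lit 38), (nat_lit 24), (nat_lit 10)], .mu (nat_lit 225) (nat_lit 18) (nat_lit 1) (nat_lit 0) (nat_lit 0))) (.leaf ([], .ax (nat_lit 1000))))))) (.node (.node (.node (.node (.leaf ([(nat_lit 6)], .ex (nat_lit 9) [])) (.leaf ([(nat_lit 27), (nat_lit 32), (nat_lit 30), (nat_lit 22), (nat_lit 14), (nat_lit 48), (nat_lit 46), (nat_lit 42), (nat_lit 24), (nat_lit 15), (nat_lit 33), (nat_lit 30), (nat_lit 26), (nat_lit 36), (nat_lit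 34), (nat_lit 27), (nat_lit 32), (nat_lit 30), (nat_lit 22), (nat_lit 14), (nat_lit 48), (nat_lit 33), (nat_lit 36)], .mu (nat_lit 273) (nat_lit 26) (nat_lit 1) (nat_lit 0) (nat_lit 1)))) (.node (.leaf ([(nat_lit 6), (nat_lit 4), (nat_lit 16), (nat_lit 12), (nat_lit 9), (nat_lit 37), (nat_lit 34), (nat_lit 22), (nat_lit 10), (nat_lit 6), (nat_lit 4), (nat_lit 20), (nat_lit 20), (nat_lit 20)], .mu (nat_lit 145) (nat_lit 35) (nat_lit 1) (nat_lit 0) (nat_lit 1))) (.leaf ([(nat_lit 35), (nat_lit 37), (nat_lit 27), (nat_lit 32), (nat_lit 30), (nat_lit 26), (nat_lit 35), (nat_lit 37), (nat_lit 27), (nat_lit 32), (nat_lit 30), (nat_lit 26), (nat_lit 35), (nat_lit 37), (nat_lit 27), (nat_lit 32), (nat_lit 30), (nat_lit 26), (nat_lit 35), (nat_lit 37), (nat_lit 27), (nat_lit 32), (nat_lit 30), (nat_lit 26), (nat_lit 37), (nat_lit 32)], .mu (nat_lit 401) (nat_lit 83) (nat_lit 1) (nat_lit 0) (nat_lit 0))))) (.node (.node (.leaf ([(nat_lit 26), (nat_lit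 36), (nat_lit 34), (nat_lit 27), (nat_lit 32), (nat_lit 30), (nat_lit 22), (nat_lit 10), (nat_lit 8), (nat_lit 20), (nat_lit 12), (nat_lit 6), (nat_lit 5), (nat_lit 16), (nat_lit 33)], .mu (nat_lit 81) (nat_lit 75) (nat_lit 1) (nat_lit 0) (nat_lit 1))) (.leaf ([(nat_lit 36), (nat_lit 34), (nat_lit 27), (nat_lit 32), (nat_lit 30), (nat_lit 26), (nat_lit 37), (nat_lit 34), (nat_lit 22), (nat_lit 10), (nat_lit 8), (nat_lit 20), (nat_lit 18), (nat_lit 20), (nat_lit 18), (nat_lit 20), (nat_lit 12), (nat_lit 6), (nat_lit 5), (nat_lit 40), (nat_lit 38), (nat_lit 24), (nat_lit 10), (nat_lit 6), (nat_lit 4), (nat_lit 16)], .mu (nat_lit 337) (nat_lit 31) (nat_lit 0) (nat_lit 0) (nat_lit 0)))) (.node (.leaf ([(nat_lit 36), (nat_lit 27), (nat_lit 32), (nat_lit 22), (nat_lit 14), (nat_lit 25), (nat_lit 47), (nat_lit 49), (nat_lit 46), (nat_lit 44), (nat_lit 51), (nat_lit 53), (nat_lit 50), (nat_lit 29), (nat_lit 40), (nat_lit 24), (nat_lit 6), (nat_lit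 4), (nat_lit 21), (nat_lit 16)], .mu (nat_lit 209) (nat_lit 28) (nat_lit 0) (nat_lit 0) (nat_lit 0))) (.leaf ([], .ax (nat_lit 1000)))))) (.node (.node (.node (.leaf ([(nat_lit 40), (nat_lit 38), (nat_lit 28), (nat_lit 43), (nat_lit 51), (nat_lit 53), (nat_lit 50), (nat_lit 42), (nat_lit 15), (nat_lit 23), (nat_lit 36), (nat_lit 34), (nat_lit 6), (nat_lit 4), (nat_lit 48)], .mu (nat_lit 48) (nat_lit 49) (nat_lit 0) (nat_lit 0) (nat_lit 1))) (.leaf ([(nat_lit 53), (nat_lit 50), (nat_lit 42), (nat_lit 24), (nat_lit 15), (nat_lit 33), (nat_lit 30), (nat_lit 26), (nat_lit 37), (nat_lit 49), (nat_lit 53), (nat_lit 33), (nat_lit 37), (nat_lit 49)], .mu (nat_lit 305) (nat_lit 101) (nat_lit 1) (nat_lit 0) (nat_lit 0)))) (.node (.leaf ([(nat_lit 10), (nat_lit 8), (nat_lit 13), (nat_lit 17), (nat_lit 12), (nat_lit 6), (nat_lit 4), (nat_lit 20), (nat_lit 20), (nat_lit 17), (nat_lit 33), (nat_lit 41)], .mu (nat_lit 177) (nat_lit 14) (nat_lit 1) (nat_lit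 0) (nat_lit 1))) (.leaf ([(nat_lit 44), (nat_lit 51), (nat_lit 53), (nat_lit 45), (nat_lit 48), (nat_lit 46), (nat_lit 44), (nat_lit 53), (nat_lit 48), (nat_lit 53), (nat_lit 48), (nat_lit 53), (nat_lit 48), (nat_lit 53), (nat_lit 48)], .mu (nat_lit 433) (nat_lit 10) (nat_lit 1) (nat_lit 0) (nat_lit 1))))) (.node (.node (.leaf ([(nat_lit 22), (nat_lit 14), (nat_lit 48), (nat_lit 46), (nat_lit 42), (nat_lit 24), (nat_lit 15), (nat_lit 36), (nat_lit 34), (nat_lit 27), (nat_lit 33), (nat_lit 30), (nat_lit 26), (nat_lit 37), (nat_lit 34), (nat_lit 27), (nat_lit 32), (nat_lit 37)], .mu (nat_lit 113) (nat_lit 26) (nat_lit 1) (nat_lit 0) (nat_lit 1))) (.leaf ([(nat_lit 20), (nat_lit 12), (nat_lit 6), (nat_lit 4), (nat_lit 16), (nat_lit 19), (nat_lit 16), (nat_lit 12), (nat_lit 9), (nat_lit 33), (nat_lit 37), (nat_lit 16), (nat_lit 16), (nat_lit 36), (nat_lit 20)], .mu (nat_lit 369) (nat_lit 33) (nat_lit 1) (nat_lit 0) (nat_lit 1)))) (.node (.leaf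 ([(nat_lit 10), (nat_lit 4), (nat_lit 41), (nat_lit 52), (nat_lit 40), (nat_lit 4), (nat_lit 41), (nat_lit 52), (nat_lit 40)], .mu (nat_lit 241) (nat_lit 14) (nat_lit 1) (nat_lit 0) (nat_lit 0))) (.leaf ([], .ax (nat_lit 1000))))))))
noncomputable def sK0101 : BT (List ℕ × Ju) := (.node (.node (.node (.node (.node (.leaf ([(nat_lit 46)], .ex (nat_lit 9) [(nat_lit 0), (nat_lit 2), (nat_lit 0), (nat_lit 3), (nat_lit 0), (nat_lit 3), (nat_lit 0), (nat_lit 2)])) (.leaf ([(nat_lit 32), (nat_lit 49), (nat_lit 52), (nat_lit 48), (nat_lit 32), (nat_lit 49), (nat_lit 52), (nat_lit 48)], .mu (nat_lit 265) (nat_lit 58) (nat_lit 0) (nat_lit 0) (nat_lit 0)))) (.node (.leaf ([(nat_lit 49), (nat_lit 46), (nat_lit 44), (nat_lit 53), (nat_lit 50), (nat_lit 45), (nat_lit 48), (nat_lit 53), (nat_lit 32), (nat_lit 52)], .mu (nat_lit 137) (nat_lit 101) (nat_lit 0) (nat_lit 0) (nat_lit 0))) (.leaf ([(nat_lit 6), (nat_lit 4), (nat_lit 16), (nat_lit 19), (nat_lit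 16), (nat_lit 5), (nat_lit 41), (nat_lit 49), (nat_lit 53), (nat_lit 40), (nat_lit 52), (nat_lit 48)], .mu (nat_lit 393) (nat_lit 16) (nat_lit 1) (nat_lit 0) (nat_lit 0))))) (.node (.node (.leaf ([(nat_lit 33), (nat_lit 30), (nat_lit 22), (nat_lit 14), (nat_lit 52), (nat_lit 40), (nat_lit 52), (nat_lit 40)], .mu (nat_lit 73) (nat_lit 58) (nat_lit 0) (nat_lit 0) (nat_lit 0))) (.leaf ([(nat_lit 8), (nat_lit 20), (nat_lit 18), (nat_lit 20), (nat_lit 12), (nat_lit 6), (nat_lit 5), (nat_lit 36), (nat_lit 32), (nat_lit 41), (nat_lit 52), (nat_lit 48), (nat_lit 53), (nat_lit 40)], .mu (nat_lit 329) (nat_lit 16) (nat_lit 1) (nat_lit 0) (nat_lit 0)))) (.node (.leaf ([(nat_lit 6), (nat_lit 4), (nat_lit 32), (nat_lit 36), (nat_lit 40), (nat_lit 48), (nat_lit 52), (nat_lit 16)], .mu (nat_lit 201) (nat_lit 35) (nat_lit 1) (nat_lit 0) (nat_lit 1))) (.leaf ([(nat_lit 20), (nat_lit 18), (nat_lit 20), (nat_lit 18), (nat_lit 20), (nat_lit 18), (nat_lit 20),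 (nat_lit 18), (nat_lit 20), (nat_lit 18), (nat_lit 20), (nat_lit 20), (nat_lit 20), (nat_lit 20), (nat_lit 20), (nat_lit 20), (nat_lit 20), (nat_lit 20), (nat_lit 20), (nat_lit 20), (nat_lit 20), (nat_lit 20), (nat_lit 20), (nat_lit 20), (nat_lit 20), (nat_lit 20), (nat_lit 20), (nat_lit 20)], .mu (nat_lit 457) (nat_lit 33) (nat_lit 1) (nat_lit 0) (nat_lit 1)))))) (.node (.node (.node (.leaf ([(nat_lit 16), (nat_lit 20)], .ex (nat_lit 9) [(nat_lit 0), (nat_lit 3), (nat_lit 0), (nat_lit 2)])) (.leaf ([(nat_lit 15), (nat_lit 33), (nat_lit 30), (nat_lit 26), (nat_lit 37), (nat_lit 34), (nat_lit 22), (nat_lit 14), (nat_lit 49), (nat_lit 46), (nat_lit 44), (nat_lit 53), (nat_lit 50), (nat_lit 42), (nat_lit 24), (nat_lit 15), (nat_lit 33), (nat_lit 30), (nat_lit 26), (nat_lit 37), (nat_lit 49), (nat_lit 53)], .mu (nat_lit 297) (nat_lit 14) (nat_lit 1) (nat_lit 0) (nat_lit 0)))) (.node (.leaf ([(nat_lit 20), (nat_lit 18), (nat_lit 20), (nat_lit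 18), (nat_lit 17), (nat_lit 9), (nat_lit 31), (nat_lit 33), (nat_lit 22), (nat_lit 14), (nat_lit 39), (nat_lit 41), (nat_lit 24), (nat_lit 10), (nat_lit 8), (nat_lit 13), (nat_lit 17), (nat_lit 12), (nat_lit 6), (nat_lit 4)], .mu (nat_lit 169) (nat_lit 35) (nat_lit 0) (nat_lit 0) (nat_lit 0))) (.leaf ([(nat_lit 44), (nat_lit 51), (nat_lit 53), (nat_lit 45), (nat_lit 48), (nat_lit 46), (nat_lit 44), (nat_lit 51), (nat_lit 53), (nat_lit 45), (nat_lit 48), (nat_lit 46), (nat_lit 44), (nat_lit 51), (nat_lit 53), (nat_lit 45), (nat_lit 48), (nat_lit 46), (nat_lit 44), (nat_lit 53), (nat_lit 48), (nat_lit 53), (nat_lit 48)], .mu (nat_lit 425) (nat_lit 10) (nat_lit 1) (nat_lit 0) (nat_lit 1))))) (.node (.node (.leaf ([(nat_lit 29), (nat_lit 40), (nat_lit 38), (nat_lit 24), (nat_lit 15), (nat_lit 32), (nat_lit 41), (nat_lit 49), (nat_lit 53), (nat_lit 48)], .mu (nat_lit 105) (nat_lit 12) (nat_lit 1) (nat_lit 0) (nat_lit 0))) (.leaf ([(nat_lit 16),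 (nat_lit 19), (nat_lit 16), (nat_lit 12), (nat_lit 9), (nat_lit 36), (nat_lit 34), (nat_lit 22), (nat_lit 10), (nat_lit 8), (nat_lit 20), (nat_lit 18), (nat_lit 20), (nat_lit 12), (nat_lit 6), (nat_lit 4), (nat_lit 16), (nat_lit 19), (nat_lit 16), (nat_lit 12), (nat_lit 9), (nat_lit 33), (nat_lit 37)], .mu (nat_lit 361) (nat_lit 31) (nat_lit 1) (nat_lit 0) (nat_lit 0)))) (.node (.leaf ([(nat_lit 6), (nat_lit 4), (nat_lit 41), (nat_lit 38), (nat_lit 28), (nat_lit 52), (nat_lit 50), (nat_lit 42), (nat_lit 29), (nat_lit 40), (nat_lit 38), (nat_lit 24), (nat_lit 10), (nat_lit 4), (nat_lit 41), (nat_lit 52), (nat_lit 40)], .mu (nat_lit 233) (nat_lit 16) (nat_lit 1) (nat_lit 0) (nat_lit 0))) (.leaf ([], .ax (nat_lit 1000))))))) (.node (.node (.node (.node (.leaf ([(nat_lit 34)], .ex (nat_lit 9) [(nat_lit 0), (nat_lit 2), (nat_lit 0), (nat_lit 2), (nat_lit 0), (nat_lit 3)])) (.leaf ([(nat_lit 33), (nat_lit 30), (nat_lit 26), (nat_lit 36), (nat_lit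 34), (nat_lit 27), (nat_lit 32), (nat_lit 30), (nat_lit 22), (nat_lit 14), (nat_lit 48), (nat_lit 33), (nat_lit 36), (nat_lit 32), (nat_lit 48)], .mu (nat_lit 281) (nat_lit 58) (nat_lit 0) (nat_lit 0) (nat_lit 0)))) (.node (.leaf ([(nat_lit 34), (nat_lit 22), (nat_lit 14), (nat_lit 48), (nat_lit 46), (nat_lit 42), (nat_lit 24), (nat_lit 10), (nat_lit 6), (nat_lit 4), (nat_lit 20), (nat_lit 18), (nat_lit 20), (nat_lit 12), (nat_lit 9), (nat_lit 37)], .ex (nat_lit 7) [(nat_lit 0), (nat_lit 2), (nat_lit 0), (nat_lit 2), (nat_lit 0), (nat_lit 3), (nat_lit 0)])) (.leaf ([(nat_lit 35), (nat_lit 37), (nat_lit 27), (nat_lit 32), (nat_lit 30), (nat_lit 26), (nat_lit 35), (nat_lit 37), (nat_lit 27), (nat_lit 32), (nat_lit 30), (nat_lit 26), (nat_lit 37), (nat_lit 32), (nat_lit 37), (nat_lit 32), (nat_lit 37), (nat_lit 32)], .mu (nat_lit 409) (nat_lit 83) (nat_lit 1) (nat_lit 0) (nat_lit 0))))) (.node (.node (.leaf ([(nat_lit 20), (nat_lit 12), (nat_lit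 6), (nat_lit 5), (nat_lit 16), (nat_lit 33), (nat_lit 36), (nat_lit 32)], .mu (nat_lit 89) (nat_lit 31) (nat_lit 1) (nat_lit 0) (nat_lit 0))) (.leaf ([(nat_lit 20), (nat_lit 18), (nat_lit 20), (nat_lit 18), (nat_lit 20), (nat_lit 12), (nat_lit 6), (nat_lit 5), (nat_lit 40), (nat_lit 38), (nat_lit 24), (nat_lit 10), (nat_lit 6), (nat_lit 4), (nat_lit 16), (nat_lit 36), (nat_lit 32), (nat_lit 37)], .mu (nat_lit 345) (nat_lit 31) (nat_lit 1) (nat_lit 0) (nat_lit 0)))) (.node (.leaf ([(nat_lit 53), (nat_lit 50), (nat_lit 29), (nat_lit 40), (nat_lit 24), (nat_lit 6), (nat_lit 4), (nat_lit 21), (nat_lit 16), (nat_lit 36), (nat_lit 32), (nat_lit 49)], .mu (nat_lit 217) (nat_lit 54) (nat_lit 0) (nat_lit 0) (nat_lit 0))) (.leaf ([], .ax (nat_lit 1000)))))) (.node (.node (.node (.leaf ([(nat_lit 14)], .ex (nat_lit 0) [(nat_lit 0), (nat_lit 2), (nat_lit 0)])) (.leaf ([(nat_lit 27), (nat_lit 32), (nat_lit 30), (nat_lit 22), (nat_lit 14), (nat_lit 41),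 (nat_lit 38), (nat_lit 28), (nat_lit 52), (nat_lit 50), (nat_lit 45), (nat_lit 48), (nat_lit 46), (nat_lit 44), (nat_lit 53), (nat_lit 50), (nat_lit 42), (nat_lit 29), (nat_lit 40), (nat_lit 38), (nat_lit 24), (nat_lit 10), (nat_lit 8), (nat_lit 20), (nat_lit 18), (nat_lit 20), (nat_lit 12), (nat_lit 6), (nat_lit 5), (nat_lit 36)], .mu (nat_lit 313) (nat_lit 26) (nat_lit 1) (nat_lit 0) (nat_lit 1)))) (.node (.leaf ([(nat_lit 0), (nat_lit 2), (nat_lit 0), (nat_lit 2), (nat_lit 0), (nat_lit 2), (nat_lit 0), (nat_lit 2), (nat_lit 0), (nat_lit 2), (nat_lit 0), (nat_lit 2), (nat_lit 0), (nat_lit 2), (nat_lit 0), (nat_lit 2), (nat_lit 0), (nat_lit 2), (nat_lit 0), (nat_lit 2), (nat_lit 0), (nat_lit 2), (nat_lit 0), (nat_lit 2), (nat_lit 0), (nat_lit 2), (nat_lit 0), (nat_lit 2), (nat_lit 0), (nat_lit 2), (nat_lit 0), (nat_lit 2), (nat_lit 0), (nat_lit 2), (nat_lit 0), (nat_lit 2), (nat_lit 0), (nat_lit 2), (nat_lit 0), (nat_lit 2), (nat_lit 0),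 (nat_lit 2), (nat_lit 0), (nat_lit 2), (nat_lit 0), (nat_lit 2)], .ax (nat_lit 2))) (.leaf ([(nat_lit 20), (nat_lit 18), (nat_lit 20), (nat_lit 18), (nat_lit 20), (nat_lit 18), (nat_lit 20), (nat_lit 18), (nat_lit 20), (nat_lit 18), (nat_lit 20), (nat_lit 18), (nat_lit 20), (nat_lit 18), (nat_lit 20), (nat_lit 18), (nat_lit 20), (nat_lit 18), (nat_lit 20), (nat_lit 18), (nat_lit 20), (nat_lit 18), (nat_lit 20), (nat_lit 18), (nat_lit 20), (nat_lit 18), (nat_lit 20), (nat_lit 18), (nat_lit 20), (nat_lit 18), (nat_lit 20), (nat_lit 18), (nat_lit 20), (nat_lit 18), (nat_lit 20), (nat_lit 18), (nat_lit 20), (nat_lit 18), (nat_lit 20), (nat_lit 18), (nat_lit 20), (nat_lit 18), (nat_lit 20), (nat_lit 20)], .mu (nat_lit 441) (nat_lit 33) (nat_lit 1) (nat_lit 0) (nat_lit 1))))) (.node (.node (.leaf ([(nat_lit 33), (nat_lit 30), (nat_lit 26), (nat_lit 37), (nat_lit 34), (nat_lit 27), (nat_lit 32), (nat_lit 37), (nat_lit 48), (nat_lit 36)], .mu (nat_lit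 121) (nat_lit 83) (nat_lit 0) (nat_lit 0) (nat_lit 0))) (.leaf ([(nat_lit 6), (nat_lit 5), (nat_lit 41), (nat_lit 38), (nat_lit 28), (nat_lit 49), (nat_lit 46), (nat_lit 44), (nat_lit 53), (nat_lit 50), (nat_lit 42), (nat_lit 29), (nat_lit 40), (nat_lit 38), (nat_lit 28), (nat_lit 52), (nat_lit 50), (nat_lit 45), (nat_lit 48), (nat_lit 46), (nat_lit 42), (nat_lit 24), (nat_lit 10), (nat_lit 6), (nat_lit 4), (nat_lit 16), (nat_lit 19), (nat_lit 16)], .mu (nat_lit 377) (nat_lit 35) (nat_lit 1) (nat_lit 0) (nat_lit 1)))) (.node (.leaf ([(nat_lit 45), (nat_lit 48), (nat_lit 46), (nat_lit 42), (nat_lit 24), (nat_lit 15), (nat_lit 32), (nat_lit 30), (nat_lit 22), (nat_lit 14), (nat_lit 49), (nat_lit 46), (nat_lit 44), (nat_lit 52), (nat_lit 50), (nat_lit 45), (nat_lit 48), (nat_lit 46), (nat_lit 42), (nat_lit 24), (nat_lit 15), (nat_lit 32), (nat_lit 49), (nat_lit 52)], .mu (nat_lit 249) (nat_lit 54) (nat_lit 1) (nat_lit 0) (nat_lit 1))) (.leaf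 ([], .ax (nat_lit 1000))))))))
noncomputable def sK010 : BT (List ℕ × Ju) := .node sK0100 sK0101
noncomputable def sK0110 : BT (List ℕ × Ju) := (.node (.node (.node (.node (.node (.leaf ([(nat_lit 52), (nat_lit 52), (nat_lit 52)], .ex (nat_lit 0) [(nat_lit 0), (nat_lit 2), (nat_lit 0), (nat_lit 3), (nat_lit 0), (nat_lit 3), (nat_lit 0), (nat_lit 3), (nat_lit 0)])) (.leaf ([(nat_lit 48), (nat_lit 46), (nat_lit 42), (nat_lit 24), (nat_lit 15), (nat_lit 32), (nat_lit 49), (nat_lit 52), (nat_lit 48), (nat_lit 32), (nat_lit 49), (nat_lit 52)], .mu (nat_lit 261) (nat_lit 101) (nat_lit 0) (nat_lit 0) (nat_lit 0)))) (.node (.leaf ([(nat_lit 22), (nat_lit 14), (nat_lit 52), (nat_lit 50), (nat_lit 45), (nat_lit 49), (nat_lit 46), (nat_lit 44), (nat_lit 53), (nat_lit 50), (nat_lit 45), (nat_lit 48), (nat_lit 53), (nat_lit 32)], .mu (nat_lit 133) (nat_lit 75) (nat_lit 1) (nat_lit 0) (nat_lit 1))) (.leaf ([(nat_lit 48), (nat_lit 46), (nat_lit 42), (nat_lit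 24), (nat_lit 10), (nat_lit 6), (nat_lit 4), (nat_lit 16), (nat_lit 19), (nat_lit 16), (nat_lit 5), (nat_lit 41), (nat_lit 49), (nat_lit 53), (nat_lit 40), (nat_lit 52)], .mu (nat_lit 389) (nat_lit 101) (nat_lit 0) (nat_lit 0) (nat_lit 0))))) (.node (.node (.leaf ([(nat_lit 29), (nat_lit 40), (nat_lit 38), (nat_lit 24), (nat_lit 15), (nat_lit 33), (nat_lit 30), (nat_lit 22), (nat_lit 14), (nat_lit 52), (nat_lit 40), (nat_lit 52)], .mu (nat_lit 69) (nat_lit 12) (nat_lit 1) (nat_lit 0) (nat_lit 0))) (.leaf ([(nat_lit 29), (nat_lit 40), (nat_lit 38), (nat_lit 24), (nat_lit 10), (nat_lit 8), (nat_lit 20), (nat_lit 18), (nat_lit 20), (nat_lit 12), (nat_lit 6), (nat_lit 5), (nat_lit 36), (nat_lit 32), (nat_lit 41), (nat_lit 52), (nat_lit 48), (nat_lit 53)], .mu (nat_lit 325) (nat_lit 12) (nat_lit 1) (nat_lit 0) (nat_lit 0)))) (.node (.leaf ([(nat_lit 24), (nat_lit 10), (nat_lit 8), (nat_lit 16), (nat_lit 12), (nat_lit 6), (nat_lit 4), (nat_lit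 32), (nat_lit 36), (nat_lit 40), (nat_lit 48), (nat_lit 52)], .mu (nat_lit 197) (nat_lit 12) (nat_lit 1) (nat_lit 0) (nat_lit 0))) (.leaf ([(nat_lit 20), (nat_lit 18), (nat_lit 20), (nat_lit 18), (nat_lit 20), (nat_lit 18), (nat_lit 20), (nat_lit 18), (nat_lit 20), (nat_lit 18), (nat_lit 20), (nat_lit 18), (nat_lit 20), (nat_lit 18), (nat_lit 20), (nat_lit 18), (nat_lit 20), (nat_lit 18), (nat_lit 20), (nat_lit 20), (nat_lit 20), (nat_lit 20), (nat_lit 20), (nat_lit 20), (nat_lit 20), (nat_lit 20), (nat_lit 20), (nat_lit 20), (nat_lit 20), (nat_lit 20), (nat_lit 20), (nat_lit 20)], .mu (nat_lit 453) (nat_lit 33) (nat_lit 1) (nat_lit 0) (nat_lit 1)))))) (.node (.node (.node (.leaf ([(nat_lit 24), (nat_lit 10), (nat_lit 6), (nat_lit 5), (nat_lit 36), (nat_lit 16), (nat_lit 16), (nat_lit 41)], .mu (nat_lit 37) (nat_lit 20) (nat_lit 1) (nat_lit 0) (nat_lit 1))) (.leaf ([(nat_lit 44), (nat_lit 53), (nat_lit 50), (nat_lit 42), (nat_lit 24), (nat_lit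 15), (nat_lit 33), (nat_lit 30), (nat_lit 26), (nat_lit 37), (nat_lit 34), (nat_lit 22), (nat_lit 14), (nat_lit 49), (nat_lit 46), (nat_lit 44), (nat_lit 53), (nat_lit 50), (nat_lit 42), (nat_lit 24), (nat_lit 15), (nat_lit 33), (nat_lit 30), (nat_lit 26), (nat_lit 37), (nat_lit 49)], .mu (nat_lit 293) (nat_lit 10) (nat_lit 1) (nat_lit 0) (nat_lit 1)))) (.node (.leaf ([(nat_lit 49), (nat_lit 36), (nat_lit 20), (nat_lit 4), (nat_lit 16), (nat_lit 37)], .mu (nat_lit 153) (nat_lit 165) (nat_lit 1) (nat_lit 3) (nat_lit 0))) (.leaf ([(nat_lit 44), (nat_lit 51), (nat_lit 53), (nat_lit 45), (nat_lit 48), (nat_lit 46), (nat_lit 44), (nat_lit 51), (nat_lit 53), (nat_lit 45), (nat_lit 48), (nat_lit 46), (nat_lit 44), (nat_lit 51), (nat_lit 53), (nat_lit 45), (nat_lit 48), (nat_lit 46), (nat_lit 44), (nat_lit 51), (nat_lit 53), (nat_lit 45), (nat_lit 48), (nat_lit 46), (nat_lit 44), (nat_lit 53), (nat_lit 48)], .mu (nat_lit 421) (nat_lit 10) (nat_lit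 1) (nat_lit 0) (nat_lit 1))))) (.node (.node (.leaf ([(nat_lit 53), (nat_lit 50), (nat_lit 45), (nat_lit 48), (nat_lit 46), (nat_lit 42), (nat_lit 29), (nat_lit 40), (nat_lit 38), (nat_lit 24), (nat_lit 15), (nat_lit 32), (nat_lit 41), (nat_lit 49)], .mu (nat_lit 100) (nat_lit 101) (nat_lit 1) (nat_lit 0) (nat_lit 0))) (.leaf ([(nat_lit 37), (nat_lit 34), (nat_lit 22), (nat_lit 10), (nat_lit 8), (nat_lit 16), (nat_lit 19), (nat_lit 16), (nat_lit 12), (nat_lit 9), (nat_lit 36), (nat_lit 34), (nat_lit 22), (nat_lit 10), (nat_lit 8), (nat_lit 20), (nat_lit 18), (nat_lit 20), (nat_lit 12), (nat_lit 6), (nat_lit 4), (nat_lit 16), (nat_lit 19), (nat_lit 16), (nat_lit 12), (nat_lit 9), (nat_lit 33)], .mu (nat_lit 357) (nat_lit 83) (nat_lit 1) (nat_lit 0) (nat_lit 0)))) (.node (.leaf ([(nat_lit 29), (nat_lit 40), (nat_lit 38), (nat_lit 24), (nat_lit 10), (nat_lit 6), (nat_lit 4), (nat_lit 41), (nat_lit 38), (nat_lit 28), (nat_lit 52), (nat_lit 50),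 (nat_lit 42), (nat_lit 29), (nat_lit 40), (nat_lit 38), (nat_lit 24), (nat_lit 10), (nat_lit 4), (nat_lit 41), (nat_lit 52)], .mu (nat_lit 229) (nat_lit 12) (nat_lit 1) (nat_lit 0) (nat_lit 0))) (.leaf ([], .ax (nat_lit 1000))))))) (.node (.node (.node (.node (.leaf ([(nat_lit 10), (nat_lit 6), (nat_lit 5), (nat_lit 48), (nat_lit 4), (nat_lit 41)], .mu (nat_lit 21) (nat_lit 14) (nat_lit 1) (nat_lit 0) (nat_lit 0))) (.leaf ([(nat_lit 48), (nat_lit 46), (nat_lit 42), (nat_lit 24), (nat_lit 15), (nat_lit 33), (nat_lit 30), (nat_lit 26), (nat_lit 36), (nat_lit 34), (nat_lit 27), (nat_lit 32), (nat_lit 30), (nat_lit 22), (nat_lit 14), (nat_lit 48), (nat_lit 33), (nat_lit 36), (nat_lit 32)], .mu (nat_lit 277) (nat_lit 58) (nat_lit 1) (nat_lit 0) (nat_lit 0)))) (.node (.leaf ([(nat_lit 22), (nat_lit 10), (nat_lit 6), (nat_lit 4), (nat_lit 20), (nat_lit 20), (nat_lit 20), (nat_lit 4), (nat_lit 16), (nat_lit 37)], .mu (nat_lit 149) (nat_lit 26) (nat_lit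 1) (nat_lit 0) (nat_lit 1))) (.leaf ([(nat_lit 35), (nat_lit 37), (nat_lit 27), (nat_lit 32), (nat_lit 30), (nat_lit 26), (nat_lit 35), (nat_lit 37), (nat_lit 27), (nat_lit 32), (nat_lit 30), (nat_lit 26), (nat_lit 35), (nat_lit 37), (nat_lit 27), (nat_lit 32), (nat_lit 30), (nat_lit 26), (nat_lit 37), (nat_lit 32), (nat_lit 37), (nat_lit 32)], .mu (nat_lit 405) (nat_lit 83) (nat_lit 1) (nat_lit 0) (nat_lit 0))))) (.node (.node (.leaf ([(nat_lit 32), (nat_lit 30), (nat_lit 22), (nat_lit 10), (nat_lit 8), (nat_lit 20), (nat_lit 12), (nat_lit 6), (nat_lit 5), (nat_lit 16), (nat_lit 33), (nat_lit 36)], .mu (nat_lit 85) (nat_lit 83) (nat_lit 0) (nat_lit 0) (nat_lit 0))) (.leaf ([(nat_lit 37), (nat_lit 34), (nat_lit 22), (nat_lit 10), (nat_lit 8), (nat_lit 20), (nat_lit 18), (nat_lit 20), (nat_lit 18), (nat_lit 20), (nat_lit 12), (nat_lit 6), (nat_lit 5), (nat_lit 40), (nat_lit 38), (nat_lit 24), (nat_lit 10), (nat_lit 6), (nat_lit 4), (nat_lit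 16), (nat_lit 36), (nat_lit 32)], .mu (nat_lit 341) (nat_lit 83) (nat_lit 1) (nat_lit 0) (nat_lit 0)))) (.node (.leaf ([(nat_lit 47), (nat_lit 49), (nat_lit 46), (nat_lit 44), (nat_lit 51), (nat_lit 53), (nat_lit 50), (nat_lit 29), (nat_lit 40), (nat_lit 24), (nat_lit 6), (nat_lit 4), (nat_lit 21), (nat_lit 16), (nat_lit 36), (nat_lit 32)], .mu (nat_lit 213) (nat_lit 14) (nat_lit 0) (nat_lit 0) (nat_lit 0))) (.leaf ([], .ax (nat_lit 1000)))))) (.node (.node (.node (.leaf ([(nat_lit 50)], .ex (nat_lit 9) [(nat_lit 0), (nat_lit 2), (nat_lit 0), (nat_lit 3), (nat_lit 0), (nat_lit 3), (nat_lit 0), (nat_lit 3)])) (.leaf ([(nat_lit 33), (nat_lit 30), (nat_lit 26), (nat_lit 37), (nat_lit 49), (nat_lit 53), (nat_lit 33), (nat_lit 37), (nat_lit 49), (nat_lit 53)], .mu (nat_lit 309) (nat_lit 58) (nat_lit 0) (nat_lit 0) (nat_lit 0)))) (.node (.leaf ([(nat_lit 6), (nat_lit 4), (nat_lit 20), (nat_lit 20), (nat_lit 17), (nat_lit 33), (nat_lit 41), (nat_lit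 17)], .mu (nat_lit 181) (nat_lit 35) (nat_lit 1) (nat_lit 0) (nat_lit 1))) (.leaf ([(nat_lit 44), (nat_lit 53), (nat_lit 48), (nat_lit 53), (nat_lit 48), (nat_lit 53), (nat_lit 48), (nat_lit 53), (nat_lit 48), (nat_lit 53), (nat_lit 48)], .mu (nat_lit 437) (nat_lit 10) (nat_lit 1) (nat_lit 0) (nat_lit 1))))) (.node (.node (.leaf ([(nat_lit 24), (nat_lit 15), (nat_lit 36), (nat_lit 34), (nat_lit 27), (nat_lit 33), (nat_lit 30), (nat_lit 26), (nat_lit 37), (nat_lit 34), (nat_lit 27), (nat_lit 32), (nat_lit 37), (nat_lit 48)], .mu (nat_lit 117) (nat_lit 12) (nat_lit 1) (nat_lit 0) (nat_lit 0))) (.leaf ([(nat_lit 9), (nat_lit 33), (nat_lit 37), (nat_lit 16), (nat_lit 16), (nat_lit 36), (nat_lit 20), (nat_lit 20), (nat_lit 4), (nat_lit 16), (nat_lit 16)], .mu (nat_lit 373) (nat_lit 35) (nat_lit 1) (nat_lit 0) (nat_lit 1)))) (.node (.leaf ([(nat_lit 14), (nat_lit 49), (nat_lit 46), (nat_lit 44), (nat_lit 52), (nat_lit 50), (nat_lit 45), (nat_lit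 48), (nat_lit 46), (nat_lit 42), (nat_lit 24), (nat_lit 15), (nat_lit 32), (nat_lit 30), (nat_lit 22), (nat_lit 14), (nat_lit 49), (nat_lit 46), (nat_lit 44), (nat_lit 52), (nat_lit 50), (nat_lit 45), (nat_lit 48), (nat_lit 46), (nat_lit 42), (nat_lit 24), (nat_lit 15), (nat_lit 32)], .mu (nat_lit 245) (nat_lit 28) (nat_lit 1) (nat_lit 0) (nat_lit 0))) (.leaf ([], .ax (nat_lit 1000))))))))
noncomputable def sK0111 : BT (List ℕ × Ju) := (.node (.node (.node (.node (.node (.leaf ([(nat_lit 24)], .ex (nat_lit 9) [(nat_lit 0), (nat_lit 2), (nat_lit 0), (nat_lit 3)])) (.leaf ([(nat_lit 15), (nat_lit 33), (nat_lit 30), (nat_lit 26), (nat_lit 36), (nat_lit 34), (nat_lit 27), (nat_lit 32), (nat_lit 30), (nat_lit 22), (nat_lit 14), (nat_lit 48), (nat_lit 46), (nat_lit 42), (nat_lit 24), (nat_lit 15), (nat_lit 33), (nat_lit 30), (nat_lit 26), (nat_lit 36), (nat_lit 34), (nat_lit 27), (nat_lit 32), (nat_lit 30), (nat_lit 22), (nat_lit 14), (nat_lit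 48)], .mu (nat_lit 269) (nat_lit 14) (nat_lit 1) (nat_lit 0) (nat_lit 0)))) (.node (.leaf ([(nat_lit 48), (nat_lit 53), (nat_lit 32), (nat_lit 52), (nat_lit 49), (nat_lit 53)], .mu (nat_lit 141) (nat_lit 101) (nat_lit 0) (nat_lit 0) (nat_lit 0))) (.leaf ([(nat_lit 35), (nat_lit 37), (nat_lit 27), (nat_lit 32), (nat_lit 30), (nat_lit 26), (nat_lit 35), (nat_lit 37), (nat_lit 27), (nat_lit 32), (nat_lit 30), (nat_lit 26), (nat_lit 35), (nat_lit 37), (nat_lit 27), (nat_lit 32), (nat_lit 30), (nat_lit 26), (nat_lit 35), (nat_lit 37), (nat_lit 27), (nat_lit 32), (nat_lit 30), (nat_lit 26), (nat_lit 35), (nat_lit 37), (nat_lit 27), (nat_lit 32), (nat_lit 30), (nat_lit 26)], .ex (nat_lit 45) [(nat_lit 0), (nat_lit 2), (nat_lit 0), (nat_lit 2), (nat_lit 0), (nat_lit 3)])))) (.node (.node (.leaf ([(nat_lit 52), (nat_lit 40), (nat_lit 52), (nat_lit 40), (nat_lit 33)], .mu (nat_lit 77) (nat_lit 58) (nat_lit 1) (nat_lit 0) (nat_lit 0))) (.leaf ([(nat_lit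 5), (nat_lit 36), (nat_lit 32), (nat_lit 41), (nat_lit 52), (nat_lit 48), (nat_lit 53), (nat_lit 40), (nat_lit 20), (nat_lit 20)], .mu (nat_lit 333) (nat_lit 18) (nat_lit 1) (nat_lit 0) (nat_lit 0)))) (.node (.leaf ([(nat_lit 7), (nat_lit 21), (nat_lit 19), (nat_lit 16), (nat_lit 9), (nat_lit 23), (nat_lit 36), (nat_lit 27), (nat_lit 32), (nat_lit 22), (nat_lit 14), (nat_lit 25), (nat_lit 47), (nat_lit 49), (nat_lit 46), (nat_lit 44), (nat_lit 51), (nat_lit 53), (nat_lit 50), (nat_lit 29), (nat_lit 40), (nat_lit 24), (nat_lit 6), (nat_lit 4)], .ex (nat_lit 205) [])) (.leaf ([(nat_lit 20), (nat_lit 18), (nat_lit 20), (nat_lit 20), (nat_lit 20), (nat_lit 20), (nat_lit 20), (nat_lit 20), (nat_lit 20), (nat_lit 20), (nat_lit 20), (nat_lit 20), (nat_lit 20), (nat_lit 20), (nat_lit 20), (nat_lit 20), (nat_lit 20), (nat_lit 20), (nat_lit 20), (nat_lit 20), (nat_lit 20), (nat_lit 20), (nat_lit 20), (nat_lit 20)], .mu (nat_lit 461) (nat_lit 33) (nat_lit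 1) (nat_lit 0) (nat_lit 1)))))) (.node (.node (.node (.leaf ([(nat_lit 11), (nat_lit 25), (nat_lit 48), (nat_lit 29), (nat_lit 40), (nat_lit 38), (nat_lit 28), (nat_lit 43), (nat_lit 51), (nat_lit 53), (nat_lit 50), (nat_lit 42), (nat_lit 15), (nat_lit 23), (nat_lit 36), (nat_lit 34), (nat_lit 6), (nat_lit 4)], .ex (nat_lit 45) [(nat_lit 0), (nat_lit 2)])) (.leaf ([(nat_lit 22), (nat_lit 14), (nat_lit 49), (nat_lit 46), (nat_lit 44), (nat_lit 53), (nat_lit 50), (nat_lit 42), (nat_lit 24), (nat_lit 15), (nat_lit 33), (nat_lit 30), (nat_lit 26), (nat_lit 37), (nat_lit 49), (nat_lit 53), (nat_lit 33), (nat_lit 37)], .mu (nat_lit 301) (nat_lit 26) (nat_lit 1) (nat_lit 0) (nat_lit 1)))) (.node (.leaf ([(nat_lit 33), (nat_lit 22), (nat_lit 14), (nat_lit 39), (nat_lit 41), (nat_lit 24), (nat_lit 10), (nat_lit 8), (nat_lit 13), (nat_lit 17), (nat_lit 12), (nat_lit 6), (nat_lit 4), (nat_lit 20), (nat_lit 20), (nat_lit 17)], .mu (nat_lit 173) (nat_lit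 75) (nat_lit 0) (nat_lit 0) (nat_lit 0))) (.leaf ([(nat_lit 44), (nat_lit 51), (nat_lit 53), (nat_lit 45), (nat_lit 48), (nat_lit 46), (nat_lit 44), (nat_lit 51), (nat_lit 53), (nat_lit 45), (nat_lit 48), (nat_lit 46), (nat_lit 44), (nat_lit 53), (nat_lit 48), (nat_lit 53), (nat_lit 48), (nat_lit 53), (nat_lit 48)], .mu (nat_lit 429) (nat_lit 10) (nat_lit 1) (nat_lit 0) (nat_lit 1))))) (.node (.node (.leaf ([(nat_lit 32), (nat_lit 41), (nat_lit 49), (nat_lit 53), (nat_lit 48), (nat_lit 40)], .mu (nat_lit 109) (nat_lit 58) (nat_lit 0) (nat_lit 0) (nat_lit 0))) (.leaf ([(nat_lit 22), (nat_lit 10), (nat_lit 8), (nat_lit 20), (nat_lit 18), (nat_lit 20), (nat_lit 12), (nat_lit 6), (nat_lit 4), (nat_lit 16), (nat_lit 19), (nat_lit 16), (nat_lit 12), (nat_lit 9), (nat_lit 33), (nat_lit 37), (nat_lit 16), (nat_lit 16), (nat_lit 36)], .mu (nat_lit 365) (nat_lit 26) (nat_lit 1) (nat_lit 0) (nat_lit 1)))) (.node (.leaf ([(nat_lit 42), (nat_lit 29),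 (nat_lit 40), (nat_lit 38), (nat_lit 24), (nat_lit 10), (nat_lit 4), (nat_lit 41), (nat_lit 52), (nat_lit 40), (nat_lit 4), (nat_lit 41), (nat_lit 52)], .mu (nat_lit 237) (nat_lit 54) (nat_lit 1) (nat_lit 0) (nat_lit 1))) (.leaf ([], .ax (nat_lit 1000))))))) (.node (.node (.node (.node (.leaf ([(nat_lit 8), (nat_lit 16), (nat_lit 19), (nat_lit 16), (nat_lit 12), (nat_lit 9), (nat_lit 41), (nat_lit 38), (nat_lit 24), (nat_lit 10), (nat_lit 6), (nat_lit 5), (nat_lit 36)], .mu (nat_lit 29) (nat_lit 16) (nat_lit 1) (nat_lit 0) (nat_lit 0))) (.leaf ([(nat_lit 32), (nat_lit 30), (nat_lit 22), (nat_lit 14), (nat_lit 48), (nat_lit 33), (nat_lit 36), (nat_lit 32), (nat_lit 48), (nat_lit 33), (nat_lit 36)], .mu (nat_lit 285) (nat_lit 83) (nat_lit 0) (nat_lit 0) (nat_lit 0)))) (.node (.leaf ([(nat_lit 42), (nat_lit 24), (nat_lit 10), (nat_lit 6), (nat_lit 4), (nat_lit 20), (nat_lit 18), (nat_lit 20), (nat_lit 12), (nat_lit 9), (nat_lit 37), (nat_lit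 48)], .mu (nat_lit 157) (nat_lit 10) (nat_lit 1) (nat_lit 0) (nat_lit 1))) (.leaf ([(nat_lit 35), (nat_lit 37), (nat_lit 27), (nat_lit 32), (nat_lit 30), (nat_lit 26), (nat_lit 37), (nat_lit 32), (nat_lit 37), (nat_lit 32), (nat_lit 37), (nat_lit 32), (nat_lit 37), (nat_lit 32)], .mu (nat_lit 413) (nat_lit 83) (nat_lit 1) (nat_lit 0) (nat_lit 0))))) (.node (.node (.leaf ([(nat_lit 32), (nat_lit 30), (nat_lit 22), (nat_lit 14), (nat_lit 41), (nat_lit 38), (nat_lit 28), (nat_lit 49), (nat_lit 46), (nat_lit 44), (nat_lit 53), (nat_lit 50), (nat_lit 45), (nat_lit 48), (nat_lit 46), (nat_lit 42), (nat_lit 29), (nat_lit 40), (nat_lit 38), (nat_lit 24), (nat_lit 15)], .ex (nat_lit 7) [(nat_lit 0), (nat_lit 2), (nat_lit 0), (nat_lit 2)])) (.leaf ([(nat_lit 5), (nat_lit 40), (nat_lit 38), (nat_lit 24), (nat_lit 10), (nat_lit 6), (nat_lit 4), (nat_lit 16), (nat_lit 36), (nat_lit 32), (nat_lit 37), (nat_lit 20), (nat_lit 20), (nat_lit 20)], .mu (nat_lit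 349) (nat_lit 18) (nat_lit 1) (nat_lit 0) (nat_lit 0)))) (.node (.leaf ([(nat_lit 4), (nat_lit 21), (nat_lit 16), (nat_lit 36), (nat_lit 32), (nat_lit 49), (nat_lit 53), (nat_lit 40)], .mu (nat_lit 221) (nat_lit 18) (nat_lit 1) (nat_lit 0) (nat_lit 0))) (.leaf ([], .ax (nat_lit 1000)))))) (.node (.node (.node (.leaf ([(nat_lit 4), (nat_lit 48), (nat_lit 40), (nat_lit 53), (nat_lit 36)], .mu (nat_lit 61) (nat_lit 18) (nat_lit 1) (nat_lit 0) (nat_lit 0))) (.leaf ([(nat_lit 41), (nat_lit 38), (nat_lit 28), (nat_lit 52), (nat_lit 50), (nat_lit 45), (nat_lit 48), (nat_lit 46), (nat_lit 44), (nat_lit 53), (nat_lit 50), (nat_lit 42), (nat_lit 29), (nat_lit 40), (nat_lit 38), (nat_lit 24), (nat_lit 10), (nat_lit 8), (nat_lit 20), (nat_lit 18), (nat_lit 20), (nat_lit 12), (nat_lit 6), (nat_lit 5), (nat_lit 36), (nat_lit 32)], .mu (nat_lit 317) (nat_lit 58) (nat_lit 1) (nat_lit 0) (nat_lit 0)))) (.node (.leaf ([(nat_lit 22), (nat_lit 14), (nat_lit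 40), (nat_lit 38), (nat_lit 28), (nat_lit 48), (nat_lit 46), (nat_lit 44), (nat_lit 52), (nat_lit 50), (nat_lit 42), (nat_lit 24), (nat_lit 10), (nat_lit 8), (nat_lit 16), (nat_lit 12), (nat_lit 6), (nat_lit 4), (nat_lit 32), (nat_lit 36)], .mu (nat_lit 189) (nat_lit 26) (nat_lit 1) (nat_lit 0) (nat_lit 1))) (.leaf ([(nat_lit 20), (nat_lit 18), (nat_lit 20), (nat_lit 18), (nat_lit 20), (nat_lit 18), (nat_lit 20), (nat_lit 18), (nat_lit 20), (nat_lit 18), (nat_lit 20), (nat_lit 18), (nat_lit 20), (nat_lit 18), (nat_lit 20), (nat_lit 18), (nat_lit 20), (nat_lit 18), (nat_lit 20), (nat_lit 18), (nat_lit 20), (nat_lit 18), (nat_lit 20), (nat_lit 18), (nat_lit 20), (nat_lit 18), (nat_lit 20), (nat_lit 18), (nat_lit 20), (nat_lit 18), (nat_lit 20), (nat_lit 18), (nat_lit 20), (nat_lit 18), (nat_lit 20), (nat_lit 20), (nat_lit 20), (nat_lit 20), (nat_lit 20), (nat_lit 20)], .mu (nat_lit 445) (nat_lit 33) (nat_lit 1) (nat_lit 0) (nat_lit 1)))))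 (.node (.node (.leaf ([(nat_lit 32), (nat_lit 37), (nat_lit 48), (nat_lit 36), (nat_lit 33), (nat_lit 37)], .mu (nat_lit 125) (nat_lit 83) (nat_lit 0) (nat_lit 0) (nat_lit 0))) (.leaf ([(nat_lit 44), (nat_lit 53), (nat_lit 50), (nat_lit 42), (nat_lit 29), (nat_lit 40), (nat_lit 38), (nat_lit 28), (nat_lit 52), (nat_lit 50), (nat_lit 45), (nat_lit 48), (nat_lit 46), (nat_lit 42), (nat_lit 24), (nat_lit 10), (nat_lit 6), (nat_lit 4), (nat_lit 16), (nat_lit 19), (nat_lit 16), (nat_lit 5), (nat_lit 41), (nat_lit 49)], .mu (nat_lit 381) (nat_lit 10) (nat_lit 1) (nat_lit 0) (nat_lit 1)))) (.node (.leaf ([(nat_lit 15), (nat_lit 32), (nat_lit 30), (nat_lit 22), (nat_lit 14), (nat_lit 49), (nat_lit 46), (nat_lit 44), (nat_lit 52), (nat_lit 50), (nat_lit 45), (nat_lit 48), (nat_lit 46), (nat_lit 42), (nat_lit 24), (nat_lit 15), (nat_lit 32), (nat_lit 49), (nat_lit 52), (nat_lit 48)], .mu (nat_lit 253) (nat_lit 14) (nat_lit 1) (nat_lit 0) (nat_lit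 0))) (.leaf ([], .ax (nat_lit 1000))))))))
noncomputable def sK011 : BT (List ℕ × Ju) := .node sK0110 sK0111
noncomputable def sK01 : BT (List ℕ × Ju) := .node sK010 sK011
noncomputable def sK0 : BT (List ℕ × Ju) := .node sK00 sK01
noncomputable def sK1000 : BT (List ℕ × Ju) := (.node (.node (.node (.node (.node (.leaf ([(nat_lit 4), (nat_lit 4), (nat_lit 4)], .ex (nat_lit 0) [])) (.leaf ([(nat_lit 14), (nat_lit 49), (nat_lit 46), (nat_lit 44), (nat_lit 52), (nat_lit 50), (nat_lit 45), (nat_lit 48), (nat_lit 46), (nat_lit 42), (nat_lit 24), (nat_lit 15), (nat_lit 32), (nat_lit 49), (nat_lit 52), (nat_lit 48), (nat_lit 32)], .mu (nat_lit 256) (nat_lit 28) (nat_lit 1) (nat_lit 0) (nat_lit 0)))) (.node (.leaf ([(nat_lit 53), (nat_lit 50), (nat_lit 42), (nat_lit 24), (nat_lit 15), (nat_lit 32), (nat_lit 30), (nat_lit 22), (nat_lit 14), (nat_lit 52), (nat_lit 50), (nat_lit 45), (nat_lit 49), (nat_lit 46), (nat_lit 44), (nat_lit 53), (nat_lit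 50), (nat_lit 45), (nat_lit 48)], .mu (nat_lit 128) (nat_lit 101) (nat_lit 1) (nat_lit 0) (nat_lit 0))) (.leaf ([(nat_lit 29), (nat_lit 40), (nat_lit 38), (nat_lit 28), (nat_lit 52), (nat_lit 50), (nat_lit 45), (nat_lit 48), (nat_lit 46), (nat_lit 42), (nat_lit 24), (nat_lit 10), (nat_lit 6), (nat_lit 4), (nat_lit 16), (nat_lit 19), (nat_lit 16), (nat_lit 5), (nat_lit 41), (nat_lit 49), (nat_lit 53)], .mu (nat_lit 384) (nat_lit 12) (nat_lit 1) (nat_lit 0) (nat_lit 0))))) (.node (.node (.leaf ([(nat_lit 29), (nat_lit 40), (nat_lit 38), (nat_lit 28), (nat_lit 52), (nat_lit 50), (nat_lit 42), (nat_lit 29), (nat_lit 40), (nat_lit 38), (nat_lit 24), (nat_lit 15), (nat_lit 33), (nat_lit 30), (nat_lit 22), (nat_lit 14), (nat_lit 52)], .mu (nat_lit 64) (nat_lit 12) (nat_lit 1) (nat_lit 0) (nat_lit 0))) (.leaf ([(nat_lit 45), (nat_lit 48), (nat_lit 46), (nat_lit 44), (nat_lit 53), (nat_lit 50), (nat_lit 42), (nat_lit 29), (nat_lit 40), (nat_lit 38),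 (nat_lit 24), (nat_lit 10), (nat_lit 8), (nat_lit 20), (nat_lit 18), (nat_lit 20), (nat_lit 12), (nat_lit 6), (nat_lit 5), (nat_lit 36), (nat_lit 32), (nat_lit 41), (nat_lit 52)], .mu (nat_lit 320) (nat_lit 54) (nat_lit 1) (nat_lit 0) (nat_lit 1)))) (.node (.leaf ([(nat_lit 28), (nat_lit 48), (nat_lit 46), (nat_lit 44), (nat_lit 52), (nat_lit 50), (nat_lit 42), (nat_lit 24), (nat_lit 10), (nat_lit 8), (nat_lit 16), (nat_lit 12), (nat_lit 6), (nat_lit 4), (nat_lit 32), (nat_lit 36), (nat_lit 40)], .mu (nat_lit 192) (nat_lit 20) (nat_lit 1) (nat_lit 0) (nat_lit 1))) (.leaf ([(nat_lit 20), (nat_lit 18), (nat_lit 20), (nat_lit 18), (nat_lit 20), (nat_lit 18), (nat_lit 20), (nat_lit 18), (nat_lit 20), (nat_lit 18), (nat_lit 20), (nat_lit 18), (nat_lit 20), (nat_lit 18), (nat_lit 20), (nat_lit 18), (nat_lit 20), (nat_lit 18), (nat_lit 20), (nat_lit 18), (nat_lit 20), (nat_lit 18), (nat_lit 20), (nat_lit 18), (nat_lit 20), (nat_lit 18), (nat_lit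 20), (nat_lit 18), (nat_lit 20), (nat_lit 20), (nat_lit 20), (nat_lit 20), (nat_lit 20), (nat_lit 20), (nat_lit 20), (nat_lit 20), (nat_lit 20)], .mu (nat_lit 448) (nat_lit 33) (nat_lit 1) (nat_lit 0) (nat_lit 1)))))) (.node (.node (.node (.leaf ([(nat_lit 18)], .ex (nat_lit 0) [(nat_lit 0), (nat_lit 3), (nat_lit 0)])) (.leaf ([(nat_lit 48), (nat_lit 33), (nat_lit 36), (nat_lit 32), (nat_lit 48), (nat_lit 33), (nat_lit 36), (nat_lit 32)], .mu (nat_lit 288) (nat_lit 58) (nat_lit 1) (nat_lit 0) (nat_lit 0)))) (.node (.leaf ([(nat_lit 6), (nat_lit 4), (nat_lit 20), (nat_lit 18), (nat_lit 20), (nat_lit 12), (nat_lit 9), (nat_lit 37), (nat_lit 48)], .mu (nat_lit 160) (nat_lit 16) (nat_lit 1) (nat_lit 0) (nat_lit 0))) (.leaf ([(nat_lit 26), (nat_lit 37), (nat_lit 32), (nat_lit 37), (nat_lit 32), (nat_lit 37), (nat_lit 32), (nat_lit 37), (nat_lit 32), (nat_lit 37), (nat_lit 32)], .mu (nat_lit 416) (nat_lit 75) (nat_lit 1) (nat_lit 0) (nat_lit 1)))))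 (.node (.node (.leaf ([(nat_lit 41), (nat_lit 38), (nat_lit 28), (nat_lit 49), (nat_lit 46), (nat_lit 44), (nat_lit 53), (nat_lit 50), (nat_lit 45), (nat_lit 48), (nat_lit 46), (nat_lit 42), (nat_lit 29), (nat_lit 40), (nat_lit 38), (nat_lit 24), (nat_lit 15), (nat_lit 32)], .mu (nat_lit 96) (nat_lit 58) (nat_lit 1) (nat_lit 0) (nat_lit 0))) (.leaf ([(nat_lit 6), (nat_lit 4), (nat_lit 16), (nat_lit 36), (nat_lit 32), (nat_lit 37), (nat_lit 20), (nat_lit 20), (nat_lit 20), (nat_lit 5), (nat_lit 40)], .mu (nat_lit 352) (nat_lit 16) (nat_lit 1) (nat_lit 0) (nat_lit 0)))) (.node (.leaf ([(nat_lit 6), (nat_lit 4), (nat_lit 41), (nat_lit 38), (nat_lit 28), (nat_lit 52), (nat_lit 50), (nat_lit 42), (nat_lit 29), (nat_lit 40), (nat_lit 38), (nat_lit 24), (nat_lit 10), (nat_lit 6), (nat_lit 4), (nat_lit 41), (nat_lit 38), (nat_lit 28), (nat_lit 52), (nat_lit 50), (nat_lit 42), (nat_lit 29), (nat_lit 40), (nat_lit 38), (nat_lit 24), (nat_lit 10)],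 .ex (nat_lit 224) [(nat_lit 0)])) (.leaf ([], .ax (nat_lit 1000))))))) (.node (.node (.node (.node (.leaf ([(nat_lit 6), (nat_lit 4), (nat_lit 41), (nat_lit 38), (nat_lit 24), (nat_lit 10), (nat_lit 6), (nat_lit 5), (nat_lit 48)], .mu (nat_lit 15) (nat_lit 16) (nat_lit 1) (nat_lit 0) (nat_lit 0))) (.leaf ([(nat_lit 36), (nat_lit 34), (nat_lit 27), (nat_lit 32), (nat_lit 30), (nat_lit 22), (nat_lit 14), (nat_lit 48), (nat_lit 46), (nat_lit 42), (nat_lit 24), (nat_lit 15), (nat_lit 33), (nat_lit 30), (nat_lit 26), (nat_lit 36), (nat_lit 34), (nat_lit 27), (nat_lit 32), (nat_lit 30), (nat_lit 22), (nat_lit 14), (nat_lit 48), (nat_lit 33)], .mu (nat_lit 272) (nat_lit 83) (nat_lit 1) (nat_lit 0) (nat_lit 0)))) (.node (.leaf ([(nat_lit 20), (nat_lit 12), (nat_lit 6), (nat_lit 4), (nat_lit 16), (nat_lit 12), (nat_lit 9), (nat_lit 37), (nat_lit 34), (nat_lit 22), (nat_lit 10), (nat_lit 6), (nat_lit 4), (nat_lit 20), (nat_lit 20)], .mu (nat_lit 144)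 (nat_lit 33) (nat_lit 1) (nat_lit 0) (nat_lit 1))) (.leaf ([(nat_lit 26), (nat_lit 35), (nat_lit 37), (nat_lit 27), (nat_lit 32), (nat_lit 30), (nat_lit 26), (nat_lit 35), (nat_lit 37), (nat_lit 27), (nat_lit 32), (nat_lit 30), (nat_lit 26), (nat_lit 35), (nat_lit 37), (nat_lit 27), (nat_lit 32), (nat_lit 30), (nat_lit 26), (nat_lit 35), (nat_lit 37), (nat_lit 27), (nat_lit 32), (nat_lit 30), (nat_lit 26), (nat_lit 37), (nat_lit 32)], .mu (nat_lit 400) (nat_lit 75) (nat_lit 1) (nat_lit 0) (nat_lit 1))))) (.node (.node (.leaf ([(nat_lit 33), (nat_lit 30), (nat_lit 26), (nat_lit 36), (nat_lit 34), (nat_lit 27), (nat_lit 32), (nat_lit 30), (nat_lit 22), (nat_lit 10), (nat_lit 8), (nat_lit 20), (nat_lit 12), (nat_lit 6), (nat_lit 5), (nat_lit 16)], .mu (nat_lit 80) (nat_lit 31) (nat_lit 0) (nat_lit 0) (nat_lit 0))) (.leaf ([(nat_lit 9), (nat_lit 36), (nat_lit 34), (nat_lit 27), (nat_lit 32), (nat_lit 30), (nat_lit 26), (nat_lit 37), (nat_lit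 34), (nat_lit 22), (nat_lit 10), (nat_lit 8), (nat_lit 20), (nat_lit 18), (nat_lit 20), (nat_lit 18), (nat_lit 20), (nat_lit 12), (nat_lit 6), (nat_lit 5), (nat_lit 40), (nat_lit 38), (nat_lit 24), (nat_lit 10), (nat_lit 6), (nat_lit 4), (nat_lit 16)], .mu (nat_lit 336) (nat_lit 35) (nat_lit 1) (nat_lit 0) (nat_lit 1)))) (.node (.leaf ([(nat_lit 23), (nat_lit 36), (nat_lit 27), (nat_lit 32), (nat_lit 22), (nat_lit 14), (nat_lit 25), (nat_lit 47), (nat_lit 49), (nat_lit 46), (nat_lit 44), (nat_lit 51), (nat_lit 53), (nat_lit 50), (nat_lit 29), (nat_lit 40), (nat_lit 24), (nat_lit 6), (nat_lit 4), (nat_lit 21), (nat_lit 16)], .mu (nat_lit 208) (nat_lit 31) (nat_lit 0) (nat_lit 0) (nat_lit 1))) (.leaf ([], .ax (nat_lit 1000)))))) (.node (.node (.node (.leaf ([(nat_lit 28)], .ex (nat_lit 0) [(nat_lit 0), (nat_lit 2), (nat_lit 0), (nat_lit 3), (nat_lit 0)])) (.leaf ([(nat_lit 44), (nat_lit 53), (nat_lit 50), (nat_lit 42), (nat_lit 24), (nat_lit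 15), (nat_lit 33), (nat_lit 30), (nat_lit 26), (nat_lit 37), (nat_lit 49), (nat_lit 53), (nat_lit 33), (nat_lit 37), (nat_lit 49)], .mu (nat_lit 304) (nat_lit 10) (nat_lit 1) (nat_lit 0) (nat_lit 1)))) (.node (.leaf ([(nat_lit 41), (nat_lit 24), (nat_lit 10), (nat_lit 8), (nat_lit 13), (nat_lit 17), (nat_lit 12), (nat_lit 6), (nat_lit 4), (nat_lit 20), (nat_lit 20), (nat_lit 17), (nat_lit 33)], .mu (nat_lit 176) (nat_lit 20) (nat_lit 0) (nat_lit 0) (nat_lit 0))) (.leaf ([(nat_lit 48), (nat_lit 46), (nat_lit 44), (nat_lit 51), (nat_lit 53), (nat_lit 45), (nat_lit 48), (nat_lit 46), (nat_lit 44), (nat_lit 53), (nat_lit 48), (nat_lit 53), (nat_lit 48), (nat_lit 53), (nat_lit 48), (nat_lit 53)], .mu (nat_lit 432) (nat_lit 101) (nat_lit 0) (nat_lit 0) (nat_lit 1))))) (.node (.node (.leaf ([(nat_lit 37), (nat_lit 34), (nat_lit 22), (nat_lit 14), (nat_lit 48), (nat_lit 46), (nat_lit 42), (nat_lit 24), (nat_lit 15), (nat_lit 36), (nat_lit 34), (nat_lit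 27), (nat_lit 33), (nat_lit 30), (nat_lit 26), (nat_lit 37), (nat_lit 34), (nat_lit 27), (nat_lit 32)], .mu (nat_lit 112) (nat_lit 83) (nat_lit 1) (nat_lit 0) (nat_lit 0))) (.leaf ([(nat_lit 20), (nat_lit 18), (nat_lit 20), (nat_lit 12), (nat_lit 6), (nat_lit 4), (nat_lit 16), (nat_lit 19), (nat_lit 16), (nat_lit 12), (nat_lit 9), (nat_lit 33), (nat_lit 37), (nat_lit 16), (nat_lit 16), (nat_lit 36)], .mu (nat_lit 368) (nat_lit 31) (nat_lit 1) (nat_lit 0) (nat_lit 0)))) (.node (.leaf ([(nat_lit 24), (nat_lit 10), (nat_lit 4), (nat_lit 41), (nat_lit 52), (nat_lit 40), (nat_lit 4), (nat_lit 41), (nat_lit 52), (nat_lit 40)], .mu (nat_lit 240) (nat_lit 20) (nat_lit 1) (nat_lit 0) (nat_lit 1))) (.leaf ([], .ax (nat_lit 1000))))))))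
noncomputable def sK1001 : BT (List ℕ × Ju) := (.node (.node (.node (.node (.node (.leaf ([(nat_lit 0), (nat_lit 0)], .ax (nat_lit 0))) (.leaf ([(nat_lit 15), (nat_lit 32), (nat_lit 49), (nat_lit 52), (nat_lit 48), (nat_lit 32), (nat_lit 49), (nat_lit 52), (nat_lit 48)], .mu (nat_lit 264) (nat_lit 14) (nat_lit 1) (nat_lit 0) (nat_lit 0)))) (.node (.leaf ([(nat_lit 45), (nat_lit 49), (nat_lit 46), (nat_lit 44), (nat_lit 53), (nat_lit 50), (nat_lit 45), (nat_lit 48), (nat_lit 53), (nat_lit 32), (nat_lit 52)], .mu (nat_lit 136) (nat_lit 54) (nat_lit 1) (nat_lit 0) (nat_lit 1))) (.leaf ([(nat_lit 10), (nat_lit 6), (nat_lit 4), (nat_lit 16), (nat_lit 19), (nat_lit 16), (nat_lit 5), (nat_lit 41), (nat_lit 49), (nat_lit 53), (nat_lit 40), (nat_lit 52), (nat_lit 48)], .mu (nat_lit 392) (nat_lit 14) (nat_lit 1) (nat_lit 0) (nat_lit 0))))) (.node (.node (.leaf ([(nat_lit 15), (nat_lit 33), (nat_lit 30), (nat_lit 22), (nat_lit 14), (nat_lit 52), (nat_lit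 40), (nat_lit 52), (nat_lit 40)], .mu (nat_lit 72) (nat_lit 14) (nat_lit 1) (nat_lit 0) (nat_lit 0))) (.leaf ([(nat_lit 10), (nat_lit 8), (nat_lit 20), (nat_lit 18), (nat_lit 20), (nat_lit 12), (nat_lit 6), (nat_lit 5), (nat_lit 36), (nat_lit 32), (nat_lit 41), (nat_lit 52), (nat_lit 48), (nat_lit 53), (nat_lit 40)], .mu (nat_lit 328) (nat_lit 14) (nat_lit 1) (nat_lit 0) (nat_lit 0)))) (.node (.leaf ([(nat_lit 16), (nat_lit 12), (nat_lit 6), (nat_lit 4), (nat_lit 32), (nat_lit 36), (nat_lit 40), (nat_lit 48), (nat_lit 52)], .mu (nat_lit 200) (nat_lit 31) (nat_lit 1) (nat_lit 0) (nat_lit 0))) (.leaf ([(nat_lit 20), (nat_lit 18), (nat_lit 20), (nat_lit 18), (nat_lit 20), (nat_lit 18), (nat_lit 20), (nat_lit 18), (nat_lit 20), (nat_lit 18), (nat_lit 20), (nat_lit 18), (nat_lit 20), (nat_lit 20), (nat_lit 20), (nat_lit 20), (nat_lit 20), (nat_lit 20), (nat_lit 20), (nat_lit 20), (nat_lit 20), (nat_lit 20), (nat_lit 20), (nat_lit 20), (nat_lit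 20), (nat_lit 20), (nat_lit 20), (nat_lit 20), (nat_lit 20)], .mu (nat_lit 456) (nat_lit 33) (nat_lit 1) (nat_lit 0) (nat_lit 1)))))) (.node (.node (.node (.leaf ([(nat_lit 5), (nat_lit 36), (nat_lit 16), (nat_lit 16), (nat_lit 41)], .mu (nat_lit 40) (nat_lit 18) (nat_lit 1) (nat_lit 0) (nat_lit 0))) (.leaf ([(nat_lit 24), (nat_lit 15), (nat_lit 33), (nat_lit 30), (nat_lit 26), (nat_lit 37), (nat_lit 34), (nat_lit 22), (nat_lit 14), (nat_lit 49), (nat_lit 46), (nat_lit 44), (nat_lit 53), (nat_lit 50), (nat_lit 42), (nat_lit 24), (nat_lit 15), (nat_lit 33), (nat_lit 30), (nat_lit 26), (nat_lit 37), (nat_lit 49), (nat_lit 53)], .mu (nat_lit 296) (nat_lit 12) (nat_lit 1) (nat_lit 0) (nat_lit 0)))) (.node (.leaf ([(nat_lit 13), (nat_lit 20), (nat_lit 18), (nat_lit 20), (nat_lit 18), (nat_lit 17), (nat_lit 9), (nat_lit 31), (nat_lit 33), (nat_lit 22), (nat_lit 14), (nat_lit 39), (nat_lit 41), (nat_lit 24), (nat_lit 10), (nat_lit 8), (nat_lit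 13), (nat_lit 17), (nat_lit 12), (nat_lit 6), (nat_lit 4)], .mu (nat_lit 168) (nat_lit 18) (nat_lit 0) (nat_lit 0) (nat_lit 0))) (.leaf ([(nat_lit 48), (nat_lit 46), (nat_lit 44), (nat_lit 51), (nat_lit 53), (nat_lit 45), (nat_lit 48), (nat_lit 46), (nat_lit 44), (nat_lit 51), (nat_lit 53), (nat_lit 45), (nat_lit 48), (nat_lit 46), (nat_lit 44), (nat_lit 51), (nat_lit 53), (nat_lit 45), (nat_lit 48), (nat_lit 46), (nat_lit 44), (nat_lit 53), (nat_lit 48), (nat_lit 53)], .mu (nat_lit 424) (nat_lit 101) (nat_lit 0) (nat_lit 0) (nat_lit 1))))) (.node (.node (.leaf ([(nat_lit 42), (nat_lit 29), (nat_lit 40), (nat_lit 38), (nat_lit 24), (nat_lit 15), (nat_lit 32), (nat_lit 41), (nat_lit 49), (nat_lit 53), (nat_lit 48)], .mu (nat_lit 104) (nat_lit 10) (nat_lit 1) (nat_lit 0) (nat_lit 1))) (.leaf ([(nat_lit 8), (nat_lit 16), (nat_lit 19), (nat_lit 16), (nat_lit 12), (nat_lit 9), (nat_lit 36), (nat_lit 34), (nat_lit 22), (nat_lit 10), (nat_lit 8),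 (nat_lit 20), (nat_lit 18), (nat_lit 20), (nat_lit 12), (nat_lit 6), (nat_lit 4), (nat_lit 16), (nat_lit 19), (nat_lit 16), (nat_lit 12), (nat_lit 9), (nat_lit 33), (nat_lit 37)], .mu (nat_lit 360) (nat_lit 16) (nat_lit 1) (nat_lit 0) (nat_lit 0)))) (.node (.leaf ([(nat_lit 10), (nat_lit 6), (nat_lit 4), (nat_lit 41), (nat_lit 38), (nat_lit 28), (nat_lit 52), (nat_lit 50), (nat_lit 42), (nat_lit 29), (nat_lit 40), (nat_lit 38), (nat_lit 24), (nat_lit 10), (nat_lit 4), (nat_lit 41), (nat_lit 52), (nat_lit 40)], .mu (nat_lit 232) (nat_lit 14) (nat_lit 1) (nat_lit 0) (nat_lit 0))) (.leaf ([], .ax (nat_lit 1000))))))) (.node (.node (.node (.node (.leaf ([(nat_lit 36), (nat_lit 34), (nat_lit 22), (nat_lit 10), (nat_lit 8), (nat_lit 16), (nat_lit 19), (nat_lit 16), (nat_lit 12), (nat_lit 9), (nat_lit 41), (nat_lit 38), (nat_lit 24), (nat_lit 10), (nat_lit 6), (nat_lit 5)], .ex (nat_lit 7) [])) (.leaf ([(nat_lit 15), (nat_lit 33), (nat_lit 30),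 (nat_lit 26), (nat_lit 36), (nat_lit 34), (nat_lit 27), (nat_lit 32), (nat_lit 30), (nat_lit 22), (nat_lit 14), (nat_lit 48), (nat_lit 33), (nat_lit 36), (nat_lit 32), (nat_lit 48)], .mu (nat_lit 280) (nat_lit 14) (nat_lit 1) (nat_lit 0) (nat_lit 0)))) (.node (.leaf ([(nat_lit 4), (nat_lit 20), (nat_lit 20), (nat_lit 20), (nat_lit 4), (nat_lit 16), (nat_lit 37)], .mu (nat_lit 152) (nat_lit 18) (nat_lit 1) (nat_lit 0) (nat_lit 0))) (.leaf ([(nat_lit 26), (nat_lit 35), (nat_lit 37), (nat_lit 27), (nat_lit 32), (nat_lit 30), (nat_lit 26), (nat_lit 35), (nat_lit 37), (nat_lit 27), (nat_lit 32), (nat_lit 30), (nat_lit 26), (nat_lit 37), (nat_lit 32), (nat_lit 37), (nat_lit 32), (nat_lit 37), (nat_lit 32)], .mu (nat_lit 408) (nat_lit 75) (nat_lit 1) (nat_lit 0) (nat_lit 1))))) (.node (.node (.leaf ([(nat_lit 8), (nat_lit 20), (nat_lit 12), (nat_lit 6), (nat_lit 5), (nat_lit 16), (nat_lit 33), (nat_lit 36), (nat_lit 32)], .mu (nat_lit 88) (nat_lit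 16) (nat_lit 1) (nat_lit 0) (nat_lit 0))) (.leaf ([(nat_lit 8), (nat_lit 20), (nat_lit 18), (nat_lit 20), (nat_lit 18), (nat_lit 20), (nat_lit 12), (nat_lit 6), (nat_lit 5), (nat_lit 40), (nat_lit 38), (nat_lit 24), (nat_lit 10), (nat_lit 6), (nat_lit 4), (nat_lit 16), (nat_lit 36), (nat_lit 32), (nat_lit 37)], .mu (nat_lit 344) (nat_lit 16) (nat_lit 1) (nat_lit 0) (nat_lit 0)))) (.node (.leaf ([(nat_lit 51), (nat_lit 53), (nat_lit 50), (nat_lit 29), (nat_lit 40), (nat_lit 24), (nat_lit 6), (nat_lit 4), (nat_lit 21), (nat_lit 16), (nat_lit 36), (nat_lit 32), (nat_lit 49)], .mu (nat_lit 216) (nat_lit 101) (nat_lit 1) (nat_lit 0) (nat_lit 0))) (.leaf ([], .ax (nat_lit 1000)))))) (.node (.node (.node (.leaf ([(nat_lit 15), (nat_lit 23), (nat_lit 36), (nat_lit 34), (nat_lit 6), (nat_lit 4), (nat_lit 48), (nat_lit 40), (nat_lit 53)], .mu (nat_lit 56) (nat_lit 12) (nat_lit 1) (nat_lit 0) (nat_lit 0))) (.leaf ([(nat_lit 36), (nat_lit 34), (nat_lit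 27), (nat_lit 32), (nat_lit 30), (nat_lit 22), (nat_lit 14), (nat_lit 41), (nat_lit 38), (nat_lit 28), (nat_lit 52), (nat_lit 50), (nat_lit 45), (nat_lit 48), (nat_lit 46), (nat_lit 44), (nat_lit 53), (nat_lit 50), (nat_lit 42), (nat_lit 29), (nat_lit 40), (nat_lit 38), (nat_lit 24), (nat_lit 10), (nat_lit 8), (nat_lit 20), (nat_lit 18), (nat_lit 20), (nat_lit 12), (nat_lit 6), (nat_lit 5)], .ex (nat_lit 224) []))) (.node (.leaf ([(nat_lit 49), (nat_lit 36), (nat_lit 20), (nat_lit 33), (nat_lit 41), (nat_lit 20)], .su (nat_lit 184) (nat_lit 43))) (.leaf ([(nat_lit 20), (nat_lit 18), (nat_lit 20), (nat_lit 18), (nat_lit 20), (nat_lit 18), (nat_lit 20), (nat_lit 18), (nat_lit 20), (nat_lit 18), (nat_lit 20), (nat_lit 18), (nat_lit 20), (nat_lit 18), (nat_lit 20), (nat_lit 18), (nat_lit 20), (nat_lit 18), (nat_lit 20), (nat_lit 18), (nat_lit 20), (nat_lit 18), (nat_lit 20), (nat_lit 18), (nat_lit 20), (nat_lit 18), (nat_lit 20), (nat_lit 18),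 (nat_lit 20), (nat_lit 18), (nat_lit 20), (nat_lit 18), (nat_lit 20), (nat_lit 18), (nat_lit 20), (nat_lit 18), (nat_lit 20), (nat_lit 18), (nat_lit 20), (nat_lit 18), (nat_lit 20), (nat_lit 18), (nat_lit 20), (nat_lit 18), (nat_lit 20)], .mu (nat_lit 440) (nat_lit 33) (nat_lit 1) (nat_lit 0) (nat_lit 1))))) (.node (.node (.leaf ([(nat_lit 27), (nat_lit 33), (nat_lit 30), (nat_lit 26), (nat_lit 37), (nat_lit 34), (nat_lit 27), (nat_lit 32), (nat_lit 37), (nat_lit 48), (nat_lit 36)], .mu (nat_lit 120) (nat_lit 26) (nat_lit 1) (nat_lit 0) (nat_lit 1))) (.leaf ([(nat_lit 16), (nat_lit 12), (nat_lit 6), (nat_lit 5), (nat_lit 41), (nat_lit 38), (nat_lit 28), (nat_lit 49), (nat_lit 46), (nat_lit 44), (nat_lit 53), (nat_lit 50), (nat_lit 42), (nat_lit 29), (nat_lit 40), (nat_lit 38), (nat_lit 28), (nat_lit 52), (nat_lit 50), (nat_lit 45), (nat_lit 48), (nat_lit 46), (nat_lit 42), (nat_lit 24), (nat_lit 10), (nat_lit 6), (nat_lit 4), (nat_lit 16),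 (nat_lit 19)], .ex (nat_lit 224) [(nat_lit 0), (nat_lit 3), (nat_lit 0), (nat_lit 2)]))) (.node (.leaf ([(nat_lit 52), (nat_lit 50), (nat_lit 45), (nat_lit 48), (nat_lit 46), (nat_lit 42), (nat_lit 24), (nat_lit 15), (nat_lit 32), (nat_lit 30), (nat_lit 22), (nat_lit 14), (nat_lit 49), (nat_lit 46), (nat_lit 44), (nat_lit 52), (nat_lit 50), (nat_lit 45), (nat_lit 48), (nat_lit 46), (nat_lit 42), (nat_lit 24), (nat_lit 15), (nat_lit 32), (nat_lit 49)], .mu (nat_lit 248) (nat_lit 101) (nat_lit 1) (nat_lit 0) (nat_lit 0))) (.leaf ([], .ax (nat_lit 1000))))))))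
noncomputable def sK100 : BT (List ℕ × Ju) := .node sK1000 sK1001
noncomputable def sK1010 : BT (List ℕ × Ju) := (.node (.node (.node (.node (.node (.leaf ([(nat_lit 48), (nat_lit 48), (nat_lit 48)], .ex (nat_lit 0) [(nat_lit 0), (nat_lit 2), (nat_lit 0), (nat_lit 3), (nat_lit 0), (nat_lit 3), (nat_lit 0), (nat_lit 2), (nat_lit 0)])) (.leaf ([(nat_lit 45), (nat_lit 48), (nat_lit 46), (nat_lit 42), (nat_lit 24), (nat_lit 15), (nat_lit 32), (nat_lit 49), (nat_lit 52), (nat_lit 48), (nat_lit 32), (nat_lit 49), (nat_lit 52)], .mu (nat_lit 260) (nat_lit 54) (nat_lit 1) (nat_lit 0) (nat_lit 1)))) (.node (.leaf ([(nat_lit 32), (nat_lit 30), (nat_lit 22), (nat_lit 14), (nat_lit 52), (nat_lit 50), (nat_lit 45), (nat_lit 49), (nat_lit 46), (nat_lit 44), (nat_lit 53), (nat_lit 50), (nat_lit 45), (nat_lit 48), (nat_lit 53)], .mu (nat_lit 132) (nat_lit 58) (nat_lit 0) (nat_lit 0) (nat_lit 0))) (.leaf ([(nat_lit 45), (nat_lit 48), (nat_lit 46), (nat_lit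 42), (nat_lit 24), (nat_lit 10), (nat_lit 6), (nat_lit 4), (nat_lit 16), (nat_lit 19), (nat_lit 16), (nat_lit 5), (nat_lit 41), (nat_lit 49), (nat_lit 53), (nat_lit 40), (nat_lit 52)], .mu (nat_lit 388) (nat_lit 54) (nat_lit 1) (nat_lit 0) (nat_lit 1))))) (.node (.node (.leaf ([(nat_lit 42), (nat_lit 29), (nat_lit 40), (nat_lit 38), (nat_lit 24), (nat_lit 15), (nat_lit 33), (nat_lit 30), (nat_lit 22), (nat_lit 14), (nat_lit 52), (nat_lit 40), (nat_lit 52)], .mu (nat_lit 68) (nat_lit 54) (nat_lit 1) (nat_lit 0) (nat_lit 1))) (.leaf ([(nat_lit 42), (nat_lit 29), (nat_lit 40), (nat_lit 38), (nat_lit 24), (nat_lit 10), (nat_lit 8), (nat_lit 20), (nat_lit 18), (nat_lit 20), (nat_lit 12), (nat_lit 6), (nat_lit 5), (nat_lit 36), (nat_lit 32), (nat_lit 41), (nat_lit 52), (nat_lit 48), (nat_lit 53)], .mu (nat_lit 324) (nat_lit 54) (nat_lit 1) (nat_lit 0) (nat_lit 1)))) (.node (.leaf ([(nat_lit 42), (nat_lit 24), (nat_lit 10), (nat_lit 8), (nat_lit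 16), (nat_lit 12), (nat_lit 6), (nat_lit 4), (nat_lit 32), (nat_lit 36), (nat_lit 40), (nat_lit 48), (nat_lit 52)], .mu (nat_lit 196) (nat_lit 54) (nat_lit 1) (nat_lit 0) (nat_lit 1))) (.leaf ([(nat_lit 20), (nat_lit 18), (nat_lit 20), (nat_lit 18), (nat_lit 20), (nat_lit 18), (nat_lit 20), (nat_lit 18), (nat_lit 20), (nat_lit 18), (nat_lit 20), (nat_lit 18), (nat_lit 20), (nat_lit 18), (nat_lit 20), (nat_lit 18), (nat_lit 20), (nat_lit 18), (nat_lit 20), (nat_lit 18), (nat_lit 20), (nat_lit 20), (nat_lit 20), (nat_lit 20), (nat_lit 20), (nat_lit 20), (nat_lit 20), (nat_lit 20), (nat_lit 20), (nat_lit 20), (nat_lit 20), (nat_lit 20), (nat_lit 20)], .mu (nat_lit 452) (nat_lit 33) (nat_lit 1) (nat_lit 0) (nat_lit 1)))))) (.node (.node (.node (.leaf ([(nat_lit 41), (nat_lit 38), (nat_lit 24), (nat_lit 10), (nat_lit 6), (nat_lit 5), (nat_lit 36), (nat_lit 16), (nat_lit 16)], .mu (nat_lit 36) (nat_lit 31) (nat_lit 0) (nat_lit 0) (nat_lit 0)))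 (.leaf ([(nat_lit 49), (nat_lit 46), (nat_lit 44), (nat_lit 53), (nat_lit 50), (nat_lit 42), (nat_lit 24), (nat_lit 15), (nat_lit 33), (nat_lit 30), (nat_lit 26), (nat_lit 37), (nat_lit 34), (nat_lit 22), (nat_lit 14), (nat_lit 49), (nat_lit 46), (nat_lit 44), (nat_lit 53), (nat_lit 50), (nat_lit 42), (nat_lit 24), (nat_lit 15), (nat_lit 33), (nat_lit 30), (nat_lit 26), (nat_lit 37)], .mu (nat_lit 292) (nat_lit 58) (nat_lit 1) (nat_lit 0) (nat_lit 0)))) (.node (.leaf ([(nat_lit 37), (nat_lit 48), (nat_lit 4), (nat_lit 20), (nat_lit 20)], .mu (nat_lit 164) (nat_lit 31) (nat_lit 0) (nat_lit 0) (nat_lit 0))) (.leaf ([(nat_lit 48), (nat_lit 46), (nat_lit 44), (nat_lit 51), (nat_lit 53), (nat_lit 45), (nat_lit 48), (nat_lit 46), (nat_lit 44), (nat_lit 51), (nat_lit 53), (nat_lit 45), (nat_lit 48), (nat_lit 46), (nat_lit 44), (nat_lit 51), (nat_lit 53), (nat_lit 45), (nat_lit 48), (nat_lit 46), (nat_lit 44), (nat_lit 51), (nat_lit 53), (nat_lit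 45), (nat_lit 48), (nat_lit 46), (nat_lit 44), (nat_lit 53)], .mu (nat_lit 420) (nat_lit 101) (nat_lit 0) (nat_lit 0) (nat_lit 1))))) (.node (.node (.leaf ([(nat_lit 44)], .ex (nat_lit 0) [(nat_lit 0), (nat_lit 2), (nat_lit 0), (nat_lit 3), (nat_lit 0), (nat_lit 3), (nat_lit 0)])) (.leaf ([(nat_lit 26), (nat_lit 37), (nat_lit 34), (nat_lit 22), (nat_lit 10), (nat_lit 8), (nat_lit 16), (nat_lit 19), (nat_lit 16), (nat_lit 12), (nat_lit 9), (nat_lit 36), (nat_lit 34), (nat_lit 22), (nat_lit 10), (nat_lit 8), (nat_lit 20), (nat_lit 18), (nat_lit 20), (nat_lit 12), (nat_lit 6), (nat_lit 4), (nat_lit 16), (nat_lit 19), (nat_lit 16), (nat_lit 12), (nat_lit 9), (nat_lit 33)], .mu (nat_lit 356) (nat_lit 75) (nat_lit 1) (nat_lit 0) (nat_lit 1)))) (.node (.leaf ([(nat_lit 42), (nat_lit 29), (nat_lit 40), (nat_lit 38), (nat_lit 24), (nat_lit 10), (nat_lit 6), (nat_lit 4), (nat_lit 41), (nat_lit 38), (nat_lit 28), (nat_lit 52), (nat_lit 50), (nat_lit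 42), (nat_lit 29), (nat_lit 40), (nat_lit 38), (nat_lit 24), (nat_lit 10), (nat_lit 4), (nat_lit 41), (nat_lit 52)], .mu (nat_lit 228) (nat_lit 54) (nat_lit 1) (nat_lit 0) (nat_lit 1))) (.leaf ([], .ax (nat_lit 1000))))))) (.node (.node (.node (.node (.leaf ([(nat_lit 24), (nat_lit 10), (nat_lit 6), (nat_lit 5), (nat_lit 48), (nat_lit 4), (nat_lit 41)], .mu (nat_lit 19) (nat_lit 20) (nat_lit 1) (nat_lit 0) (nat_lit 2))) (.leaf ([(nat_lit 14), (nat_lit 48), (nat_lit 46), (nat_lit 42), (nat_lit 24), (nat_lit 15), (nat_lit 33), (nat_lit 30), (nat_lit 26), (nat_lit 36), (nat_lit 34), (nat_lit 27), (nat_lit 32), (nat_lit 30), (nat_lit 22), (nat_lit 14), (nat_lit 48), (nat_lit 33), (nat_lit 36), (nat_lit 32)], .mu (nat_lit 276) (nat_lit 28) (nat_lit 1) (nat_lit 0) (nat_lit 0)))) (.node (.leaf ([(nat_lit 37), (nat_lit 34), (nat_lit 22), (nat_lit 10), (nat_lit 6), (nat_lit 4), (nat_lit 20), (nat_lit 20), (nat_lit 20), (nat_lit 4), (nat_lit 16)],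 .mu (nat_lit 148) (nat_lit 31) (nat_lit 0) (nat_lit 0) (nat_lit 0))) (.leaf ([(nat_lit 26), (nat_lit 35), (nat_lit 37), (nat_lit 27), (nat_lit 32), (nat_lit 30), (nat_lit 26), (nat_lit 35), (nat_lit 37), (nat_lit 27), (nat_lit 32), (nat_lit 30), (nat_lit 26), (nat_lit 35), (nat_lit 37), (nat_lit 27), (nat_lit 32), (nat_lit 30), (nat_lit 26), (nat_lit 37), (nat_lit 32), (nat_lit 37), (nat_lit 32)], .mu (nat_lit 404) (nat_lit 75) (nat_lit 1) (nat_lit 0) (nat_lit 1))))) (.node (.node (.leaf ([(nat_lit 27), (nat_lit 32), (nat_lit 30), (nat_lit 22), (nat_lit 10), (nat_lit 8), (nat_lit 20), (nat_lit 12), (nat_lit 6), (nat_lit 5), (nat_lit 16), (nat_lit 33), (nat_lit 36)], .mu (nat_lit 84) (nat_lit 26) (nat_lit 1) (nat_lit 0) (nat_lit 1))) (.leaf ([(nat_lit 26), (nat_lit 37), (nat_lit 34), (nat_lit 22), (nat_lit 10), (nat_lit 8), (nat_lit 20), (nat_lit 18), (nat_lit 20), (nat_lit 18), (nat_lit 20), (nat_lit 12), (nat_lit 6), (nat_lit 5), (nat_lit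 40), (nat_lit 38), (nat_lit 24), (nat_lit 10), (nat_lit 6), (nat_lit 4), (nat_lit 16), (nat_lit 36), (nat_lit 32)], .mu (nat_lit 340) (nat_lit 75) (nat_lit 1) (nat_lit 0) (nat_lit 1)))) (.node (.leaf ([(nat_lit 25), (nat_lit 47), (nat_lit 49), (nat_lit 46), (nat_lit 44), (nat_lit 51), (nat_lit 53), (nat_lit 50), (nat_lit 29), (nat_lit 40), (nat_lit 24), (nat_lit 6), (nat_lit 4), (nat_lit 21), (nat_lit 16), (nat_lit 36), (nat_lit 32)], .mu (nat_lit 212) (nat_lit 58) (nat_lit 1) (nat_lit 0) (nat_lit 0))) (.leaf ([], .ax (nat_lit 1000)))))) (.node (.node (.node (.leaf ([(nat_lit 51), (nat_lit 53), (nat_lit 50), (nat_lit 42), (nat_lit 15), (nat_lit 23), (nat_lit 36), (nat_lit 34), (nat_lit 6), (nat_lit 4), (nat_lit 48), (nat_lit 40)], .mu (nat_lit 52) (nat_lit 12) (nat_lit 0) (nat_lit 0) (nat_lit 0))) (.leaf ([(nat_lit 15), (nat_lit 33), (nat_lit 30), (nat_lit 26), (nat_lit 37), (nat_lit 49), (nat_lit 53), (nat_lit 33), (nat_lit 37), (nat_lit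 49), (nat_lit 53)], .mu (nat_lit 308) (nat_lit 14) (nat_lit 1) (nat_lit 0) (nat_lit 0)))) (.node (.leaf ([(nat_lit 17), (nat_lit 12), (nat_lit 6), (nat_lit 4), (nat_lit 20), (nat_lit 20), (nat_lit 17), (nat_lit 33), (nat_lit 41)], .mu (nat_lit 180) (nat_lit 35) (nat_lit 0) (nat_lit 0) (nat_lit 0))) (.leaf ([(nat_lit 48), (nat_lit 46), (nat_lit 44), (nat_lit 53), (nat_lit 48), (nat_lit 53), (nat_lit 48), (nat_lit 53), (nat_lit 48), (nat_lit 53), (nat_lit 48), (nat_lit 53)], .mu (nat_lit 436) (nat_lit 101) (nat_lit 0) (nat_lit 0) (nat_lit 1))))) (.node (.node (.leaf ([(nat_lit 42), (nat_lit 24), (nat_lit 15), (nat_lit 36), (nat_lit 34), (nat_lit 27), (nat_lit 33), (nat_lit 30), (nat_lit 26), (nat_lit 37), (nat_lit 34), (nat_lit 27), (nat_lit 32), (nat_lit 37), (nat_lit 48)], .mu (nat_lit 116) (nat_lit 10) (nat_lit 1) (nat_lit 0) (nat_lit 1))) (.leaf ([(nat_lit 16), (nat_lit 12), (nat_lit 9), (nat_lit 33), (nat_lit 37), (nat_lit 16), (nat_lit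 16), (nat_lit 36), (nat_lit 20), (nat_lit 20), (nat_lit 4), (nat_lit 16)], .mu (nat_lit 372) (nat_lit 33) (nat_lit 0) (nat_lit 0) (nat_lit 2)))) (.node (.leaf ([(nat_lit 22), (nat_lit 14), (nat_lit 49), (nat_lit 46), (nat_lit 44), (nat_lit 52), (nat_lit 50), (nat_lit 45), (nat_lit 48), (nat_lit 46), (nat_lit 42), (nat_lit 24), (nat_lit 15), (nat_lit 32), (nat_lit 30), (nat_lit 22), (nat_lit 14), (nat_lit 49), (nat_lit 46), (nat_lit 44), (nat_lit 52), (nat_lit 50), (nat_lit 45), (nat_lit 48), (nat_lit 46), (nat_lit 42), (nat_lit 24), (nat_lit 15), (nat_lit 32)], .mu (nat_lit 244) (nat_lit 75) (nat_lit 1) (nat_lit 0) (nat_lit 1))) (.leaf ([], .ax (nat_lit 1000))))))))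
noncomputable def sK1011 : BT (List ℕ × Ju) := (.node (.node (.node (.node (.node (.leaf ([(nat_lit 24), (nat_lit 10), (nat_lit 6), (nat_lit 4), (nat_lit 41), (nat_lit 38), (nat_lit 24), (nat_lit 10), (nat_lit 6), (nat_lit 5), (nat_lit 48)], .mu (nat_lit 11) (nat_lit 12) (nat_lit 1) (nat_lit 0) (nat_lit 0))) (.leaf ([(nat_lit 24), (nat_lit 15), (nat_lit 33), (nat_lit 30), (nat_lit 26), (nat_lit 36), (nat_lit 34), (nat_lit 27), (nat_lit 32), (nat_lit 30), (nat_lit 22), (nat_lit 14), (nat_lit 48), (nat_lit 46), (nat_lit 42), (nat_lit 24), (nat_lit 15), (nat_lit 33), (nat_lit 30), (nat_lit 26), (nat_lit 36), (nat_lit 34), (nat_lit 27), (nat_lit 32), (nat_lit 30), (nat_lit 22), (nat_lit 14), (nat_lit 48)], .mu (nat_lit 268) (nat_lit 12) (nat_lit 1) (nat_lit 0) (nat_lit 0)))) (.node (.leaf ([(nat_lit 45), (nat_lit 48), (nat_lit 53), (nat_lit 32), (nat_lit 52), (nat_lit 49), (nat_lit 53)], .mu (nat_lit 140) (nat_lit 54) (nat_lit 1) (nat_lit 0)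 (nat_lit 1))) (.leaf ([(nat_lit 21), (nat_lit 5), (nat_lit 41), (nat_lit 49), (nat_lit 53), (nat_lit 40), (nat_lit 52), (nat_lit 48), (nat_lit 4), (nat_lit 21)], .su (nat_lit 396) (nat_lit 43))))) (.node (.node (.leaf ([(nat_lit 14), (nat_lit 52), (nat_lit 40), (nat_lit 52), (nat_lit 40), (nat_lit 33)], .mu (nat_lit 76) (nat_lit 28) (nat_lit 1) (nat_lit 0) (nat_lit 0))) (.leaf ([(nat_lit 6), (nat_lit 5), (nat_lit 36), (nat_lit 32), (nat_lit 41), (nat_lit 52), (nat_lit 48), (nat_lit 53), (nat_lit 40), (nat_lit 20), (nat_lit 20)], .mu (nat_lit 332) (nat_lit 35) (nat_lit 1) (nat_lit 0) (nat_lit 1)))) (.node (.leaf ([(nat_lit 1), (nat_lit 3), (nat_lit 0), (nat_lit 2), (nat_lit 1), (nat_lit 3), (nat_lit 0), (nat_lit 2), (nat_lit 1), (nat_lit 3), (nat_lit 0), (nat_lit 2), (nat_lit 1), (nat_lit 3), (nat_lit 0), (nat_lit 2), (nat_lit 1), (nat_lit 3), (nat_lit 0), (nat_lit 2), (nat_lit 1), (nat_lit 3), (nat_lit 0), (nat_lit 2), (nat_lit 1), (nat_lit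 3), (nat_lit 0), (nat_lit 2), (nat_lit 1), (nat_lit 3), (nat_lit 0), (nat_lit 2), (nat_lit 1), (nat_lit 3), (nat_lit 0), (nat_lit 2), (nat_lit 1), (nat_lit 3), (nat_lit 0), (nat_lit 2), (nat_lit 1), (nat_lit 3), (nat_lit 0), (nat_lit 2), (nat_lit 1), (nat_lit 3), (nat_lit 0), (nat_lit 2)], .ax (nat_lit 3))) (.leaf ([(nat_lit 20), (nat_lit 18), (nat_lit 20), (nat_lit 18), (nat_lit 20), (nat_lit 20), (nat_lit 20), (nat_lit 20), (nat_lit 20), (nat_lit 20), (nat_lit 20), (nat_lit 20), (nat_lit 20), (nat_lit 20), (nat_lit 20), (nat_lit 20), (nat_lit 20), (nat_lit 20), (nat_lit 20), (nat_lit 20), (nat_lit 20), (nat_lit 20), (nat_lit 20), (nat_lit 20), (nat_lit 20)], .mu (nat_lit 460) (nat_lit 33) (nat_lit 1) (nat_lit 0) (nat_lit 1)))))) (.node (.node (.node (.leaf ([(nat_lit 1), (nat_lit 3), (nat_lit 1), (nat_lit 3), (nat_lit 0), (nat_lit 2), (nat_lit 0), (nat_lit 2), (nat_lit 1), (nat_lit 3), (nat_lit 1), (nat_lit 3), (nat_lit 0), (nat_lit 2),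 (nat_lit 0), (nat_lit 2), (nat_lit 1), (nat_lit 3), (nat_lit 1), (nat_lit 3), (nat_lit 0), (nat_lit 2), (nat_lit 0), (nat_lit 2), (nat_lit 1), (nat_lit 3), (nat_lit 1), (nat_lit 3), (nat_lit 0), (nat_lit 2), (nat_lit 0), (nat_lit 2), (nat_lit 1), (nat_lit 3), (nat_lit 1), (nat_lit 3), (nat_lit 0), (nat_lit 2), (nat_lit 0), (nat_lit 2)], .ax (nat_lit 4))) (.leaf ([(nat_lit 37), (nat_lit 34), (nat_lit 22), (nat_lit 14), (nat_lit 49), (nat_lit 46), (nat_lit 44), (nat_lit 53), (nat_lit 50), (nat_lit 42), (nat_lit 24), (nat_lit 15), (nat_lit 33), (nat_lit 30), (nat_lit 26), (nat_lit 37), (nat_lit 49), (nat_lit 53), (nat_lit 33)], .mu (nat_lit 300) (nat_lit 83) (nat_lit 1) (nat_lit 0) (nat_lit 0)))) (.node (.leaf ([(nat_lit 31), (nat_lit 33), (nat_lit 22), (nat_lit 14), (nat_lit 39), (nat_lit 41), (nat_lit 24), (nat_lit 10), (nat_lit 8), (nat_lit 13), (nat_lit 17), (nat_lit 12), (nat_lit 6), (nat_lit 4), (nat_lit 20), (nat_lit 20), (nat_lit 17)],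 .mu (nat_lit 172) (nat_lit 31) (nat_lit 0) (nat_lit 0) (nat_lit 1))) (.leaf ([(nat_lit 48), (nat_lit 46), (nat_lit 44), (nat_lit 51), (nat_lit 53), (nat_lit 45), (nat_lit 48), (nat_lit 46), (nat_lit 44), (nat_lit 51), (nat_lit 53), (nat_lit 45), (nat_lit 48), (nat_lit 46), (nat_lit 44), (nat_lit 53), (nat_lit 48), (nat_lit 53), (nat_lit 48), (nat_lit 53)], .mu (nat_lit 428) (nat_lit 101) (nat_lit 0) (nat_lit 0) (nat_lit 1))))) (.node (.node (.leaf ([(nat_lit 15), (nat_lit 32), (nat_lit 41), (nat_lit 49), (nat_lit 53), (nat_lit 48), (nat_lit 40)], .mu (nat_lit 108) (nat_lit 14) (nat_lit 1) (nat_lit 0) (nat_lit 0))) (.leaf ([(nat_lit 36), (nat_lit 34), (nat_lit 22), (nat_lit 10), (nat_lit 8), (nat_lit 20), (nat_lit 18), (nat_lit 20), (nat_lit 12), (nat_lit 6), (nat_lit 4), (nat_lit 16), (nat_lit 19), (nat_lit 16), (nat_lit 12), (nat_lit 9), (nat_lit 33), (nat_lit 37), (nat_lit 16), (nat_lit 16)], .mu (nat_lit 364) (nat_lit 31) (nat_lit 0)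 (nat_lit 0) (nat_lit 0)))) (.node (.leaf ([(nat_lit 52), (nat_lit 50), (nat_lit 42), (nat_lit 29), (nat_lit 40), (nat_lit 38), (nat_lit 24), (nat_lit 10), (nat_lit 4), (nat_lit 41), (nat_lit 52), (nat_lit 40), (nat_lit 4), (nat_lit 41)], .mu (nat_lit 236) (nat_lit 49) (nat_lit 1) (nat_lit 0) (nat_lit 0))) (.leaf ([], .ax (nat_lit 1000))))))) (.node (.node (.node (.node (.leaf ([(nat_lit 10), (nat_lit 8), (nat_lit 16), (nat_lit 19), (nat_lit 16), (nat_lit 12), (nat_lit 9), (nat_lit 41), (nat_lit 38), (nat_lit 24), (nat_lit 10), (nat_lit 6), (nat_lit 5), (nat_lit 36)], .mu (nat_lit 27) (nat_lit 28) (nat_lit 1) (nat_lit 0) (nat_lit 0))) (.leaf ([(nat_lit 27), (nat_lit 32), (nat_lit 30), (nat_lit 22), (nat_lit 14), (nat_lit 48), (nat_lit 33), (nat_lit 36), (nat_lit 32), (nat_lit 48), (nat_lit 33), (nat_lit 36)], .mu (nat_lit 284) (nat_lit 26) (nat_lit 1) (nat_lit 0) (nat_lit 1)))) (.node (.leaf ([(nat_lit 48), (nat_lit 46), (nat_lit 42), (nat_lit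 24), (nat_lit 10), (nat_lit 6), (nat_lit 4), (nat_lit 20), (nat_lit 18), (nat_lit 20), (nat_lit 12), (nat_lit 9), (nat_lit 37)], .mu (nat_lit 156) (nat_lit 58) (nat_lit 1) (nat_lit 0) (nat_lit 0))) (.leaf ([(nat_lit 26), (nat_lit 35), (nat_lit 37), (nat_lit 27), (nat_lit 32), (nat_lit 30), (nat_lit 26), (nat_lit 37), (nat_lit 32), (nat_lit 37), (nat_lit 32), (nat_lit 37), (nat_lit 32), (nat_lit 37), (nat_lit 32)], .mu (nat_lit 412) (nat_lit 75) (nat_lit 1) (nat_lit 0) (nat_lit 1))))) (.node (.node (.leaf ([(nat_lit 5), (nat_lit 21), (nat_lit 33), (nat_lit 36), (nat_lit 32), (nat_lit 20)], .su (nat_lit 92) (nat_lit 43))) (.leaf ([(nat_lit 6), (nat_lit 5), (nat_lit 40), (nat_lit 38), (nat_lit 24), (nat_lit 10), (nat_lit 6), (nat_lit 4), (nat_lit 16), (nat_lit 36), (nat_lit 32), (nat_lit 37), (nat_lit 20), (nat_lit 20), (nat_lit 20)], .mu (nat_lit 348) (nat_lit 35) (nat_lit 1) (nat_lit 0) (nat_lit 1)))) (.node (.leaf ([(nat_lit 6), (nat_lit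 4), (nat_lit 21), (nat_lit 16), (nat_lit 36), (nat_lit 32), (nat_lit 49), (nat_lit 53), (nat_lit 40)], .mu (nat_lit 220) (nat_lit 14) (nat_lit 1) (nat_lit 0) (nat_lit 1))) (.leaf ([], .ax (nat_lit 1000)))))) (.node (.node (.node (.leaf ([(nat_lit 6), (nat_lit 4), (nat_lit 48), (nat_lit 40), (nat_lit 53), (nat_lit 36)], .mu (nat_lit 60) (nat_lit 26) (nat_lit 1) (nat_lit 0) (nat_lit 1))) (.leaf ([(nat_lit 14), (nat_lit 41), (nat_lit 38), (nat_lit 28), (nat_lit 52), (nat_lit 50), (nat_lit 45), (nat_lit 48), (nat_lit 46), (nat_lit 44), (nat_lit 53), (nat_lit 50), (nat_lit 42), (nat_lit 29), (nat_lit 40), (nat_lit 38), (nat_lit 24), (nat_lit 10), (nat_lit 8), (nat_lit 20), (nat_lit 18), (nat_lit 20), (nat_lit 12), (nat_lit 6), (nat_lit 5), (nat_lit 36), (nat_lit 32)], .mu (nat_lit 316) (nat_lit 28) (nat_lit 1) (nat_lit 0) (nat_lit 0)))) (.node (.leaf ([(nat_lit 36), (nat_lit 34), (nat_lit 22), (nat_lit 14), (nat_lit 40), (nat_lit 38), (nat_lit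 28), (nat_lit 48), (nat_lit 46), (nat_lit 44), (nat_lit 52), (nat_lit 50), (nat_lit 42), (nat_lit 24), (nat_lit 10), (nat_lit 8), (nat_lit 16), (nat_lit 12), (nat_lit 6), (nat_lit 4), (nat_lit 32)], .mu (nat_lit 188) (nat_lit 83) (nat_lit 1) (nat_lit 0) (nat_lit 0))) (.leaf ([(nat_lit 20), (nat_lit 18), (nat_lit 20), (nat_lit 18), (nat_lit 20), (nat_lit 18), (nat_lit 20), (nat_lit 18), (nat_lit 20), (nat_lit 18), (nat_lit 20), (nat_lit 18), (nat_lit 20), (nat_lit 18), (nat_lit 20), (nat_lit 18), (nat_lit 20), (nat_lit 18), (nat_lit 20), (nat_lit 18), (nat_lit 20), (nat_lit 18), (nat_lit 20), (nat_lit 18), (nat_lit 20), (nat_lit 18), (nat_lit 20), (nat_lit 18), (nat_lit 20), (nat_lit 18), (nat_lit 20), (nat_lit 18), (nat_lit 20), (nat_lit 18), (nat_lit 20), (nat_lit 18), (nat_lit 20), (nat_lit 20), (nat_lit 20), (nat_lit 20), (nat_lit 20)], .mu (nat_lit 444) (nat_lit 33) (nat_lit 1) (nat_lit 0) (nat_lit 1))))) (.node (.node (.leaf ([(nat_lit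 27), (nat_lit 32), (nat_lit 37), (nat_lit 48), (nat_lit 36), (nat_lit 33), (nat_lit 37)], .mu (nat_lit 124) (nat_lit 26) (nat_lit 1) (nat_lit 0) (nat_lit 1))) (.leaf ([(nat_lit 49), (nat_lit 46), (nat_lit 44), (nat_lit 53), (nat_lit 50), (nat_lit 42), (nat_lit 29), (nat_lit 40), (nat_lit 38), (nat_lit 28), (nat_lit 52), (nat_lit 50), (nat_lit 45), (nat_lit 48), (nat_lit 46), (nat_lit 42), (nat_lit 24), (nat_lit 10), (nat_lit 6), (nat_lit 4), (nat_lit 16), (nat_lit 19), (nat_lit 16), (nat_lit 5), (nat_lit 41)], .mu (nat_lit 380) (nat_lit 49) (nat_lit 1) (nat_lit 0) (nat_lit 0)))) (.node (.leaf ([(nat_lit 24), (nat_lit 15), (nat_lit 32), (nat_lit 30), (nat_lit 22), (nat_lit 14), (nat_lit 49), (nat_lit 46), (nat_lit 44), (nat_lit 52), (nat_lit 50), (nat_lit 45), (nat_lit 48), (nat_lit 46), (nat_lit 42), (nat_lit 24), (nat_lit 15), (nat_lit 32), (nat_lit 49), (nat_lit 52), (nat_lit 48)], .mu (nat_lit 252) (nat_lit 12) (nat_lit 1) (nat_lit 0)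 (nat_lit 0))) (.leaf ([], .ax (nat_lit 1000))))))))
noncomputable def sK101 : BT (List ℕ × Ju) := .node sK1010 sK1011
noncomputable def sK10 : BT (List ℕ × Ju) := .node sK100 sK101
noncomputable def sK1100 : BT (List ℕ × Ju) := (.node (.node (.node (.node (.node (.leaf ([(nat_lit 36), (nat_lit 36), (nat_lit 36)], .ex (nat_lit 0) [(nat_lit 0), (nat_lit 2), (nat_lit 0), (nat_lit 2), (nat_lit 0), (nat_lit 3), (nat_lit 0)])) (.leaf ([(nat_lit 44), (nat_lit 52), (nat_lit 50), (nat_lit 45), (nat_lit 48), (nat_lit 46), (nat_lit 42), (nat_lit 24), (nat_lit 15), (nat_lit 32), (nat_lit 49), (nat_lit 52), (nat_lit 48), (nat_lit 32), (nat_lit 49)], .mu (nat_lit 258) (nat_lit 10) (nat_lit 1) (nat_lit 0) (nat_lit 1)))) (.node (.leaf ([(nat_lit 24), (nat_lit 15), (nat_lit 32), (nat_lit 30), (nat_lit 22), (nat_lit 14), (nat_lit 52), (nat_lit 50), (nat_lit 45), (nat_lit 49), (nat_lit 46), (nat_lit 44), (nat_lit 53), (nat_lit 50), (nat_lit 45), (nat_lit 48),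 (nat_lit 53)], .mu (nat_lit 130) (nat_lit 12) (nat_lit 1) (nat_lit 0) (nat_lit 0))) (.leaf ([(nat_lit 28), (nat_lit 52), (nat_lit 50), (nat_lit 45), (nat_lit 48), (nat_lit 46), (nat_lit 42), (nat_lit 24), (nat_lit 10), (nat_lit 6), (nat_lit 4), (nat_lit 16), (nat_lit 19), (nat_lit 16), (nat_lit 5), (nat_lit 41), (nat_lit 49), (nat_lit 53), (nat_lit 40)], .mu (nat_lit 386) (nat_lit 20) (nat_lit 1) (nat_lit 0) (nat_lit 1))))) (.node (.node (.leaf ([(nat_lit 28), (nat_lit 52), (nat_lit 50), (nat_lit 42), (nat_lit 29), (nat_lit 40), (nat_lit 38), (nat_lit 24), (nat_lit 15), (nat_lit 33), (nat_lit 30), (nat_lit 22), (nat_lit 14), (nat_lit 52), (nat_lit 40)], .mu (nat_lit 66) (nat_lit 20) (nat_lit 1) (nat_lit 0) (nat_lit 1))) (.leaf ([(nat_lit 44), (nat_lit 53), (nat_lit 50), (nat_lit 42), (nat_lit 29), (nat_lit 40), (nat_lit 38), (nat_lit 24), (nat_lit 10), (nat_lit 8), (nat_lit 20), (nat_lit 18), (nat_lit 20), (nat_lit 12), (nat_lit 6), (nat_lit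 5), (nat_lit 36), (nat_lit 32), (nat_lit 41), (nat_lit 52), (nat_lit 48)], .mu (nat_lit 322) (nat_lit 10) (nat_lit 1) (nat_lit 0) (nat_lit 1)))) (.node (.leaf ([(nat_lit 44), (nat_lit 52), (nat_lit 50), (nat_lit 42), (nat_lit 24), (nat_lit 10), (nat_lit 8), (nat_lit 16), (nat_lit 12), (nat_lit 6), (nat_lit 4), (nat_lit 32), (nat_lit 36), (nat_lit 40), (nat_lit 48)], .mu (nat_lit 194) (nat_lit 10) (nat_lit 1) (nat_lit 0) (nat_lit 1))) (.leaf ([(nat_lit 20), (nat_lit 18), (nat_lit 20), (nat_lit 18), (nat_lit 20), (nat_lit 18), (nat_lit 20), (nat_lit 18), (nat_lit 20), (nat_lit 18), (nat_lit 20), (nat_lit 18), (nat_lit 20), (nat_lit 18), (nat_lit 20), (nat_lit 18), (nat_lit 20), (nat_lit 18), (nat_lit 20), (nat_lit 18), (nat_lit 20), (nat_lit 18), (nat_lit 20), (nat_lit 18), (nat_lit 20), (nat_lit 20), (nat_lit 20), (nat_lit 20), (nat_lit 20), (nat_lit 20), (nat_lit 20), (nat_lit 20), (nat_lit 20), (nat_lit 20), (nat_lit 20)], .mu (nat_lit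 450) (nat_lit 33) (nat_lit 1) (nat_lit 0) (nat_lit 1)))))) (.node (.node (.node (.leaf ([(nat_lit 12)], .ex (nat_lit 9) [(nat_lit 0), (nat_lit 3)])) (.leaf ([(nat_lit 22), (nat_lit 14), (nat_lit 49), (nat_lit 46), (nat_lit 44), (nat_lit 53), (nat_lit 50), (nat_lit 42), (nat_lit 24), (nat_lit 15), (nat_lit 33), (nat_lit 30), (nat_lit 26), (nat_lit 37), (nat_lit 34), (nat_lit 22), (nat_lit 14), (nat_lit 49), (nat_lit 46), (nat_lit 44), (nat_lit 53), (nat_lit 50), (nat_lit 42), (nat_lit 24), (nat_lit 15), (nat_lit 33), (nat_lit 30), (nat_lit 26), (nat_lit 37)], .mu (nat_lit 290) (nat_lit 26) (nat_lit 1) (nat_lit 0) (nat_lit 0)))) (.node (.leaf ([(nat_lit 20), (nat_lit 12), (nat_lit 9), (nat_lit 37), (nat_lit 48), (nat_lit 4), (nat_lit 20)], .mu (nat_lit 162) (nat_lit 33) (nat_lit 1) (nat_lit 0) (nat_lit 2))) (.leaf ([(nat_lit 51), (nat_lit 53), (nat_lit 45), (nat_lit 48), (nat_lit 46), (nat_lit 44), (nat_lit 51), (nat_lit 53), (nat_lit 45),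 (nat_lit 48), (nat_lit 46), (nat_lit 44), (nat_lit 51), (nat_lit 53), (nat_lit 45), (nat_lit 48), (nat_lit 46), (nat_lit 44), (nat_lit 51), (nat_lit 53), (nat_lit 45), (nat_lit 48), (nat_lit 46), (nat_lit 44), (nat_lit 51), (nat_lit 53), (nat_lit 45), (nat_lit 48), (nat_lit 46), (nat_lit 44)], .ex (nat_lit 45) [(nat_lit 0), (nat_lit 2), (nat_lit 0), (nat_lit 3), (nat_lit 0), (nat_lit 3), (nat_lit 0), (nat_lit 3)])))) (.node (.node (.leaf ([(nat_lit 49), (nat_lit 46), (nat_lit 44), (nat_lit 53), (nat_lit 50), (nat_lit 45), (nat_lit 48), (nat_lit 46), (nat_lit 42), (nat_lit 29), (nat_lit 40), (nat_lit 38), (nat_lit 24), (nat_lit 15), (nat_lit 32), (nat_lit 41)], .mu (nat_lit 98) (nat_lit 49) (nat_lit 1) (nat_lit 0) (nat_lit 0))) (.leaf ([(nat_lit 4), (nat_lit 21), (nat_lit 36), (nat_lit 32), (nat_lit 37), (nat_lit 20), (nat_lit 20), (nat_lit 20), (nat_lit 5), (nat_lit 40)], .su (nat_lit 354) (nat_lit 43)))) (.node (.leaf ([(nat_lit 28), (nat_lit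 52), (nat_lit 50), (nat_lit 42), (nat_lit 29), (nat_lit 40), (nat_lit 38), (nat_lit 24), (nat_lit 10), (nat_lit 6), (nat_lit 4), (nat_lit 41), (nat_lit 38), (nat_lit 28), (nat_lit 52), (nat_lit 50), (nat_lit 42), (nat_lit 29), (nat_lit 40), (nat_lit 38), (nat_lit 24), (nat_lit 10), (nat_lit 4), (nat_lit 41)], .mu (nat_lit 226) (nat_lit 20) (nat_lit 1) (nat_lit 0) (nat_lit 2))) (.leaf ([], .ax (nat_lit 1000))))))) (.node (.node (.node (.node (.leaf ([(nat_lit 4), (nat_lit 41), (nat_lit 38), (nat_lit 24), (nat_lit 10), (nat_lit 6), (nat_lit 5), (nat_lit 48)], .mu (nat_lit 17) (nat_lit 18) (nat_lit 1) (nat_lit 0) (nat_lit 0))) (.leaf ([(nat_lit 32), (nat_lit 30), (nat_lit 22), (nat_lit 14), (nat_lit 48), (nat_lit 46), (nat_lit 42), (nat_lit 24), (nat_lit 15), (nat_lit 33), (nat_lit 30), (nat_lit 26), (nat_lit 36), (nat_lit 34), (nat_lit 27), (nat_lit 32), (nat_lit 30), (nat_lit 22), (nat_lit 14), (nat_lit 48), (nat_lit 33), (nat_lit 36)], .mu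 (nat_lit 274) (nat_lit 83) (nat_lit 0) (nat_lit 0) (nat_lit 0)))) (.node (.leaf ([(nat_lit 4), (nat_lit 16), (nat_lit 12), (nat_lit 9), (nat_lit 37), (nat_lit 34), (nat_lit 22), (nat_lit 10), (nat_lit 6), (nat_lit 4), (nat_lit 20), (nat_lit 20), (nat_lit 20)], .mu (nat_lit 146) (nat_lit 18) (nat_lit 1) (nat_lit 0) (nat_lit 0))) (.leaf ([(nat_lit 37), (nat_lit 27), (nat_lit 32), (nat_lit 30), (nat_lit 26), (nat_lit 35), (nat_lit 37), (nat_lit 27), (nat_lit 32), (nat_lit 30), (nat_lit 26), (nat_lit 35), (nat_lit 37), (nat_lit 27), (nat_lit 32), (nat_lit 30), (nat_lit 26), (nat_lit 35), (nat_lit 37), (nat_lit 27), (nat_lit 32), (nat_lit 30), (nat_lit 26), (nat_lit 37), (nat_lit 32)], .mu (nat_lit 402) (nat_lit 26) (nat_lit 0) (nat_lit 0) (nat_lit 0))))) (.node (.node (.leaf ([(nat_lit 26)], .ex (nat_lit 0) [(nat_lit 0), (nat_lit 2), (nat_lit 0), (nat_lit 2), (nat_lit 0)])) (.leaf ([(nat_lit 27), (nat_lit 32), (nat_lit 30), (nat_lit 26), (nat_lit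 37), (nat_lit 34), (nat_lit 22), (nat_lit 10), (nat_lit 8), (nat_lit 20), (nat_lit 18), (nat_lit 20), (nat_lit 18), (nat_lit 20), (nat_lit 12), (nat_lit 6), (nat_lit 5), (nat_lit 40), (nat_lit 38), (nat_lit 24), (nat_lit 10), (nat_lit 6), (nat_lit 4), (nat_lit 16), (nat_lit 36)], .mu (nat_lit 338) (nat_lit 26) (nat_lit 1) (nat_lit 0) (nat_lit 1)))) (.node (.leaf ([(nat_lit 32), (nat_lit 22), (nat_lit 14), (nat_lit 25), (nat_lit 47), (nat_lit 49), (nat_lit 46), (nat_lit 44), (nat_lit 51), (nat_lit 53), (nat_lit 50), (nat_lit 29), (nat_lit 40), (nat_lit 24), (nat_lit 6), (nat_lit 4), (nat_lit 21), (nat_lit 16), (nat_lit 36)], .mu (nat_lit 210) (nat_lit 83) (nat_lit 0) (nat_lit 0) (nat_lit 1))) (.leaf ([], .ax (nat_lit 1000)))))) (.node (.node (.node (.leaf ([(nat_lit 28), (nat_lit 43), (nat_lit 51), (nat_lit 53), (nat_lit 50), (nat_lit 42), (nat_lit 15), (nat_lit 23), (nat_lit 36), (nat_lit 34), (nat_lit 6), (nat_lit 4), (nat_lit 48), (nat_lit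 40)], .mu (nat_lit 50) (nat_lit 20) (nat_lit 1) (nat_lit 0) (nat_lit 1))) (.leaf ([(nat_lit 42), (nat_lit 24), (nat_lit 15), (nat_lit 33), (nat_lit 30), (nat_lit 26), (nat_lit 37), (nat_lit 49), (nat_lit 53), (nat_lit 33), (nat_lit 37), (nat_lit 49), (nat_lit 53)], .mu (nat_lit 306) (nat_lit 54) (nat_lit 1) (nat_lit 0) (nat_lit 1)))) (.node (.leaf ([(nat_lit 8), (nat_lit 13), (nat_lit 17), (nat_lit 12), (nat_lit 6), (nat_lit 4), (nat_lit 20), (nat_lit 20), (nat_lit 17), (nat_lit 33), (nat_lit 41)], .mu (nat_lit 178) (nat_lit 16) (nat_lit 1) (nat_lit 0) (nat_lit 0))) (.leaf ([(nat_lit 51), (nat_lit 53), (nat_lit 45), (nat_lit 48), (nat_lit 46), (nat_lit 44), (nat_lit 53), (nat_lit 48), (nat_lit 53), (nat_lit 48), (nat_lit 53), (nat_lit 48), (nat_lit 53), (nat_lit 48)], .mu (nat_lit 434) (nat_lit 101) (nat_lit 1) (nat_lit 0) (nat_lit 0))))) (.node (.node (.leaf ([(nat_lit 14), (nat_lit 48), (nat_lit 46), (nat_lit 42), (nat_lit 24), (nat_lit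 15), (nat_lit 36), (nat_lit 34), (nat_lit 27), (nat_lit 33), (nat_lit 30), (nat_lit 26), (nat_lit 37), (nat_lit 34), (nat_lit 27), (nat_lit 32), (nat_lit 37)], .mu (nat_lit 114) (nat_lit 28) (nat_lit 1) (nat_lit 0) (nat_lit 0))) (.leaf ([(nat_lit 6), (nat_lit 4), (nat_lit 16), (nat_lit 19), (nat_lit 16), (nat_lit 12), (nat_lit 9), (nat_lit 33), (nat_lit 37), (nat_lit 16), (nat_lit 16), (nat_lit 36), (nat_lit 20), (nat_lit 20)], .mu (nat_lit 370) (nat_lit 35) (nat_lit 1) (nat_lit 0) (nat_lit 1)))) (.node (.leaf ([(nat_lit 4), (nat_lit 41), (nat_lit 52), (nat_lit 40), (nat_lit 4), (nat_lit 41), (nat_lit 52), (nat_lit 40)], .mu (nat_lit 242) (nat_lit 16) (nat_lit 1) (nat_lit 0) (nat_lit 0))) (.leaf ([], .ax (nat_lit 1000))))))))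
noncomputable def sK1101 : BT (List ℕ × Ju) := (.node (.node (.node (.node (.node (.leaf ([(nat_lit 42), (nat_lit 24), (nat_lit 10), (nat_lit 6), (nat_lit 4), (nat_lit 41), (nat_lit 38), (nat_lit 24), (nat_lit 10), (nat_lit 6), (nat_lit 5), (nat_lit 48)], .mu (nat_lit 8) (nat_lit 10) (nat_lit 1) (nat_lit 0) (nat_lit 1))) (.leaf ([(nat_lit 48), (nat_lit 46), (nat_lit 42), (nat_lit 24), (nat_lit 15), (nat_lit 33), (nat_lit 30), (nat_lit 26), (nat_lit 36), (nat_lit 34), (nat_lit 27), (nat_lit 32), (nat_lit 30), (nat_lit 22), (nat_lit 14), (nat_lit 48), (nat_lit 46), (nat_lit 42), (nat_lit 24), (nat_lit 15), (nat_lit 33), (nat_lit 30), (nat_lit 26), (nat_lit 36), (nat_lit 34), (nat_lit 27), (nat_lit 32), (nat_lit 30), (nat_lit 22), (nat_lit 14)], .ex (nat_lit 224) [(nat_lit 0), (nat_lit 2), (nat_lit 0), (nat_lit 3), (nat_lit 0), (nat_lit 3)]))) (.node (.leaf ([(nat_lit 44), (nat_lit 53), (nat_lit 50), (nat_lit 45), (nat_lit 48), (nat_lit 53),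 (nat_lit 32), (nat_lit 52), (nat_lit 49)], .mu (nat_lit 138) (nat_lit 10) (nat_lit 1) (nat_lit 0) (nat_lit 1))) (.leaf ([(nat_lit 4), (nat_lit 16), (nat_lit 19), (nat_lit 16), (nat_lit 5), (nat_lit 41), (nat_lit 49), (nat_lit 53), (nat_lit 40), (nat_lit 52), (nat_lit 48)], .mu (nat_lit 394) (nat_lit 18) (nat_lit 1) (nat_lit 0) (nat_lit 0))))) (.node (.node (.leaf ([(nat_lit 30)], .ex (nat_lit 9) [(nat_lit 0), (nat_lit 2), (nat_lit 0), (nat_lit 2), (nat_lit 0), (nat_lit 2)])) (.leaf ([(nat_lit 20), (nat_lit 18), (nat_lit 20), (nat_lit 12), (nat_lit 6), (nat_lit 5), (nat_lit 36), (nat_lit 32), (nat_lit 41), (nat_lit 52), (nat_lit 48), (nat_lit 53), (nat_lit 40)], .mu (nat_lit 330) (nat_lit 31) (nat_lit 1) (nat_lit 0) (nat_lit 0)))) (.node (.leaf ([(nat_lit 4), (nat_lit 32), (nat_lit 36), (nat_lit 40), (nat_lit 48), (nat_lit 52), (nat_lit 16)], .mu (nat_lit 202) (nat_lit 18) (nat_lit 1) (nat_lit 0) (nat_lit 0))) (.leaf ([(nat_lit 20), (nat_lit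 18), (nat_lit 20), (nat_lit 18), (nat_lit 20), (nat_lit 18), (nat_lit 20), (nat_lit 18), (nat_lit 20), (nat_lit 20), (nat_lit 20), (nat_lit 20), (nat_lit 20), (nat_lit 20), (nat_lit 20), (nat_lit 20), (nat_lit 20), (nat_lit 20), (nat_lit 20), (nat_lit 20), (nat_lit 20), (nat_lit 20), (nat_lit 20), (nat_lit 20), (nat_lit 20), (nat_lit 20), (nat_lit 20)], .mu (nat_lit 458) (nat_lit 33) (nat_lit 1) (nat_lit 0) (nat_lit 1)))))) (.node (.node (.node (.leaf ([(nat_lit 16), (nat_lit 20)], .ro (nat_lit 42) (nat_lit 0) (nat_lit 0))) (.leaf ([(nat_lit 33), (nat_lit 30), (nat_lit 26), (nat_lit 37), (nat_lit 34), (nat_lit 22), (nat_lit 14), (nat_lit 49), (nat_lit 46), (nat_lit 44), (nat_lit 53), (nat_lit 50), (nat_lit 42), (nat_lit 24), (nat_lit 15), (nat_lit 33), (nat_lit 30), (nat_lit 26), (nat_lit 37), (nat_lit 49), (nat_lit 53)], .mu (nat_lit 298) (nat_lit 58) (nat_lit 0) (nat_lit 0) (nat_lit 0)))) (.node (.leaf ([(nat_lit 20), (nat_lit 18), (nat_lit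 17), (nat_lit 9), (nat_lit 31), (nat_lit 33), (nat_lit 22), (nat_lit 14), (nat_lit 39), (nat_lit 41), (nat_lit 24), (nat_lit 10), (nat_lit 8), (nat_lit 13), (nat_lit 17), (nat_lit 12), (nat_lit 6), (nat_lit 4), (nat_lit 20)], .mu (nat_lit 170) (nat_lit 33) (nat_lit 1) (nat_lit 0) (nat_lit 1))) (.leaf ([(nat_lit 51), (nat_lit 53), (nat_lit 45), (nat_lit 48), (nat_lit 46), (nat_lit 44), (nat_lit 51), (nat_lit 53), (nat_lit 45), (nat_lit 48), (nat_lit 46), (nat_lit 44), (nat_lit 51), (nat_lit 53), (nat_lit 45), (nat_lit 48), (nat_lit 46), (nat_lit 44), (nat_lit 53), (nat_lit 48), (nat_lit 53), (nat_lit 48)], .mu (nat_lit 426) (nat_lit 101) (nat_lit 1) (nat_lit 0) (nat_lit 0))))) (.node (.node (.leaf ([(nat_lit 40), (nat_lit 38), (nat_lit 24), (nat_lit 15), (nat_lit 32), (nat_lit 41), (nat_lit 49), (nat_lit 53), (nat_lit 48)], .mu (nat_lit 106) (nat_lit 49) (nat_lit 0) (nat_lit 0) (nat_lit 0))) (.leaf ([(nat_lit 16), (nat_lit 12), (nat_lit 9),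 (nat_lit 36), (nat_lit 34), (nat_lit 22), (nat_lit 10), (nat_lit 8), (nat_lit 20), (nat_lit 18), (nat_lit 20), (nat_lit 12), (nat_lit 6), (nat_lit 4), (nat_lit 16), (nat_lit 19), (nat_lit 16), (nat_lit 12), (nat_lit 9), (nat_lit 33), (nat_lit 37), (nat_lit 16)], .mu (nat_lit 362) (nat_lit 33) (nat_lit 0) (nat_lit 0) (nat_lit 1)))) (.node (.leaf ([(nat_lit 4), (nat_lit 41), (nat_lit 38), (nat_lit 28), (nat_lit 52), (nat_lit 50), (nat_lit 42), (nat_lit 29), (nat_lit 40), (nat_lit 38), (nat_lit 24), (nat_lit 10), (nat_lit 4), (nat_lit 41), (nat_lit 52), (nat_lit 40)], .mu (nat_lit 234) (nat_lit 18) (nat_lit 1) (nat_lit 0) (nat_lit 0))) (.leaf ([], .ax (nat_lit 1000))))))) (.node (.node (.node (.node (.leaf ([(nat_lit 22), (nat_lit 10), (nat_lit 8), (nat_lit 16), (nat_lit 19), (nat_lit 16), (nat_lit 12), (nat_lit 9), (nat_lit 41), (nat_lit 38), (nat_lit 24), (nat_lit 10), (nat_lit 6), (nat_lit 5), (nat_lit 36)], .mu (nat_lit 25) (nat_lit 26)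 (nat_lit 1) (nat_lit 0) (nat_lit 1))) (.leaf ([(nat_lit 26), (nat_lit 36), (nat_lit 34), (nat_lit 27), (nat_lit 32), (nat_lit 30), (nat_lit 22), (nat_lit 14), (nat_lit 48), (nat_lit 33), (nat_lit 36), (nat_lit 32), (nat_lit 48), (nat_lit 33)], .mu (nat_lit 282) (nat_lit 75) (nat_lit 1) (nat_lit 0) (nat_lit 1)))) (.node (.leaf ([(nat_lit 22), (nat_lit 14), (nat_lit 48), (nat_lit 46), (nat_lit 42), (nat_lit 24), (nat_lit 10), (nat_lit 6), (nat_lit 4), (nat_lit 20), (nat_lit 18), (nat_lit 20), (nat_lit 12), (nat_lit 9), (nat_lit 37)], .mu (nat_lit 154) (nat_lit 26) (nat_lit 1) (nat_lit 0) (nat_lit 0))) (.leaf ([(nat_lit 37), (nat_lit 27), (nat_lit 32), (nat_lit 30), (nat_lit 26), (nat_lit 35), (nat_lit 37), (nat_lit 27), (nat_lit 32), (nat_lit 30), (nat_lit 26), (nat_lit 37), (nat_lit 32), (nat_lit 37), (nat_lit 32), (nat_lit 37), (nat_lit 32)], .mu (nat_lit 410) (nat_lit 26) (nat_lit 0) (nat_lit 0) (nat_lit 0))))) (.node (.node (.leaf ([(nat_lit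 6), (nat_lit 5), (nat_lit 16), (nat_lit 33), (nat_lit 36), (nat_lit 32), (nat_lit 20)], .mu (nat_lit 90) (nat_lit 35) (nat_lit 1) (nat_lit 0) (nat_lit 1))) (.leaf ([(nat_lit 20), (nat_lit 18), (nat_lit 20), (nat_lit 12), (nat_lit 6), (nat_lit 5), (nat_lit 40), (nat_lit 38), (nat_lit 24), (nat_lit 10), (nat_lit 6), (nat_lit 4), (nat_lit 16), (nat_lit 36), (nat_lit 32), (nat_lit 37), (nat_lit 20)], .mu (nat_lit 346) (nat_lit 33) (nat_lit 1) (nat_lit 0) (nat_lit 1)))) (.node (.leaf ([(nat_lit 29), (nat_lit 40), (nat_lit 24), (nat_lit 6), (nat_lit 4), (nat_lit 21), (nat_lit 16), (nat_lit 36), (nat_lit 32), (nat_lit 49), (nat_lit 53)], .mu (nat_lit 218) (nat_lit 54) (nat_lit 1) (nat_lit 0) (nat_lit 1))) (.leaf ([], .ax (nat_lit 1000)))))) (.node (.node (.node (.leaf ([(nat_lit 23), (nat_lit 36), (nat_lit 34), (nat_lit 6), (nat_lit 4), (nat_lit 48), (nat_lit 40), (nat_lit 53)], .mu (nat_lit 57) (nat_lit 58) (nat_lit 0) (nat_lit 0) (nat_lit 0)))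 (.leaf ([(nat_lit 32), (nat_lit 30), (nat_lit 22), (nat_lit 14), (nat_lit 41), (nat_lit 38), (nat_lit 28), (nat_lit 52), (nat_lit 50), (nat_lit 45), (nat_lit 48), (nat_lit 46), (nat_lit 44), (nat_lit 53), (nat_lit 50), (nat_lit 42), (nat_lit 29), (nat_lit 40), (nat_lit 38), (nat_lit 24), (nat_lit 10), (nat_lit 8), (nat_lit 20), (nat_lit 18), (nat_lit 20), (nat_lit 12), (nat_lit 6), (nat_lit 5), (nat_lit 36)], .mu (nat_lit 314) (nat_lit 83) (nat_lit 0) (nat_lit 0) (nat_lit 0)))) (.node (.leaf ([(nat_lit 32), (nat_lit 30), (nat_lit 26), (nat_lit 36), (nat_lit 34), (nat_lit 22), (nat_lit 14), (nat_lit 40), (nat_lit 38), (nat_lit 28), (nat_lit 48), (nat_lit 46), (nat_lit 44), (nat_lit 52), (nat_lit 50), (nat_lit 42), (nat_lit 24), (nat_lit 10), (nat_lit 8), (nat_lit 16), (nat_lit 12), (nat_lit 6), (nat_lit 4)], .ex (nat_lit 186) [])) (.leaf ([(nat_lit 20), (nat_lit 18), (nat_lit 20), (nat_lit 18), (nat_lit 20), (nat_lit 18), (nat_lit 20), (nat_lit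 18), (nat_lit 20), (nat_lit 18), (nat_lit 20), (nat_lit 18), (nat_lit 20), (nat_lit 18), (nat_lit 20), (nat_lit 18), (nat_lit 20), (nat_lit 18), (nat_lit 20), (nat_lit 18), (nat_lit 20), (nat_lit 18), (nat_lit 20), (nat_lit 18), (nat_lit 20), (nat_lit 18), (nat_lit 20), (nat_lit 18), (nat_lit 20), (nat_lit 18), (nat_lit 20), (nat_lit 18), (nat_lit 20), (nat_lit 18), (nat_lit 20), (nat_lit 18), (nat_lit 20), (nat_lit 18), (nat_lit 20), (nat_lit 18), (nat_lit 20), (nat_lit 20), (nat_lit 20)], .mu (nat_lit 442) (nat_lit 33) (nat_lit 1) (nat_lit 0) (nat_lit 1))))) (.node (.node (.leaf ([(nat_lit 26), (nat_lit 37), (nat_lit 34), (nat_lit 27), (nat_lit 32), (nat_lit 37), (nat_lit 48), (nat_lit 36), (nat_lit 33)], .mu (nat_lit 122) (nat_lit 75) (nat_lit 1) (nat_lit 0) (nat_lit 1))) (.leaf ([(nat_lit 5), (nat_lit 41), (nat_lit 38), (nat_lit 28), (nat_lit 49), (nat_lit 46), (nat_lit 44), (nat_lit 53), (nat_lit 50), (nat_lit 42), (nat_lit 29), (nat_lit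 40), (nat_lit 38), (nat_lit 28), (nat_lit 52), (nat_lit 50), (nat_lit 45), (nat_lit 48), (nat_lit 46), (nat_lit 42), (nat_lit 24), (nat_lit 10), (nat_lit 6), (nat_lit 4), (nat_lit 16), (nat_lit 19), (nat_lit 16)], .mu (nat_lit 378) (nat_lit 18) (nat_lit 1) (nat_lit 0) (nat_lit 0)))) (.node (.leaf ([(nat_lit 48), (nat_lit 46), (nat_lit 42), (nat_lit 24), (nat_lit 15), (nat_lit 32), (nat_lit 30), (nat_lit 22), (nat_lit 14), (nat_lit 49), (nat_lit 46), (nat_lit 44), (nat_lit 52), (nat_lit 50), (nat_lit 45), (nat_lit 48), (nat_lit 46), (nat_lit 42), (nat_lit 24), (nat_lit 15), (nat_lit 32), (nat_lit 49), (nat_lit 52)], .mu (nat_lit 250) (nat_lit 101) (nat_lit 0) (nat_lit 0) (nat_lit 0))) (.leaf ([], .ax (nat_lit 1000))))))))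
noncomputable def sK110 : BT (List ℕ × Ju) := .node sK1100 sK1101
noncomputable def sK1110 : BT (List ℕ × Ju) := (.node (.node (.node (.node (.node (.leaf ([(nat_lit 0), (nat_lit 2), (nat_lit 0), (nat_lit 2), (nat_lit 0), (nat_lit 3), (nat_lit 0), (nat_lit 2), (nat_lit 0), (nat_lit 2), (nat_lit 0), (nat_lit 3), (nat_lit 0), (nat_lit 2), (nat_lit 0), (nat_lit 2), (nat_lit 0), (nat_lit 3), (nat_lit 0), (nat_lit 2), (nat_lit 0), (nat_lit 3), (nat_lit 0), (nat_lit 3), (nat_lit 0), (nat_lit 2), (nat_lit 0), (nat_lit 3), (nat_lit 0), (nat_lit 3), (nat_lit 0), (nat_lit 2), (nat_lit 0), (nat_lit 3), (nat_lit 0), (nat_lit 3)], .ax (nat_lit 6))) (.leaf ([(nat_lit 42), (nat_lit 24), (nat_lit 15), (nat_lit 32), (nat_lit 49), (nat_lit 52), (nat_lit 48), (nat_lit 32), (nat_lit 49), (nat_lit 52), (nat_lit 48)], .mu (nat_lit 262) (nat_lit 10) (nat_lit 1) (nat_lit 0) (nat_lit 1)))) (.node (.leaf ([(nat_lit 14), (nat_lit 52), (nat_lit 50), (nat_lit 45), (nat_lit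 49), (nat_lit 46), (nat_lit 44), (nat_lit 53), (nat_lit 50), (nat_lit 45), (nat_lit 48), (nat_lit 53), (nat_lit 32)], .mu (nat_lit 134) (nat_lit 28) (nat_lit 1) (nat_lit 0) (nat_lit 0))) (.leaf ([(nat_lit 42), (nat_lit 24), (nat_lit 10), (nat_lit 6), (nat_lit 4), (nat_lit 16), (nat_lit 19), (nat_lit 16), (nat_lit 5), (nat_lit 41), (nat_lit 49), (nat_lit 53), (nat_lit 40), (nat_lit 52), (nat_lit 48)], .mu (nat_lit 390) (nat_lit 10) (nat_lit 1) (nat_lit 0) (nat_lit 1))))) (.node (.node (.leaf ([(nat_lit 40), (nat_lit 38), (nat_lit 24), (nat_lit 15), (nat_lit 33), (nat_lit 30), (nat_lit 22), (nat_lit 14), (nat_lit 52), (nat_lit 40), (nat_lit 52)], .mu (nat_lit 70) (nat_lit 49) (nat_lit 0) (nat_lit 0) (nat_lit 0))) (.leaf ([(nat_lit 40), (nat_lit 38), (nat_lit 24), (nat_lit 10), (nat_lit 8), (nat_lit 20), (nat_lit 18), (nat_lit 20), (nat_lit 12), (nat_lit 6), (nat_lit 5), (nat_lit 36), (nat_lit 32), (nat_lit 41), (nat_lit 52), (nat_lit 48),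 (nat_lit 53)], .mu (nat_lit 326) (nat_lit 49) (nat_lit 0) (nat_lit 0) (nat_lit 0)))) (.node (.leaf ([(nat_lit 10), (nat_lit 8), (nat_lit 16), (nat_lit 12), (nat_lit 6), (nat_lit 4), (nat_lit 32), (nat_lit 36), (nat_lit 40), (nat_lit 48), (nat_lit 52)], .mu (nat_lit 198) (nat_lit 14) (nat_lit 1) (nat_lit 0) (nat_lit 0))) (.leaf ([(nat_lit 20), (nat_lit 18), (nat_lit 20), (nat_lit 18), (nat_lit 20), (nat_lit 18), (nat_lit 20), (nat_lit 18), (nat_lit 20), (nat_lit 18), (nat_lit 20), (nat_lit 18), (nat_lit 20), (nat_lit 18), (nat_lit 20), (nat_lit 18), (nat_lit 20), (nat_lit 20), (nat_lit 20), (nat_lit 20), (nat_lit 20), (nat_lit 20), (nat_lit 20), (nat_lit 20), (nat_lit 20), (nat_lit 20), (nat_lit 20), (nat_lit 20), (nat_lit 20), (nat_lit 20), (nat_lit 20)], .mu (nat_lit 454) (nat_lit 33) (nat_lit 1) (nat_lit 0) (nat_lit 1)))))) (.node (.node (.node (.leaf ([(nat_lit 10), (nat_lit 6), (nat_lit 5), (nat_lit 36), (nat_lit 16), (nat_lit 16), (nat_lit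 41)], .mu (nat_lit 38) (nat_lit 14) (nat_lit 1) (nat_lit 0) (nat_lit 0))) (.leaf ([(nat_lit 53), (nat_lit 50), (nat_lit 42), (nat_lit 24), (nat_lit 15), (nat_lit 33), (nat_lit 30), (nat_lit 26), (nat_lit 37), (nat_lit 34), (nat_lit 22), (nat_lit 14), (nat_lit 49), (nat_lit 46), (nat_lit 44), (nat_lit 53), (nat_lit 50), (nat_lit 42), (nat_lit 24), (nat_lit 15), (nat_lit 33), (nat_lit 30), (nat_lit 26), (nat_lit 37), (nat_lit 49)], .mu (nat_lit 294) (nat_lit 101) (nat_lit 1) (nat_lit 0) (nat_lit 0)))) (.node (.leaf ([(nat_lit 49), (nat_lit 36), (nat_lit 20), (nat_lit 4), (nat_lit 21), (nat_lit 37)], .su (nat_lit 166) (nat_lit 43))) (.leaf ([(nat_lit 51), (nat_lit 53), (nat_lit 45), (nat_lit 48), (nat_lit 46), (nat_lit 44), (nat_lit 51), (nat_lit 53), (nat_lit 45), (nat_lit 48), (nat_lit 46), (nat_lit 44), (nat_lit 51), (nat_lit 53), (nat_lit 45), (nat_lit 48), (nat_lit 46), (nat_lit 44), (nat_lit 51), (nat_lit 53), (nat_lit 45), (nat_lit 48),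 (nat_lit 46), (nat_lit 44), (nat_lit 53), (nat_lit 48)], .mu (nat_lit 422) (nat_lit 101) (nat_lit 1) (nat_lit 0) (nat_lit 0))))) (.node (.node (.leaf ([(nat_lit 45), (nat_lit 48), (nat_lit 46), (nat_lit 42), (nat_lit 29), (nat_lit 40), (nat_lit 38), (nat_lit 24), (nat_lit 15), (nat_lit 32), (nat_lit 41), (nat_lit 49), (nat_lit 53)], .mu (nat_lit 102) (nat_lit 54) (nat_lit 1) (nat_lit 0) (nat_lit 1))) (.leaf ([(nat_lit 22), (nat_lit 10), (nat_lit 8), (nat_lit 16), (nat_lit 19), (nat_lit 16), (nat_lit 12), (nat_lit 9), (nat_lit 36), (nat_lit 34), (nat_lit 22), (nat_lit 10), (nat_lit 8), (nat_lit 20), (nat_lit 18), (nat_lit 20), (nat_lit 12), (nat_lit 6), (nat_lit 4), (nat_lit 16), (nat_lit 19), (nat_lit 16), (nat_lit 12), (nat_lit 9), (nat_lit 33), (nat_lit 37)], .mu (nat_lit 358) (nat_lit 26) (nat_lit 1) (nat_lit 0) (nat_lit 1)))) (.node (.leaf ([(nat_lit 40), (nat_lit 38), (nat_lit 24), (nat_lit 10), (nat_lit 6), (nat_lit 4), (nat_lit 41),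 (nat_lit 38), (nat_lit 28), (nat_lit 52), (nat_lit 50), (nat_lit 42), (nat_lit 29), (nat_lit 40), (nat_lit 38), (nat_lit 24), (nat_lit 10), (nat_lit 4), (nat_lit 41), (nat_lit 52)], .mu (nat_lit 230) (nat_lit 49) (nat_lit 0) (nat_lit 0) (nat_lit 0))) (.leaf ([], .ax (nat_lit 1000))))))) (.node (.node (.node (.node (.leaf ([(nat_lit 6), (nat_lit 5), (nat_lit 48), (nat_lit 4), (nat_lit 41)], .mu (nat_lit 22) (nat_lit 16) (nat_lit 1) (nat_lit 0) (nat_lit 0))) (.leaf ([(nat_lit 42), (nat_lit 24), (nat_lit 15), (nat_lit 33), (nat_lit 30), (nat_lit 26), (nat_lit 36), (nat_lit 34), (nat_lit 27), (nat_lit 32), (nat_lit 30), (nat_lit 22), (nat_lit 14), (nat_lit 48), (nat_lit 33), (nat_lit 36), (nat_lit 32), (nat_lit 48)], .mu (nat_lit 278) (nat_lit 10) (nat_lit 1) (nat_lit 0) (nat_lit 1)))) (.node (.leaf ([(nat_lit 10), (nat_lit 6), (nat_lit 4), (nat_lit 20), (nat_lit 20), (nat_lit 20), (nat_lit 4), (nat_lit 16), (nat_lit 37)], .mu (nat_lit 150)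 (nat_lit 28) (nat_lit 1) (nat_lit 0) (nat_lit 0))) (.leaf ([(nat_lit 37), (nat_lit 27), (nat_lit 32), (nat_lit 30), (nat_lit 26), (nat_lit 35), (nat_lit 37), (nat_lit 27), (nat_lit 32), (nat_lit 30), (nat_lit 26), (nat_lit 35), (nat_lit 37), (nat_lit 27), (nat_lit 32), (nat_lit 30), (nat_lit 26), (nat_lit 37), (nat_lit 32), (nat_lit 37), (nat_lit 32)], .mu (nat_lit 406) (nat_lit 26) (nat_lit 0) (nat_lit 0) (nat_lit 0))))) (.node (.node (.leaf ([(nat_lit 22), (nat_lit 10), (nat_lit 8), (nat_lit 20), (nat_lit 12), (nat_lit 6), (nat_lit 5), (nat_lit 16), (nat_lit 33), (nat_lit 36), (nat_lit 32)], .mu (nat_lit 86) (nat_lit 75) (nat_lit 1) (nat_lit 0) (nat_lit 1))) (.leaf ([(nat_lit 22), (nat_lit 10), (nat_lit 8), (nat_lit 20), (nat_lit 18), (nat_lit 20), (nat_lit 18), (nat_lit 20), (nat_lit 12), (nat_lit 6), (nat_lit 5), (nat_lit 40), (nat_lit 38), (nat_lit 24), (nat_lit 10), (nat_lit 6), (nat_lit 4), (nat_lit 16), (nat_lit 36), (nat_lit 32),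 (nat_lit 37)], .mu (nat_lit 342) (nat_lit 26) (nat_lit 1) (nat_lit 0) (nat_lit 1)))) (.node (.leaf ([(nat_lit 49), (nat_lit 46), (nat_lit 44), (nat_lit 51), (nat_lit 53), (nat_lit 50), (nat_lit 29), (nat_lit 40), (nat_lit 24), (nat_lit 6), (nat_lit 4), (nat_lit 21), (nat_lit 16), (nat_lit 36), (nat_lit 32)], .mu (nat_lit 214) (nat_lit 10) (nat_lit 0) (nat_lit 0) (nat_lit 0))) (.leaf ([], .ax (nat_lit 1000)))))) (.node (.node (.node (.leaf ([(nat_lit 53), (nat_lit 50), (nat_lit 42), (nat_lit 15), (nat_lit 23), (nat_lit 36), (nat_lit 34), (nat_lit 6), (nat_lit 4), (nat_lit 48), (nat_lit 40)], .mu (nat_lit 53) (nat_lit 54) (nat_lit 0) (nat_lit 0) (nat_lit 0))) (.leaf ([(nat_lit 26), (nat_lit 37), (nat_lit 49), (nat_lit 53), (nat_lit 33), (nat_lit 37), (nat_lit 49), (nat_lit 53), (nat_lit 33)], .mu (nat_lit 310) (nat_lit 75) (nat_lit 1) (nat_lit 0) (nat_lit 1)))) (.node (.leaf ([(nat_lit 4), (nat_lit 20), (nat_lit 20), (nat_lit 17), (nat_lit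 33), (nat_lit 41), (nat_lit 17)], .mu (nat_lit 182) (nat_lit 18) (nat_lit 1) (nat_lit 0) (nat_lit 0))) (.leaf ([(nat_lit 53), (nat_lit 48), (nat_lit 53), (nat_lit 48), (nat_lit 53), (nat_lit 48), (nat_lit 53), (nat_lit 48), (nat_lit 53), (nat_lit 48)], .mu (nat_lit 438) (nat_lit 101) (nat_lit 1) (nat_lit 0) (nat_lit 0))))) (.node (.node (.leaf ([(nat_lit 15), (nat_lit 36), (nat_lit 34), (nat_lit 27), (nat_lit 33), (nat_lit 30), (nat_lit 26), (nat_lit 37), (nat_lit 34), (nat_lit 27), (nat_lit 32), (nat_lit 37), (nat_lit 48)], .mu (nat_lit 118) (nat_lit 14) (nat_lit 1) (nat_lit 0) (nat_lit 0))) (.leaf ([(nat_lit 33), (nat_lit 37), (nat_lit 16), (nat_lit 16), (nat_lit 36), (nat_lit 20), (nat_lit 20), (nat_lit 4), (nat_lit 16), (nat_lit 16)], .mu (nat_lit 374) (nat_lit 31) (nat_lit 0) (nat_lit 0) (nat_lit 0)))) (.node (.leaf ([(nat_lit 49), (nat_lit 46), (nat_lit 44), (nat_lit 52), (nat_lit 50), (nat_lit 45), (nat_lit 48), (nat_lit 46), (nat_lit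 42), (nat_lit 24), (nat_lit 15), (nat_lit 32), (nat_lit 30), (nat_lit 22), (nat_lit 14), (nat_lit 49), (nat_lit 46), (nat_lit 44), (nat_lit 52), (nat_lit 50), (nat_lit 45), (nat_lit 48), (nat_lit 46), (nat_lit 42), (nat_lit 24), (nat_lit 15), (nat_lit 32)], .mu (nat_lit 246) (nat_lit 58) (nat_lit 1) (nat_lit 0) (nat_lit 0))) (.leaf ([], .ax (nat_lit 1000))))))))
noncomputable def sK1111 : BT (List ℕ × Ju) := (.node (.node (.node (.node (.node (.leaf ([(nat_lit 10), (nat_lit 6), (nat_lit 4), (nat_lit 41), (nat_lit 38), (nat_lit 24), (nat_lit 10), (nat_lit 6), (nat_lit 5), (nat_lit 48)], .mu (nat_lit 13) (nat_lit 14) (nat_lit 1) (nat_lit 0) (nat_lit 0))) (.leaf ([(nat_lit 33), (nat_lit 30), (nat_lit 26), (nat_lit 36), (nat_lit 34), (nat_lit 27), (nat_lit 32), (nat_lit 30), (nat_lit 22), (nat_lit 14), (nat_lit 48), (nat_lit 46), (nat_lit 42), (nat_lit 24), (nat_lit 15), (nat_lit 33), (nat_lit 30), (nat_lit 26), (nat_lit 36), (nat_lit 34), (nat_lit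 27), (nat_lit 32), (nat_lit 30), (nat_lit 22), (nat_lit 14), (nat_lit 48)], .mu (nat_lit 270) (nat_lit 58) (nat_lit 0) (nat_lit 0) (nat_lit 0)))) (.node (.leaf ([(nat_lit 20), (nat_lit 18), (nat_lit 20), (nat_lit 18), (nat_lit 20), (nat_lit 12), (nat_lit 6), (nat_lit 4), (nat_lit 16), (nat_lit 12), (nat_lit 9), (nat_lit 37), (nat_lit 34), (nat_lit 22), (nat_lit 10), (nat_lit 6), (nat_lit 4)], .ex (nat_lit 7) [(nat_lit 0), (nat_lit 3), (nat_lit 0), (nat_lit 3)])) (.leaf ([(nat_lit 37), (nat_lit 27), (nat_lit 32), (nat_lit 30), (nat_lit 26), (nat_lit 35), (nat_lit 37), (nat_lit 27), (nat_lit 32), (nat_lit 30), (nat_lit 26), (nat_lit 35), (nat_lit 37), (nat_lit 27), (nat_lit 32), (nat_lit 30), (nat_lit 26), (nat_lit 35), (nat_lit 37), (nat_lit 27), (nat_lit 32), (nat_lit 30), (nat_lit 26), (nat_lit 35), (nat_lit 37), (nat_lit 27), (nat_lit 32), (nat_lit 30), (nat_lit 26)], .mu (nat_lit 398) (nat_lit 26) (nat_lit 0) (nat_lit 0) (nat_lit 0)))))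 (.node (.node (.leaf ([(nat_lit 16), (nat_lit 12), (nat_lit 9), (nat_lit 33), (nat_lit 30), (nat_lit 26), (nat_lit 36), (nat_lit 34), (nat_lit 27), (nat_lit 32), (nat_lit 30), (nat_lit 22), (nat_lit 10), (nat_lit 8), (nat_lit 20), (nat_lit 12), (nat_lit 6), (nat_lit 5)], .ex (nat_lit 7) [(nat_lit 0), (nat_lit 3)])) (.leaf ([(nat_lit 5), (nat_lit 36), (nat_lit 5), (nat_lit 36), (nat_lit 32), (nat_lit 41), (nat_lit 52), (nat_lit 48), (nat_lit 53)], .mu (nat_lit 334) (nat_lit 44) (nat_lit 0) (nat_lit 0) (nat_lit 7)))) (.node (.leaf ([(nat_lit 21), (nat_lit 19), (nat_lit 16), (nat_lit 9), (nat_lit 23), (nat_lit 36), (nat_lit 27), (nat_lit 32), (nat_lit 22), (nat_lit 14), (nat_lit 25), (nat_lit 47), (nat_lit 49), (nat_lit 46), (nat_lit 44), (nat_lit 51), (nat_lit 53), (nat_lit 50), (nat_lit 29), (nat_lit 40), (nat_lit 24), (nat_lit 6), (nat_lit 4)], .mu (nat_lit 206) (nat_lit 18) (nat_lit 0) (nat_lit 0) (nat_lit 0))) (.leaf ([(nat_lit 20), (nat_lit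 20), (nat_lit 20), (nat_lit 20), (nat_lit 20), (nat_lit 20), (nat_lit 20), (nat_lit 20), (nat_lit 20), (nat_lit 20), (nat_lit 20), (nat_lit 20), (nat_lit 20), (nat_lit 20), (nat_lit 20), (nat_lit 20), (nat_lit 20), (nat_lit 20), (nat_lit 20), (nat_lit 20), (nat_lit 20), (nat_lit 20), (nat_lit 20)], .mu (nat_lit 462) (nat_lit 33) (nat_lit 1) (nat_lit 0) (nat_lit 1)))))) (.node (.node (.node (.leaf ([(nat_lit 25), (nat_lit 48), (nat_lit 29), (nat_lit 40), (nat_lit 38), (nat_lit 28), (nat_lit 43), (nat_lit 51), (nat_lit 53), (nat_lit 50), (nat_lit 42), (nat_lit 15), (nat_lit 23), (nat_lit 36), (nat_lit 34), (nat_lit 6), (nat_lit 4)], .mu (nat_lit 46) (nat_lit 16) (nat_lit 0) (nat_lit 0) (nat_lit 0))) (.leaf ([(nat_lit 14), (nat_lit 49), (nat_lit 46), (nat_lit 44), (nat_lit 53), (nat_lit 50), (nat_lit 42), (nat_lit 24), (nat_lit 15), (nat_lit 33), (nat_lit 30), (nat_lit 26), (nat_lit 37), (nat_lit 49), (nat_lit 53), (nat_lit 33), (nat_lit 37)],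 .mu (nat_lit 302) (nat_lit 28) (nat_lit 1) (nat_lit 0) (nat_lit 0)))) (.node (.leaf ([(nat_lit 14), (nat_lit 39), (nat_lit 41), (nat_lit 24), (nat_lit 10), (nat_lit 8), (nat_lit 13), (nat_lit 17), (nat_lit 12), (nat_lit 6), (nat_lit 4), (nat_lit 20), (nat_lit 20), (nat_lit 17), (nat_lit 33)], .mu (nat_lit 174) (nat_lit 28) (nat_lit 1) (nat_lit 0) (nat_lit 1))) (.leaf ([(nat_lit 51), (nat_lit 53), (nat_lit 45), (nat_lit 48), (nat_lit 46), (nat_lit 44), (nat_lit 51), (nat_lit 53), (nat_lit 45), (nat_lit 48), (nat_lit 46), (nat_lit 44), (nat_lit 53), (nat_lit 48), (nat_lit 53), (nat_lit 48), (nat_lit 53), (nat_lit 48)], .mu (nat_lit 430) (nat_lit 101) (nat_lit 1) (nat_lit 0) (nat_lit 0))))) (.node (.node (.leaf ([(nat_lit 32), (nat_lit 30), (nat_lit 26), (nat_lit 37), (nat_lit 34), (nat_lit 22), (nat_lit 14), (nat_lit 48), (nat_lit 46), (nat_lit 42), (nat_lit 24), (nat_lit 15), (nat_lit 36), (nat_lit 34), (nat_lit 27), (nat_lit 33), (nat_lit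 30), (nat_lit 26), (nat_lit 37), (nat_lit 34), (nat_lit 27)], .ex (nat_lit 7) [(nat_lit 0), (nat_lit 2), (nat_lit 0), (nat_lit 2), (nat_lit 0), (nat_lit 2)])) (.leaf ([(nat_lit 10), (nat_lit 8), (nat_lit 20), (nat_lit 18), (nat_lit 20), (nat_lit 12), (nat_lit 6), (nat_lit 4), (nat_lit 16), (nat_lit 19), (nat_lit 16), (nat_lit 12), (nat_lit 9), (nat_lit 33), (nat_lit 37), (nat_lit 16), (nat_lit 16), (nat_lit 36)], .mu (nat_lit 366) (nat_lit 28) (nat_lit 1) (nat_lit 0) (nat_lit 0)))) (.node (.leaf ([(nat_lit 29), (nat_lit 40), (nat_lit 38), (nat_lit 24), (nat_lit 10), (nat_lit 4), (nat_lit 41), (nat_lit 52), (nat_lit 40), (nat_lit 4), (nat_lit 41), (nat_lit 52)], .mu (nat_lit 238) (nat_lit 12) (nat_lit 1) (nat_lit 0) (nat_lit 0))) (.leaf ([], .ax (nat_lit 1000))))))) (.node (.node (.node (.node (.leaf ([(nat_lit 8)], .ex (nat_lit 0) [(nat_lit 0)])) (.leaf ([(nat_lit 22), (nat_lit 14), (nat_lit 48), (nat_lit 33), (nat_lit 36), (nat_lit 32),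 (nat_lit 48), (nat_lit 33), (nat_lit 36), (nat_lit 32)], .mu (nat_lit 286) (nat_lit 75) (nat_lit 1) (nat_lit 0) (nat_lit 1)))) (.node (.leaf ([(nat_lit 24), (nat_lit 10), (nat_lit 6), (nat_lit 4), (nat_lit 20), (nat_lit 18), (nat_lit 20), (nat_lit 12), (nat_lit 9), (nat_lit 37), (nat_lit 48)], .mu (nat_lit 158) (nat_lit 12) (nat_lit 1) (nat_lit 0) (nat_lit 0))) (.leaf ([(nat_lit 37), (nat_lit 27), (nat_lit 32), (nat_lit 30), (nat_lit 26), (nat_lit 37), (nat_lit 32), (nat_lit 37), (nat_lit 32), (nat_lit 37), (nat_lit 32), (nat_lit 37), (nat_lit 32)], .mu (nat_lit 414) (nat_lit 26) (nat_lit 0) (nat_lit 0) (nat_lit 0))))) (.node (.node (.leaf ([(nat_lit 22), (nat_lit 14), (nat_lit 41), (nat_lit 38), (nat_lit 28), (nat_lit 49), (nat_lit 46), (nat_lit 44), (nat_lit 53), (nat_lit 50), (nat_lit 45), (nat_lit 48), (nat_lit 46), (nat_lit 42), (nat_lit 29), (nat_lit 40), (nat_lit 38), (nat_lit 24), (nat_lit 15), (nat_lit 32)], .mu (nat_lit 94) (nat_lit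 75) (nat_lit 1) (nat_lit 0) (nat_lit 1))) (.leaf ([(nat_lit 24), (nat_lit 10), (nat_lit 6), (nat_lit 4), (nat_lit 16), (nat_lit 36), (nat_lit 32), (nat_lit 37), (nat_lit 20), (nat_lit 20), (nat_lit 20), (nat_lit 5), (nat_lit 40)], .mu (nat_lit 350) (nat_lit 20) (nat_lit 1) (nat_lit 0) (nat_lit 2)))) (.node (.leaf ([(nat_lit 4), (nat_lit 21), (nat_lit 21), (nat_lit 36), (nat_lit 32), (nat_lit 49), (nat_lit 53), (nat_lit 40)], .su (nat_lit 222) (nat_lit 43))) (.leaf ([], .ax (nat_lit 1000)))))) (.node (.node (.node (.leaf ([(nat_lit 52), (nat_lit 50), (nat_lit 42), (nat_lit 29), (nat_lit 40), (nat_lit 38), (nat_lit 28), (nat_lit 52), (nat_lit 50), (nat_lit 42), (nat_lit 29), (nat_lit 40), (nat_lit 38), (nat_lit 24), (nat_lit 15), (nat_lit 33), (nat_lit 30), (nat_lit 22), (nat_lit 14)], .ex (nat_lit 7) [(nat_lit 0), (nat_lit 2), (nat_lit 0), (nat_lit 3), (nat_lit 0), (nat_lit 3), (nat_lit 0), (nat_lit 3)])) (.leaf ([(nat_lit 28), (nat_lit 52),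 (nat_lit 50), (nat_lit 45), (nat_lit 48), (nat_lit 46), (nat_lit 44), (nat_lit 53), (nat_lit 50), (nat_lit 42), (nat_lit 29), (nat_lit 40), (nat_lit 38), (nat_lit 24), (nat_lit 10), (nat_lit 8), (nat_lit 20), (nat_lit 18), (nat_lit 20), (nat_lit 12), (nat_lit 6), (nat_lit 5), (nat_lit 36), (nat_lit 32), (nat_lit 41)], .mu (nat_lit 318) (nat_lit 20) (nat_lit 1) (nat_lit 0) (nat_lit 1)))) (.node (.leaf ([(nat_lit 14), (nat_lit 40), (nat_lit 38), (nat_lit 28), (nat_lit 48), (nat_lit 46), (nat_lit 44), (nat_lit 52), (nat_lit 50), (nat_lit 42), (nat_lit 24), (nat_lit 10), (nat_lit 8), (nat_lit 16), (nat_lit 12), (nat_lit 6), (nat_lit 4), (nat_lit 32), (nat_lit 36)], .mu (nat_lit 190) (nat_lit 28) (nat_lit 1) (nat_lit 0) (nat_lit 0))) (.leaf ([(nat_lit 20), (nat_lit 18), (nat_lit 20), (nat_lit 18), (nat_lit 20), (nat_lit 18), (nat_lit 20), (nat_lit 18), (nat_lit 20), (nat_lit 18), (nat_lit 20), (nat_lit 18), (nat_lit 20), (nat_lit 18), (nat_lit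 20), (nat_lit 18), (nat_lit 20), (nat_lit 18), (nat_lit 20), (nat_lit 18), (nat_lit 20), (nat_lit 18), (nat_lit 20), (nat_lit 18), (nat_lit 20), (nat_lit 18), (nat_lit 20), (nat_lit 18), (nat_lit 20), (nat_lit 18), (nat_lit 20), (nat_lit 18), (nat_lit 20), (nat_lit 20), (nat_lit 20), (nat_lit 20), (nat_lit 20), (nat_lit 20), (nat_lit 20)], .mu (nat_lit 446) (nat_lit 33) (nat_lit 1) (nat_lit 0) (nat_lit 1))))) (.node (.node (.leaf ([(nat_lit 48), (nat_lit 46), (nat_lit 44), (nat_lit 53), (nat_lit 50), (nat_lit 42), (nat_lit 24), (nat_lit 15), (nat_lit 32), (nat_lit 30), (nat_lit 22), (nat_lit 14), (nat_lit 52), (nat_lit 50), (nat_lit 45), (nat_lit 49), (nat_lit 46), (nat_lit 44), (nat_lit 53), (nat_lit 50), (nat_lit 45)], .ex (nat_lit 7) [(nat_lit 0), (nat_lit 2), (nat_lit 0), (nat_lit 3), (nat_lit 0), (nat_lit 3), (nat_lit 0), (nat_lit 2)])) (.leaf ([(nat_lit 53), (nat_lit 50), (nat_lit 42), (nat_lit 29), (nat_lit 40), (nat_lit 38), (nat_lit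 28), (nat_lit 52), (nat_lit 50), (nat_lit 45), (nat_lit 48), (nat_lit 46), (nat_lit 42), (nat_lit 24), (nat_lit 10), (nat_lit 6), (nat_lit 4), (nat_lit 16), (nat_lit 19), (nat_lit 16), (nat_lit 5), (nat_lit 41), (nat_lit 49)], .mu (nat_lit 382) (nat_lit 101) (nat_lit 1) (nat_lit 0) (nat_lit 0)))) (.node (.leaf ([(nat_lit 32), (nat_lit 30), (nat_lit 22), (nat_lit 14), (nat_lit 49), (nat_lit 46), (nat_lit 44), (nat_lit 52), (nat_lit 50), (nat_lit 45), (nat_lit 48), (nat_lit 46), (nat_lit 42), (nat_lit 24), (nat_lit 15), (nat_lit 32), (nat_lit 49), (nat_lit 52), (nat_lit 48)], .mu (nat_lit 254) (nat_lit 58) (nat_lit 0) (nat_lit 0) (nat_lit 0))) (.leaf ([], .ax (nat_lit 1000))))))))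
noncomputable def sK111 : BT (List ℕ × Ju) := .node sK1110 sK1111
noncomputable def sK11 : BT (List ℕ × Ju) := .node sK110 sK111
noncomputable def sK1 : BT (List ℕ × Ju) := .node sK10 sK11
noncomputable def sK : BT (List ℕ × Ju) := .node sK0 sK1
theorem sK_chk : rng (chkJ axs dE sK) 0 464 3 = true := by decide +kernel
theorem sK_l : chkL sK 464 rl1 [1, 2, 3, 4, 5, 6, 24, 44, 62, 78, 93, 110, 126, 142, 167, 185, 204, 223, 243, 266, 289, 312, 335, 355, 376, 397, 418, 439, 463] = true := by decide +kernel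
noncomputable def c1Ft : BT Nat := (.node (.leaf (nat_lit 0x8000580005000001600017080005c0005c2000150001508000440004420000d0000d080002c0002c30000300005080000000000000017000160c000580004c0000150001408000500004c000013000120c000480003c0000110001008000400003c00000f0000e0c000380001c00000d0000c0c000300002400000b0000a0800028000240000090000808000200001c00000700006080001800004000005000040c000100000c000003000020c000080000400000100000)) (.leaf (nat_lit 0x80000c00000400005080001000014200002000060000000000040000060000700000200002400000a0000b08000300002800000c0000d08000380002000000e0000f0000040000442000120001000000480004c00001400015)))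
noncomputable def c1F (p : Nat) : Nat := row c1Ft (nat_lit 5) (nat_lit 31) (nat_lit 46) (nat_lit 70368744177663) p
noncomputable def c1P : BT Pf := (.node (.node (.node (.node (.node (.node (.leaf .df) (.leaf (.cyc (nat_lit 0) [(nat_lit 20)]))) (.node (.leaf .df) (.leaf .df))) (.node (.node (.leaf .df) (.leaf (.cyc (nat_lit 0) [(nat_lit 10)]))) (.node (.leaf (.pin (nat_lit 1) [(nat_lit 0), (nat_lit 1), (nat_lit 2), (nat_lit 3), (nat_lit 4)] [(nat_lit 2), (nat_lit 1), (nat_lit 0)])) (.leaf .df)))) (.node (.node (.node (.leaf .df) (.leaf (.cyc (nat_lit 0) [(nat_lit 14)]))) (.node (.leaf .df) (.leaf .df))) (.node (.node (.leaf .df) (.leaf (.cyc (nat_lit 4) [(nat_lit 1), (nat_lit 5)]))) (.node (.leaf (.pin (nat_lit 5) [(nat_lit 0), (nat_lit 5), (nat_lit 6), (nat_lit 13), (nat_lit 14), (nat_lit 17), (nat_lit 18), (nat_lit 19), (nat_lit 20)] [(nat_lit 20), (nat_lit 19), (nat_lit 18), (nat_lit 17), (nat_lit 14), (nat_lit 13), (nat_lit 6), (nat_lit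 5), (nat_lit 0)])) (.leaf .df))))) (.node (.node (.node (.node (.leaf .df) (.leaf (.cyc (nat_lit 1) [(nat_lit 17), (nat_lit 15)]))) (.node (.leaf .df) (.leaf .df))) (.node (.node (.leaf .df) (.leaf (.cyc (nat_lit 0) [(nat_lit 6)]))) (.node (.leaf (.pin (nat_lit 3) [(nat_lit 0), (nat_lit 5), (nat_lit 6), (nat_lit 7), (nat_lit 8), (nat_lit 11), (nat_lit 12)] [(nat_lit 12), (nat_lit 11), (nat_lit 8), (nat_lit 7), (nat_lit 6), (nat_lit 5), (nat_lit 0)])) (.leaf .df)))) (.node (.node (.node (.leaf .df) (.leaf (.cyc (nat_lit 0) [(nat_lit 12)]))) (.node (.leaf .df) (.leaf .df))) (.node (.node (.leaf .df) (.leaf (.cyc (nat_lit 5) [(nat_lit 3), (nat_lit 2), (nat_lit 44), (nat_lit 6), (nat_lit 7), (nat_lit 41), (nat_lit 11), (nat_lit 12), (nat_lit 26), (nat_lit 12), (nat_lit 39), (nat_lit 10), (nat_lit 25), (nat_lit 10), (nat_lit 9), (nat_lit 41), (nat_lit 37), (nat_lit 36), (nat_lit 17), (nat_lit 18), (nat_lit 19), (nat_lit 32), (nat_lit 28), (nat_lit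 32), (nat_lit 31), (nat_lit 30), (nat_lit 29), (nat_lit 30), (nat_lit 21), (nat_lit 18), (nat_lit 34), (nat_lit 16), (nat_lit 27), (nat_lit 16), (nat_lit 15), (nat_lit 36), (nat_lit 13), (nat_lit 6), (nat_lit 5), (nat_lit 43), (nat_lit 23), (nat_lit 43), (nat_lit 1), (nat_lit 2), (nat_lit 24), (nat_lit 4), (nat_lit 45)]))) (.node (.leaf (.cyc (nat_lit 0) [(nat_lit 22)])) (.leaf .df)))))) (.node (.node (.node (.node (.node (.leaf .df) (.leaf (.cyc (nat_lit 0) [(nat_lit 18)]))) (.node (.leaf .df) (.leaf .df))) (.node (.node (.leaf .df) (.leaf (.cyc (nat_lit 2) [(nat_lit 37), (nat_lit 14), (nat_lit 17), (nat_lit 18), (nat_lit 19), (nat_lit 20), (nat_lit 28), (nat_lit 32), (nat_lit 19), (nat_lit 33), (nat_lit 17), (nat_lit 36), (nat_lit 37), (nat_lit 8), (nat_lit 11), (nat_lit 12), (nat_lit 26), (nat_lit 38), (nat_lit 39), (nat_lit 10), (nat_lit 25), (nat_lit 40), (nat_lit 39), (nat_lit 12), (nat_lit 26), (nat_lit 38), (nat_lit 39), (nat_lit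 10), (nat_lit 25), (nat_lit 40), (nat_lit 39), (nat_lit 12), (nat_lit 26), (nat_lit 38), (nat_lit 11)]))) (.node (.leaf (.pin (nat_lit 2) [(nat_lit 0), (nat_lit 5), (nat_lit 6), (nat_lit 7), (nat_lit 8), (nat_lit 9), (nat_lit 10)] [(nat_lit 10), (nat_lit 9), (nat_lit 8), (nat_lit 7), (nat_lit 6), (nat_lit 5), (nat_lit 0)])) (.leaf .df)))) (.node (.node (.node (.leaf .df) (.leaf (.cyc (nat_lit 1) [(nat_lit 13), (nat_lit 7)]))) (.node (.leaf .df) (.leaf .df))) (.node (.node (.leaf .df) (.leaf (.cyc (nat_lit 4) [(nat_lit 3), (nat_lit 24)]))) (.node (.leaf (.pin (nat_lit 6) [(nat_lit 0), (nat_lit 5), (nat_lit 6), (nat_lit 13), (nat_lit 14), (nat_lit 17), (nat_lit 18), (nat_lit 21), (nat_lit 22)] [(nat_lit 22), (nat_lit 21), (nat_lit 18), (nat_lit 17), (nat_lit 14), (nat_lit 13), (nat_lit 6), (nat_lit 5), (nat_lit 0)])) (.leaf .df))))) (.node (.node (.node (.node (.leaf .df) (.leaf (.cyc (nat_lit 0) [(nat_lit 16)]))) (.node (.leaf .df) (.leaf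 .df))) (.node (.node (.leaf .df) (.leaf (.cyc (nat_lit 3) [(nat_lit 23), (nat_lit 0), (nat_lit 5), (nat_lit 42), (nat_lit 13), (nat_lit 36), (nat_lit 17), (nat_lit 18), (nat_lit 19), (nat_lit 20), (nat_lit 28), (nat_lit 20), (nat_lit 19), (nat_lit 18), (nat_lit 34), (nat_lit 16), (nat_lit 27), (nat_lit 35), (nat_lit 34), (nat_lit 33), (nat_lit 21), (nat_lit 30), (nat_lit 29), (nat_lit 30), (nat_lit 21), (nat_lit 33), (nat_lit 17), (nat_lit 14), (nat_lit 37), (nat_lit 41), (nat_lit 11), (nat_lit 12), (nat_lit 26), (nat_lit 38), (nat_lit 11), (nat_lit 8), (nat_lit 7), (nat_lit 6), (nat_lit 5)]))) (.node (.leaf (.pin (nat_lit 4) [(nat_lit 0), (nat_lit 5), (nat_lit 6), (nat_lit 13), (nat_lit 14), (nat_lit 15), (nat_lit 16)] [(nat_lit 16), (nat_lit 15), (nat_lit 14), (nat_lit 13), (nat_lit 6), (nat_lit 5), (nat_lit 0)])) (.leaf .df)))) (.node (.node (.node (.leaf .df) (.leaf (.cyc (nat_lit 1) [(nat_lit 11), (nat_lit 9)]))) (.node (.leaf (.pin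 (nat_lit 0) [] [])) (.leaf .df))) (.node (.node (.leaf .df) (.leaf (.cyc (nat_lit 6) [(nat_lit 1), (nat_lit 0), (nat_lit 23), (nat_lit 43), (nat_lit 1), (nat_lit 2), (nat_lit 24), (nat_lit 46), (nat_lit 3), (nat_lit 2), (nat_lit 44), (nat_lit 42), (nat_lit 13), (nat_lit 14), (nat_lit 15), (nat_lit 16), (nat_lit 27), (nat_lit 16), (nat_lit 15), (nat_lit 14), (nat_lit 37), (nat_lit 8), (nat_lit 9), (nat_lit 10), (nat_lit 25), (nat_lit 10), (nat_lit 9), (nat_lit 8), (nat_lit 7), (nat_lit 42), (nat_lit 44), (nat_lit 2), (nat_lit 24), (nat_lit 4), (nat_lit 45), (nat_lit 4), (nat_lit 45), (nat_lit 46), (nat_lit 3)]))) (.node (.leaf (.cyc (nat_lit 1) [(nat_lit 21), (nat_lit 19)])) (.leaf .df)))))))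
noncomputable def c1R : BT (List ℕ × ℕ × ℕ) := (.node (.node (.node (.leaf ([(nat_lit 0), (nat_lit 0)], (nat_lit 0), (nat_lit 1))) (.leaf ([(nat_lit 2), (nat_lit 2), (nat_lit 2)], (nat_lit 1), (nat_lit 1)))) (.node (.leaf ([(nat_lit 0), (nat_lit 2), (nat_lit 0), (nat_lit 3), (nat_lit 0), (nat_lit 2), (nat_lit 0), (nat_lit 2), (nat_lit 0), (nat_lit 3), (nat_lit 0), (nat_lit 2), (nat_lit 0), (nat_lit 3), (nat_lit 0), (nat_lit 3), (nat_lit 0), (nat_lit 2), (nat_lit 0), (nat_lit 3), (nat_lit 0), (nat_lit 3), (nat_lit 0), (nat_lit 2), (nat_lit 0), (nat_lit 3), (nat_lit 0), (nat_lit 3), (nat_lit 0), (nat_lit 2), (nat_lit 0), (nat_lit 2), (nat_lit 0), (nat_lit 3), (nat_lit 0), (nat_lit 2)], (nat_lit 6), (nat_lit 8))) (.leaf ([(nat_lit 0), (nat_lit 2), (nat_lit 1), (nat_lit 3), (nat_lit 1), (nat_lit 3), (nat_lit 0), (nat_lit 2), (nat_lit 0), (nat_lit 2), (nat_lit 1), (nat_lit 3), (nat_lit 1), (nat_lit 3), (nat_lit 0), (nat_lit 2), (nat_lit 0), (nat_lit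 2), (nat_lit 1), (nat_lit 3), (nat_lit 1), (nat_lit 3), (nat_lit 0), (nat_lit 2), (nat_lit 0), (nat_lit 2), (nat_lit 1), (nat_lit 3), (nat_lit 1), (nat_lit 3), (nat_lit 0), (nat_lit 2), (nat_lit 0), (nat_lit 2), (nat_lit 1), (nat_lit 3), (nat_lit 1), (nat_lit 3), (nat_lit 0), (nat_lit 2)], (nat_lit 4), (nat_lit 38))))) (.node (.node (.leaf ([(nat_lit 2), (nat_lit 2), (nat_lit 2)], (nat_lit 1), (nat_lit 2))) (.leaf ([(nat_lit 0), (nat_lit 2), (nat_lit 1), (nat_lit 3), (nat_lit 0), (nat_lit 2), (nat_lit 1), (nat_lit 3), (nat_lit 0), (nat_lit 2), (nat_lit 1), (nat_lit 3), (nat_lit 0), (nat_lit 2), (nat_lit 1), (nat_lit 3), (nat_lit 0), (nat_lit 2), (nat_lit 1), (nat_lit 3), (nat_lit 0), (nat_lit 2), (nat_lit 1), (nat_lit 3), (nat_lit 0), (nat_lit 2), (nat_lit 1), (nat_lit 3), (nat_lit 0), (nat_lit 2), (nat_lit 1), (nat_lit 3), (nat_lit 0), (nat_lit 2), (nat_lit 1), (nat_lit 3), (nat_lit 0), (nat_lit 2), (nat_lit 1), (nat_lit 3), (nat_lit 0),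 (nat_lit 2), (nat_lit 1), (nat_lit 3), (nat_lit 0), (nat_lit 2), (nat_lit 1), (nat_lit 3)], (nat_lit 3), (nat_lit 6)))) (.node (.leaf ([(nat_lit 0), (nat_lit 2), (nat_lit 0), (nat_lit 2), (nat_lit 1), (nat_lit 3), (nat_lit 1), (nat_lit 3), (nat_lit 0), (nat_lit 2), (nat_lit 0), (nat_lit 2), (nat_lit 1), (nat_lit 3), (nat_lit 1), (nat_lit 3), (nat_lit 0), (nat_lit 2), (nat_lit 0), (nat_lit 2), (nat_lit 1), (nat_lit 3), (nat_lit 1), (nat_lit 3), (nat_lit 0), (nat_lit 2), (nat_lit 0), (nat_lit 2), (nat_lit 1), (nat_lit 3), (nat_lit 1), (nat_lit 3), (nat_lit 0), (nat_lit 2), (nat_lit 0), (nat_lit 2), (nat_lit 1), (nat_lit 3), (nat_lit 1), (nat_lit 3)], (nat_lit 4), (nat_lit 4))) (.leaf ([], (nat_lit 1000), (nat_lit 0))))))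
noncomputable def c1Tt : BT Nat := (.leaf (nat_lit 0x7577575967965df5154de5d65d67157155148145534df5a05545545564d44928524e24113e14d24d26d16d14108d044f3e24a34504504523d038e90e3e520d1e43ce3ce68d68d30c98c36728b26634c34c64b64b28aa0a2c92673282ca2ca2cc24a208a482471e53a924824834e1c8186a861c506c0aa1c61c6603b44104b8416d1430ee1441440c4605082bc20ec18106f0c20c2042146000ac005701702b040040))
noncomputable def c1T (p : Nat) : Nat := row c1Tt (nat_lit 5) (nat_lit 31) (nat_lit 54) (nat_lit 18014398509481983) p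
noncomputable def c1C : Cert := ⟨(nat_lit 48), c1F, c1P, c1R, (nat_lit 24), [0, 1, 2, 3], fun c => Nat.land (c1T c) (nat_lit 63),
  fun k c => fld (c1T c) (Nat.add (nat_lit 6) (Nat.mul (nat_lit 12) k)) (nat_lit 63), fun k c => fld (c1T c) (Nat.add (nat_lit 12) (Nat.mul (nat_lit 12) k)) (nat_lit 63)⟩
theorem c1k : c1C.full 0 0 axs [dE 2, dE 10, dE 16, dE 18, dE 20, dE 24, dE 26] = true := by decide +kernel
noncomputable def c2Ft : BT Nat := (.node (.node (.node (.leaf (nat_lit 0x94000800001240001f0000484000780001200001d0000414000700001040001b00004d4000680000f40001900003c4000600000f00001700003a4000580000e8000150000394000500000e4000130000384000480000e0000110000394000400000a40000f0000284000380000a00000d0000254000300000940000b00002c400028000065000090000190000200000550000700001a40001800002800005000005400010000014000030000014000080000040000100000)) (.leaf (nat_lit 0xd4000300002f00000c00005a4000300003e5000170000d94000440004690000a0002554000340002a0000250000fd4000880003b4000040000ec40005c0003b0000030000e90000940003950000f0000e1400094000384000100000efc000600003840000b0000fa40001000042800003000108400044000420000030001014000600004040002500010fc000400004950000a0001114000100004440001700011fc0006c000444000070000b14000780007a80001100007)))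 (.node (.leaf (nat_lit 0xfc00078000821000040000780000780001ff000070001dc000080000125000040000c90000800003200000c0000cfc0007c0003310000b00004940002c0001f1000200000b90000800007e00001f0001f80000780007440001c0001b500006c0002a0000100001bd0000680006450001800016c0000600005c4000150001780000480004690000400012d0000400000b5000100000590000400003e00000e0000d80000280002040000a0000814000280001700000a00002)) (.leaf (nat_lit 0xd0000a00003d5000280000c10000a00009e900025000285400078000a240000e00028c0000a0000a28000090000914000240009d50000b00027d40009c0009e80002600027c0000200009f00002700010540009c000420000270000a94000280009e40002600027800003c0009840002600026d4000980003f1000090002694000980002a1000250002654000440009b50000900025c00003c0003d50000500009500003c00027f0002400009d0000200002f5000080000c)))) (.node (.node (.leaf (nat_lit 0xd4000280002a400009000081000020000155000030000884000040000750000500002c4000040000a90000500002a0000000000bf0000600002d4000040000740000600005c000018000068000060000580000140001550000100004140000c0000c40000200001a4000040000740000000000c00000000002400000000008000000000020000290000914000a0000261000270000854000980001d5000250000550000900001750002300004d0000880001290002100004))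 (.leaf (nat_lit 0xc0000400002280000c00008c0000940009550000e0001ed4000100004740000e00011c40004400047f0001100022a0000380003a90000d0000dd40000c00037f000190000dd00000c0001ff0001a00007c0000140001f00002200011800002c0002f1000030000dc0000380003640000d0000d1400044000344000040000dfc0005c0003690000f00008900002c0001640000500007100003c0001c50000c0000cd4000340001f50001e0001ec00001c0003280000b0000b))) (.node (.leaf (nat_lit 0xa00001c0007a80001e00011540003c0006350002200018d00001000063f0001800023c40008800044400018000251400048000968000030001214000600004a90000300004140005c0001050001b00017940000c0000ff0001200016fc0001000057f0001c00017fc0000c0004ff0002100003fc0000c00052400025000185400020000955000240000fd00008c0008b00001c00014a0000840004850001400021c4000100007b00000b0001e94000300007a4000040001e)) (.leaf (nat_lit 0x340002900025a00009c000a440002900029d4000a4000254000290001094000a4000a690002600029c000024000a7100026000295000034000a6000028000298000024000a240002800025a000028000a340002600028)))))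
noncomputable def c2F (p : Nat) : Nat := row c2Ft (nat_lit 5) (nat_lit 31) (nat_lit 46) (nat_lit 70368744177663) p
noncomputable def c2P0 : BT Pf := (.node (.node (.node (.node (.node (.node (.node (.leaf .df) (.leaf (.cyc (nat_lit 53) [(nat_lit 126), (nat_lit 127)]))) (.node (.leaf (.cyc (nat_lit 18) [(nat_lit 9), (nat_lit 57)])) (.leaf (.cyc (nat_lit 8) [(nat_lit 191), (nat_lit 140), (nat_lit 16), (nat_lit 128), (nat_lit 161)])))) (.node (.node (.leaf .df) (.leaf (.cyc (nat_lit 61) [(nat_lit 159), (nat_lit 97), (nat_lit 129), (nat_lit 98)]))) (.node (.leaf (.cyc (nat_lit 33) [(nat_lit 31), (nat_lit 95)])) (.leaf (.cyc (nat_lit 91) [(nat_lit 203), (nat_lit 223)]))))) (.node (.node (.node (.leaf .df) (.leaf (.cyc (nat_lit 54) [(nat_lit 137), (nat_lit 143)]))) (.node (.leaf (.cyc (nat_lit 1) [(nat_lit 27), (nat_lit 26)])) (.leaf (.cyc (nat_lit 22) [(nat_lit 38), (nat_lit 67)])))) (.node (.node (.leaf (.cyc (nat_lit 3) [(nat_lit 45), (nat_lit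 0), (nat_lit 42), (nat_lit 3)])) (.leaf (.cyc (nat_lit 71) [(nat_lit 151), (nat_lit 146), (nat_lit 142), (nat_lit 175), (nat_lit 85), (nat_lit 128)]))) (.node (.leaf (.cyc (nat_lit 10) [(nat_lit 101), (nat_lit 108), (nat_lit 21)])) (.leaf .df))))) (.node (.node (.node (.node (.leaf .df) (.leaf (.cyc (nat_lit 54) [(nat_lit 119), (nat_lit 135)]))) (.node (.leaf (.cyc (nat_lit 25) [(nat_lit 3), (nat_lit 43), (nat_lit 42), (nat_lit 2), (nat_lit 17)])) (.leaf (.cyc (nat_lit 80) [(nat_lit 147), (nat_lit 146), (nat_lit 195), (nat_lit 8), (nat_lit 48), (nat_lit 3), (nat_lit 0), (nat_lit 6), (nat_lit 37)])))) (.node (.node (.leaf .df) (.leaf (.cyc (nat_lit 68) [(nat_lit 165), (nat_lit 166), (nat_lit 36), (nat_lit 105)]))) (.node (.leaf (.cyc (nat_lit 15) [(nat_lit 35), (nat_lit 4), (nat_lit 1), (nat_lit 14)])) (.leaf (.cyc (nat_lit 57) [(nat_lit 203), (nat_lit 197), (nat_lit 203), (nat_lit 204), (nat_lit 201), (nat_lit 66), (nat_lit 62), (nat_lit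 40)]))))) (.node (.node (.node (.leaf .df) (.leaf (.cyc (nat_lit 38) [(nat_lit 147), (nat_lit 148), (nat_lit 113), (nat_lit 138), (nat_lit 69)]))) (.node (.leaf (.cyc (nat_lit 32) [(nat_lit 87), (nat_lit 82), (nat_lit 87)])) (.leaf (.cyc (nat_lit 86) [(nat_lit 215), (nat_lit 214), (nat_lit 85), (nat_lit 93), (nat_lit 97), (nat_lit 11), (nat_lit 10), (nat_lit 214), (nat_lit 215)])))) (.node (.node (.leaf (.cyc (nat_lit 11) [(nat_lit 50), (nat_lit 54)])) (.leaf (.cyc (nat_lit 74) [(nat_lit 139), (nat_lit 70), (nat_lit 177), (nat_lit 163), (nat_lit 173), (nat_lit 151)]))) (.node (.leaf (.cyc (nat_lit 47) [(nat_lit 117), (nat_lit 119)])) (.leaf .df)))))) (.node (.node (.node (.node (.node (.leaf .df) (.leaf (.cyc (nat_lit 54) [(nat_lit 114), (nat_lit 131)]))) (.node (.leaf (.cyc (nat_lit 22) [(nat_lit 13), (nat_lit 12)])) (.leaf (.cyc (nat_lit 55) [(nat_lit 35), (nat_lit 194)])))) (.node (.node (.leaf .df) (.leaf (.cyc (nat_lit 64) [(nat_lit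 97), (nat_lit 129), (nat_lit 96), (nat_lit 94), (nat_lit 127), (nat_lit 162), (nat_lit 98), (nat_lit 159)]))) (.node (.leaf (.cyc (nat_lit 40) [(nat_lit 19), (nat_lit 2), (nat_lit 3), (nat_lit 32)])) (.leaf (.cyc (nat_lit 94) [(nat_lit 227), (nat_lit 40)]))))) (.node (.node (.node (.leaf .df) (.leaf (.cyc (nat_lit 39) [(nat_lit 23), (nat_lit 143)]))) (.node (.leaf (.cyc (nat_lit 30) [(nat_lit 31), (nat_lit 3), (nat_lit 41), (nat_lit 55), (nat_lit 10)])) (.leaf (.cyc (nat_lit 52) [(nat_lit 205), (nat_lit 157), (nat_lit 158), (nat_lit 70), (nat_lit 210)])))) (.node (.node (.leaf (.cyc (nat_lit 7) [(nat_lit 5), (nat_lit 44), (nat_lit 4), (nat_lit 49)])) (.leaf (.cyc (nat_lit 50) [(nat_lit 77), (nat_lit 178), (nat_lit 163)]))) (.node (.leaf (.cyc (nat_lit 11) [(nat_lit 20), (nat_lit 111)])) (.leaf .df))))) (.node (.node (.node (.node (.leaf .df) (.leaf (.cyc (nat_lit 10) [(nat_lit 118), (nat_lit 135)]))) (.node (.leaf (.cyc (nat_lit 19) [(nat_lit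 23), (nat_lit 47), (nat_lit 21)])) (.leaf (.cyc (nat_lit 82) [(nat_lit 199), (nat_lit 134), (nat_lit 67), (nat_lit 7), (nat_lit 6), (nat_lit 37), (nat_lit 201), (nat_lit 134), (nat_lit 199)])))) (.node (.node (.leaf (.pin (nat_lit 3) [] [])) (.leaf (.cyc (nat_lit 33) [(nat_lit 156), (nat_lit 169)]))) (.node (.leaf (.cyc (nat_lit 45) [(nat_lit 100), (nat_lit 107), (nat_lit 47)])) (.leaf (.cyc (nat_lit 20) [(nat_lit 231), (nat_lit 216), (nat_lit 235), (nat_lit 233)]))))) (.node (.node (.node (.leaf .df) (.leaf (.cyc (nat_lit 36) [(nat_lit 149), (nat_lit 147), (nat_lit 152), (nat_lit 14), (nat_lit 12)]))) (.node (.leaf (.cyc (nat_lit 36) [(nat_lit 85), (nat_lit 86), (nat_lit 90), (nat_lit 88), (nat_lit 90), (nat_lit 28)])) (.leaf (.cyc (nat_lit 88) [(nat_lit 189), (nat_lit 198), (nat_lit 216), (nat_lit 198), (nat_lit 189), (nat_lit 145), (nat_lit 146), (nat_lit 195), (nat_lit 39)])))) (.node (.node (.leaf (.cyc (nat_lit 15) [(nat_lit 2), (nat_lit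 55), (nat_lit 46), (nat_lit 7)])) (.leaf (.cyc (nat_lit 75) [(nat_lit 146), (nat_lit 69), (nat_lit 138), (nat_lit 148), (nat_lit 186), (nat_lit 126), (nat_lit 129)]))) (.node (.leaf (.cyc (nat_lit 13) [(nat_lit 103), (nat_lit 122)])) (.leaf .df))))))) (.node (.node (.node (.node (.node (.node (.leaf .df) (.leaf (.cyc (nat_lit 26) [(nat_lit 127), (nat_lit 129), (nat_lit 98)]))) (.node (.leaf (.cyc (nat_lit 20) [(nat_lit 9), (nat_lit 45), (nat_lit 53), (nat_lit 7)])) (.leaf (.cyc (nat_lit 78) [(nat_lit 104), (nat_lit 142), (nat_lit 10), (nat_lit 15), (nat_lit 191), (nat_lit 62)])))) (.node (.node (.leaf .df) (.leaf (.cyc (nat_lit 62) [(nat_lit 98), (nat_lit 159), (nat_lit 88), (nat_lit 159), (nat_lit 98)]))) (.node (.leaf (.cyc (nat_lit 39) [(nat_lit 84), (nat_lit 95)])) (.leaf (.cyc (nat_lit 93) [(nat_lit 225), (nat_lit 9), (nat_lit 53), (nat_lit 6), (nat_lit 165), (nat_lit 152)]))))) (.node (.node (.node (.leaf .df) (.leaf (.cyc (nat_lit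 55) [(nat_lit 125), (nat_lit 143)]))) (.node (.leaf (.cyc (nat_lit 29) [(nat_lit 30), (nat_lit 3), (nat_lit 2), (nat_lit 60), (nat_lit 61), (nat_lit 56), (nat_lit 1), (nat_lit 3), (nat_lit 30)])) (.leaf (.cyc (nat_lit 72) [(nat_lit 208), (nat_lit 207), (nat_lit 38), (nat_lit 191), (nat_lit 139), (nat_lit 155), (nat_lit 139)])))) (.node (.node (.leaf (.cyc (nat_lit 5) [(nat_lit 5), (nat_lit 4)])) (.leaf (.cyc (nat_lit 73) [(nat_lit 25), (nat_lit 174), (nat_lit 68), (nat_lit 173), (nat_lit 163), (nat_lit 177), (nat_lit 49), (nat_lit 177)]))) (.node (.leaf (.cyc (nat_lit 45) [(nat_lit 80), (nat_lit 110)])) (.leaf .df))))) (.node (.node (.node (.node (.leaf .df) (.leaf (.cyc (nat_lit 32) [(nat_lit 17), (nat_lit 135)]))) (.node (.leaf (.cyc (nat_lit 26) [(nat_lit 20), (nat_lit 47), (nat_lit 22)])) (.leaf (.cyc (nat_lit 44) [(nat_lit 8), (nat_lit 48), (nat_lit 133), (nat_lit 134), (nat_lit 201)])))) (.node (.node (.leaf (.pin (nat_lit 1) [] []))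 (.leaf (.cyc (nat_lit 54) [(nat_lit 115), (nat_lit 169)]))) (.node (.leaf (.cyc (nat_lit 43) [(nat_lit 36), (nat_lit 49), (nat_lit 4), (nat_lit 2), (nat_lit 23)])) (.leaf (.cyc (nat_lit 96) [(nat_lit 40), (nat_lit 216), (nat_lit 195), (nat_lit 197), (nat_lit 69)]))))) (.node (.node (.node (.leaf .df) (.leaf (.cyc (nat_lit 57) [(nat_lit 63), (nat_lit 9), (nat_lit 53), (nat_lit 0), (nat_lit 42), (nat_lit 1), (nat_lit 14), (nat_lit 152)]))) (.node (.leaf (.cyc (nat_lit 34) [(nat_lit 30), (nat_lit 87)])) (.leaf (.cyc (nat_lit 87) [(nat_lit 146), (nat_lit 195), (nat_lit 216), (nat_lit 39)])))) (.node (.node (.leaf (.cyc (nat_lit 13) [(nat_lit 52), (nat_lit 54)])) (.leaf (.cyc (nat_lit 50) [(nat_lit 151), (nat_lit 184)]))) (.node (.leaf (.cyc (nat_lit 49) [(nat_lit 106), (nat_lit 120), (nat_lit 23), (nat_lit 116), (nat_lit 34)])) (.leaf .df)))))) (.node (.node (.node (.node (.node (.leaf .df) (.leaf (.cyc (nat_lit 55) [(nat_lit 79), (nat_lit 131)])))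 (.node (.leaf (.cyc (nat_lit 23) [(nat_lit 15), (nat_lit 1), (nat_lit 43), (nat_lit 4)])) (.leaf (.cyc (nat_lit 23) [(nat_lit 8), (nat_lit 46), (nat_lit 64), (nat_lit 154)])))) (.node (.node (.leaf .df) (.leaf (.cyc (nat_lit 66) [(nat_lit 49), (nat_lit 4), (nat_lit 44), (nat_lit 43), (nat_lit 44), (nat_lit 1), (nat_lit 14), (nat_lit 165)]))) (.node (.leaf (.cyc (nat_lit 41) [(nat_lit 27), (nat_lit 32), (nat_lit 100)])) (.leaf (.cyc (nat_lit 48) [(nat_lit 224), (nat_lit 225), (nat_lit 65), (nat_lit 36), (nat_lit 105), (nat_lit 62), (nat_lit 40)]))))) (.node (.node (.node (.leaf .df) (.leaf (.cyc (nat_lit 50) [(nat_lit 123), (nat_lit 143)]))) (.node (.leaf (.cyc (nat_lit 30) [(nat_lit 85), (nat_lit 6), (nat_lit 59), (nat_lit 45), (nat_lit 48)])) (.leaf (.cyc (nat_lit 85) [(nat_lit 130), (nat_lit 93), (nat_lit 96), (nat_lit 141), (nat_lit 210), (nat_lit 213)])))) (.node (.node (.leaf (.cyc (nat_lit 9) [(nat_lit 50), (nat_lit 52), (nat_lit 5),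 (nat_lit 0), (nat_lit 45), (nat_lit 53), (nat_lit 45), (nat_lit 46)])) (.leaf (.cyc (nat_lit 57) [(nat_lit 163), (nat_lit 177), (nat_lit 70), (nat_lit 144), (nat_lit 147), (nat_lit 136), (nat_lit 15), (nat_lit 12)]))) (.node (.leaf (.cyc (nat_lit 10) [(nat_lit 21), (nat_lit 112)])) (.leaf .df))))) (.node (.node (.node (.node (.leaf .df) (.leaf (.cyc (nat_lit 20) [(nat_lit 86), (nat_lit 141), (nat_lit 71), (nat_lit 14)]))) (.node (.leaf (.cyc (nat_lit 27) [(nat_lit 15), (nat_lit 55), (nat_lit 43), (nat_lit 44), (nat_lit 3), (nat_lit 26)])) (.leaf (.cyc (nat_lit 83) [(nat_lit 205), (nat_lit 146), (nat_lit 145), (nat_lit 105), (nat_lit 38)])))) (.node (.node (.leaf (.cyc (nat_lit 1) [(nat_lit 1), (nat_lit 0)])) (.leaf (.cyc (nat_lit 12) [(nat_lit 22), (nat_lit 169)]))) (.node (.leaf (.cyc (nat_lit 12) [(nat_lit 102), (nat_lit 107), (nat_lit 22)])) (.leaf (.cyc (nat_lit 99) [(nat_lit 231), (nat_lit 235), (nat_lit 236), (nat_lit 233), (nat_lit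 236), (nat_lit 233), (nat_lit 228), (nat_lit 220)]))))) (.node (.node (.node (.leaf .df) (.leaf (.cyc (nat_lit 59) [(nat_lit 157), (nat_lit 152), (nat_lit 154), (nat_lit 64), (nat_lit 58)]))) (.node (.leaf (.cyc (nat_lit 37) [(nat_lit 28), (nat_lit 92)])) (.leaf (.cyc (nat_lit 89) [(nat_lit 218), (nat_lit 188), (nat_lit 219), (nat_lit 39), (nat_lit 196), (nat_lit 36), (nat_lit 152), (nat_lit 14), (nat_lit 11)])))) (.node (.node (.leaf (.cyc (nat_lit 17) [(nat_lit 8), (nat_lit 7)])) (.leaf (.cyc (nat_lit 76) [(nat_lit 161), (nat_lit 179), (nat_lit 2), (nat_lit 0), (nat_lit 59), (nat_lit 7)]))) (.node (.leaf (.cyc (nat_lit 52) [(nat_lit 29), (nat_lit 116), (nat_lit 23), (nat_lit 124), (nat_lit 121)])) (.leaf .df))))))))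
noncomputable def c2P1 : BT Pf := (.node (.node (.node (.node (.node (.node (.node (.leaf .df) (.leaf (.cyc (nat_lit 40) [(nat_lit 96), (nat_lit 48), (nat_lit 6), (nat_lit 127)]))) (.node (.leaf (.cyc (nat_lit 19) [(nat_lit 9), (nat_lit 46), (nat_lit 56)])) (.leaf (.cyc (nat_lit 77) [(nat_lit 191), (nat_lit 138), (nat_lit 148), (nat_lit 150), (nat_lit 99), (nat_lit 29), (nat_lit 86)])))) (.node (.node (.leaf .df) (.leaf (.cyc (nat_lit 59) [(nat_lit 128), (nat_lit 139), (nat_lit 141), (nat_lit 86), (nat_lit 159)]))) (.node (.leaf (.cyc (nat_lit 34) [(nat_lit 89), (nat_lit 95)])) (.leaf (.cyc (nat_lit 92) [(nat_lit 63), (nat_lit 154), (nat_lit 152), (nat_lit 223)]))))) (.node (.node (.node (.leaf .df) (.leaf (.cyc (nat_lit 45) [(nat_lit 120), (nat_lit 143)]))) (.node (.leaf (.cyc (nat_lit 22) [(nat_lit 29), (nat_lit 28)])) (.leaf (.cyc (nat_lit 56) [(nat_lit 208), (nat_lit 207), (nat_lit 38), (nat_lit 105), (nat_lit 136)])))) (.node (.node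 (.leaf (.cyc (nat_lit 4) [(nat_lit 4), (nat_lit 43), (nat_lit 44), (nat_lit 43), (nat_lit 4)])) (.leaf (.cyc (nat_lit 72) [(nat_lit 49), (nat_lit 167), (nat_lit 175), (nat_lit 86), (nat_lit 29), (nat_lit 96), (nat_lit 94)]))) (.node (.leaf (.cyc (nat_lit 34) [(nat_lit 18), (nat_lit 109)])) (.leaf .df))))) (.node (.node (.node (.node (.leaf .df) (.leaf (.cyc (nat_lit 45) [(nat_lit 117), (nat_lit 135)]))) (.node (.leaf (.cyc (nat_lit 22) [(nat_lit 17), (nat_lit 16)])) (.leaf (.cyc (nat_lit 81) [(nat_lit 37), (nat_lit 6), (nat_lit 48), (nat_lit 170), (nat_lit 182), (nat_lit 170), (nat_lit 48), (nat_lit 7), (nat_lit 67)])))) (.node (.node (.leaf (.pin (nat_lit 0) [] [])) (.leaf (.cyc (nat_lit 69) [(nat_lit 115), (nat_lit 94), (nat_lit 166), (nat_lit 56), (nat_lit 64), (nat_lit 63), (nat_lit 153)]))) (.node (.leaf (.cyc (nat_lit 42) [(nat_lit 61), (nat_lit 4), (nat_lit 43), (nat_lit 44), (nat_lit 4), (nat_lit 58), (nat_lit 64), (nat_lit 65),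 (nat_lit 36)])) (.leaf (.cyc (nat_lit 81) [(nat_lit 229), (nat_lit 153), (nat_lit 134), (nat_lit 133), (nat_lit 141), (nat_lit 136), (nat_lit 105), (nat_lit 62), (nat_lit 40)]))))) (.node (.node (.node (.leaf .df) (.leaf (.cyc (nat_lit 56) [(nat_lit 12), (nat_lit 14), (nat_lit 152), (nat_lit 36), (nat_lit 65)]))) (.node (.leaf (.cyc (nat_lit 33) [(nat_lit 83), (nat_lit 87)])) (.leaf (.cyc (nat_lit 41) [(nat_lit 39), (nat_lit 216), (nat_lit 39)])))) (.node (.node (.leaf (.cyc (nat_lit 12) [(nat_lit 51), (nat_lit 54)])) (.leaf (.cyc (nat_lit 12) [(nat_lit 176), (nat_lit 184)]))) (.node (.leaf (.cyc (nat_lit 48) [(nat_lit 33), (nat_lit 72), (nat_lit 119), (nat_lit 105), (nat_lit 60), (nat_lit 113), (nat_lit 16)])) (.leaf .df)))))) (.node (.node (.node (.node (.node (.leaf .df) (.leaf (.cyc (nat_lit 45) [(nat_lit 26), (nat_lit 131)]))) (.node (.leaf (.cyc (nat_lit 17) [(nat_lit 15), (nat_lit 14)])) (.leaf (.cyc (nat_lit 6) [(nat_lit 168), (nat_lit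 193), (nat_lit 85), (nat_lit 165)])))) (.node (.node (.leaf .df) (.leaf (.cyc (nat_lit 65) [(nat_lit 157), (nat_lit 159), (nat_lit 160), (nat_lit 130), (nat_lit 127), (nat_lit 162), (nat_lit 127)]))) (.node (.leaf (.cyc (nat_lit 5) [(nat_lit 32), (nat_lit 72)])) (.leaf (.cyc (nat_lit 28) [(nat_lit 171), (nat_lit 134), (nat_lit 67), (nat_lit 62), (nat_lit 40)]))))) (.node (.node (.node (.leaf .df) (.leaf (.cyc (nat_lit 12) [(nat_lit 75), (nat_lit 143)]))) (.node (.leaf (.cyc (nat_lit 31) [(nat_lit 84), (nat_lit 31), (nat_lit 3), (nat_lit 0), (nat_lit 6)])) (.leaf (.cyc (nat_lit 63) [(nat_lit 38), (nat_lit 192), (nat_lit 158), (nat_lit 70), (nat_lit 210)])))) (.node (.node (.leaf (.cyc (nat_lit 8) [(nat_lit 51), (nat_lit 5), (nat_lit 41), (nat_lit 5), (nat_lit 51)])) (.leaf (.cyc (nat_lit 13) [(nat_lit 24), (nat_lit 180)]))) (.node (.leaf (.cyc (nat_lit 45) [(nat_lit 76), (nat_lit 112)])) (.leaf .df))))) (.node (.node (.node (.node (.leaf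 .df) (.leaf (.cyc (nat_lit 11) [(nat_lit 72), (nat_lit 135)]))) (.node (.leaf (.cyc (nat_lit 24) [(nat_lit 25), (nat_lit 24)])) (.leaf (.cyc (nat_lit 27) [(nat_lit 69), (nat_lit 140), (nat_lit 174), (nat_lit 163), (nat_lit 37), (nat_lit 204)])))) (.node (.node (.leaf (.cyc (nat_lit 0) [(nat_lit 0), (nat_lit 43), (nat_lit 0)])) (.leaf (.cyc (nat_lit 39) [(nat_lit 149), (nat_lit 169)]))) (.node (.leaf (.cyc (nat_lit 34) [(nat_lit 19), (nat_lit 107), (nat_lit 18)])) (.leaf (.cyc (nat_lit 98) [(nat_lit 221), (nat_lit 219), (nat_lit 188), (nat_lit 147), (nat_lit 200), (nat_lit 202), (nat_lit 235)]))))) (.node (.node (.node (.leaf .df) (.leaf (.cyc (nat_lit 25) [(nat_lit 11), (nat_lit 57), (nat_lit 7), (nat_lit 105), (nat_lit 152)]))) (.node (.leaf (.cyc (nat_lit 32) [(nat_lit 81), (nat_lit 92)])) (.leaf (.cyc (nat_lit 1) [(nat_lit 39), (nat_lit 215)])))) (.node (.node (.leaf (.cyc (nat_lit 16) [(nat_lit 60), (nat_lit 2), (nat_lit 42), (nat_lit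 41), (nat_lit 43), (nat_lit 44), (nat_lit 4)])) (.leaf (.cyc (nat_lit 41) [(nat_lit 145), (nat_lit 183), (nat_lit 145)]))) (.node (.leaf (.cyc (nat_lit 51) [(nat_lit 14), (nat_lit 57), (nat_lit 7), (nat_lit 105), (nat_lit 120)])) (.leaf .df))))))) (.node (.node (.node (.node (.node (.node (.leaf .df) (.leaf (.cyc (nat_lit 19) [(nat_lit 26), (nat_lit 99), (nat_lit 129), (nat_lit 126)]))) (.node (.leaf (.cyc (nat_lit 21) [(nat_lit 64), (nat_lit 58), (nat_lit 56), (nat_lit 1), (nat_lit 3), (nat_lit 48), (nat_lit 7)])) (.leaf (.cyc (nat_lit 79) [(nat_lit 104), (nat_lit 194)])))) (.node (.node (.leaf .df) (.leaf (.cyc (nat_lit 63) [(nat_lit 68), (nat_lit 150), (nat_lit 86), (nat_lit 159), (nat_lit 161)]))) (.node (.leaf (.cyc (nat_lit 12) [(nat_lit 91), (nat_lit 95)])) (.leaf (.cyc (nat_lit 29) [(nat_lit 62), (nat_lit 105), (nat_lit 36), (nat_lit 196), (nat_lit 39), (nat_lit 225), (nat_lit 65), (nat_lit 36), (nat_lit 226)]))))) (.node (.node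 (.node (.leaf .df) (.leaf (.cyc (nat_lit 33) [(nat_lit 106), (nat_lit 143)]))) (.node (.leaf (.cyc (nat_lit 17) [(nat_lit 31), (nat_lit 30)])) (.leaf (.cyc (nat_lit 35) [(nat_lit 191), (nat_lit 210)])))) (.node (.node (.leaf (.cyc (nat_lit 6) [(nat_lit 5), (nat_lit 44), (nat_lit 42), (nat_lit 0)])) (.leaf (.cyc (nat_lit 50) [(nat_lit 25), (nat_lit 178)]))) (.node (.leaf (.cyc (nat_lit 45) [(nat_lit 74), (nat_lit 111)])) (.leaf .df))))) (.node (.node (.node (.node (.leaf .df) (.leaf (.cyc (nat_lit 37) [(nat_lit 73), (nat_lit 135)]))) (.node (.leaf (.cyc (nat_lit 18) [(nat_lit 23), (nat_lit 22)])) (.leaf (.cyc (nat_lit 23) [(nat_lit 201), (nat_lit 65), (nat_lit 158), (nat_lit 157)])))) (.node (.node (.leaf (.pin (nat_lit 2) [] [])) (.leaf (.cyc (nat_lit 45) [(nat_lit 132), (nat_lit 169)]))) (.node (.leaf (.cyc (nat_lit 44) [(nat_lit 23), (nat_lit 106), (nat_lit 36), (nat_lit 61), (nat_lit 60), (nat_lit 19)])) (.leaf (.cyc (nat_lit 97) [(nat_lit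 40), (nat_lit 62), (nat_lit 211), (nat_lit 213), (nat_lit 208), (nat_lit 201), (nat_lit 202)]))))) (.node (.node (.node (.leaf .df) (.leaf (.cyc (nat_lit 58) [(nat_lit 139), (nat_lit 69), (nat_lit 152), (nat_lit 147), (nat_lit 13), (nat_lit 15), (nat_lit 138), (nat_lit 113), (nat_lit 16)]))) (.node (.leaf (.cyc (nat_lit 35) [(nat_lit 84), (nat_lit 86)])) (.leaf (.cyc (nat_lit 56) [(nat_lit 93), (nat_lit 166), (nat_lit 49), (nat_lit 196), (nat_lit 39)])))) (.node (.node (.leaf (.cyc (nat_lit 14) [(nat_lit 53), (nat_lit 45), (nat_lit 53), (nat_lit 45)])) (.leaf (.cyc (nat_lit 13) [(nat_lit 33), (nat_lit 184)]))) (.node (.leaf (.cyc (nat_lit 50) [(nat_lit 34), (nat_lit 122)])) (.leaf .df)))))) (.node (.node (.node (.node (.node (.leaf .df) (.leaf (.cyc (nat_lit 37) [(nat_lit 78), (nat_lit 131), (nat_lit 73)]))) (.node (.leaf (.cyc (nat_lit 24) [(nat_lit 70), (nat_lit 58)])) (.leaf (.cyc (nat_lit 3) [(nat_lit 128), (nat_lit 130), (nat_lit 85),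 (nat_lit 37)])))) (.node (.node (.leaf .df) (.leaf (.cyc (nat_lit 67) [(nat_lit 85), (nat_lit 166)]))) (.node (.leaf (.cyc (nat_lit 24) [(nat_lit 34), (nat_lit 33)])) (.leaf (.cyc (nat_lit 95) [(nat_lit 227), (nat_lit 218), (nat_lit 13), (nat_lit 64), (nat_lit 67), (nat_lit 62), (nat_lit 40)]))))) (.node (.node (.node (.leaf .df) (.leaf (.cyc (nat_lit 13) [(nat_lit 124), (nat_lit 143)]))) (.node (.leaf (.cyc (nat_lit 31) [(nat_lit 30), (nat_lit 86), (nat_lit 85), (nat_lit 6), (nat_lit 46), (nat_lit 11)])) (.leaf (.cyc (nat_lit 64) [(nat_lit 8), (nat_lit 0), (nat_lit 42), (nat_lit 41), (nat_lit 55), (nat_lit 71), (nat_lit 210), (nat_lit 213)])))) (.node (.node (.leaf (.cyc (nat_lit 10) [(nat_lit 5), (nat_lit 54)])) (.leaf (.cyc (nat_lit 52) [(nat_lit 13), (nat_lit 56), (nat_lit 177), (nat_lit 163), (nat_lit 173)]))) (.node (.leaf (.cyc (nat_lit 46) [(nat_lit 118), (nat_lit 47), (nat_lit 2), (nat_lit 42), (nat_lit 41), (nat_lit 42), (nat_lit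 2), (nat_lit 60), (nat_lit 105)])) (.leaf .df))))) (.node (.node (.node (.node (.leaf .df) (.leaf (.cyc (nat_lit 7) [(nat_lit 123), (nat_lit 141), (nat_lit 70), (nat_lit 56), (nat_lit 13)]))) (.node (.leaf (.cyc (nat_lit 28) [(nat_lit 26), (nat_lit 48), (nat_lit 59), (nat_lit 7), (nat_lit 67)])) (.leaf (.cyc (nat_lit 84) [(nat_lit 64), (nat_lit 58), (nat_lit 49), (nat_lit 166), (nat_lit 161), (nat_lit 192), (nat_lit 38)])))) (.node (.node (.leaf (.cyc (nat_lit 2) [(nat_lit 2), (nat_lit 41), (nat_lit 42), (nat_lit 41), (nat_lit 2)])) (.leaf (.cyc (nat_lit 70) [(nat_lit 167), (nat_lit 49), (nat_lit 166), (nat_lit 93), (nat_lit 97), (nat_lit 88), (nat_lit 90), (nat_lit 94), (nat_lit 85)]))) (.node (.leaf (.cyc (nat_lit 11) [(nat_lit 32), (nat_lit 108), (nat_lit 20)])) (.leaf .df)))) (.node (.node (.node (.leaf .df) (.leaf (.cyc (nat_lit 60) [(nat_lit 157), (nat_lit 142), (nat_lit 10), (nat_lit 11), (nat_lit 97), (nat_lit 29), (nat_lit 86)])))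 (.node (.leaf (.cyc (nat_lit 38) [(nat_lit 29), (nat_lit 31), (nat_lit 84), (nat_lit 85), (nat_lit 94), (nat_lit 31)])) (.leaf (.cyc (nat_lit 90) [(nat_lit 217), (nat_lit 39), (nat_lit 196), (nat_lit 36), (nat_lit 136), (nat_lit 141), (nat_lit 86), (nat_lit 159), (nat_lit 157)])))) (.node (.node (.leaf (.cyc (nat_lit 8) [(nat_lit 9), (nat_lit 45), (nat_lit 59), (nat_lit 45), (nat_lit 9)])) (.leaf (.cyc (nat_lit 6) [(nat_lit 140), (nat_lit 179), (nat_lit 166), (nat_lit 61)]))) (.node (.leaf (.cyc (nat_lit 52) [(nat_lit 93), (nat_lit 126), (nat_lit 121), (nat_lit 33), (nat_lit 99)])) (.leaf .df))))))))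
noncomputable def c2P : BT Pf := .node c2P0 c2P1
noncomputable def c2R : BT (List ℕ × ℕ × ℕ) := (.node (.node (.node (.node (.node (.node (.node (.leaf ([(nat_lit 41), (nat_lit 5), (nat_lit 48), (nat_lit 4)], (nat_lit 6), (nat_lit 3))) (.leaf ([(nat_lit 5), (nat_lit 36), (nat_lit 5), (nat_lit 36), (nat_lit 32), (nat_lit 41), (nat_lit 52), (nat_lit 48), (nat_lit 53)], (nat_lit 22), (nat_lit 0)))) (.node (.leaf ([(nat_lit 32), (nat_lit 33)], (nat_lit 1000), (nat_lit 0))) (.leaf ([(nat_lit 20), (nat_lit 33), (nat_lit 41), (nat_lit 20), (nat_lit 49), (nat_lit 36)], (nat_lit 15), (nat_lit 2))))) (.node (.node (.leaf ([(nat_lit 4), (nat_lit 21), (nat_lit 21), (nat_lit 36), (nat_lit 32), (nat_lit 49), (nat_lit 53), (nat_lit 40)], (nat_lit 17), (nat_lit 0))) (.leaf ([(nat_lit 33), (nat_lit 37), (nat_lit 21), (nat_lit 21), (nat_lit 36), (nat_lit 20), (nat_lit 20), (nat_lit 4), (nat_lit 21), (nat_lit 21)], (nat_lit 24), (nat_lit 0)))) (.node (.leaf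 ([(nat_lit 49), (nat_lit 53), (nat_lit 40), (nat_lit 4), (nat_lit 21), (nat_lit 21), (nat_lit 36), (nat_lit 32)], (nat_lit 17), (nat_lit 5))) (.leaf ([], (nat_lit 1000), (nat_lit 0)))))) (.node (.node (.node (.leaf ([(nat_lit 53), (nat_lit 48), (nat_lit 40), (nat_lit 32), (nat_lit 41), (nat_lit 49)], (nat_lit 11), (nat_lit 3))) (.leaf ([(nat_lit 48), (nat_lit 33), (nat_lit 36), (nat_lit 32), (nat_lit 48), (nat_lit 33), (nat_lit 36), (nat_lit 32)], (nat_lit 20), (nat_lit 0)))) (.node (.leaf ([(nat_lit 5), (nat_lit 36), (nat_lit 21), (nat_lit 21), (nat_lit 41)], (nat_lit 7), (nat_lit 0))) (.leaf ([], (nat_lit 1000), (nat_lit 0))))) (.node (.node (.leaf ([(nat_lit 52), (nat_lit 52), (nat_lit 52)], (nat_lit 5), (nat_lit 2))) (.leaf ([(nat_lit 41), (nat_lit 49), (nat_lit 53), (nat_lit 40), (nat_lit 52), (nat_lit 48), (nat_lit 4), (nat_lit 21), (nat_lit 21), (nat_lit 5)], (nat_lit 25), (nat_lit 2)))) (.node (.leaf ([(nat_lit 21), (nat_lit 33),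 (nat_lit 36), (nat_lit 32), (nat_lit 20), (nat_lit 5)], (nat_lit 10), (nat_lit 1))) (.leaf ([], (nat_lit 1000), (nat_lit 0))))))) (.node (.node (.node (.node (.leaf ([(nat_lit 32), (nat_lit 41), (nat_lit 49), (nat_lit 53), (nat_lit 48), (nat_lit 40)], (nat_lit 11), (nat_lit 0))) (.leaf ([(nat_lit 41), (nat_lit 5), (nat_lit 36), (nat_lit 21), (nat_lit 21)], (nat_lit 7), (nat_lit 4)))) (.node (.leaf ([(nat_lit 37), (nat_lit 48), (nat_lit 36), (nat_lit 33), (nat_lit 37), (nat_lit 32)], (nat_lit 12), (nat_lit 1))) (.leaf ([], (nat_lit 1000), (nat_lit 0))))) (.node (.node (.leaf ([(nat_lit 4), (nat_lit 48), (nat_lit 40), (nat_lit 53), (nat_lit 36)], (nat_lit 8), (nat_lit 0))) (.leaf ([(nat_lit 37), (nat_lit 49), (nat_lit 53), (nat_lit 33), (nat_lit 37), (nat_lit 49), (nat_lit 53), (nat_lit 33)], (nat_lit 21), (nat_lit 4)))) (.node (.leaf ([(nat_lit 40), (nat_lit 32), (nat_lit 41), (nat_lit 49), (nat_lit 53), (nat_lit 48)], (nat_lit 11), (nat_lit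 5))) (.leaf ([], (nat_lit 1000), (nat_lit 0)))))) (.node (.node (.node (.leaf ([(nat_lit 49), (nat_lit 48)], (nat_lit 1000), (nat_lit 0))) (.leaf ([(nat_lit 40), (nat_lit 48), (nat_lit 52), (nat_lit 21), (nat_lit 4), (nat_lit 32), (nat_lit 36)], (nat_lit 16), (nat_lit 3)))) (.node (.leaf ([(nat_lit 49), (nat_lit 36), (nat_lit 20), (nat_lit 4), (nat_lit 21), (nat_lit 37)], (nat_lit 14), (nat_lit 0))) (.leaf ([], (nat_lit 1000), (nat_lit 0))))) (.node (.node (.leaf ([(nat_lit 20), (nat_lit 5), (nat_lit 21), (nat_lit 33), (nat_lit 36), (nat_lit 32)], (nat_lit 10), (nat_lit 5))) (.leaf ([(nat_lit 40), (nat_lit 52), (nat_lit 40), (nat_lit 33), (nat_lit 52)], (nat_lit 9), (nat_lit 1)))) (.node (.leaf ([(nat_lit 53), (nat_lit 40), (nat_lit 4), (nat_lit 21), (nat_lit 21), (nat_lit 36), (nat_lit 32), (nat_lit 49)], (nat_lit 17), (nat_lit 6))) (.leaf ([], (nat_lit 1000), (nat_lit 0)))))))) (.node (.node (.node (.node (.node (.leaf ([(nat_lit 5), (nat_lit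 21), (nat_lit 33), (nat_lit 36), (nat_lit 32), (nat_lit 20)], (nat_lit 10), (nat_lit 0))) (.leaf ([(nat_lit 36), (nat_lit 32), (nat_lit 41), (nat_lit 52), (nat_lit 48), (nat_lit 53), (nat_lit 5), (nat_lit 36), (nat_lit 5)], (nat_lit 22), (nat_lit 3)))) (.node (.leaf ([(nat_lit 37), (nat_lit 36)], (nat_lit 1000), (nat_lit 0))) (.leaf ([(nat_lit 40), (nat_lit 4), (nat_lit 21), (nat_lit 21), (nat_lit 36), (nat_lit 32), (nat_lit 49), (nat_lit 53)], (nat_lit 17), (nat_lit 7))))) (.node (.node (.leaf ([(nat_lit 48), (nat_lit 48), (nat_lit 48)], (nat_lit 4), (nat_lit 2))) (.leaf ([(nat_lit 4), (nat_lit 21), (nat_lit 21), (nat_lit 33), (nat_lit 37), (nat_lit 21), (nat_lit 21), (nat_lit 36), (nat_lit 20), (nat_lit 20)], (nat_lit 24), (nat_lit 7)))) (.node (.leaf ([(nat_lit 52), (nat_lit 53)], (nat_lit 1000), (nat_lit 0))) (.leaf ([], (nat_lit 1000), (nat_lit 0)))))) (.node (.node (.node (.leaf ([(nat_lit 40), (nat_lit 41)], (nat_lit 1000), (nat_lit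 0))) (.leaf ([(nat_lit 32), (nat_lit 52), (nat_lit 49), (nat_lit 53), (nat_lit 48), (nat_lit 53)], (nat_lit 13), (nat_lit 2)))) (.node (.leaf ([(nat_lit 21), (nat_lit 5), (nat_lit 41), (nat_lit 49), (nat_lit 53), (nat_lit 40), (nat_lit 52), (nat_lit 48), (nat_lit 4), (nat_lit 21)], (nat_lit 25), (nat_lit 0))) (.leaf ([], (nat_lit 1000), (nat_lit 0))))) (.node (.node (.leaf ([(nat_lit 4), (nat_lit 41), (nat_lit 5), (nat_lit 48)], (nat_lit 6), (nat_lit 2))) (.leaf ([(nat_lit 52), (nat_lit 48), (nat_lit 4), (nat_lit 21), (nat_lit 21), (nat_lit 5), (nat_lit 41), (nat_lit 49), (nat_lit 53), (nat_lit 40)], (nat_lit 25), (nat_lit 6)))) (.node (.leaf ([(nat_lit 37), (nat_lit 32), (nat_lit 37), (nat_lit 32), (nat_lit 37), (nat_lit 32), (nat_lit 37), (nat_lit 32), (nat_lit 37), (nat_lit 32)], (nat_lit 26), (nat_lit 8))) (.leaf ([], (nat_lit 1000), (nat_lit 0))))))) (.node (.node (.node (.node (.leaf ([(nat_lit 48), (nat_lit 40), (nat_lit 53), (nat_lit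 36), (nat_lit 4)], (nat_lit 8), (nat_lit 1))) (.leaf ([(nat_lit 32), (nat_lit 37), (nat_lit 32), (nat_lit 37), (nat_lit 32), (nat_lit 37), (nat_lit 32), (nat_lit 37), (nat_lit 32), (nat_lit 37)], (nat_lit 26), (nat_lit 7)))) (.node (.leaf ([(nat_lit 32), (nat_lit 37), (nat_lit 48), (nat_lit 36), (nat_lit 33), (nat_lit 37)], (nat_lit 12), (nat_lit 0))) (.leaf ([], (nat_lit 1000), (nat_lit 0))))) (.node (.node (.leaf ([(nat_lit 32), (nat_lit 32), (nat_lit 32)], (nat_lit 1), (nat_lit 2))) (.leaf ([(nat_lit 40), (nat_lit 4), (nat_lit 21), (nat_lit 36), (nat_lit 32), (nat_lit 37), (nat_lit 20), (nat_lit 20), (nat_lit 20), (nat_lit 5)], (nat_lit 23), (nat_lit 9)))) (.node (.leaf ([(nat_lit 4), (nat_lit 5)], (nat_lit 1000), (nat_lit 0))) (.leaf ([], (nat_lit 1000), (nat_lit 0)))))) (.node (.node (.node (.leaf ([(nat_lit 33), (nat_lit 52), (nat_lit 40), (nat_lit 52), (nat_lit 40)], (nat_lit 9), (nat_lit 4))) (.leaf ([(nat_lit 20), (nat_lit 4), (nat_lit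 21), (nat_lit 37), (nat_lit 49), (nat_lit 36)], (nat_lit 14), (nat_lit 2)))) (.node (.leaf ([(nat_lit 5), (nat_lit 40), (nat_lit 4), (nat_lit 21), (nat_lit 36), (nat_lit 32), (nat_lit 37), (nat_lit 20), (nat_lit 20), (nat_lit 20)], (nat_lit 23), (nat_lit 8))) (.leaf ([], (nat_lit 1000), (nat_lit 0))))) (.node (.node (.leaf ([(nat_lit 49), (nat_lit 36), (nat_lit 20), (nat_lit 33), (nat_lit 41), (nat_lit 20)], (nat_lit 15), (nat_lit 0))) (.leaf ([(nat_lit 32), (nat_lit 32), (nat_lit 32)], (nat_lit 1), (nat_lit 1)))) (.node (.leaf ([(nat_lit 53), (nat_lit 48), (nat_lit 53), (nat_lit 32), (nat_lit 52), (nat_lit 49)], (nat_lit 13), (nat_lit 5))) (.leaf ([], (nat_lit 1000), (nat_lit 0))))))))) (.node (.node (.node (.node (.node (.node (.leaf ([(nat_lit 4), (nat_lit 4), (nat_lit 4)], (nat_lit 0), (nat_lit 2))) (.leaf ([(nat_lit 4), (nat_lit 41), (nat_lit 52), (nat_lit 40), (nat_lit 4), (nat_lit 41), (nat_lit 52), (nat_lit 40)], (nat_lit 18), (nat_lit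 0)))) (.node (.leaf ([(nat_lit 36), (nat_lit 37)], (nat_lit 1000), (nat_lit 0))) (.leaf ([(nat_lit 53), (nat_lit 33), (nat_lit 37), (nat_lit 49), (nat_lit 53), (nat_lit 33), (nat_lit 37), (nat_lit 49)], (nat_lit 21), (nat_lit 2))))) (.node (.node (.leaf ([(nat_lit 36), (nat_lit 36), (nat_lit 36)], (nat_lit 2), (nat_lit 2))) (.leaf ([(nat_lit 37), (nat_lit 20), (nat_lit 20), (nat_lit 20), (nat_lit 5), (nat_lit 40), (nat_lit 4), (nat_lit 21), (nat_lit 36), (nat_lit 32)], (nat_lit 23), (nat_lit 4)))) (.node (.leaf ([(nat_lit 36), (nat_lit 4), (nat_lit 48), (nat_lit 40), (nat_lit 53)], (nat_lit 8), (nat_lit 4))) (.leaf ([], (nat_lit 1000), (nat_lit 0)))))) (.node (.node (.node (.leaf ([(nat_lit 41), (nat_lit 52), (nat_lit 40), (nat_lit 4), (nat_lit 41), (nat_lit 52), (nat_lit 40), (nat_lit 4)], (nat_lit 18), (nat_lit 1))) (.leaf ([(nat_lit 52), (nat_lit 48), (nat_lit 32), (nat_lit 49), (nat_lit 52), (nat_lit 48), (nat_lit 32), (nat_lit 49)],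 (nat_lit 19), (nat_lit 6)))) (.node (.leaf ([(nat_lit 48), (nat_lit 4), (nat_lit 41), (nat_lit 5)], (nat_lit 6), (nat_lit 1))) (.leaf ([], (nat_lit 1000), (nat_lit 0))))) (.node (.node (.leaf ([(nat_lit 41), (nat_lit 20), (nat_lit 49), (nat_lit 36), (nat_lit 20), (nat_lit 33)], (nat_lit 15), (nat_lit 4))) (.leaf ([(nat_lit 21), (nat_lit 36), (nat_lit 20), (nat_lit 20), (nat_lit 4), (nat_lit 21), (nat_lit 21), (nat_lit 33), (nat_lit 37), (nat_lit 21)], (nat_lit 24), (nat_lit 3)))) (.node (.leaf ([(nat_lit 41), (nat_lit 52), (nat_lit 48), (nat_lit 53), (nat_lit 5), (nat_lit 36), (nat_lit 5), (nat_lit 36), (nat_lit 32)], (nat_lit 22), (nat_lit 5))) (.leaf ([], (nat_lit 1000), (nat_lit 0))))))) (.node (.node (.node (.node (.leaf ([(nat_lit 40), (nat_lit 40), (nat_lit 40)], (nat_lit 3), (nat_lit 2))) (.leaf ([(nat_lit 4), (nat_lit 32), (nat_lit 36), (nat_lit 40), (nat_lit 48), (nat_lit 52), (nat_lit 21)], (nat_lit 16), (nat_lit 0)))) (.node (.leaf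 ([(nat_lit 33), (nat_lit 32)], (nat_lit 1000), (nat_lit 0))) (.leaf ([], (nat_lit 1000), (nat_lit 0))))) (.node (.node (.leaf ([(nat_lit 32), (nat_lit 49), (nat_lit 53), (nat_lit 40), (nat_lit 4), (nat_lit 21), (nat_lit 21), (nat_lit 36)], (nat_lit 17), (nat_lit 4))) (.leaf ([(nat_lit 21), (nat_lit 4), (nat_lit 32), (nat_lit 36), (nat_lit 40), (nat_lit 48), (nat_lit 52)], (nat_lit 16), (nat_lit 6)))) (.node (.leaf ([(nat_lit 40), (nat_lit 40), (nat_lit 40)], (nat_lit 3), (nat_lit 1))) (.leaf ([], (nat_lit 1000), (nat_lit 0)))))) (.node (.node (.node (.leaf ([(nat_lit 53), (nat_lit 52)], (nat_lit 1000), (nat_lit 0))) (.leaf ([(nat_lit 52), (nat_lit 48), (nat_lit 32), (nat_lit 49), (nat_lit 52), (nat_lit 48), (nat_lit 32), (nat_lit 49)], (nat_lit 19), (nat_lit 2)))) (.node (.leaf ([(nat_lit 5), (nat_lit 4)], (nat_lit 1000), (nat_lit 0))) (.leaf ([], (nat_lit 1000), (nat_lit 0))))) (.node (.node (.leaf ([(nat_lit 32), (nat_lit 37), (nat_lit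 20), (nat_lit 20), (nat_lit 20), (nat_lit 5), (nat_lit 40), (nat_lit 4), (nat_lit 21), (nat_lit 36)], (nat_lit 23), (nat_lit 3))) (.leaf ([(nat_lit 36), (nat_lit 40), (nat_lit 48), (nat_lit 52), (nat_lit 21), (nat_lit 4), (nat_lit 32)], (nat_lit 16), (nat_lit 2)))) (.node (.leaf ([(nat_lit 40), (nat_lit 53), (nat_lit 36), (nat_lit 4), (nat_lit 48)], (nat_lit 8), (nat_lit 2))) (.leaf ([], (nat_lit 1000), (nat_lit 0)))))))) (.node (.node (.node (.node (.node (.leaf ([(nat_lit 21), (nat_lit 41), (nat_lit 5), (nat_lit 36), (nat_lit 21)], (nat_lit 7), (nat_lit 3))) (.leaf ([(nat_lit 36), (nat_lit 36), (nat_lit 36)], (nat_lit 2), (nat_lit 1)))) (.node (.leaf ([(nat_lit 48), (nat_lit 48), (nat_lit 48)], (nat_lit 4), (nat_lit 1))) (.leaf ([(nat_lit 52), (nat_lit 48), (nat_lit 53), (nat_lit 5), (nat_lit 36), (nat_lit 5), (nat_lit 36), (nat_lit 32), (nat_lit 41)], (nat_lit 22), (nat_lit 6))))) (.node (.node (.leaf ([(nat_lit 5), (nat_lit 48), (nat_lit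 4), (nat_lit 41)], (nat_lit 6), (nat_lit 0))) (.leaf ([(nat_lit 36), (nat_lit 32), (nat_lit 20), (nat_lit 5), (nat_lit 21), (nat_lit 33)], (nat_lit 10), (nat_lit 3)))) (.node (.leaf ([(nat_lit 21), (nat_lit 37), (nat_lit 49), (nat_lit 36), (nat_lit 20), (nat_lit 4)], (nat_lit 14), (nat_lit 4))) (.leaf ([], (nat_lit 1000), (nat_lit 0)))))) (.node (.node (.node (.leaf ([(nat_lit 41), (nat_lit 40)], (nat_lit 1000), (nat_lit 0))) (.leaf ([(nat_lit 21), (nat_lit 21), (nat_lit 36), (nat_lit 32), (nat_lit 49), (nat_lit 53), (nat_lit 40), (nat_lit 4)], (nat_lit 17), (nat_lit 1)))) (.node (.leaf ([(nat_lit 36), (nat_lit 20), (nat_lit 33), (nat_lit 41), (nat_lit 20), (nat_lit 49)], (nat_lit 15), (nat_lit 1))) (.leaf ([], (nat_lit 1000), (nat_lit 0))))) (.node (.node (.leaf ([(nat_lit 32), (nat_lit 36), (nat_lit 40), (nat_lit 48), (nat_lit 52), (nat_lit 21), (nat_lit 4)], (nat_lit 16), (nat_lit 1))) (.leaf ([(nat_lit 52), (nat_lit 52), (nat_lit 52)],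 (nat_lit 5), (nat_lit 1)))) (.node (.leaf ([(nat_lit 48), (nat_lit 40), (nat_lit 32), (nat_lit 41), (nat_lit 49), (nat_lit 53)], (nat_lit 11), (nat_lit 4))) (.leaf ([], (nat_lit 1000), (nat_lit 0))))))) (.node (.node (.node (.node (.leaf ([(nat_lit 52), (nat_lit 40), (nat_lit 52), (nat_lit 40), (nat_lit 33)], (nat_lit 9), (nat_lit 0))) (.leaf ([(nat_lit 48), (nat_lit 52), (nat_lit 21), (nat_lit 4), (nat_lit 32), (nat_lit 36), (nat_lit 40)], (nat_lit 16), (nat_lit 4)))) (.node (.leaf ([(nat_lit 48), (nat_lit 49)], (nat_lit 1000), (nat_lit 0))) (.leaf ([], (nat_lit 1000), (nat_lit 0))))) (.node (.node (.leaf ([(nat_lit 53), (nat_lit 36), (nat_lit 4), (nat_lit 48), (nat_lit 40)], (nat_lit 8), (nat_lit 3))) (.leaf ([(nat_lit 36), (nat_lit 21), (nat_lit 21), (nat_lit 41), (nat_lit 5)], (nat_lit 7), (nat_lit 1)))) (.node (.leaf ([(nat_lit 21), (nat_lit 20)], (nat_lit 1000), (nat_lit 0))) (.leaf ([], (nat_lit 1000), (nat_lit 0)))))) (.node (.node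 (.node (.leaf ([(nat_lit 21), (nat_lit 21), (nat_lit 41), (nat_lit 5), (nat_lit 36)], (nat_lit 7), (nat_lit 2))) (.leaf ([(nat_lit 20), (nat_lit 21)], (nat_lit 1000), (nat_lit 0)))) (.node (.leaf ([(nat_lit 4), (nat_lit 4), (nat_lit 4)], (nat_lit 0), (nat_lit 1))) (.leaf ([], (nat_lit 1000), (nat_lit 0))))) (.node (.node (.leaf ([(nat_lit 37), (nat_lit 49), (nat_lit 36), (nat_lit 20), (nat_lit 4), (nat_lit 21)], (nat_lit 14), (nat_lit 5))) (.leaf ([(nat_lit 48), (nat_lit 33), (nat_lit 36), (nat_lit 32), (nat_lit 48), (nat_lit 33), (nat_lit 36), (nat_lit 32)], (nat_lit 20), (nat_lit 4)))) (.node (.leaf ([(nat_lit 53), (nat_lit 32), (nat_lit 52), (nat_lit 49), (nat_lit 53), (nat_lit 48)], (nat_lit 13), (nat_lit 1))) (.leaf ([], (nat_lit 1000), (nat_lit 0))))))))))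
noncomputable def c2Tt : BT Nat := (.leaf (nat_lit 0xee12eb08e613e708e813ed14e916e9162808e415ea0fe50cec16ec1629df0ee013d915d915dc12e109e212da0de416e308db11de0bdd14270828d514d514d20fd307ed16d413cf09ce13d0092607d60ad10fd708dd1527e015cb0eca08e616d414e816ce14c909c812cd0ec7102506cc13cc1326c608ee16bd12bd129a09dc15930de215980ec81369072405880f910d25a211a2116304620a7e107f06610b60045d061d04bc0ddb15811181111ebb04ba0db910b91080067e119b109b1010038b0f8609c7138504ab0c1147024605bf07d2148d048c03450e0f028b108a03d114ea16900d881210cb13df15c50ec50e9d0ba8070e02450fcd139812c308920da5068e0a0fba109604ad0c9403b70db70dda159312440c0d02920ebc119112900f0eb503a306ae03ad0db60cb60cac0cac0c0c02440de5169909ab10aa040dc0079f0a9e05a106be079d0e5a046111580b580bde150b02a40ba40b0c9f0bc10762115604a00aa00aa7055506af0aaf0a0a02d6148e0e82060b3f093f0940020901e1159a12c913cf144307d014990c8610420741050aeb16c612e716ca13d808d8083e070801e3152816c405c30e2715d71409c10ac00bd314bf0fa80ebe0b07013e08261443093c0369123d05420908a30cb303a10bb1057f118010550aa6055e045d1125130601820aa50e07460f3a02b1069e0b04003802a606a70a310531052412c40841093d0705960dbb10560a631174038d0f60115a0b1d115e0630010300aa0c851004b306b50c940dae0c8c0f7404710371038a0f101002003c072f032f03033a05470f39014009380537000f0f0e0e0d0d0c0c0b0b0a0a2e0101000235013501090939022d012d01080807073b013b010606300400002e02012c002c002b002b00370204052a002a0029002900030402030102000100))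
noncomputable def c2T (p : Nat) : Nat := row c2Tt (nat_lit 5) (nat_lit 31) (nat_lit 232) (nat_lit 6901746346790563787434755862277025452451108972170386555162524223799295) p
noncomputable def c2C : Cert := ⟨(nat_lit 239), c2F, c2P, c2R, (nat_lit 23), [4, 5, 20, 21, 32, 33, 36, 37, 40, 41, 48, 49, 52, 53], fun c => Nat.land (c2T c) (nat_lit 255),
  fun k c => fld (c2T c) (Nat.add (nat_lit 8) (Nat.mul (nat_lit 16) k)) (nat_lit 255), fun k c => fld (c2T c) (Nat.add (nat_lit 16) (Nat.mul (nat_lit 16) k)) (nat_lit 255)⟩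
theorem c2k : c2C.full 2 0 rl1 [[32], [36], [48], [52]] = true := by decide +kernel
noncomputable def c3Ft : BT Nat := (.node (.node (.node (.node (.leaf (nat_lit 0xd4000800001740001f00005c4000780001700001d0000584000700001600001b00005d4000680001340001900004c400060000130000170000494000580001240001500004d4000500000f40001300003c4000480000f0000110000394000400000e40000f00003c4000380000b00000d0000294000300000a40000b0000284000280000a00000900002c40002000007000007000019400018000064000050000184000100000600000300001d4000080000340000100000)) (.leaf (nat_lit 0x900013c0015a0000530005280000d80012b10004700037c000054000dff000480003790000c8001465000400005180000f8001470000200003ec40007c0007f00003600020d00013c000b740002b00050d4000c8000734000100001cfc000700010e50005000037c0001400013f50001e0005090000800013f40003400037d4000b0000cf10002c0003ac000138000ea5000450003a900004c000ebf000460003ad4001000013b00002c0004ec0001380011a40001e0004e))) (.node (.leaf (nat_lit 0xc40000c0002250000a00010940000c0002bf0000a0001afc0003800067f0000200018fc000380005ff0000900014fc000a00004ff0000100012fc0002000047f0002700010fc000280003ff0000d00004fc0001c0000ff0000100026d0000280003b40000e0000dc0000a00002a4000270000a800009800037400025000248000088000874000200001fc0000780007650001c0000980000700006e40001600015d0000500004f00000e0000d80000340001f50000a0000d))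 (.leaf (nat_lit 0x80001c40019600006c00071d4001a4001c640006e00071c0001b0001c75000700006c84001a0001c350006a00070c0001c000136400070000678000198001c300005b00070d40019c001af4000470006bc4001b8001af00006a0006bfc001bc001ae500065000658000194001b350006c0006ac000130001b240006d0004c94001a80013300006a0006fc4001b8001bf40006f00067c0001b8001aa00004c0006e80001b8001b740005e0006e9400148001a650006d0006a)))) (.node (.node (.leaf (nat_lit 0xd400180000b210005f0002c8000178000b310005d0002594001700009640005b0002594001680009240005900024840016000092000057000249000158000825000550001f90001500007e1000530001f80001480007e0000510001ec4001400007300004f0001c90001380006f50004d00016d0001300005a10004b00016d4001280005740004900015c400120000570000470001594001180004e4000450001380001100004f50004300010c4001080004300004100010)) (.leaf (nat_lit 0x940018800136000059000629000184001770000610005ed0001840013f00004b000618000180001864000600003894001800017b40005c00038c4001800017340006000033d0001440016f5000510004b9400178000e340005f00059c0001280017f50005f0003e940017c000da00005f0005e94000d00017f10004b0005ed0001140017a00005d0005d940007c0007ff0001f00054fc0007c001574000520004ed0001000014b50003e000598400164000cf0000590002d)))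 (.node (.leaf (nat_lit 0xfc000840001bf000100001dfc001080001640001b0001efc000780010740004d0004c84000ac0013600004b00045d000128001270000490003bc0001200011e40004600045c0001140006e10001600045d4000f40011310002500044d00010c000ca50004200021c0001080010750003100042900006c0010750002b0001ed0000bc000870000240002ad400040000ca1000080002580000a800097f0002900025c40004c0001b00000a00006fc00018000c3f0000a00023)) (.leaf (nat_lit 0))))) (.node (.node (.node (.leaf (nat_lit 0x80001000004250003f0000e90000f80003a10003d0000e80000f00003b50003b0000cd0000e8000330000390000c84000e0000320000370000cd4000d80002f4000350000bc4000d00002f0000330000b84000c80002e0000310000bc4000c00002b10002f00009c0000b80002640002d0000994000b00002240002b0000884000a80002200002900008d0000a00001e5000270000784000980001f50002500006d0000900001b0000230000684000880001a00002100006)) (.leaf (nat_lit 0xc000100001665000590004a90000900012bf0004a0005a800009000093f0005800024fc000900015f00005d0003dd0001740017610004f00050c000154001565000490004984001480012600001f00049fc0014c0012600004a0004e94001240014e00004e00036d40012c0016f00004d0005b80000e8000d200005c0003a90000d0000da0000340005c90001700016e50002000047900013c0011ff0004700056800011c0016e40005a0005990001600012a00005800057)))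 (.node (.leaf (nat_lit 0x80000400005610004000015c400030000cb000016000329000100000cbf000320003994000e40010240003f0003e80000f4000f340003b0003ac000058000e600003800037d0000d8000d70000340003380000c8000c750002900030c0000c00004f00002f0002ed4000a8000ba10002d0002b9000070000b640002c0002b80000a8000a700000c00016d0000100002b5000040000ec0000100000b1000040000ed40004c0002740000300009c4000280004f00000300001)) (.leaf (nat_lit 0xd4001d0001d30000740007484001d0001d240007100074d0001b4001ce5000730007384001ac001ce00007200073d40018c001cf00006500073d4001c80019240007200069d400188001ca00006b00072c0001c8001cb10006900069d0001a4001a350007100068)))) (.node (.node (.leaf (nat_lit 0x90000300002e00000a00009940001c0002b40000700009c0000200001f5000080000890000180001600000400003d00000800007000000000009000000000020000000000090001d0001bb0000730005294001c80014b0000710004c94001c00012f50006f00047d0001b80011710006d0003b94001b0000ee40006b0003b84001a8000ee0000690003bc4001a0000e3000067000389000198000df400065000349400190000ce400063000338000188000cf5000610002d))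 (.leaf (nat_lit 0x80001b40013350006d00063c0001b40012640006c0006b80001a8001a61000660006890001a0001865000680005dc0001a00019e50004b00067800019c0014200004f00067d40011c0019f40003800066d0001980017300005100066c0001980018e40005000066c0001480019740003700065d4001900018a10004700064c0001900012a40006400063800016c0019300005f00064c00018c001460000610006384001800018f10005c00062c0001800018a4000620003d))) (.node (.leaf (nat_lit 0xc0000b40010250004d0003d80000b40013700003e00036d40002c0006f4000360001bfc000d40006f00002b00045c00006c000af0000460002c94000f8000aa40000e0002afc000fc000aa00001e0003e84000380004e00003d00013d4000f4000f71000250003dfc0004c000f3f0003d00044d4000a8000ab1000090002afc000b8000ab0000090002480000180001a10000b0002080000c800083f0002f00024fc000880001b10000500010c00007800043f0003100020)) (.leaf (nat_lit 0))))))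
noncomputable def c3F (p : Nat) : Nat := row c3Ft (nat_lit 5) (nat_lit 31) (nat_lit 46) (nat_lit 70368744177663) p
noncomputable def c3P00 : BT Pf := (.node (.node (.node (.node (.node (.node (.node (.leaf .df) (.leaf (.cyc (nat_lit 21) [(nat_lit 220), (nat_lit 77)]))) (.node (.leaf (.cyc (nat_lit 7) [(nat_lit 9), (nat_lit 1), (nat_lit 118), (nat_lit 1), (nat_lit 12)])) (.leaf (.cyc (nat_lit 42) [(nat_lit 381), (nat_lit 72), (nat_lit 190), (nat_lit 187), (nat_lit 189), (nat_lit 58), (nat_lit 105)])))) (.node (.node (.leaf .df) (.leaf (.cyc (nat_lit 20) [(nat_lit 318), (nat_lit 304), (nat_lit 77), (nat_lit 133), (nat_lit 171)]))) (.node (.leaf (.cyc (nat_lit 27) [(nat_lit 158), (nat_lit 191), (nat_lit 20), (nat_lit 3), (nat_lit 5), (nat_lit 34)])) (.leaf .df)))) (.node (.node (.node (.leaf .df) (.leaf (.cyc (nat_lit 1) [(nat_lit 87), (nat_lit 86)]))) (.node (.leaf (.cyc (nat_lit 17) [(nat_lit 17), (nat_lit 150)])) (.leaf (.cyc (nat_lit 7)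 [(nat_lit 414), (nat_lit 396), (nat_lit 400), (nat_lit 403), (nat_lit 375)])))) (.node (.node (.leaf .df) (.leaf (.cyc (nat_lit 35) [(nat_lit 350), (nat_lit 319), (nat_lit 63), (nat_lit 15), (nat_lit 120), (nat_lit 164), (nat_lit 60)]))) (.node (.leaf (.cyc (nat_lit 19) [(nat_lit 204), (nat_lit 221), (nat_lit 31)])) (.leaf .df))))) (.node (.node (.node (.node (.leaf .df) (.leaf (.cyc (nat_lit 19) [(nat_lit 66), (nat_lit 271)]))) (.node (.leaf (.cyc (nat_lit 5) [(nat_lit 119), (nat_lit 13), (nat_lit 142), (nat_lit 130), (nat_lit 142), (nat_lit 139)])) (.leaf (.cyc (nat_lit 17) [(nat_lit 392), (nat_lit 399)])))) (.node (.node (.leaf .df) (.leaf (.cyc (nat_lit 0) [(nat_lit 334), (nat_lit 322)]))) (.node (.leaf (.cyc (nat_lit 30) [(nat_lit 36), (nat_lit 194), (nat_lit 9), (nat_lit 13), (nat_lit 143), (nat_lit 161), (nat_lit 67)])) (.leaf .df)))) (.node (.node (.node (.leaf .df) (.leaf (.cyc (nat_lit 26) [(nat_lit 285), (nat_lit 302)]))) (.node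 (.leaf (.cyc (nat_lit 7) [(nat_lit 169), (nat_lit 173), (nat_lit 45), (nat_lit 163), (nat_lit 175)])) (.leaf (.cyc (nat_lit 50) [(nat_lit 431), (nat_lit 430), (nat_lit 414), (nat_lit 395), (nat_lit 388), (nat_lit 115), (nat_lit 431)])))) (.node (.node (.leaf .df) (.leaf (.cyc (nat_lit 20) [(nat_lit 281), (nat_lit 229), (nat_lit 267), (nat_lit 310), (nat_lit 366)]))) (.node (.leaf (.cyc (nat_lit 13) [(nat_lit 183), (nat_lit 237)])) (.leaf .df)))))) (.node (.node (.node (.node (.node (.leaf .df) (.leaf (.cyc (nat_lit 16) [(nat_lit 246), (nat_lit 260)]))) (.node (.leaf (.cyc (nat_lit 0) [(nat_lit 31), (nat_lit 30)])) (.leaf (.cyc (nat_lit 36) [(nat_lit 105), (nat_lit 108), (nat_lit 382), (nat_lit 367), (nat_lit 378), (nat_lit 375), (nat_lit 390)])))) (.node (.node (.leaf .df) (.leaf (.cyc (nat_lit 39) [(nat_lit 311), (nat_lit 312), (nat_lit 239), (nat_lit 312), (nat_lit 311)]))) (.node (.leaf (.cyc (nat_lit 10) [(nat_lit 35), (nat_lit 194),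 (nat_lit 143), (nat_lit 13), (nat_lit 119), (nat_lit 160), (nat_lit 162), (nat_lit 45), (nat_lit 173)])) (.leaf .df)))) (.node (.node (.node (.leaf .df) (.leaf (.cyc (nat_lit 34) [(nat_lit 51), (nat_lit 49), (nat_lit 187), (nat_lit 190), (nat_lit 70), (nat_lit 291), (nat_lit 295)]))) (.node (.leaf (.cyc (nat_lit 20) [(nat_lit 11), (nat_lit 9), (nat_lit 157), (nat_lit 120), (nat_lit 21)])) (.leaf (.cyc (nat_lit 23) [(nat_lit 365), (nat_lit 114)])))) (.node (.node (.leaf .df) (.leaf (.cyc (nat_lit 2) [(nat_lit 99), (nat_lit 98)]))) (.node (.leaf (.cyc (nat_lit 17) [(nat_lit 46), (nat_lit 228)])) (.leaf .df))))) (.node (.node (.node (.node (.leaf .df) (.leaf (.cyc (nat_lit 24) [(nat_lit 255), (nat_lit 171), (nat_lit 133), (nat_lit 220), (nat_lit 80)]))) (.node (.leaf (.cyc (nat_lit 19) [(nat_lit 124), (nat_lit 145), (nat_lit 19)])) (.leaf (.cyc (nat_lit 7) [(nat_lit 105), (nat_lit 58), (nat_lit 168), (nat_lit 76), (nat_lit 407)])))) (.node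 (.node (.leaf .df) (.leaf (.cyc (nat_lit 2) [(nat_lit 343), (nat_lit 337)]))) (.node (.leaf (.cyc (nat_lit 1) [(nat_lit 74), (nat_lit 210)])) (.leaf .df)))) (.node (.node (.node (.leaf .df) (.leaf (.cyc (nat_lit 4) [(nat_lit 92), (nat_lit 238)]))) (.node (.leaf (.cyc (nat_lit 2) [(nat_lit 62), (nat_lit 61)])) (.leaf .df))) (.node (.node (.leaf (.cyc (nat_lit 1) [(nat_lit 3), (nat_lit 2)])) (.leaf (.cyc (nat_lit 24) [(nat_lit 103), (nat_lit 344), (nat_lit 345), (nat_lit 349), (nat_lit 328)]))) (.node (.leaf (.cyc (nat_lit 4) [(nat_lit 247), (nat_lit 211)])) (.leaf .df))))))) (.node (.node (.node (.node (.node (.node (.leaf .df) (.leaf (.cyc (nat_lit 32) [(nat_lit 257), (nat_lit 259), (nat_lit 190), (nat_lit 72), (nat_lit 214), (nat_lit 182)]))) (.node (.leaf (.cyc (nat_lit 2) [(nat_lit 21), (nat_lit 20)])) (.leaf (.cyc (nat_lit 39) [(nat_lit 218), (nat_lit 300), (nat_lit 301), (nat_lit 330), (nat_lit 386)])))) (.node (.node (.leaf .df) (.leaf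 (.cyc (nat_lit 0) [(nat_lit 323), (nat_lit 259)]))) (.node (.leaf (.cyc (nat_lit 19) [(nat_lit 176), (nat_lit 193), (nat_lit 36)])) (.leaf .df)))) (.node (.node (.node (.leaf .df) (.leaf (.cyc (nat_lit 22) [(nat_lit 291), (nat_lit 90), (nat_lit 197), (nat_lit 245), (nat_lit 278), (nat_lit 85)]))) (.node (.leaf (.cyc (nat_lit 16) [(nat_lit 22), (nat_lit 153)])) (.leaf (.cyc (nat_lit 41) [(nat_lit 106), (nat_lit 214), (nat_lit 308), (nat_lit 307), (nat_lit 113)])))) (.node (.node (.leaf .df) (.leaf (.cyc (nat_lit 34) [(nat_lit 346), (nat_lit 216), (nat_lit 262), (nat_lit 298), (nat_lit 354), (nat_lit 97), (nat_lit 98)]))) (.node (.leaf (.cyc (nat_lit 18) [(nat_lit 201), (nat_lit 223), (nat_lit 35)])) (.leaf .df))))) (.node (.node (.node (.node (.leaf .df) (.leaf (.cyc (nat_lit 32) [(nat_lit 250), (nat_lit 133), (nat_lit 272), (nat_lit 226), (nat_lit 31)]))) (.node (.leaf (.cyc (nat_lit 15) [(nat_lit 38), (nat_lit 145), (nat_lit 15)])) (.leaf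 (.cyc (nat_lit 20) [(nat_lit 295), (nat_lit 298), (nat_lit 262), (nat_lit 216), (nat_lit 111)])))) (.node (.node (.leaf .df) (.leaf (.cyc (nat_lit 0) [(nat_lit 95), (nat_lit 265)]))) (.node (.leaf (.cyc (nat_lit 2) [(nat_lit 69), (nat_lit 68)])) (.leaf .df)))) (.node (.node (.node (.leaf .df) (.leaf (.cyc (nat_lit 14) [(nat_lit 303), (nat_lit 305)]))) (.node (.leaf (.cyc (nat_lit 1) [(nat_lit 55), (nat_lit 54)])) (.leaf .df))) (.node (.node (.leaf (.pin (nat_lit 0) [] [])) (.leaf (.cyc (nat_lit 43) [(nat_lit 78), (nat_lit 272), (nat_lit 225), (nat_lit 80), (nat_lit 368), (nat_lit 370), (nat_lit 102)]))) (.node (.leaf (.cyc (nat_lit 15) [(nat_lit 62), (nat_lit 243)])) (.leaf .df)))))) (.node (.node (.node (.node (.node (.leaf .df) (.leaf (.cyc (nat_lit 28) [(nat_lit 242), (nat_lit 61), (nat_lit 164), (nat_lit 167), (nat_lit 126), (nat_lit 134), (nat_lit 79)]))) (.node (.leaf (.cyc (nat_lit 2) [(nat_lit 38), (nat_lit 125)])) (.leaf (.cyc (nat_lit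 3) [(nat_lit 395), (nat_lit 75), (nat_lit 210), (nat_lit 109), (nat_lit 389)])))) (.node (.node (.leaf .df) (.leaf (.cyc (nat_lit 1) [(nat_lit 94), (nat_lit 93)]))) (.node (.leaf (.cyc (nat_lit 28) [(nat_lit 48), (nat_lit 10), (nat_lit 13), (nat_lit 166), (nat_lit 120), (nat_lit 15), (nat_lit 65)])) (.leaf .df)))) (.node (.node (.node (.leaf .df) (.leaf (.cyc (nat_lit 20) [(nat_lit 254), (nat_lit 240), (nat_lit 261), (nat_lit 298), (nat_lit 295)]))) (.node (.leaf (.cyc (nat_lit 22) [(nat_lit 44), (nat_lit 126), (nat_lit 157), (nat_lit 159), (nat_lit 42)])) (.leaf (.cyc (nat_lit 42) [(nat_lit 114), (nat_lit 324), (nat_lit 302), (nat_lit 333), (nat_lit 358), (nat_lit 423), (nat_lit 426)])))) (.node (.node (.leaf .df) (.leaf (.cyc (nat_lit 11) [(nat_lit 266), (nat_lit 100)]))) (.node (.leaf (.cyc (nat_lit 5) [(nat_lit 209), (nat_lit 208), (nat_lit 138), (nat_lit 232), (nat_lit 163), (nat_lit 67)])) (.leaf .df))))) (.node (.node (.node (.node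 (.leaf .df) (.leaf (.cyc (nat_lit 16) [(nat_lit 213), (nat_lit 282)]))) (.node (.leaf (.cyc (nat_lit 19) [(nat_lit 128), (nat_lit 146), (nat_lit 25)])) (.leaf (.cyc (nat_lit 27) [(nat_lit 387), (nat_lit 394), (nat_lit 383), (nat_lit 394), (nat_lit 112)])))) (.node (.node (.leaf .df) (.leaf (.cyc (nat_lit 32) [(nat_lit 347), (nat_lit 310), (nat_lit 274), (nat_lit 248), (nat_lit 329)]))) (.node (.leaf (.cyc (nat_lit 15) [(nat_lit 203), (nat_lit 219)])) (.leaf .df)))) (.node (.node (.node (.leaf .df) (.leaf (.cyc (nat_lit 15) [(nat_lit 289), (nat_lit 314), (nat_lit 89)]))) (.node (.leaf (.cyc (nat_lit 17) [(nat_lit 181), (nat_lit 186)])) (.leaf .df))) (.node (.node (.leaf (.cyc (nat_lit 5) [(nat_lit 6), (nat_lit 0), (nat_lit 118), (nat_lit 1), (nat_lit 8)])) (.leaf (.cyc (nat_lit 2) [(nat_lit 107), (nat_lit 106)]))) (.node (.leaf (.cyc (nat_lit 36) [(nat_lit 242), (nat_lit 225), (nat_lit 199), (nat_lit 188), (nat_lit 210), (nat_lit 211), (nat_lit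 250)])) (.leaf .df))))))))
noncomputable def c3P01 : BT Pf := (.node (.node (.node (.node (.node (.node (.node (.leaf .df) (.leaf (.cyc (nat_lit 20) [(nat_lit 43), (nat_lit 41), (nat_lit 245), (nat_lit 242), (nat_lit 256)]))) (.node (.leaf (.cyc (nat_lit 4) [(nat_lit 13), (nat_lit 12)])) (.leaf (.cyc (nat_lit 11) [(nat_lit 329), (nat_lit 109)])))) (.node (.node (.leaf .df) (.leaf (.cyc (nat_lit 7) [(nat_lit 242), (nat_lit 268), (nat_lit 269), (nat_lit 275), (nat_lit 320)]))) (.node (.leaf (.cyc (nat_lit 17) [(nat_lit 47), (nat_lit 193)])) (.leaf .df)))) (.node (.node (.node (.leaf .df) (.leaf (.cyc (nat_lit 2) [(nat_lit 89), (nat_lit 88)]))) (.node (.leaf (.cyc (nat_lit 19) [(nat_lit 19), (nat_lit 152)])) (.leaf (.cyc (nat_lit 38) [(nat_lit 417), (nat_lit 103), (nat_lit 370), (nat_lit 378), (nat_lit 417)])))) (.node (.node (.leaf .df) (.leaf (.cyc (nat_lit 47) [(nat_lit 342), (nat_lit 180), (nat_lit 270), (nat_lit 269), (nat_lit 275), (nat_lit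 253), (nat_lit 351)]))) (.node (.leaf (.cyc (nat_lit 16) [(nat_lit 28), (nat_lit 222)])) (.leaf .df))))) (.node (.node (.node (.node (.leaf .df) (.leaf (.cyc (nat_lit 11) [(nat_lit 202), (nat_lit 268)]))) (.node (.leaf (.cyc (nat_lit 13) [(nat_lit 139), (nat_lit 144), (nat_lit 3)])) (.leaf (.cyc (nat_lit 19) [(nat_lit 110), (nat_lit 399)])))) (.node (.node (.leaf .df) (.leaf (.cyc (nat_lit 28) [(nat_lit 80), (nat_lit 256), (nat_lit 263), (nat_lit 57), (nat_lit 55), (nat_lit 337), (nat_lit 330)]))) (.node (.leaf (.cyc (nat_lit 22) [(nat_lit 132), (nat_lit 191), (nat_lit 158), (nat_lit 161), (nat_lit 68)])) (.leaf .df)))) (.node (.node (.node (.leaf .df) (.leaf (.cyc (nat_lit 13) [(nat_lit 82), (nat_lit 305)]))) (.node (.leaf (.cyc (nat_lit 4) [(nat_lit 51), (nat_lit 50)])) (.leaf .df))) (.node (.node (.leaf .df) (.leaf (.cyc (nat_lit 11) [(nat_lit 342), (nat_lit 369)]))) (.node (.leaf (.cyc (nat_lit 34) [(nat_lit 29), (nat_lit 27), (nat_lit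 134), (nat_lit 126), (nat_lit 161), (nat_lit 241), (nat_lit 61)])) (.leaf .df)))))) (.node (.node (.node (.node (.node (.leaf .df) (.leaf (.cyc (nat_lit 5) [(nat_lit 178), (nat_lit 265), (nat_lit 264), (nat_lit 57), (nat_lit 54)]))) (.node (.leaf (.cyc (nat_lit 0) [(nat_lit 36), (nat_lit 35)])) (.leaf (.cyc (nat_lit 21) [(nat_lit 384), (nat_lit 393)])))) (.node (.node (.leaf .df) (.leaf (.cyc (nat_lit 30) [(nat_lit 301), (nat_lit 300), (nat_lit 253), (nat_lit 255), (nat_lit 259), (nat_lit 258), (nat_lit 93)]))) (.node (.leaf (.cyc (nat_lit 29) [(nat_lit 172), (nat_lit 44), (nat_lit 46), (nat_lit 201), (nat_lit 32), (nat_lit 121), (nat_lit 29)])) (.leaf .df)))) (.node (.node (.node (.leaf .df) (.leaf (.cyc (nat_lit 40) [(nat_lit 295), (nat_lit 291), (nat_lit 294), (nat_lit 229), (nat_lit 281), (nat_lit 279), (nat_lit 61), (nat_lit 241), (nat_lit 261)]))) (.node (.leaf (.cyc (nat_lit 2) [(nat_lit 43), (nat_lit 42)])) (.leaf (.cyc (nat_lit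 43) [(nat_lit 419), (nat_lit 423), (nat_lit 358), (nat_lit 94), (nat_lit 258), (nat_lit 324), (nat_lit 114)])))) (.node (.node (.leaf .df) (.leaf (.cyc (nat_lit 46) [(nat_lit 293), (nat_lit 310), (nat_lit 79), (nat_lit 133), (nat_lit 77), (nat_lit 304), (nat_lit 361)]))) (.node (.leaf (.cyc (nat_lit 16) [(nat_lit 45), (nat_lit 233)])) (.leaf .df))))) (.node (.node (.node (.node (.leaf .df) (.leaf (.cyc (nat_lit 31) [(nat_lit 71), (nat_lit 190), (nat_lit 280), (nat_lit 279), (nat_lit 278), (nat_lit 230), (nat_lit 127), (nat_lit 54)]))) (.node (.leaf (.cyc (nat_lit 17) [(nat_lit 12), (nat_lit 146), (nat_lit 23)])) (.leaf (.cyc (nat_lit 28) [(nat_lit 409), (nat_lit 377), (nat_lit 348), (nat_lit 386), (nat_lit 387), (nat_lit 394), (nat_lit 395)])))) (.node (.node (.leaf .df) (.leaf (.cyc (nat_lit 32) [(nat_lit 338), (nat_lit 279), (nat_lit 322), (nat_lit 320), (nat_lit 96)]))) (.node (.leaf (.cyc (nat_lit 0) [(nat_lit 76), (nat_lit 75)])) (.leaf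 .df)))) (.node (.node (.node (.leaf .df) (.leaf (.cyc (nat_lit 12) [(nat_lit 288), (nat_lit 313), (nat_lit 86), (nat_lit 313)]))) (.node (.leaf (.cyc (nat_lit 25) [(nat_lit 49), (nat_lit 10), (nat_lit 8), (nat_lit 134), (nat_lit 27), (nat_lit 4), (nat_lit 2), (nat_lit 15), (nat_lit 63), (nat_lit 185)])) (.leaf .df))) (.node (.node (.leaf (.cyc (nat_lit 3) [(nat_lit 7), (nat_lit 0), (nat_lit 116), (nat_lit 0), (nat_lit 7)])) (.leaf (.cyc (nat_lit 22) [(nat_lit 101), (nat_lit 180), (nat_lit 337), (nat_lit 348), (nat_lit 377)]))) (.node (.leaf (.cyc (nat_lit 19) [(nat_lit 179), (nat_lit 249)])) (.leaf .df))))))) (.node (.node (.node (.node (.node (.node (.leaf .df) (.leaf (.cyc (nat_lit 14) [(nat_lit 212), (nat_lit 260)]))) (.node (.leaf (.cyc (nat_lit 9) [(nat_lit 27), (nat_lit 4), (nat_lit 6), (nat_lit 125), (nat_lit 126)])) (.leaf (.cyc (nat_lit 0) [(nat_lit 110), (nat_lit 371)])))) (.node (.node (.leaf .df) (.leaf (.cyc (nat_lit 14) [(nat_lit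 84), (nat_lit 325), (nat_lit 83)]))) (.node (.leaf (.cyc (nat_lit 12) [(nat_lit 40), (nat_lit 196)])) (.leaf .df)))) (.node (.node (.node (.leaf .df) (.leaf (.cyc (nat_lit 14) [(nat_lit 85), (nat_lit 292)]))) (.node (.leaf (.cyc (nat_lit 18) [(nat_lit 24), (nat_lit 155)])) (.leaf (.cyc (nat_lit 2) [(nat_lit 113), (nat_lit 385)])))) (.node (.node (.leaf .df) (.leaf (.cyc (nat_lit 20) [(nat_lit 333), (nat_lit 285), (nat_lit 318), (nat_lit 321), (nat_lit 99)]))) (.node (.leaf (.cyc (nat_lit 12) [(nat_lit 48), (nat_lit 224)])) (.leaf .df))))) (.node (.node (.node (.node (.leaf .df) (.leaf (.cyc (nat_lit 4) [(nat_lit 276), (nat_lit 252)]))) (.node (.leaf (.cyc (nat_lit 17) [(nat_lit 6), (nat_lit 145), (nat_lit 17)])) (.leaf (.cyc (nat_lit 2) [(nat_lit 111), (nat_lit 374)])))) (.node (.node (.leaf .df) (.leaf (.cyc (nat_lit 5) [(nat_lit 341), (nat_lit 340), (nat_lit 178), (nat_lit 266), (nat_lit 180)]))) (.node (.leaf (.cyc (nat_lit 32) [(nat_lit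 72), (nat_lit 191), (nat_lit 199), (nat_lit 189), (nat_lit 58)])) (.leaf .df)))) (.node (.node (.node (.leaf .df) (.leaf (.cyc (nat_lit 44) [(nat_lit 293), (nat_lit 70), (nat_lit 73), (nat_lit 304), (nat_lit 77), (nat_lit 247), (nat_lit 274)]))) (.node (.leaf (.cyc (nat_lit 0) [(nat_lit 58), (nat_lit 57)])) (.leaf .df))) (.node (.node (.leaf (.pin (nat_lit 2) [] [])) (.leaf (.cyc (nat_lit 24) [(nat_lit 330), (nat_lit 337), (nat_lit 180), (nat_lit 270), (nat_lit 373)]))) (.node (.leaf (.cyc (nat_lit 20) [(nat_lit 69), (nat_lit 241), (nat_lit 244), (nat_lit 41), (nat_lit 43)])) (.leaf .df)))))) (.node (.node (.node (.node (.node (.leaf .df) (.leaf (.cyc (nat_lit 24) [(nat_lit 79), (nat_lit 134), (nat_lit 8), (nat_lit 11), (nat_lit 54)]))) (.node (.leaf (.cyc (nat_lit 5) [(nat_lit 130), (nat_lit 128), (nat_lit 141), (nat_lit 39), (nat_lit 129)])) (.leaf (.cyc (nat_lit 24) [(nat_lit 365), (nat_lit 385), (nat_lit 104), (nat_lit 107), (nat_lit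 397)])))) (.node (.node (.leaf .df) (.leaf (.cyc (nat_lit 7) [(nat_lit 94), (nat_lit 265), (nat_lit 50), (nat_lit 53), (nat_lit 252)]))) (.node (.leaf (.cyc (nat_lit 24) [(nat_lit 65), (nat_lit 15), (nat_lit 2), (nat_lit 5), (nat_lit 32)])) (.leaf .df)))) (.node (.node (.node (.leaf .df) (.leaf (.cyc (nat_lit 41) [(nat_lit 77), (nat_lit 211), (nat_lit 262), (nat_lit 299), (nat_lit 297)]))) (.node (.leaf (.cyc (nat_lit 4) [(nat_lit 46), (nat_lit 45)])) (.leaf (.cyc (nat_lit 21) [(nat_lit 412), (nat_lit 115)])))) (.node (.node (.leaf .df) (.leaf (.cyc (nat_lit 21) [(nat_lit 270), (nat_lit 101)]))) (.node (.leaf (.cyc (nat_lit 16) [(nat_lit 208), (nat_lit 236)])) (.leaf .df))))) (.node (.node (.node (.node (.leaf .df) (.leaf (.cyc (nat_lit 1) [(nat_lit 82), (nat_lit 81)]))) (.node (.leaf (.cyc (nat_lit 14) [(nat_lit 140), (nat_lit 148)])) (.leaf (.cyc (nat_lit 41) [(nat_lit 380), (nat_lit 400), (nat_lit 393), (nat_lit 388), (nat_lit 412)]))))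 (.node (.node (.leaf .df) (.leaf (.cyc (nat_lit 26) [(nat_lit 321), (nat_lit 97)]))) (.node (.leaf (.cyc (nat_lit 17) [(nat_lit 64), (nat_lit 219), (nat_lit 135)])) (.leaf .df)))) (.node (.node (.node (.leaf .df) (.leaf (.cyc (nat_lit 14) [(nat_lit 290), (nat_lit 316)]))) (.node (.leaf (.cyc (nat_lit 22) [(nat_lit 187), (nat_lit 49), (nat_lit 10), (nat_lit 165), (nat_lit 20)])) (.leaf .df))) (.node (.node (.leaf (.cyc (nat_lit 1) [(nat_lit 9), (nat_lit 8)])) (.leaf (.cyc (nat_lit 3) [(nat_lit 108), (nat_lit 182), (nat_lit 298), (nat_lit 369), (nat_lit 367)]))) (.node (.leaf (.cyc (nat_lit 9) [(nat_lit 253), (nat_lit 44), (nat_lit 234), (nat_lit 244), (nat_lit 60)])) (.leaf .df))))))))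
noncomputable def c3P0 : BT Pf := .node c3P00 c3P01
noncomputable def c3P10 : BT Pf := (.node (.node (.node (.node (.node (.node (.node (.leaf .df) (.leaf (.cyc (nat_lit 20) [(nat_lit 256), (nat_lit 242), (nat_lit 61), (nat_lit 241), (nat_lit 69)]))) (.node (.leaf (.cyc (nat_lit 8) [(nat_lit 12), (nat_lit 1), (nat_lit 118), (nat_lit 116), (nat_lit 118), (nat_lit 0), (nat_lit 6)])) (.leaf (.cyc (nat_lit 9) [(nat_lit 307), (nat_lit 308), (nat_lit 381), (nat_lit 384), (nat_lit 379)])))) (.node (.node (.leaf .df) (.leaf (.cyc (nat_lit 46) [(nat_lit 318), (nat_lit 285), (nat_lit 252), (nat_lit 279), (nat_lit 281), (nat_lit 49), (nat_lit 50)]))) (.node (.leaf (.cyc (nat_lit 17) [(nat_lit 34), (nat_lit 192), (nat_lit 47)])) (.leaf .df)))) (.node (.node (.node (.leaf .df) (.leaf (.cyc (nat_lit 35) [(nat_lit 87), (nat_lit 232), (nat_lit 8), (nat_lit 10), (nat_lit 230), (nat_lit 276), (nat_lit 285)]))) (.node (.leaf (.cyc (nat_lit 16) [(nat_lit 141),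 (nat_lit 151)])) (.leaf (.cyc (nat_lit 11) [(nat_lit 413), (nat_lit 416)])))) (.node (.node (.leaf .df) (.leaf (.cyc (nat_lit 20) [(nat_lit 343), (nat_lit 93), (nat_lit 170), (nat_lit 217), (nat_lit 351)]))) (.node (.leaf (.cyc (nat_lit 17) [(nat_lit 135), (nat_lit 222)])) (.leaf .df))))) (.node (.node (.node (.node (.leaf .df) (.leaf (.cyc (nat_lit 18) [(nat_lit 207), (nat_lit 271)]))) (.node (.leaf (.cyc (nat_lit 12) [(nat_lit 37), (nat_lit 144), (nat_lit 2)])) (.leaf (.cyc (nat_lit 16) [(nat_lit 391), (nat_lit 399)])))) (.node (.node (.leaf .df) (.leaf (.cyc (nat_lit 9) [(nat_lit 332), (nat_lit 331), (nat_lit 51), (nat_lit 127), (nat_lit 55)]))) (.node (.leaf (.cyc (nat_lit 7) [(nat_lit 60), (nat_lit 143), (nat_lit 194), (nat_lit 36), (nat_lit 208)])) (.leaf .df)))) (.node (.node (.node (.leaf .df) (.leaf (.cyc (nat_lit 43) [(nat_lit 82), (nat_lit 277), (nat_lit 136), (nat_lit 276), (nat_lit 302), (nat_lit 263), (nat_lit 182), (nat_lit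 214)]))) (.node (.leaf (.cyc (nat_lit 1) [(nat_lit 49), (nat_lit 48)])) (.leaf (.cyc (nat_lit 29) [(nat_lit 431), (nat_lit 115), (nat_lit 389), (nat_lit 396), (nat_lit 414), (nat_lit 430), (nat_lit 432)])))) (.node (.node (.leaf .df) (.leaf (.cyc (nat_lit 45) [(nat_lit 368), (nat_lit 279), (nat_lit 252), (nat_lit 53), (nat_lit 50), (nat_lit 97), (nat_lit 354)]))) (.node (.leaf (.cyc (nat_lit 12) [(nat_lit 59), (nat_lit 237)])) (.leaf .df)))))) (.node (.node (.node (.node (.node (.leaf .df) (.leaf (.cyc (nat_lit 37) [(nat_lit 264), (nat_lit 57), (nat_lit 189), (nat_lit 199), (nat_lit 225), (nat_lit 202), (nat_lit 247), (nat_lit 251), (nat_lit 50)]))) (.node (.leaf (.cyc (nat_lit 1) [(nat_lit 33), (nat_lit 32)])) (.leaf (.cyc (nat_lit 42) [(nat_lit 392), (nat_lit 390), (nat_lit 373), (nat_lit 366), (nat_lit 367), (nat_lit 382), (nat_lit 383)])))) (.node (.node (.leaf .df) (.leaf (.cyc (nat_lit 5) [(nat_lit 211), (nat_lit 251), (nat_lit 50),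 (nat_lit 265), (nat_lit 93)]))) (.node (.leaf (.cyc (nat_lit 5) [(nat_lit 174), (nat_lit 173), (nat_lit 200), (nat_lit 35), (nat_lit 32)])) (.leaf .df)))) (.node (.node (.node (.leaf .df) (.leaf (.cyc (nat_lit 27) [(nat_lit 296), (nat_lit 295), (nat_lit 291), (nat_lit 294), (nat_lit 276)]))) (.node (.leaf (.cyc (nat_lit 1) [(nat_lit 41), (nat_lit 40)])) (.leaf (.cyc (nat_lit 7) [(nat_lit 356), (nat_lit 96), (nat_lit 255), (nat_lit 323), (nat_lit 114)])))) (.node (.node (.leaf .df) (.leaf (.cyc (nat_lit 20) [(nat_lit 99), (nat_lit 321), (nat_lit 88), (nat_lit 315), (nat_lit 317)]))) (.node (.leaf (.cyc (nat_lit 17) [(nat_lit 174), (nat_lit 228), (nat_lit 200)])) (.leaf .df))))) (.node (.node (.node (.node (.leaf .df) (.leaf (.cyc (nat_lit 21) [(nat_lit 187), (nat_lit 280)]))) (.node (.leaf (.cyc (nat_lit 16) [(nat_lit 130), (nat_lit 146), (nat_lit 22)])) (.leaf (.cyc (nat_lit 46) [(nat_lit 376), (nat_lit 328), (nat_lit 92), (nat_lit 198),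 (nat_lit 42), (nat_lit 217), (nat_lit 407)])))) (.node (.node (.leaf .df) (.leaf (.cyc (nat_lit 39) [(nat_lit 95), (nat_lit 258), (nat_lit 259), (nat_lit 255), (nat_lit 96)]))) (.node (.leaf (.cyc (nat_lit 33) [(nat_lit 42), (nat_lit 159), (nat_lit 162), (nat_lit 8), (nat_lit 11), (nat_lit 168), (nat_lit 76)])) (.leaf .df)))) (.node (.node (.node (.leaf .df) (.leaf (.cyc (nat_lit 5) [(nat_lit 138), (nat_lit 92), (nat_lit 311), (nat_lit 92), (nat_lit 138), (nat_lit 86)]))) (.node (.leaf (.cyc (nat_lit 24) [(nat_lit 181), (nat_lit 21), (nat_lit 120), (nat_lit 15), (nat_lit 63)])) (.leaf .df))) (.node (.node (.leaf (.cyc (nat_lit 2) [(nat_lit 5), (nat_lit 4)])) (.leaf (.cyc (nat_lit 2) [(nat_lit 376), (nat_lit 349)]))) (.node (.leaf (.cyc (nat_lit 7) [(nat_lit 52), (nat_lit 230), (nat_lit 31), (nat_lit 29), (nat_lit 202), (nat_lit 247)])) (.leaf .df))))))) (.node (.node (.node (.node (.node (.node (.leaf .df) (.leaf (.cyc (nat_lit 15) [(nat_lit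 69), (nat_lit 260)]))) (.node (.leaf (.cyc (nat_lit 1) [(nat_lit 27), (nat_lit 26)])) (.leaf (.cyc (nat_lit 31) [(nat_lit 387), (nat_lit 384), (nat_lit 105), (nat_lit 214), (nat_lit 307), (nat_lit 385), (nat_lit 379)])))) (.node (.node (.leaf .df) (.leaf (.cyc (nat_lit 29) [(nat_lit 30), (nat_lit 27), (nat_lit 171), (nat_lit 255), (nat_lit 323), (nat_lit 81), (nat_lit 84), (nat_lit 309)]))) (.node (.leaf (.cyc (nat_lit 13) [(nat_lit 169), (nat_lit 196)])) (.leaf .df)))) (.node (.node (.node (.leaf .df) (.leaf (.cyc (nat_lit 15) [(nat_lit 287), (nat_lit 292)]))) (.node (.leaf (.cyc (nat_lit 17) [(nat_lit 23), (nat_lit 154)])) (.leaf (.cyc (nat_lit 28) [(nat_lit 97), (nat_lit 99), (nat_lit 361), (nat_lit 215), (nat_lit 307), (nat_lit 113), (nat_lit 419)])))) (.node (.node (.leaf .df) (.leaf (.cyc (nat_lit 48) [(nat_lit 356), (nat_lit 348), (nat_lit 329), (nat_lit 248), (nat_lit 217), (nat_lit 300), (nat_lit 339)]))) (.node (.leaf (.cyc (nat_lit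 13) [(nat_lit 177), (nat_lit 224)])) (.leaf .df))))) (.node (.node (.node (.node (.leaf .df) (.leaf (.cyc (nat_lit 38) [(nat_lit 30), (nat_lit 226), (nat_lit 272), (nat_lit 27), (nat_lit 30)]))) (.node (.leaf (.cyc (nat_lit 16) [(nat_lit 123), (nat_lit 145), (nat_lit 16)])) (.leaf (.cyc (nat_lit 41) [(nat_lit 101), (nat_lit 283), (nat_lit 132), (nat_lit 74), (nat_lit 111)])))) (.node (.node (.leaf .df) (.leaf (.cyc (nat_lit 47) [(nat_lit 340), (nat_lit 321), (nat_lit 88), (nat_lit 200), (nat_lit 235), (nat_lit 197), (nat_lit 91)]))) (.node (.leaf (.cyc (nat_lit 4) [(nat_lit 71), (nat_lit 70)])) (.leaf .df)))) (.node (.node (.node (.leaf .df) (.leaf (.cyc (nat_lit 20) [(nat_lit 84), (nat_lit 306), (nat_lit 308), (nat_lit 306), (nat_lit 84)]))) (.node (.leaf (.cyc (nat_lit 23) [(nat_lit 168), (nat_lit 56)])) (.leaf .df))) (.node (.node (.leaf (.pin (nat_lit 1) [] [])) (.leaf (.cyc (nat_lit 8) [(nat_lit 102), (nat_lit 342), (nat_lit 354), (nat_lit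 350), (nat_lit 320), (nat_lit 275), (nat_lit 269)]))) (.node (.leaf (.cyc (nat_lit 14) [(nat_lit 184), (nat_lit 243)])) (.leaf .df)))))) (.node (.node (.node (.node (.node (.leaf .df) (.leaf (.cyc (nat_lit 4) [(nat_lit 79), (nat_lit 78)]))) (.node (.leaf (.cyc (nat_lit 10) [(nat_lit 39), (nat_lit 123), (nat_lit 122), (nat_lit 7), (nat_lit 0), (nat_lit 118), (nat_lit 1), (nat_lit 12), (nat_lit 128)])) (.leaf (.cyc (nat_lit 39) [(nat_lit 364), (nat_lit 284), (nat_lit 110), (nat_lit 392), (nat_lit 396)])))) (.node (.node (.leaf .df) (.leaf (.cyc (nat_lit 9) [(nat_lit 94), (nat_lit 170), (nat_lit 247), (nat_lit 77), (nat_lit 302)]))) (.node (.leaf (.cyc (nat_lit 4) [(nat_lit 65), (nat_lit 64)])) (.leaf .df)))) (.node (.node (.node (.leaf .df) (.leaf (.cyc (nat_lit 28) [(nat_lit 216), (nat_lit 68), (nat_lit 161), (nat_lit 143), (nat_lit 60), (nat_lit 254), (nat_lit 300)]))) (.node (.leaf (.cyc (nat_lit 7) [(nat_lit 41), (nat_lit 122), (nat_lit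 159), (nat_lit 162), (nat_lit 45)])) (.leaf (.cyc (nat_lit 5) [(nat_lit 381), (nat_lit 72), (nat_lit 70), (nat_lit 402), (nat_lit 427)])))) (.node (.node (.leaf .df) (.leaf (.cyc (nat_lit 36) [(nat_lit 307), (nat_lit 214), (nat_lit 58), (nat_lit 189), (nat_lit 49), (nat_lit 51), (nat_lit 100)]))) (.node (.leaf (.cyc (nat_lit 13) [(nat_lit 67), (nat_lit 236), (nat_lit 183)])) (.leaf .df))))) (.node (.node (.node (.node (.leaf .df) (.leaf (.cyc (nat_lit 39) [(nat_lit 53), (nat_lit 51), (nat_lit 266), (nat_lit 283), (nat_lit 73)]))) (.node (.leaf (.cyc (nat_lit 14) [(nat_lit 14), (nat_lit 147)])) (.leaf (.cyc (nat_lit 7) [(nat_lit 379), (nat_lit 408), (nat_lit 407), (nat_lit 218), (nat_lit 112)])))) (.node (.node (.leaf .df) (.leaf (.cyc (nat_lit 35) [(nat_lit 345), (nat_lit 341), (nat_lit 298), (nat_lit 261), (nat_lit 240), (nat_lit 312), (nat_lit 328)]))) (.node (.leaf (.cyc (nat_lit 16) [(nat_lit 205), (nat_lit 219), (nat_lit 29)])) (.leaf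 .df)))) (.node (.node (.node (.leaf .df) (.leaf (.cyc (nat_lit 15) [(nat_lit 89), (nat_lit 316)]))) (.node (.leaf (.cyc (nat_lit 16) [(nat_lit 56), (nat_lit 186)])) (.leaf .df))) (.node (.node (.leaf (.cyc (nat_lit 6) [(nat_lit 6), (nat_lit 0), (nat_lit 116), (nat_lit 117), (nat_lit 118), (nat_lit 1), (nat_lit 9)])) (.leaf (.cyc (nat_lit 4) [(nat_lit 108), (nat_lit 214)]))) (.node (.leaf (.cyc (nat_lit 26) [(nat_lit 172), (nat_lit 217)])) (.leaf .df))))))))
noncomputable def c3P11 : BT Pf := (.node (.node (.node (.node (.node (.node (.node (.leaf .df) (.leaf (.cyc (nat_lit 28) [(nat_lit 63), (nat_lit 158), (nat_lit 194), (nat_lit 36), (nat_lit 198), (nat_lit 43), (nat_lit 258)]))) (.node (.leaf (.cyc (nat_lit 0) [(nat_lit 19), (nat_lit 18)])) (.leaf (.cyc (nat_lit 39) [(nat_lit 386), (nat_lit 330), (nat_lit 338), (nat_lit 357), (nat_lit 382)])))) (.node (.node (.leaf .df) (.leaf (.cyc (nat_lit 5) [(nat_lit 319), (nat_lit 322), (nat_lit 278),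 (nat_lit 136), (nat_lit 81)]))) (.node (.leaf (.cyc (nat_lit 16) [(nat_lit 175), (nat_lit 193)])) (.leaf .df)))) (.node (.node (.node (.leaf .df) (.leaf (.cyc (nat_lit 34) [(nat_lit 284), (nat_lit 54), (nat_lit 11), (nat_lit 8), (nat_lit 234), (nat_lit 197), (nat_lit 90)]))) (.node (.leaf (.cyc (nat_lit 18) [(nat_lit 131), (nat_lit 152)])) (.leaf (.cyc (nat_lit 20) [(nat_lit 113), (nat_lit 81), (nat_lit 327), (nat_lit 81), (nat_lit 113)])))) (.node (.node (.leaf .df) (.leaf (.cyc (nat_lit 22) [(nat_lit 344), (nat_lit 55), (nat_lit 127), (nat_lit 50), (nat_lit 98)]))) (.node (.leaf (.cyc (nat_lit 12) [(nat_lit 137), (nat_lit 223), (nat_lit 32), (nat_lit 223)])) (.leaf .df))))) (.node (.node (.node (.node (.leaf .df) (.leaf (.cyc (nat_lit 5) [(nat_lit 78), (nat_lit 273), (nat_lit 188), (nat_lit 76), (nat_lit 253)]))) (.node (.leaf (.cyc (nat_lit 14) [(nat_lit 125), (nat_lit 145), (nat_lit 14)])) (.leaf (.cyc (nat_lit 18) [(nat_lit 390), (nat_lit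 399)])))) (.node (.node (.leaf .df) (.leaf (.cyc (nat_lit 0) [(nat_lit 338), (nat_lit 301)]))) (.node (.leaf (.cyc (nat_lit 31) [(nat_lit 210), (nat_lit 21), (nat_lit 3), (nat_lit 160), (nat_lit 2), (nat_lit 4), (nat_lit 26)])) (.leaf .df)))) (.node (.node (.node (.leaf .df) (.leaf (.cyc (nat_lit 12) [(nat_lit 286), (nat_lit 305)]))) (.node (.leaf (.cyc (nat_lit 0) [(nat_lit 53), (nat_lit 52)])) (.leaf .df))) (.node (.node (.leaf .df) (.leaf (.cyc (nat_lit 7) [(nat_lit 362), (nat_lit 363), (nat_lit 354), (nat_lit 342), (nat_lit 102)]))) (.node (.leaf (.cyc (nat_lit 35) [(nat_lit 62), (nat_lit 241), (nat_lit 195), (nat_lit 231), (nat_lit 5), (nat_lit 2), (nat_lit 159), (nat_lit 41)])) (.leaf .df)))))) (.node (.node (.node (.node (.node (.leaf .df) (.leaf (.cyc (nat_lit 27) [(nat_lit 230), (nat_lit 10), (nat_lit 8), (nat_lit 134), (nat_lit 78)]))) (.node (.leaf (.cyc (nat_lit 1) [(nat_lit 37), (nat_lit 129)])) (.leaf (.cyc (nat_lit 20) [(nat_lit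 394), (nat_lit 383), (nat_lit 393), (nat_lit 105), (nat_lit 107)])))) (.node (.node (.leaf .df) (.leaf (.cyc (nat_lit 9) [(nat_lit 299), (nat_lit 262), (nat_lit 248), (nat_lit 170), (nat_lit 94)]))) (.node (.leaf (.cyc (nat_lit 27) [(nat_lit 26), (nat_lit 4), (nat_lit 2), (nat_lit 15), (nat_lit 64)])) (.leaf .df)))) (.node (.node (.node (.leaf .df) (.leaf (.cyc (nat_lit 1) [(nat_lit 298), (nat_lit 296)]))) (.node (.leaf (.cyc (nat_lit 21) [(nat_lit 134), (nat_lit 44)])) (.leaf (.cyc (nat_lit 46) [(nat_lit 380), (nat_lit 397), (nat_lit 365), (nat_lit 81), (nat_lit 327), (nat_lit 81), (nat_lit 114)])))) (.node (.node (.leaf .df) (.leaf (.cyc (nat_lit 28) [(nat_lit 362), (nat_lit 294), (nat_lit 278), (nat_lit 334), (nat_lit 332), (nat_lit 343), (nat_lit 353)]))) (.node (.leaf (.cyc (nat_lit 18) [(nat_lit 173), (nat_lit 233)])) (.leaf .df))))) (.node (.node (.node (.node (.leaf .df) (.leaf (.cyc (nat_lit 17) [(nat_lit 71), (nat_lit 282)])))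 (.node (.leaf (.cyc (nat_lit 18) [(nat_lit 142), (nat_lit 146), (nat_lit 24)])) (.leaf (.cyc (nat_lit 23) [(nat_lit 395), (nat_lit 112)])))) (.node (.node (.leaf .df) (.leaf (.cyc (nat_lit 0) [(nat_lit 96), (nat_lit 275)]))) (.node (.leaf (.cyc (nat_lit 7) [(nat_lit 202), (nat_lit 217), (nat_lit 76), (nat_lit 188), (nat_lit 199), (nat_lit 64)])) (.leaf .df)))) (.node (.node (.node (.leaf .df) (.leaf (.cyc (nat_lit 13) [(nat_lit 87), (nat_lit 314)]))) (.node (.leaf (.cyc (nat_lit 15) [(nat_lit 185), (nat_lit 186)])) (.leaf .df))) (.node (.node (.leaf (.cyc (nat_lit 4) [(nat_lit 7), (nat_lit 6)])) (.leaf (.cyc (nat_lit 1) [(nat_lit 105), (nat_lit 104)]))) (.node (.leaf (.cyc (nat_lit 18) [(nat_lit 52), (nat_lit 249)])) (.leaf .df))))))) (.node (.node (.node (.node (.node (.node (.leaf .df) (.leaf (.cyc (nat_lit 17) [(nat_lit 257), (nat_lit 260)]))) (.node (.leaf (.cyc (nat_lit 4) [(nat_lit 29), (nat_lit 28)])) (.leaf (.cyc (nat_lit 38) [(nat_lit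 109), (nat_lit 248), (nat_lit 274), (nat_lit 373), (nat_lit 390)])))) (.node (.node (.leaf .df) (.leaf (.cyc (nat_lit 14) [(nat_lit 83), (nat_lit 326)]))) (.node (.leaf (.cyc (nat_lit 28) [(nat_lit 191), (nat_lit 20), (nat_lit 165), (nat_lit 119), (nat_lit 3), (nat_lit 21), (nat_lit 188)])) (.leaf .df)))) (.node (.node (.node (.leaf .df) (.leaf (.cyc (nat_lit 2) [(nat_lit 91), (nat_lit 90)]))) (.node (.leaf (.cyc (nat_lit 19) [(nat_lit 25), (nat_lit 156)])) (.leaf (.cyc (nat_lit 3) [(nat_lit 419), (nat_lit 421), (nat_lit 350), (nat_lit 336), (nat_lit 358)])))) (.node (.node (.leaf .df) (.leaf (.cyc (nat_lit 41) [(nat_lit 90), (nat_lit 238), (nat_lit 352), (nat_lit 97), (nat_lit 99)]))) (.node (.leaf (.cyc (nat_lit 13) [(nat_lit 33), (nat_lit 227)])) (.leaf .df))))) (.node (.node (.node (.node (.leaf .df) (.leaf (.cyc (nat_lit 26) [(nat_lit 242), (nat_lit 80)]))) (.node (.leaf (.cyc (nat_lit 18) [(nat_lit 39), (nat_lit 145), (nat_lit 18)]))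 (.leaf (.cyc (nat_lit 20) [(nat_lit 111), (nat_lit 216), (nat_lit 68), (nat_lit 240), (nat_lit 254)])))) (.node (.node (.leaf .df) (.leaf (.cyc (nat_lit 24) [(nat_lit 341), (nat_lit 91), (nat_lit 198), (nat_lit 43), (nat_lit 93)]))) (.node (.leaf (.cyc (nat_lit 0) [(nat_lit 73), (nat_lit 72)])) (.leaf .df)))) (.node (.node (.node (.leaf .df) (.leaf (.cyc (nat_lit 45) [(nat_lit 92), (nat_lit 197), (nat_lit 234), (nat_lit 162), (nat_lit 159), (nat_lit 198), (nat_lit 92)]))) (.node (.leaf (.cyc (nat_lit 1) [(nat_lit 60), (nat_lit 59)])) (.leaf .df))) (.node (.node (.leaf (.cyc (nat_lit 0) [(nat_lit 1), (nat_lit 0)])) (.leaf (.cyc (nat_lit 4) [(nat_lit 103), (nat_lit 102)]))) (.node (.leaf (.cyc (nat_lit 31) [(nat_lit 26), (nat_lit 121), (nat_lit 231), (nat_lit 194), (nat_lit 126), (nat_lit 44), (nat_lit 172)])) (.leaf .df)))))) (.node (.node (.node (.node (.node (.leaf .df) (.leaf (.cyc (nat_lit 38) [(nat_lit 79), (nat_lit 268), (nat_lit 29),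 (nat_lit 31), (nat_lit 229), (nat_lit 207)]))) (.node (.leaf (.cyc (nat_lit 11) [(nat_lit 128), (nat_lit 142)])) (.leaf (.cyc (nat_lit 49) [(nat_lit 391), (nat_lit 109), (nat_lit 210), (nat_lit 132), (nat_lit 283), (nat_lit 364), (nat_lit 397), (nat_lit 380)])))) (.node (.node (.leaf .df) (.leaf (.cyc (nat_lit 32) [(nat_lit 215), (nat_lit 306), (nat_lit 136), (nat_lit 278), (nat_lit 334)]))) (.node (.leaf (.cyc (nat_lit 0) [(nat_lit 66), (nat_lit 199)])) (.leaf .df)))) (.node (.node (.node (.leaf .df) (.leaf (.cyc (nat_lit 42) [(nat_lit 214), (nat_lit 182), (nat_lit 299), (nat_lit 297), (nat_lit 276), (nat_lit 136), (nat_lit 82)]))) (.node (.leaf (.cyc (nat_lit 4) [(nat_lit 47), (nat_lit 161)])) (.leaf (.cyc (nat_lit 22) [(nat_lit 115), (nat_lit 388), (nat_lit 393), (nat_lit 389), (nat_lit 115)])))) (.node (.node (.leaf .df) (.leaf (.cyc (nat_lit 20) [(nat_lit 366), (nat_lit 310), (nat_lit 293), (nat_lit 362), (nat_lit 360)]))) (.node (.leaf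 (.cyc (nat_lit 18) [(nat_lit 209), (nat_lit 236)])) (.leaf .df))))) (.node (.node (.node (.node (.leaf .df) (.leaf (.cyc (nat_lit 21) [(nat_lit 267), (nat_lit 85)]))) (.node (.leaf (.cyc (nat_lit 16) [(nat_lit 16), (nat_lit 149)])) (.leaf (.cyc (nat_lit 1) [(nat_lit 414), (nat_lit 397)])))) (.node (.node (.leaf .df) (.leaf (.cyc (nat_lit 9) [(nat_lit 350), (nat_lit 88), (nat_lit 232), (nat_lit 44), (nat_lit 253)]))) (.node (.leaf (.cyc (nat_lit 14) [(nat_lit 206), (nat_lit 221), (nat_lit 121)])) (.leaf .df)))) (.node (.node (.node (.leaf .df) (.leaf (.cyc (nat_lit 20) [(nat_lit 280), (nat_lit 80), (nat_lit 256), (nat_lit 304), (nat_lit 318)]))) (.node (.leaf (.cyc (nat_lit 26) [(nat_lit 63), (nat_lit 190)])) (.leaf .df))) (.node (.node (.leaf (.cyc (nat_lit 2) [(nat_lit 11), (nat_lit 10)])) (.leaf (.cyc (nat_lit 39) [(nat_lit 382), (nat_lit 357), (nat_lit 339), (nat_lit 300), (nat_lit 218)]))) (.node (.leaf (.cyc (nat_lit 31) [(nat_lit 253),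 (nat_lit 254), (nat_lit 60), (nat_lit 13), (nat_lit 9), (nat_lit 158), (nat_lit 63)])) (.leaf .df))))))))
noncomputable def c3P1 : BT Pf := .node c3P10 c3P11
noncomputable def c3P : BT Pf := .node c3P0 c3P1
noncomputable def c3R : BT (List ℕ × ℕ × ℕ) := (.node (.node (.node (.node (.node (.node (.leaf ([(nat_lit 52), (nat_lit 52), (nat_lit 52)], (nat_lit 3), (nat_lit 2))) (.leaf ([(nat_lit 48), (nat_lit 53), (nat_lit 32), (nat_lit 52), (nat_lit 49), (nat_lit 53)], (nat_lit 5), (nat_lit 0)))) (.node (.leaf ([(nat_lit 49), (nat_lit 48)], (nat_lit 1000), (nat_lit 0))) (.leaf ([(nat_lit 48), (nat_lit 32), (nat_lit 49), (nat_lit 52), (nat_lit 48), (nat_lit 32), (nat_lit 49), (nat_lit 52)], (nat_lit 6), (nat_lit 7))))) (.node (.node (.leaf ([(nat_lit 32), (nat_lit 49), (nat_lit 52), (nat_lit 48), (nat_lit 32), (nat_lit 49), (nat_lit 52), (nat_lit 48)], (nat_lit 6), (nat_lit 0))) (.leaf ([(nat_lit 32), (nat_lit 37), (nat_lit 32), (nat_lit 37),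 (nat_lit 32), (nat_lit 37), (nat_lit 32), (nat_lit 37), (nat_lit 32), (nat_lit 37)], (nat_lit 9), (nat_lit 9)))) (.node (.leaf ([(nat_lit 37), (nat_lit 48), (nat_lit 36), (nat_lit 33), (nat_lit 37), (nat_lit 32)], (nat_lit 4), (nat_lit 1))) (.leaf ([], (nat_lit 1000), (nat_lit 0)))))) (.node (.node (.node (.leaf ([(nat_lit 48), (nat_lit 48), (nat_lit 48)], (nat_lit 2), (nat_lit 2))) (.leaf ([(nat_lit 48), (nat_lit 32), (nat_lit 49), (nat_lit 52), (nat_lit 48), (nat_lit 32), (nat_lit 49), (nat_lit 52)], (nat_lit 6), (nat_lit 3)))) (.node (.leaf ([(nat_lit 48), (nat_lit 36), (nat_lit 33), (nat_lit 37), (nat_lit 32), (nat_lit 37)], (nat_lit 4), (nat_lit 2))) (.leaf ([], (nat_lit 1000), (nat_lit 0))))) (.node (.node (.leaf ([(nat_lit 33), (nat_lit 32)], (nat_lit 1000), (nat_lit 0))) (.leaf ([(nat_lit 33), (nat_lit 37), (nat_lit 49), (nat_lit 53), (nat_lit 33), (nat_lit 37), (nat_lit 49), (nat_lit 53)], (nat_lit 8), (nat_lit 7)))) (.node (.leaf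 ([(nat_lit 53), (nat_lit 33), (nat_lit 37), (nat_lit 49), (nat_lit 53), (nat_lit 33), (nat_lit 37), (nat_lit 49)], (nat_lit 8), (nat_lit 2))) (.leaf ([], (nat_lit 1000), (nat_lit 0))))))) (.node (.node (.node (.node (.leaf ([(nat_lit 36), (nat_lit 36), (nat_lit 36)], (nat_lit 1), (nat_lit 2))) (.leaf ([(nat_lit 32), (nat_lit 48), (nat_lit 33), (nat_lit 36), (nat_lit 32), (nat_lit 48), (nat_lit 33), (nat_lit 36)], (nat_lit 7), (nat_lit 3)))) (.node (.leaf ([(nat_lit 53), (nat_lit 52)], (nat_lit 1000), (nat_lit 0))) (.leaf ([(nat_lit 48), (nat_lit 33), (nat_lit 36), (nat_lit 32), (nat_lit 48), (nat_lit 33), (nat_lit 36), (nat_lit 32)], (nat_lit 7), (nat_lit 4))))) (.node (.node (.leaf ([(nat_lit 48), (nat_lit 53), (nat_lit 48), (nat_lit 53), (nat_lit 48), (nat_lit 53), (nat_lit 48), (nat_lit 53), (nat_lit 48), (nat_lit 53)], (nat_lit 10), (nat_lit 9))) (.leaf ([(nat_lit 37), (nat_lit 49), (nat_lit 53), (nat_lit 33), (nat_lit 37), (nat_lit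 49), (nat_lit 53), (nat_lit 33)], (nat_lit 8), (nat_lit 0)))) (.node (.leaf ([(nat_lit 32), (nat_lit 32), (nat_lit 32)], (nat_lit 0), (nat_lit 1))) (.leaf ([], (nat_lit 1000), (nat_lit 0)))))) (.node (.node (.node (.leaf ([(nat_lit 37), (nat_lit 49), (nat_lit 53), (nat_lit 33), (nat_lit 37), (nat_lit 49), (nat_lit 53), (nat_lit 33)], (nat_lit 8), (nat_lit 4))) (.leaf ([(nat_lit 49), (nat_lit 53), (nat_lit 48), (nat_lit 53), (nat_lit 32), (nat_lit 52)], (nat_lit 5), (nat_lit 4)))) (.node (.leaf ([(nat_lit 33), (nat_lit 37), (nat_lit 32), (nat_lit 37), (nat_lit 48), (nat_lit 36)], (nat_lit 4), (nat_lit 4))) (.leaf ([], (nat_lit 1000), (nat_lit 0))))) (.node (.node (.leaf ([(nat_lit 37), (nat_lit 36)], (nat_lit 1000), (nat_lit 0))) (.leaf ([(nat_lit 33), (nat_lit 36), (nat_lit 32), (nat_lit 48), (nat_lit 33), (nat_lit 36), (nat_lit 32), (nat_lit 48)], (nat_lit 7), (nat_lit 1)))) (.node (.leaf ([(nat_lit 49), (nat_lit 52), (nat_lit 48), (nat_lit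 32), (nat_lit 49), (nat_lit 52), (nat_lit 48), (nat_lit 32)], (nat_lit 6), (nat_lit 1))) (.leaf ([], (nat_lit 1000), (nat_lit 0)))))))) (.node (.node (.node (.node (.node (.leaf ([(nat_lit 32), (nat_lit 32), (nat_lit 32)], (nat_lit 0), (nat_lit 2))) (.leaf ([(nat_lit 33), (nat_lit 37), (nat_lit 49), (nat_lit 53), (nat_lit 33), (nat_lit 37), (nat_lit 49), (nat_lit 53)], (nat_lit 8), (nat_lit 3)))) (.node (.leaf ([(nat_lit 48), (nat_lit 49)], (nat_lit 1000), (nat_lit 0))) (.leaf ([(nat_lit 49), (nat_lit 53), (nat_lit 33), (nat_lit 37), (nat_lit 49), (nat_lit 53), (nat_lit 33), (nat_lit 37)], (nat_lit 8), (nat_lit 5))))) (.node (.node (.leaf ([(nat_lit 37), (nat_lit 32), (nat_lit 37), (nat_lit 48), (nat_lit 36), (nat_lit 33)], (nat_lit 4), (nat_lit 5))) (.leaf ([(nat_lit 32), (nat_lit 37), (nat_lit 48), (nat_lit 36), (nat_lit 33), (nat_lit 37)], (nat_lit 4), (nat_lit 0)))) (.node (.leaf ([(nat_lit 32), (nat_lit 37), (nat_lit 32), (nat_lit 37),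 (nat_lit 32), (nat_lit 37), (nat_lit 32), (nat_lit 37), (nat_lit 32), (nat_lit 37)], (nat_lit 9), (nat_lit 3))) (.leaf ([], (nat_lit 1000), (nat_lit 0)))))) (.node (.node (.node (.leaf ([(nat_lit 52), (nat_lit 49), (nat_lit 53), (nat_lit 48), (nat_lit 53), (nat_lit 32)], (nat_lit 5), (nat_lit 3))) (.leaf ([(nat_lit 53), (nat_lit 48), (nat_lit 53), (nat_lit 48), (nat_lit 53), (nat_lit 48), (nat_lit 53), (nat_lit 48), (nat_lit 53), (nat_lit 48)], (nat_lit 10), (nat_lit 0)))) (.node (.leaf ([(nat_lit 36), (nat_lit 36), (nat_lit 36)], (nat_lit 1), (nat_lit 1))) (.leaf ([], (nat_lit 1000), (nat_lit 0))))) (.node (.node (.leaf ([(nat_lit 32), (nat_lit 33)], (nat_lit 1000), (nat_lit 0))) (.leaf ([(nat_lit 52), (nat_lit 48), (nat_lit 32), (nat_lit 49), (nat_lit 52), (nat_lit 48), (nat_lit 32), (nat_lit 49)], (nat_lit 6), (nat_lit 2)))) (.node (.leaf ([(nat_lit 53), (nat_lit 33), (nat_lit 37), (nat_lit 49), (nat_lit 53), (nat_lit 33), (nat_lit 37),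 (nat_lit 49)], (nat_lit 8), (nat_lit 6))) (.leaf ([], (nat_lit 1000), (nat_lit 0))))))) (.node (.node (.node (.node (.leaf ([(nat_lit 53), (nat_lit 48), (nat_lit 53), (nat_lit 32), (nat_lit 52), (nat_lit 49)], (nat_lit 5), (nat_lit 5))) (.leaf ([(nat_lit 36), (nat_lit 32), (nat_lit 48), (nat_lit 33), (nat_lit 36), (nat_lit 32), (nat_lit 48), (nat_lit 33)], (nat_lit 7), (nat_lit 2)))) (.node (.leaf ([(nat_lit 52), (nat_lit 53)], (nat_lit 1000), (nat_lit 0))) (.leaf ([], (nat_lit 1000), (nat_lit 0))))) (.node (.node (.leaf ([(nat_lit 52), (nat_lit 52), (nat_lit 52)], (nat_lit 3), (nat_lit 1))) (.leaf ([(nat_lit 32), (nat_lit 49), (nat_lit 52), (nat_lit 48), (nat_lit 32), (nat_lit 49), (nat_lit 52), (nat_lit 48)], (nat_lit 6), (nat_lit 4)))) (.node (.leaf ([(nat_lit 36), (nat_lit 33), (nat_lit 37), (nat_lit 32), (nat_lit 37), (nat_lit 48)], (nat_lit 4), (nat_lit 3))) (.leaf ([], (nat_lit 1000), (nat_lit 0)))))) (.node (.node (.node (.leaf ([(nat_lit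 53), (nat_lit 32), (nat_lit 52), (nat_lit 49), (nat_lit 53), (nat_lit 48)], (nat_lit 5), (nat_lit 1))) (.leaf ([(nat_lit 32), (nat_lit 52), (nat_lit 49), (nat_lit 53), (nat_lit 48), (nat_lit 53)], (nat_lit 5), (nat_lit 2)))) (.node (.leaf ([(nat_lit 48), (nat_lit 48), (nat_lit 48)], (nat_lit 2), (nat_lit 1))) (.leaf ([], (nat_lit 1000), (nat_lit 0))))) (.node (.node (.leaf ([(nat_lit 36), (nat_lit 37)], (nat_lit 1000), (nat_lit 0))) (.leaf ([(nat_lit 49), (nat_lit 53), (nat_lit 33), (nat_lit 37), (nat_lit 49), (nat_lit 53), (nat_lit 33), (nat_lit 37)], (nat_lit 8), (nat_lit 1)))) (.node (.leaf ([(nat_lit 48), (nat_lit 33), (nat_lit 36), (nat_lit 32), (nat_lit 48), (nat_lit 33), (nat_lit 36), (nat_lit 32)], (nat_lit 7), (nat_lit 0))) (.leaf ([], (nat_lit 1000), (nat_lit 0)))))))))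
noncomputable def c3Tt : BT Nat := (.node (.node (.leaf (nat_lit 0x7d0446a0a8a055f825a68e2521e8e8aa5c2e1b42840641f2c83a33054a43f4b1c4a06b2b110d2121aaa0e4640a59078c63d310f28233308ec66c706c4424bd05af0211918aec4ce50a8c41432300ea262f7f89a80331602156127e8b558191697c73090ec085d08112a8322b03978705d1b8b224306504df0277b844540755069581b6c8b456eb0c3ac30ea043202cf512bd018c50b8a40e2a4505848062e0d9dc242d8d4b4346301d8a181288c0c8a0bb2030e8044f4545819cec2d3b0b09110140f8162c258a07e162f930a1cc0a72870401e02a202b150a45429470a51c293214944641f650661830708343a05800b9b81179094a0310f44439100693c604e17aac368604214221b02871f60a7d07dee196989db813268b8340542848364c1692c58bc0e2a0168407854084a15b484e16248a890298d8808c280a01108105f0997e0d0a84806a30428412c303414444413bc418f01204e201263871c4057084d3c090780d7e0f1f89820a60223c12a40203404f40c0f44a3c123c41c0e1d08c7222540417a1c3f82816021b8846c20060d43efb088cc3c320e828047f058c438e60a82d1e0c538118406508393a034f034fc080480814a30728806e80b3a83086090b03608011f812093d01cf4074f80c0e01158685419148618c17040902e230b30c1cc2049e40a0500b9c0ce7030183e150f0503a137103408013c81836120d0440aa704a9818a5012901815080501e780180c020451020240e500053e07078353a0901004f004019dc02010003418a50202c160a0502412080400800003b8080e075000c0a060201406040100c0201010000276001d80075001d40074001d00000))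 (.leaf (nat_lit 0x1b1266c499b0266c0987323eb893af266bc9874d48f35a46390cb503ed612f584bd5913544a39e9477a71ee8c95a3256988471196a897a4221cb3a42d0104e02ccd9175c4cce11f3e3ecf114e39821e688b9716e506996201bc579920e547e703689f0437c290f2244ce124e64cc191b082c376b4977e1e5f4526c11e28598021dfc5983239b73448c610f3649c58b2f8443588f3c49c68f8d99320648519123e40866a11df08ba4256ac966bc61173048c81130a47c011b122cbd908d22335684839d24e8885a22160465a6251a0477b219a74049d090aee4033886f23abc0daf43fcc920d1731464c886610ddc837615e589175185d05e67))) (.node (.leaf (nat_lit 0xb88d6e421b78f2e03132882dc30ca922f441331903d6c106a0976d196387d8e1f6348b9f249974e4ab58eed22ab30e2d03c31876d428b38d0c97e236a4976518dbc7e620eda07b631cd907463b58f74a4ab10d6c239b0092be2d30876bc333156c5e600dd706f5a15d746d7920d9079591c986a81d2f86ac23baa8d6b021ab8deb23ab18f0c15019d384b661ed3c554b0f5343f4c1b978345fc111e9227a50aeb83aab8e6a2212e86a98382f4dc6d371b4e0485c0bde0835d1d5206d481b176ac21b88feaa39b10ee4e34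2d85e542294078b92d15d4c6394244b05a5a0bc9c6b671ec8c505ba1096a038a006e7e262c05a7c2aaf0ee821d2cd105d43135b47c72259c495812114429331494aa634a90aee03fb28f230268c870a0138b894a30c09c48330d1793c256e1fc38413617dd480508986eb63a2704a1a30928a21615ba1026c3027c0c4d441941c45020d134230009cb83f3015139b42c260425834cb922be3b7f091b2197e86c9a4b083685b8b229c0938921e288d8423dfc8c4ca90c65a34ad0ea943737922ec406c09c941025b5c524907d3c71691ecf8673d0b4c05d1d0f928900f6b8a9ac23be91a68299a0a66632990509392225cc804607c7041260ac945f231a5a87a47a48dcda4769845f0192203a0c2269041b02b22d0c6503174fc66ff0daec3918188fc1abe079029c38a10cdf81f8b0547a0c7a8622e317904c7cef123bc48ee0bce06cfe16d8076f0070f0183d5b088740b36119ac2935914d4443490cd0421d8e416b611c203507174184f05074ac3d2a1a8eae43fab0d4ce4133102a237ac0e568201b82c716c1f4283d1c1446c1f0e181947e3605ad04237)) (.leaf (nat_lit 0))))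
noncomputable def c3T (p : Nat) : Nat := row c3Tt (nat_lit 5) (nat_lit 31) (nat_lit 153) (nat_lit 11417981541647679048466287755595961091061972991) p
noncomputable def c3C : Cert := ⟨(nat_lit 434), c3F, c3P, c3R, (nat_lit 77), [32, 33, 36, 37, 48, 49, 52, 53], fun c => Nat.land (c3T c) (nat_lit 511),
  fun k c => fld (c3T c) (Nat.add (nat_lit 9) (Nat.mul (nat_lit 18) k)) (nat_lit 511), fun k c => fld (c3T c) (Nat.add (nat_lit 18) (Nat.mul (nat_lit 18) k)) (nat_lit 511)⟩
theorem c3k : c3C.full 3 1 rl2 [[32], [36], [48]] = true := by decide +kernel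
noncomputable def c5Ft : BT Nat := (.node (.node (.node (.node (.node (.node (.node (.leaf (nat_lit 0x80000800002710001f00008c0000780002210001d0000880000700002250001b0000784000680001e0000190000784000600001a0000170000694000580001640001500005840005000016000013000059400048000124000110000484000400001200000f00004c4000380000f00000d0000384000300000e00000b00003c4000280000b0000090000290000200000b10000700001c0000180000710000500000c000010000024000030000080000080000250000100000)) (.leaf (nat_lit 0xfc00a88005bf1000a700118c00076800463f00118001d9c4008000091610028600205c400728003b70000a3000edfc003b40072ff000a3002878400a8000a8a1002a10025ec0009d80087a0002770022bc40075c008ab0001070022afc00ab8008aa10023c0022bc4009f8007570000e9001d590008f000757f0027f001d59000ac0008f30002aa001d6c40041c0075f0002ae001d784008880075ff001d7002ad8000ac000abe4001d5002b08000534006825001a0002af))) (.node (.leaf (nat_lit 0xc401080008cf00041f002338401078008cf00041d0022fc401070008bb00041b0022e9001068008ba0004190022d9401060008b250041700225c40105800892400415002239401050008860004130021cc0010480086a4004110021a94010400085640040f0021590010380085210040d0021180010300084600040b00210c401028008364004090020d80010200082e5004070020884010180082200040500208c4010100081e0004030020690010080081650040100204))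 (.leaf (nat_lit 0x80010a800bcb00042a0040190010a8010a7100429002a88400950010a640039e0035e9000d7800cf710036000406c4006a000d8b0003a300362fc00d8800e8b0004280041790010a000cd20002be00428c00109c00dce400427004269001094010930003b5004239400e980108e4002cd00422800108c0108b1002ed004239000adc0108e50030500421800100001086400260003fe90010800098300040f003ff80009ec01082500420003fec0010800107e00041e003ef)))) (.node (.node (.leaf (nat_lit 0xc0008800030a50021f000c290008780030a10021d000c0c400870002ff00021b000bf8400868002fe000219000bfc400860002fb000217000be8000858002fb100215000bdc000850002f6500213000bd9000848002f7000211000bcc400840002ef00020f000bb8400838002ee00020d000bbc400830002eb00020b000ba9000828002e7100209000b8c000820002e2500207000b89000818002e3100205000b5c000810002d6500203000b59000808002d6500201000b3)) (.leaf (nat_lit 0xfc00dd4006b3f00097003748400c6c00ddb000348003758000dd400dd240034c003759000dcc0077e50034700372900061000dcb000234003729400dc4008bb000371003709000a0000dbe00021b0036e94005f80096e40036d0025b8000d900096ff0025b0036c8000db40094b00036d002c09000db400db20001cf0036d9000d1000d830002a7003618000d9000db300036b0036a800098c00da7000369002298400af000da650036800205c000da000d9f100148000e7)))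 (.node (.leaf (nat_lit 0x94003ec004ef000139001388000200004de4000cb00137c0004d8004d64001340013390004c800436000131001309000264004bf0000930012fc0004b8004b70000c7000a194003e8001aa5000a1000fb94001400013e5000de00050fc003fc0013ff00050000fcfc003780040240012c000fe80004b0004ae4000740006294001d00018600012a0012990001d8004aa0000f600128c0003c8001a710010100082c000220003ca400127000d380002200049f00012600125)) (.leaf (nat_lit 0x900130c01147000474004c38400f600130b0004c2004bb90013080101a00040a004c2c0011a80130a1004c10041090013040106e400432004c1c0010c001306000476004c0c001300012fe10038e004c090012f80104a0004be004078401134012f70004bd004b490012f400e660003a3004bd94012f0010330003f7004bc9400fa8012f20004af004bcc001254011b30004bb0046a90012ec012ea0004b9004bbc401198012ea000468004ba84011f0012eb0004b900470))))) (.node (.node (.node (.leaf (nat_lit 0x80004800017650011f0005c90004780017210011d0005c80004700017210011b0005bc4004680016b0001190005a84004600016a5001170005990004580016610011500059800045000166500113000589000448001621001110005880004400016300010f0005684004380015a00010d0005694004300015640010b0005584004280015600010900055940042000152400107000548400418001520001050005484004100014f10010300052c0004080014a00010100051))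 (.leaf (nat_lit 0xc0008c400a0f1002de00270c4009c40057b0000e50015efc00578009ca50031d0015e9000c78008261000ec002618000a0c00987f0026100282800053000c7b00031d0018b8400b44008321002ea0020b9000ba800b7a4001ff002ea9400c70007fa0002a40031cc000c6c0081e40031b001de9000c6800892000319003189000c5c00522000316003159000c5000c4e4002ba0031194008c000c4600018d00313840052c00c4e0003120031194008a400776400290001dd))) (.node (.leaf (nat_lit 0x90000cc0005e0000320003190000c00007200002f0002ec0000b4000b240002b0002a8000054000ae10002a00011c0000a4000a24000270002680000940009240002300022c0000580008e0000210002090000500008700001f0001e80000740007250000d0001c900006c0002e00001a0001980000600005e50000e00017900005800056000014000139000048000460000100000fc0000380003600000c0000b940001c0002f00000a0000990000180002300000700006)) (.leaf (nat_lit 0x840114c011fb00047e0035290011f800bf20003b30047ec000c5c011fa400444003b4800111000e6e0003bd004449401110011f600047d0034d9000ed0011f61004680047cc0011f000c6a40047c0047bc000e54011f310047b004678400bf4011ee50047a002ccc0011e8011e60003a50047990011e400f7a4003a4004799400be800ece00029d002fa9000d64011e24002fa0039a84011e000beb000478003639400b48011e21004770045b90011d4011df0004770045a))))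 (.node (.node (.leaf (nat_lit 0x9000c800051f00031f001469400c780050f10031d001428000c700050650031b001409400c68004fe1003190013f8000c60004fe5003170013e8400c58004fa0003150013e9400c50004f64003130013d8400c48004f60003110013dc400c40004ef10030f0013ac000c38004ea40030d0013a9400c30004e640030b001398000c28004e6500309001389000c20004e2100307001388000c18004e310030500137c000c10004de400303001368000c08004da50030100135)) (.leaf (nat_lit 0xc0003b8008964003dd00225fc0089400a26500289003dd80008a800f760003dd0021fc000f7400cbe10025700383900095c00b0640028f002578000a3c00f724003d7003dc9000e8c00f6e000238003dac000f640080a4003d9003d89400f5c007af0003d700237c000f58007ea0003d60033dc000f5400f530003d3003d2c000f4400aca0003d0003cf940093c00f425003cf00366c400dfc00a5700018600295fc00e0000a57000331003cf9400d3400f3e100321003c2))) (.node (.leaf (nat_lit 0x94008700072b00021c0021b8000868008671002190014c9400498008670002180021790006740085a4002160012580006040085b00021500214840045c00852100213001cac00084c0049e40021300212c00070c008470002100020f90007680083e00020e0020dc0008300082e0001da0020ac40045c0052b00008d0014afc006400052a50013e00148800052c0063600013c0014a84008240052b1000c700143c0002840050e40020900143fc0050c0071e5001c700209))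 (.leaf (nat_lit 0)))))) (.node (.node (.node (.node (.leaf (nat_lit 0x8000280000cf10009f00032c000278000cb10009d00031c000270000c640009b000318400268000c200009900030c400260000bf0000970002f9000258000bf1000950002ec000250000ba5000930002e9000248000ba5000910002d9000240000b610008f0002d8000238000b650008d0002c8400230000b300008b0002bc400228000ab0000890002a9000220000a6000087000299000218000a200008500028c4002100009f0000830002784002080009e00008100027)) (.leaf (nat_lit 0x8000b2c00b7a400288002dc9000b6c0091e5002db00228c000b6c009da0001a9002da90004b800b6b0001a5002dac000b640094b0002d800213c00049c00b625002d80018b8000b2800b62400222002749400aa0009d310011c00263c000b580098ff00263002d59400470009b64002d40026dfc00b4c009b700011f001a58000b5c00b4a0001a6002d79000b5c0067b0002d6002d5c000b5000ac24002d4002d384006940056f0002d2002d1840069800b4a400254002d0))) (.node (.leaf (nat_lit 0xc40128000c2f10049f00309940127800c1610049d00304c40127000c0f00049b00303940126800bfe400499002ffc40126000bfa500497002fe900125800bfa100495002fd940125000bca100493002f2c40124800bb3100491002e2c00124000b8a10048f002e1900123800b7e00048d002dfc00123000b5f10048b002cd900122800b36500489002c9840122000b22000487002c6800121800b12400485002c3800121000afa400483002bd840120800ade400481002b4))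 (.leaf (nat_lit 0x900099c00a5e10026700368800115400da3f0045400368900115400a3a00045500454940114c009bf000453004358400ecc0114f00045200334c0010540114a5003d500452800114800fa700045100450940113c0111b0004210044f80010bc0113e40027b0044ec0010ac0113a1003a30044dc00113400a4a40044d00416c000c78011361003c30044cc00113000d4e40044c0044b8000c34011330002a40044cc00112c0105310044b0031484010d40112f0003ed003f3)))) (.node (.node (.leaf (nat_lit 0x9000a80003f710029f000fbc000a78003ee50029d000f99000a70003e600029b000f99400a68003e3000299000f7c400a60003db000297000f69000a58003d6000295000f59400a50003d2400293000f48400a48003d2000291000f4c400a40003cf00028f000f38000a38003cb10028d000f1c000a30003c650028b000f19000a28003c7100289000eec000a20003bb000287000ed9400a18003b6400285000ed9000a10003b2100283000ec8000a08003b3100281000ea)) (.leaf (nat_lit 0x8000d2000ea60003a8003a7c000e9c009a24003a6002b7c000e9800e9610038a003a68000b6800e925003a3001e7c000e8c00e8a4003a1002e1c000e8400e821002dc003a190006d800e8240039f002b18400e7c00e721002900039fc000aa400e7e50039e0033dc000e7800e5200031b0039d8000e7400ddb00039d0039c9000770009325001dc0034fc4005f400a4f00034f00293fc00da800a4e0002900039c9400d3800e7300039b0039a8400a6400e6a0003700038d)))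 (.node (.leaf (nat_lit 0x80006e0006df0001b6001b590004bc006d24001b3001b280006c4006c24001af001ae80006b4006b30001ab001aa90004d8006aa400119001a990002540046640015a001a890006a00046e0001a8001a79000698006960001a4001a39400684004160000930010784006880041e500101001a2c0006840068200019f0019e9000678005e650019d00125c0006740067300019900198800026c0065f000196001958400300006564000c800194c00064c0064b0001910018d)) (.leaf (nat_lit 0x94013900119b0004e4004e38401188013921004e3004da94012100138e10047a004e390012e00138e5004ad004e2900115c0138b0004bc004e2940133c01386100427004e19001374013870004cf004e1840118c013830004e00045d90013800127e000431004e0c00103001382400443004df94010b80137e000438004dfc0011b00137b100495004de80011280137a1003f3004de900122c0137a000474004dd80013740109a5004dd004cfc001374012365004d2004dc))))) (.node (.node (.node (.leaf (nat_lit 0xc0006800024a10019f0009280006780024b10019d00091c0006700024610019b0009180006680024710019900090c0006600024200019700090c4006580023f0001950008f90006500023f1001930008ec0006480023a4001910008ec4006400023710018f0008cc0006380023250018d0008c84006300022e00018b0008b94006280022a4001890008a84006200022a0001870008a8400618002260001850008980006100022310018300087c0006080021e50018100087))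 (.leaf (nat_lit 0x9000d1800d171000aa00121c00078c00487f00121001e2fc0078c00b7600017d002238400d140088e100167001e38000d100078ff001e300343840078000af61001e10033dc00057c002af10015f001e784008e00079ff000ab00339fc0079c00ce3f0015f001e69000ce8008b30002ef00345c000d1400c7210017d003458000d1000d0f1001cc003368400d0800b9a40033600342c00090400d0a4003410034080005c000d0700016a001ae80006ac005b2000340001ab))) (.node (.leaf (nat_lit 0x9000288001ce1000c700073fc00304001ce1000c7000c190001ac0031f0000c6000c590002a4003120000c3000c29000288003065000c0000a0c0003000014e4000bf000be80002f4002f24000bb000ba80002e4002e25000b7000a7c0002dc002da4000a3000b680002d4002d2500042000b4c0002cc002ca4000b1000b080002bc002ba4000ad000ac80002ac002aa5000a90003fc0002a40026e0000a8000a7c000298002960000a4000a39400288000f70000a200086)) (.leaf (nat_lit 0x800128400d8f0004a0003e89400bf800f4e400497003d38400ebc00f4e0003b6003d3fc00f4c0125a000497003ee8000dcc0127e40049f003eec00127c011961003be0049fc00127800fd240049e0042180010080127b0004130049e800127400e0a0004900049c900127000e6f00049c0049b8400d64012730004990038ac000cc00126600049a0042c9001268012660004920049ac000efc0126a40030f0047f8000c3c012664004980041fc0012600124e10040100498))))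 (.node (.node (.leaf (nat_lit 0xc000e800069b00039f001a4c400e780068f10039d001a2c000e700068b10039b0019ec000e680067a0003990019d8400e6000672000397001999400e580065a400395001968400e500065a000393001969000e480065710039100194c000e400065240038f001939400e380064a40038d001928400e300064a00038b001929400e280063f1003890018cc000e20006324003870018b8400e180062b10038500189c000e100062710038300188c000e080062310038100187)) (.leaf (nat_lit 0x900100401002000234004008000ffc00ffa40023d003ffc000ff800e6600036f003fd9400ff40088f0003fd003d99000ff000eae0002fb003fc9400ff00082f0003fc002ca8400fe400ff2500388003c78000dec00e22400388003f98400a3400e2250028d003fb8000fec00fea40036e003fb90008ec00feb0003fa003aac00083800fea5002ef003fa800087000f1e5003c7003f98000fe400bef0003f9002459000e2400862000210003899400e2400fe24003df003f7))) (.node (.leaf (nat_lit 0x840076000a1200028300282c000a0400a0250027f0023cc0009fc009fa00027d0027cc0009ec0084a00025d0027ac0009e4009e21002770023cc0009dc003fa40027700276c0009d4009d30001e800273c0009cc0080e40012b00273c0009c8009c64002440027180009c0009bf00026e0026d84004b4009b70000f70026c94009b00091a00025c0026c90009a4009a200024400268c00099c0099a40026500264900098c0051a4002620012dc0004140098a00026200172))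 (.leaf (nat_lit 0))))))) (.node (.node (.node (.node (.node (.leaf (nat_lit 0xc0001800006e10005f0001b80001780006f10005d0001ac0001700006a50005b0001a90001680006b10005900019c000160000665000570001990001580006710005500018c000150000625000530001890001480006310005100017c0001400005f00004f0001684001380005a00004d00016c4001300005700004b0001580001280005710004900014c0001200005240004700014c4001180004f0000450001394001100004e40004300013c4001080004b00004100012)) (.leaf (nat_lit 0xfc0087800482000122002cbc000a1800b2e1002ca0011e8000b240085300024e002c8c00051800b1e0002b9002c7c0008c000b1b0002c5002c49000b1000866400126002c4c00058c00b0e00029a002c3c000b0800b064002c0002bfc000a5000aff10015d002bf800049800aff0002be002bd9000af000aef00022f002bc9400ae8008c30002ba00154c000ae4007224002b9002b8800045800ae70001120018ac0007040044a0001130029ac0004c0004c7000248002b8))) (.node (.leaf (nat_lit 0x9001180009e200045f002769401178009d610045d002719001170009c300045b0026f9001168009bf10045900269c001160009a71004570026890011580099e1004550026780011500099f1004530026584011480099710045100264c0011400099200044f00264c0011380098650044d0025f94011300097a40044b0025ec001128009724004490025884011200095e1004470025484011180094200044500250c4011100093f0004430024f94011080093e1004410024d))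 (.leaf (nat_lit 0xc0010fc00e3a40043f0043ec000c04010f71001b30038cc000ecc00e33f003b20038c840092c00eba00043d003aefc010f000eba40043d0038c80010f4010f20002750043bc0010e8010d200043a004399000cb0010ea5002c70043a9000da4010e70004390036dc000b00010e650025100439c000ae0010e3000437002fc8000ebc00eda40042d003b69400efc00eda0002ba0043680010d800f07000436003c0c0010d40099640026c004358000c00010d210037200434)))) (.node (.node (.leaf (nat_lit 0x84009800038200025f000e0c4009780037e50025d000df90009700037f00025b000dd840096800376000259000ddc40096000373000257000dc800095800373100255000dbc0009500036e500253000db90009480036f100251000d9c0009400036610024f000d980009380036710024d000d8c0009300036310024b000d7c0009280035e500249000d790009200035e100247000d5800091800356100245000d4c4009100034f000243000d384009080034a000241000d2)) (.leaf (nat_lit 0x8000e3000e2f1003300038a9000e2800caf00038900388c000e1c00b530002b0003878400e1c00762100284003879000b6000e1e0003860037c9000e140084700038500384840083c00e1710033b00325c00058000c97f0033c003258000c9800c7600031d00384900067000e12500328003848400c9800e1300038300382c400a4400df650016a002fb9000d2800beff002fb003498000d2800aae40020c003818400e0400aae10034a00381c000e0400ca70003800037f)))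 (.node (.leaf (nat_lit 0xc000404005e70001780017780004d8005da40015c0017680004dc005d700017400173900051c005ce000172000e1900056c005ca4001710017080005bc005ba40016d0016c80005ac005aa0001630015290005600054a00015100169900055c005a700009a00169c0005a00059e00016600165c000594002d30000de00165940020c005964001640016390005800057e00015e0015d94005700020700015c0015b90001fc0056e50015a0011bc0005680056640012900159)) (.leaf (nat_lit 0x900107c012fe4004bf00498c00135000fb24004d4004d380012fc0135300046b004d4c40134c0115a0004c7004d384010fc0134e1004d2004b3c0013100134b00047d004d180013440132b1004aa004d19001334013470004ad004d09000ec00126f1003eb004d08000ec0013424004a0004d0c000fc00133e000479004cf9001338011af0004000045e80011780133a5004ce00419c0013380106210042d004cec0012f80133600048c004cdc0013300132e0004cb004c4))))) (.node (.node (.node (.leaf (nat_lit 0x9400580001e640015f000798400578001e600015d00079c400570001e300015b00078c400568001df000159000778400560001de00015700077c400558001db000155000769000550001db10015300075c000548001d6400151000758400540001d200014f000748000538001ce50014d000719000530001c250014b0006f9000528001be1001490006f8000520001be1001470006e8000518001bb1001450006dc000510001b61001430006d8000508001b70001410006c))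 (.leaf (nat_lit 0x90006e000bda500131001b79000554006dff002f3001b780006e8009d30001b9002aac000758006e60002f1001b98400cc0006e61002f1003309000cb800cc21002750024a94009d400cbe00032f001b5c4007ac00cbe0001bd0032e900055800cbb0002490032e9400cb40085300032d0032c9000b1c00cb21002f40018f80004c80063ff002f50018f940063c00cae0001a00032bc00086400caa10021700206900085c00ca600031e00329800065000c7e00031f00328))) (.node (.leaf (nat_lit 0x8000194001ff00007e0007d84001f0000a240007c0007bc0001e8001e64000780007780001d8001d700007400073c0001c8001c70000700006f90001b8001b70000560006e840014c001b240003e0006c94000f80007e00006b0006a9000100001ae4000690005180001a00019f0000660005bc400098000c24000650006480000980019700005b0001d800015c0008a0000640005784001900008b0000630006294001840018a10005b00062c0001840018200005f0005e)) (.leaf (nat_lit 0xc000f9400fdb000344003e59400f900123700048d003e480012280123610048c003a09401208012324002ec0048cc0010200123250048b003e580010500122e10035d0048bc00122c00bc30004550048a9000b7c00e960002df0048a90010880122a4004890040d8000ca80122700044800489c00104401222000488004579000e180122250039800488940121c00e5f0004420048794010140121e00046f004878000df80121a100438003eac001210011bf00046f00422))))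 (.node (.node (.leaf (nat_lit 0x8000d80005df10035f00176c000d78005db10035d00175c000d70005d650035b001759000d68005d700035900172c400d60005c6100357001718000d58005c710035500170c000d50005c25003530016f9000d48005bf1003510016ec000d40005ba10034f0016d8000d38005b710034d0016cc000d30005b300034b0016a9400d28005aa4003490016a9400d20005a2000347001689400d180059e400345001678400d100059e00034300167c000d080059a50034100166)) (.leaf (nat_lit 0x9400ef8007da0003ec003ebc40091800f024003c0003ecc000fa800fa6100265003e99000f5800fa7100285001fd800080800c16000305001fcc0007e800c23000308003d68000fa000e7b10030b003e89000f8800fa300038d002ffc400c4400bff000313003e784009cc00f9e4003e7002a58000b6400f9e0003e6003b58000f9400f925003e3001f8c000f8c00f8a4001f5003e28000d6800a7f00031a003958400c2400e5a00029f0030884004e0004fe1002e900138))) (.node (.leaf (nat_lit 0x94005a00090610009000156800026c0055bf001560019780005a40064e4001930023f84005440064e0001c10017394004940051240019d0014484002f80051200018100144fc008580051250009e0014590007040051610024000145fc00700005170001c0002169000900005f20001c000240c0008fc004aa0000910004584002440035ff000450019bfc0035c0066bf00091000d6c000454008c300012a000d0800043c0036200023e0010f84008f80036240018e0023e))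 (.leaf (nat_lit 0)))))) (.node (.node (.node (.node (.leaf (nat_lit 0xc0003800011e1000df0004780003780011e5000dd0004690003700011a1000db0004680003680011a5000d9000459000360001161000d7000458000358001171000d500044c000350001120000d300044c4003480010f0000d10004384003400010e0000cf0004394003380010a1000cd0004280003300010a1000cb000418000328001071000c900040c000320001024000c700040c400318000ff0000c50003f9000310000fe1000c30003e8000308000fa4000c10003d)) (.leaf (nat_lit 0x840075c00bde0002f5002f4900055400bcf000131002f2c00063400bc70002f100191900072000bc60002f0002ef9400a3000bc30001ac002cf80008ec006ba00028a0023b94008ec00bbe0001a5002ee840056c00bba4002da002ee9000bb4009560002ec0026d8000a1400baf0002eb002ea8400ba000bae5002e90027cc000ba400ba2100285002e890009e800ba30002e7002e6940084000b960002e500164c000b9400b9250028f002c1840098c00af250011000174))) (.node (.leaf (nat_lit 0x940138000fba0004df003ea900137800f971004dd003e4c00137000f7a0004db003d9940136800f561004d9003d5940136000f4a0004d7003d2900135800ec20004d5003b0940135000ebe4004d3003afc00134800eba1004d1003ac900134000ea20004cf003a5c40133800e920004cd003a0c40133000e630004cb00398940132800e420004c900390c00132000e3f0004c70038b840131800e2b1004c500386900131000e0e5004c300382940130800dff0004c100377))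 (.leaf (nat_lit 0x90011a800bc2500455004699000a38011a700035b0046994011a000a47000468004618000b000119e100327004679000a480119e00045800466c0010d00118b0004620043ac00119400c26400465003c980011880119610046400443c00119000f6300041700463c00118c010a24002e90046390011380118b0004610028a8001080011870002e0004608000c2401183100356004608400e580118240044a00460940117c00c7f00045f00410c000cdc0117e50027e0045f)))) (.node (.node (.leaf (nat_lit 0x8000b800048f1002df001228000b780048b0002dd001219000b70004871002db00120c000b680047f1002d90011e8000b600047a5002d70011dc400b58004730002d50011c9400b50004724002d30011cc400b480046f0002d10011b9000b400046a1002cf0011a8000b380046a1002cd001198000b30004665002cb001189000b28004621002c900117c000b200045a0002c700116c000b18004571002c500113c000b100044e0002c300113c400b08004470002c100111)) (.leaf (nat_lit 0x9000eb000f1250039d003c48000acc00f124003c30029e8000f0c00c365003c300312c000f0c008cb0003c2002069000f0800f07000392003c2c000f04008920003c1002ba8000f0000efe4003be00226c000ef800ef6100373003be8000e6c00ef64002b1003bd9000ef400e7e5003bc002f4c000ef000ae70001c8003bc8000cb800ef2000236003bb94007dc00eee4001c6003bbc0008b400eef00038f003ba9400bc800eea000274003ba9000b8400ee64003b9003a1)))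 (.node (.leaf (nat_lit 0xc0007a8007a70001cd0016d84005a8002da00007d000b6fc002d8005af1000a400150c00073c00543f00150001ce94007a0003320001cc001e8c00079c0079a4001e5001e48000318007930001e3001e29000784007824001df00182800077c0077a000140000ba800060000502500140001dec000774007721001db001d290003ac0076f0001da001d990002dc007624001d7001d68000758003ae0001d5001d4900074c0074a0001d1001d0c00073c0073a4001cd001cc)) (.leaf (nat_lit 0x90013d4013be0004d4004f5c00137c013d64004f40046d80013a0013d25004f4004f2c0013d0012ea1004f3004dc94011d4013ce400477004f3c00134c013ce10049b004f290011b4013cb00048a004f28401138013c64004f1004e6c4012e4013c60004a2004f1c0011c0013c64004cc004e890013c00139e1004f0004cc840139c013c24004a7004f0c00121c013c21004ef0047794011c8013be10045b004efc0013a4013bf000475004ee9401370013ba0004ee004e1))))) (.node (.node (.node (.leaf (nat_lit 0x9000780002aa1001df000a98000778002a71001dd000a8c000770002a24001db000a8c4007680029f0001d9000a790007600029e5001d7000a690007580029a1001d5000a680007500029a5001d3000a59000748002961001d1000a58000740002971001cf000a4c000738002925001cd000a49000730002931001cb000a3c0007280028e4001c9000a380007200028b1001c7000a1c400718002830001c5000a09000710002824001c30009f80007080027e5001c10009e))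 (.leaf (nat_lit 0x8400c3000d8e40033b003638000d6c00d8a10030b003629000af800d8a5002be001778000d8400d82400333003619000d7c00c8a50035f002e6c000d7c00d7b00035d0035c9000d6c00d6a1001360013980005d8004e7f0013900302fc005d800c2a00030b0035bc000a2c00d6e10035a003089000b4800d670001e400359900083800cca50020e003589400d6000ccb0003580034084006bc00d6200035700356c000d5800b825002a300356c000d5400d520002a10034b))) (.node (.leaf (nat_lit 0x9000400003fe0000fe000fd90003f00037a0000fb000fac0003e4003e24000f7000f680003c8003de1000f600060c0003d4003d24000d5000f39000200003ca000096000f1940012c001824000f000060fc00180003be5000b40006390001080018ff00063000ce9000268003360000f00005a90003c0003bf00006c000f080003b8003b64000c3000eec0003b0003ae4000a8000eb80002dc001c20000ea000b790001c000226000070000ea9000350003aa4000e9000e8)) (.leaf (nat_lit 0x8401144012c30004b00041190012c0012be000485004b0c001220012c200035e004afc001274012ba0004ae004adc400ed0012ba400490004aec000fac012b6500457004adc4012b000d1a000483004ac8401024012b2400361004ac80012ac00fa21004ab0039e9400cd8012ae400342004abc000f3c012ae4003e6004aac0012a8011f65004a6004aa80010dc012ab00044f004a980012a4012a3100421004a99001288012a650045d004a9c0012a000efe50040c003ea))))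 (.node (.node (.leaf (nat_lit 0xc400f80007bf0003df001ef8000f78007b71003dd001eb9000f70007ae4003db001e78000f680079e5003d9001e39000f600078f1003d7001e18400f58007871003d5001e0c000f50007831003d3001dfc000f480077f1003d1001de8400f40007720003cf001dcc000f38007620003cd001d29400f300073f1003cb001cc9000f280072a0003c9001cac400f20007270003c7001c98000f18007260003c5001c68000f10007171003c3001bf9400f08006fe4003c1001bf)) (.leaf (nat_lit 0x800096c01056100364004159000ff4010561002960035c80006cc00d73f0035c003b1c00105000c52400414002e08000d7401052100355003f4c000fd00104f100386003d09000fdc0104e5003df004138000f1c0104e100412003d2c000e5c0104a0003ce004118400e440104640040b00411c00104000cde4004100040f800103c00a0640032d0040e8001034010325002c90040dc00086800e5e50040b0021a8000e240102f0003f600344c400780009eb0003d50027a))) (.node (.leaf (nat_lit 0x8400758006860000eb001a1fc0094c00687100134001d0940068800742400101001d0800042c00743f001d0002a680002940042ff0010b001d18000608007df00025f0010a9400718007de10010c001f7c0004300074a00010c00182c4008980042f0000c40010bfc0042c0089f0002a6001349000a980068b10022b001099400280004264000c000109fc007100042600010b002a6c000a94009de4002a40012c800050400a930002a3002a2c000a84009764002a1002a0))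 (.leaf (nat_lit 0)))))))) (.node (.node (.node (.node (.node (.node (.leaf (nat_lit 0x84001000004a00003f00012c4000f80004700003d0001180000f00004710003b00010c0000e8000425000390001090000e0000431000370000fc0000d80003e5000350000f90000d00003e5000330000e84000c80003a0000310000e94000c00003610002f0000d80000b80003710002d0000cc0000b00003250002b0000c90000a8000331000290000bc0000a00002e5000270000a90000980002a1000250000a80000900002a5000230000990000880002610002100009)) (.leaf (nat_lit 0xc0005500043a000159001128000ae0005661002b800112c000adc00ada4001ee002b5c00074800ad70002b40025fc000acc004ee4002b3002b2800071400acf1001de002b280007b800acb00022b002b1900083c00632000207001c184005d0005fa1002070017380001e8002e210007a0003afc002e00058bf0003a00161fc002e4001ea0001da00163fc008280058e40018c001da84007680054a5000fd0016e9000a84005bb1000fd0016fc000a8c005bff002a00016e))) (.node (.leaf (nat_lit 0x80011000093650043f0024b90010f80092e10043d0024b80010f00092e00043b0024a84010e80092600043900249c0010e00092310043700247c4010d80091a4004350024690010d0009125004330024384010c80090f0004310024290010c00090b00042f0024084010b8008ff10042d0023ec0010b0008fa40042b0023d94010a8008e64004290023994010a0008e2500427002369001098008da500425002359001090008d6100423002358001088008d600042100234))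 (.leaf (nat_lit 0x90009c4010d310040f004338400bb4010ce400433002d68000f30010cf0003ff00433c000f14010ca0004320034c900106c010cb00026000431c000ddc010c2000294004309000de0010c20002640042f9000960010bf0002840042f9400850009ba40032d0026efc01038009bb00042e002c9c000cf8010ba00042e0036694010b400eff00042d0042c9400bd0010b24003bc0042cc4010ac009860002880042b8400ad8010ae4003ff0042bc00100400b730002dc0042a)))) (.node (.node (.leaf (nat_lit 0x94009000034710023f000d090008f80034310023d000cfc0008f00033f10023b000cdc0008e800337100239000ccc0008e000332400237000ccc4008d80032b000235000ca94008d00032a400233000ca94008c800326400231000c984008c00032600022f000c984008b80032240022d000c680008b00031a50022b000c590008a800316100229000c580008a000317100227000c4c00089800312100225000c4800089000313100223000c3c0008880030f100221000c2)) (.leaf (nat_lit 0x8000a7800dfe1002210037fc400a5800dbf00037e0036e9000df800df60002c40037e9000ca80093a4001990032a800066400df710033e002c9900084000df3000329001879000df000b9610018a0037cc0007f000df250036e0028d9000dec00dea00028d0037bc00076000def00037900378c400da800d3f00017d0034ffc00dac00d3e1003780024c900090800de240037700376c000b3c00d221001ac00183800025c0060f000348001ac9000d30006b3f00183001ad)))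 (.node (.leaf (nat_lit 0x80005600055f0001560015580002880055240012a00154c00054c0054a40010f00151c0001f00026a100074000788000540001e3f0014f0007880005400053e4000cd001509400268005421000c800125900023c0032250014e0008e800031c0053a40014d000cf90002240053240014b0014a8000524005220001470014694003840051b00014500144800050c0050a400142000e0c0003c0005070001400013fc0004f8004f64000fa0013c80004ec004ea4000a10013b)) (.leaf (nat_lit 0x840132c01076500490004cb90012b80132e1003ac004cac0013280119e4004ca003d1c0011ec0132a400486004c9c0013240102f000441004c980011b001326400438004c8840132000fba5004a8004c8840125c013230003ba004c8840131c010fe500493004c790013180131f000425004c7c0010c80131a0004c6003a6c400f140131a400493004c68001068013161003d1004c5c00131400f431004c4003ae84010740131240045b004c48400f540130f0004c300480))))) (.node (.node (.node (.leaf (nat_lit 0xc400500001af00013f0006bc4004f8001ab00013d0006a90004f0001aa10013b0006980004e8001a710013900068c0004e0001a240013700068c4004d80019f0001350006794004d00019e4001330006794004c80019a1001310006680004c00019b00012f00065c4004b80019300012d0006484004b00018e00012b0006384004a8001860001290006180004a0001825001270005fc4004980017b0001250005e90004900017a5001230005d9000488001761001210005d))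 (.leaf (nat_lit 0x80008540067250019c003288000ca000653000328003279000b140054e400327002c58400b0000c9e400153003279000c9800c960002210029e9400c4800a7a00013e0020c84004f800b47f003160020cfc00c5400b471002e600149c0004a400527f002e70014980008c80054e00032500232800054c00c97000324003239000c8800b9a00019100322c0008c8006fe00032200231c000c8800c8700016400320800067400c8240017300320c000b1c00c7f0002920031e))) (.node (.leaf (nat_lit 0xc0001740017240005b0005ac0001640016240005700056c0000ac0015f00005500054c00014c000f24000530005290001440007a00005100052c000144001430000230004f80001380013700004c0004b80000ac0012b0000490004890000840011f0000460004590001100010f0000420004190000a4001060000400003fc0000f8000f610002c0003d90000c8000b250003c0003180000a8000f300003b0003a90000e4000e200002900038c0000dc000da40003500034)) (.leaf (nat_lit 0xc400b3400bc240047a00450900114000b3200047000450c000d8c012160004500043e900114400e0b1004780048580011440121640041d00485c0010880121200042800484c00100c0120f1003260048380010240120e40039400483800120800de71003c4004829400bb00120b000312004818000b7001207100407004818400e840120640040a00481c001200011d20004800047f9000fb0012025003c000480c0011fc00c0700043d0047fc000e2c0109650038b00379))))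 (.node (.node (.leaf (nat_lit 0x9000d000059b00033f001648400cf80059300033d00163c400cf00058300033b001608400ce8005831003390015fc000ce00057e4003370015e8400cd8005720003350015c8400cd00056b10033300157c000cc80055e400331001579000cc00055a10032f00155c000cb80053b10032d0014dc000cb00053600032b0014dc000ca8005320003290014cc400ca00052f0003270014b9400c980052640032500149c400c900052300032300148c400c880051f00032100147)) (.leaf (nat_lit 0xfc00c18004fff0013800319fc00ba400c1e400211002c89000b2000e171003df0027dc0007bc009f7f003e00027dc000f2800deb0003ab003ca80007c000f2a0003ca003e1c000bf00091e5003e1002ebc400f84009725002ac003e1c000f8000f7e1003df0020f8400e1400f7e5003a4003de8000bd800f7a10023d00239940079c00c864003a300321fc00f6c00c861001e70031a80008e000c6bf0031a003da84004fc00ba6000319002e9fc00c6000ba710028800225))) (.node (.leaf (nat_lit 0xc0008f4008f300023b0023ac0008e4008e3000237001e190007a0008df0002360023590008d0008cf0001810023490008c8008c64001590022f94004a4008be1001910023180008c0008be00022e0012590007b4008b60001e40022c90008ac008ab0001c40022b800087c008aa00022900228c4005f0008a640021d00229c0008a00037f0002270022680008940089250013f00224c00088c0088b00022100220c00087c007ca40021f0021ec0003e80087e00021d00195))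 (.leaf (nat_lit 0)))))) (.node (.node (.node (.node (.leaf (nat_lit 0xc400300000f25000bf0003b90002f8000ee1000bd0003b80002f0000ee5000bb0003a90002e8000ea1000b90003a80002e0000eb1000b700039c0002d8000e61000b50003980002d0000e71000b300038c0002c8000e25000b10003790002c0000de1000af0003780002b8000de5000ad0003690002b0000da1000ab0003680002a8000db1000a90003584002a0000d60000a700035c400298000d30000a5000348400290000d20000a300034c400288000ce1000a100033)) (.leaf (nat_lit 0x9000af0005d3f00174002bb800084800b0a0002c1002db9400a0400b0a1002e4002c290005fc00a0300016600241840086c005fe40021b002459000b900086e100212002e4900091400b930002cc001b1c000b8c00a1a4002e3001878400254003e60001a8000f9fc003e40069ff001a80029b8000a7000b8f0002cb002e38000afc00b8b0002af002e1940088400b8200028c002e0c000b7c006d30002ca00201c400308007ff000221001fffc007fc008825001ff002de))) (.node (.leaf (nat_lit 0xc40130000ddb0004bf0037684012f800dc65004bd0037080012f000d7a5004bb0035d90012e800d765004b90035cc0012e000d6b1004b70035794012d800d5f0004b50034e80012d000d230004b300347c0012c800d1a4004b10034494012c000cfa4004af0033e84012b800cee0004ad0033b90012b000ccf0004ab0033180012a800cb61004a90032c80012a000cb20004a70032a840129800c524004a50030f800129000c3f1004a30030cc00128800c321004a10030c))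 (.leaf (nat_lit 0x8000e540117e40045e0032f80010b40117a00045d00303c401030011770003e70045cc400c4c011720002d40045c8400c38011724004370045c9000e0c0116f0004190045b800116800b0600032d0043794010dc009c310029c0045a8000b6c0116a4004530045a84009e001166400459003d68000d9c01166500459003e9c001164011621004580028094011180116240044f00458c00115c00e9e1002c800457c000f700100a0003d70045684011240115a40029700456)))) (.node (.node (.leaf (nat_lit 0x9400b00004464002bf00111c400af8004430002bd001109400af0004424002bb00110c400ae80043a5002b90010e9000ae00043b1002b70010dc000ad8004370002b50010cc400ad00042a5002b30010a9000ac80042b0002b1001098400ac0004220002af00108c400ab80041f0002ad00107c400ab0004130002ab001049400aa80040e4002a9001038400aa00040e0002a7001039400a98004071002a5000fe9400a90003fb1002a3000fdc000a88003f65002a1000fd)) (.leaf (nat_lit 0x8400ee400acb0003b9002d084007b800ee71002ee003b8800071800ee24002f6003b89000b180092a4003b7002c69400edc0092b0003b7003b68400c5000edf0002ed003b58000ed4007d24003a0003b58000ad400ed25003b30039ac000ecc00eca0003b100296c000ec000c370003af002cc9000a6400ebb0003ad003ac9000e7400eb24003ab0020b8000eac00d621002b7003798000ea8009321003aa00378c000ea80083a4003aa0034cc000ea400d2a4003a900335)))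 (.node (.leaf (nat_lit 0x80002c0007361001cc000acc00072c0072a4000b6001c99400720004c2000154001c8c00071c0031f0001c6001c59000300007130000bc001c390004c400556100155001b5c4002400054700019900151fc00544006620000d10015f800057c0070e400152001c394005480027e1001570009f80001dc0027ff0009f00158fc001dc0070a0001c3000d190007040070300018a001c180003e0006ff0001be0010890006f8006f64001bc0010680006f0006ee4001ba001b9)) (.leaf (nat_lit 0xc401290013ba4004d2004ee84013b40134a5004c0004edc0013b4013ae1004b3004ed9001314013b25004e9004ec80013ac013b3100426004eb800107c013ae4004b3004eb80013a8011b70004ea004df90013a8012fa000425004eac0010ec013a65004c5004e98001304013a70004e8004e784013300139e5004a7004e7c001398013570004db004e694011140139a00049e004e68001394012631004af004e590013640139650043b004e5900139001356000465004e4))))) (.node (.node (.node (.leaf (nat_lit 0x90007000027a0001bf0009e94006f8002764001bd0009d84006f0002760001bb0009d94006e8002724001b90009c84006e0002720001b70009cc4006d8002670001b50009990006d0002665001b30009890006c8002621001b10009880006c0002625001af0009790006b80025e1001ad0009780006b00025f1001ab00096c0006a80025a4001a90009584006a0002560001a7000959400698002524001a5000948400690002520001a30009480006880024f1001a100092))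 (.leaf (nat_lit 0x840097800d2e00034d002aa8000d5000aa6100354001f28000ccc005fa100333001748400d4c00ccb000353002a49000d4c00d4b000340001718000d0400d4b00016e00270c4005b800b7bf0035100270fc00d4000b7a10017000352c000d4400d4200034f0034e900093000d3f00034d0034c840090c00d330001ae0034b9000d2800d26400348002419000b580090e000168002d68000b5800d1e50018400347c0007f8007371001fe0016d8000d180080210034600203))) (.node (.leaf (nat_lit 0x800039c0039a4000e5000e4800038c0038b0000e1000e0800037c0037b0000b4000de940013c0037a4000dd000dc800036c0036a4000d9000d8800035c0035a5000d50004dc0003540035240004a000d494003480021600004400086840034c0021b1000710005fc0000840017e4000d30005ffc0017c001ca500072000d3c000348003460000d0000cf900033c001c64000ce000b480003340033300006900088800032c0032a400068000cbc0003240032250003d00073)) (.leaf (nat_lit 0xc001268012a2500438004a8c00129c0121a000489004a7c001298011230003e600405c0012240129a0004a6003b79400f980129b1004a50034e80010d40129610044b004a590011fc012970003b40049d90011d8012930004a4004759001290010da000499004a49400d5400f2e4004a3004a18400f2c00f8e0003e2004a3940128c00e9f0004a3004a284012880113a40045d004a2c000ea00111b0004a1003ed940128000ea31003a8003c9900128400e9f0003f3004a1))))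 (.node (.node (.leaf (nat_lit 0x8400f00006fa0003bf001bec400ef8006f70003bd001bd8000ef0006f70003bb001ba8000ee8006eb1003b9001b89000ee0006e31003b7001b7c000ed8006de4003b5001b68000ed0006db1003b3001b3c000ec8006ce1003b1001b3c400ec0006cb1003af001b19000eb8006c71003ad001afc000eb0006be1003ab001af9400ea8006b25003a9001ab8400ea0006aa0003a7001aac400e98006a70003a5001a98000e90006a71003a3001a8c000e88006a31003a1001a6)) (.leaf (nat_lit 0xfc009e800f530003d80027c8000f600102a4002b40040ac00102800e5b00028300409c4008c401026400404004099000d2c00c3a5004080030ec000b5c0102250034b004088000ba8010231002f40038e8400dc40101f00040700312900101c00e464004060037f800101801016500397004058000cc4010125004040020dc00101000c6e1002c5004049000b440100e40033f002d18000cfc00a720002e30033fc000c980100e50033f00403800085c0100e40036800402))) (.node (.leaf (nat_lit 0xc0004f000a8700029f0029e9000a7400a7240029a0018890006c400a6700026c00299c000a6000a5e1001b300296900094000a5a000248002959000a5000a4f00015d002948000a2c00a4e1001b2002938000a4800a46400283002929000a400087650029000229c000a4000a3e0000f70028ec000a3400a3240028b0028a8400260003ce0001b1000f3fc003cc006c20001b20028b8400a28006bb000289002889000a1800a164000ec0015d9400a100057710028400240))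 (.leaf (nat_lit 0))))))) (.node (.node (.node (.node (.node (.leaf (nat_lit 0xc4002000009a00007f00026c4001f80009700007d0002594001f00009640007b00025c4001e8000930000790002494001e0000924000770002484001d80008e00007500023c4001d00008b00007300022c4001c80008700007100021c4001c00008300006f0002094001b80008240006d0002090001b00007e10006b0001f80001a80007e5000690001e84001a00007a0000670001ec400198000765000650001d9000190000771000630001cc000188000731000610001b)) (.leaf (nat_lit 0x900046800952000252001cf940073c00b3e10011a002378000b3c008dff00237002ce840056800b420002cf002ce8000b3400b3210028c00123900068000adb000123002af9400abc00ada100288002b6900048400a2210019e0012e8000248004bbf0012e0019fc400208004770001010011d900067800477f0011d0017984002980047e0001d50011ffc0047c0075310011e002528400a94006d3100122001b49000b2c00b2b0002760012094003080048240021f00120))) (.node (.leaf (nat_lit 0x840120000ac600047f002b194011f800aae10047d002aa94011f000a7e40047b0029fc4011e800a770004790029d80011e000a771004770029cc0011d800a6a1004750029994011d000a624004730029884011c800a5e0004710029794011c000a5640046f0029580011b800a5310046d0029190011b000a4600046b0028f94011a800a330004690028bc4011a000a2a40046700283800119800a025004650027dc401190009f24004630027c9001188009ee0004610027b))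 (.leaf (nat_lit 0x8000fcc0112a4002780044ac000f840112b00029600449c400dbc011261003d70044990010bc01126000448003839001104011225002e200448c00111c00ffb00039900447800111c010a65003c5004478001118011171003c900446c00111400fd700028e00445c0011100110e40042e00443840103c0110a400442003d08000a040110b00040b004419000a040093610024d0026e8001104009bbf004400026e9400b0800936000441004409000b88011070002f40043f)))) (.node (.node (.leaf (nat_lit 0xc000a00003ab10027f000e9c0009f8003a610027d000e980009f0003a710027b000e880009e8003a3100279000e7c0009e00039e500277000e790009d80039f100275000e6c0009d00039a400273000e6c4009c800397000271000e584009c00039600026f000e5c4009b80039300026d000e480009b00039310026b000e3c0009a80038e500269000e390009a00038f100267000e2c0009980038a500265000e290009900038a500263000e1840098800386500261000e0)) (.leaf (nat_lit 0x8000d7c00dc2500370003998000c8000e66000398002159400e1800e6200037d00397c40083400e5a40039600395c400c5c00d4a10039500276840065800c5e00039400317fc00c5c00e4e0001e0002b48000ad000af7000394001a38000e5000e4e4002bd0039490009f800c7e0003920027e80009f80094650036900251c00081800e4a100392002519000c4000e4b000391003908000d0800e3e1002e60038f90008fc00e3e40038e0038dc000c4400e3610035f0038d)))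 (.node (.leaf (nat_lit 0x90005380064700019000117c00063c0063a0000dc0018e90003400063a40018d0011580006300062f00018b001429000628006261000f80009e9000620003e2500128001878400350006260001880018780006180061600012700184c00060c0060a400181001809400178002f240008b000bcfc00490002f20000be001818400600002eb00017f0017e9000348005f65000d10017c8000234005f24001410016590005ec0030e5001410008380005ec005ea4000ee0017b)) (.leaf (nat_lit 0xc0011cc01372400461004dbc0013540136e50046e004db80013600136f100400004da90013680114a00047a004dac0011780136b000405004d980013640130f1003e6004d990010ec013670004240041ac401090013624004d8004318000f640136300041a004d8800118c010c65003d20043194011900135e400471004d7c0010080135f0004d7003dc80010480135f1004d6003c4c0013580120a1004d6004bb84012e40135a40049b004d690013540119a0004d0004d5))))) (.node (.node (.node (.leaf (nat_lit 0x90006000021f10017f00085c0005f80021640017d0008580005f00021210017b0008380005e80020f00017900082c4005e0002070001770008190005d80020600017500080c4005d0001ff0001730007f90005c8001fe5001710007e90005c0001fa10016f0007e80005b8001fa50016d0007d90005b0001f610016b0007d80005a8001f70001690007cc4005a0001ef0001670007b8400598001ee0001650007b9400590001ea4001630007a8400588001ea0001610007a))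 (.leaf (nat_lit 0x8400d00005b30003200033f8000cf800b970002c30033dc000cf000cee4001780033b8000ce8009621002380033880009a4005e20001780033784009a400cde40031d003378000cd800cd7000335002ec94006ac00cd6400334002388000cd000b43000333003328000b1400cc640016900331c00069000aa7000172001e494007900068e4000ab001a3fc007940068e4001a4001eec000c7000bbe4002b5001a480006d800ad70001ba0022d8400bd8007b70002d0001b8))) (.node (.leaf (nat_lit 0x80002840028300009f0009ec0002740027300009b00035840026c0024240003c0009b8000268002670000980009790001300020200004c0009690002080025b00009500094900024c0024b0000650009390002440024200008f0008ec000218000ce0000840008d9000234000ca00008c0003d90001780022f0000570008bc000228002264000410008880000e00021e4000840008680001f00021650008400028c0002100020e5000820002f80002080020700008000030)) (.leaf (nat_lit 0x900125c0125b00034700497800125800ebe0003b6004968001254011ee50035c00495c401250010fb10049000472c000b88011cbf00472004919001190011c600049400443c400cac01252400494003ba800119001253000493002fe800124c010aa4004920043d80010b00124a5004920038cc00124800cd700049100490840124000d6700048f00427c000dcc0123e00048f004169000f140123e5004470048fc00123800ee310048e002ee84011a80123a4003a50048e))))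 (.node (.node (.leaf (nat_lit 0xc400e000061b00037f001869400df80061a40037d00186c000df00061650037b001859000de80061710037900184c000de000612500377001839000dd80060e100375001838000dd00060e50037300182c000dc80060710037100180c000dc00060240036f0017f8000db8005fe50036d0017e9000db0005fb10036b0017dc000da8005f71003690017cc400da0005ef0003670017bc400d98005eb0003650017a9400d90005ea400363001789000d88005de10036100177)) (.leaf (nat_lit 0xc000a1400fe30003f8001fd8000fe000fde400218003f88000fd8008164003f6003f58000a1800fdb00036e001fb8000de8008630001fb0037e8400de800fd710028e003f5800086000fd64003f4003f38000fc800a8e00023a003f29000fc800d5f0003f1003f28000fc4008db0001f9003f19000c1000fae5003ef003eb8000fc000fb64003f1003f08000fb40089a0003bb003f1800089800fc24003ef003048000fbc008cf0003ef003ee9000f8c00fb6400226001f6))) (.node (.leaf (nat_lit 0x90009840050a0002600025fc000978008a300025d0013c900097400973000212000e894004ac0039a0000e80025d8400970003930001db0025b80009600058300025800257c000954009530000dd001db800094c0075a100253000eb900094c0094b0002510025090003d40094200024f0024ec4009380045a5001990024ec0009340093300024b0024a90009240092300014e0024980003d40092240024700228800091c0091a00024500189c0009100090e00024200241))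 (.leaf (nat_lit 0)))))) (.node (.node (.node (.node (.leaf (nat_lit 0x9400400001424000ff0005084003f8001420000fd0005094003f00013e1000fb0004f80003e80013f1000f90004ec0003e00013a5000f70004e90003d80013b1000f50004dc0003d0001364000f30004d90003c8001320000f10004c94003c00012e4000ef0004b84003b80012e0000ed0004bc4003b00012b0000eb0004a90003a80012a5000e90004990003a0001261000e7000498000398001265000e5000489000390001221000e3000488000388001231000e100047)) (.leaf (nat_lit 0x8400654007760000c0001ddfc0077400876000240003109400c4000657000310002b3840051400c4300030f0030e8400b5000c3b1001b20030d9000bf400c3640030c0030b9000c2400c2200030700306c000c1400c124001aa0030380005d800c0a400301003008000bfc00bfa5002fd0013ac000bf4007424002fc002ab8000bf0007bf0002fb002fa8000be400be25001f1002f89000b64006d6000273002d9800088800bde4002f7002d99400bdc006d70002f7002f6))) (.node (.leaf (nat_lit 0x90000080001b0000050000490000040000e000001000028000000000070004fb004bec4013e8012d25004f90049d84013e00126f1004f70048690013d80121a5004f500472c4013d00119b0004f300456c0013c8011565004f100445c0013c00110b0004ef0043b84013b80109f1004ed0042680013b00107e4004eb0041c94013a80104a0004e900410c4013a0010370004e70040d80013980100a1004e500401c40139000fef0004e3003fbc00138800fdf0004e1003f0))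 (.leaf (nat_lit 0x84011d800e3a40043600476c000ce8011da0004750039a90011d0011ce00042600474c4011cc00f7a1004730042484011a4011ce00047200471c0011c400aa30004290047190011c0011bf00032b0043e80010f8011c20002c60046fc0011b80101b0003600046e9401184011ba0004300046e8401090011a700046d0037d8401094011b60003900046c90011a0011b21003ef0029880008cc00a63f002980041e8000e0800c1310046b003ec9401064011ae0003dc0046b)))) (.node (.node (.leaf (nat_lit 0x9000c00004d61002ff001358000bf8004d71002fd001348400bf0004d31002fb00133c000be8004ce1002f9001338000be0004cf1002f700132c000bd8004ca1002f5001328000bd0004ca4002f300131c000bc8004c24002f1001308400bc0004be0002ef0012f9000bb8004ba5002ed0012d8400bb0004b71002eb0012cc000ba8004b31002e90012bc000ba0004af1002e700129c000b98004a71002e500128c000b90004a25002e3001288000b880049b0002e100123)) (.leaf (nat_lit 0x940082000e461003ce003919000f380085e400329003cec000dec00f3a5003cd0034ec000f3400ea700034a003cd9400e7000f360001db003cdc000f3000a9e4003cc002cf8000bb400f33000361003ccc000f2c00cda40021c003ca9000f24009f6000213003c99000f2000832000353003c89400f2000e070003c8003c78400cc800f220001c9002ac9000ab000baf00037a003ab8400f1800ab240031c003c6c000f1800d07000364003c694007f800f1a0003b8003c5)))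 (.node (.leaf (nat_lit 0x8000824004f300020900208900081c0081b00020500204c00080c007a24002030020280008000080f000185001fc8400808007f24002010020080007fc007fa4001fd001fc80007ec007ea0001f9001f8c0007dc007da0001cd001f5c0007d0007cf0001f2000fa9000410007cb0001f1000cb90007c0007be400106001ec94006f0007b30000ac001bec4002b000423f001ea001befc007a4004230000cb000ae80007bc004d30001ee001ed9000318007b60001ec001eb)) (.leaf (nat_lit 0x21004fb004f99401330013ee1004e2004fb90013a0013ef0004cd004fb90013e8013b60004f3004fa94013e8013030004fa004bd8401370013eb0004f9004e590013e4013de0004e2004f9c0012bc013e70004f6004f880013e0013cb1004ec004f89001344013e25004cd004f884013dc0128250049d004f7c0013dc0129e1004b5004f7c0013b0013da0004f6004e880013d0013da4004c9004f684012fc013d70004f5004ea))))) (.node (.node (.node (.leaf (nat_lit 0x9000800002ce1001ff000b380007f8002ce5001fd000b290007f0002ca1001fb000b280007e8002ca1001f9000b180007e0002c71001f7000b0c0007d8002c20001f5000b0c4007d0002bf0001f3000af90007c8002bf1001f1000ae94007c0002ba4001ef000aec4007b8002b70001ed000ad84007b0002b60001eb000adc4007a8002b30001e9000ac80007a0002b31001e7000abc000798002ae5001e5000ab9000790002af1001e3000aac000788002aa5001e1000aa))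 (.leaf (nat_lit 0xc4009e000523f00323000e7fc00520009e610036700278fc00c90009e20003240036794009e800d9e4002e80036784008fc00d9a5003660034dc000d9800d964001f30035690008e800d525001f3002a38000a8c008ea4003650023a94007d000a96100365002a584006d000d96400354003659000d9000a9f00034100364c00038c0032f1000e3000aefc0032c009aff000ae0026afc007c40038e10013300268fc00be0009a200013300244fc0091000be600030300271))) (.node (.leaf (nat_lit 0x900022c004924001230012280004840048240011f0011e80004740047200011b00062c00046800466000118000f0c00045c00236400117001168400164001c600011500071fc00450001c64001150008c800045400452400113001128000444004424000750010fc0001b80043e00010e0010d94001980043640010c0010b80004280042640010800107800041800417100052000b1c00040c002c7f000b1001028000410001b24000af00104c00040c0040a00005200101)) (.leaf (nat_lit 0x90012e4012560004b80036f84012e000ff6400484004b8c0012c4012e24004b70048d80011a8012de5004b7003e4c0012dc012da10048e004b78400f8c012db0004b60035790012d800fca0003cb004b69401270012d61004a0004b59000e6c012d70004a5004b59000e2c012d2500379004b48000ea4012d240041c004b3c00125c012ce1004b2004a39400f2c012ca1003e2004b29000d54012cb0004ac004b2c000d68012c60004b1003f48000d54012c6400360004b1))))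 (.node (.node (.leaf (nat_lit 0x9001000008121003ff002048000ff8008131003fd00202c400ff0008061003fb002018000fe8008071003f9002008400fe0007f60003f7001fd9400fd8007ee4003f5001fb9400fd0007ea4003f3001fac000fc8007e65003f1001f99000fc0007e71003ef001f8c000fb8007e24003ed001f88400fb0007da0003eb001f6c400fa8007d70003e9001f59000fa0007d65003e7001f48400f98007d21003e5001f38000f90007cf1003e3001f0c000f88007c20003e1001f0)) (.leaf (nat_lit 0x9000b0c010770002bc0041dc400eb000c030001af00300fc00eb400c020003770041c8000c0400dde10030000372c0010700106e1003010041c840106c008f61002390041b9000f4400e420003d10041a9000dc40106b00026f00419800105c0106700029a0033a8400f0801063000418003a4900106000ceb1000e20022cc00099c008b3f0022c002668000c8401062400417003dd80008b40105f1002600024290010580097e000416002e1c00105800f0710041500334))) (.node (.leaf (nat_lit 0xc000ab800ab6100222002adc000ab000aae4002aa002a99000aa00088a50017a002a784007c800aa60002a8002a79400748007164000a5001c5fc007140074e0000dd001eb8400374002b610009d0018e840037000277f001eb0025afc002b400967f001bb0018efc002740095a50012d0025584005c8009560000e1002558400118001520000db00054fc007b000377f001bc000dcfc00988009565001a1000dbfc001500036bf0010600046940094800687f000db00105))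 (.leaf (nat_lit 0)))))))))
noncomputable def c5F (p : Nat) : Nat := row c5Ft (nat_lit 5) (nat_lit 31) (nat_lit 46) (nat_lit 70368744177663) p
noncomputable def c5P00000 : BT Pf := (.node (.node (.node (.node (.node (.node (.node (.leaf .df) (.leaf (.cyc (nat_lit 4) [(nat_lit 1675), (nat_lit 2020), (nat_lit 2024), (nat_lit 263), (nat_lit 686)]))) (.node (.leaf .df) (.leaf (.cyc (nat_lit 5) [(nat_lit 1053), (nat_lit 2915)])))) (.node (.node (.leaf .df) (.leaf (.cyc (nat_lit 24) [(nat_lit 802), (nat_lit 2558)]))) (.node (.leaf (.cyc (nat_lit 2) [(nat_lit 293), (nat_lit 292)])) (.leaf (.cyc (nat_lit 8) [(nat_lit 1208), (nat_lit 3036), (nat_lit 661), (nat_lit 660), (nat_lit 1135)]))))) (.node (.node (.node (.leaf .df) (.leaf (.cyc (nat_lit 20) [(nat_lit 1967), (nat_lit 2301)]))) (.node (.leaf (.cyc (nat_lit 2) [(nat_lit 6), (nat_lit 5)])) (.leaf (.cyc (nat_lit 2) [(nat_lit 1142), (nat_lit 3248)])))) (.node (.node (.leaf .df) (.leaf (.cyc (nat_lit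 34) [(nat_lit 800), (nat_lit 1578), (nat_lit 1923), (nat_lit 2192), (nat_lit 283), (nat_lit 285), (nat_lit 727), (nat_lit 2647), (nat_lit 2649), (nat_lit 973), (nat_lit 2813), (nat_lit 2372), (nat_lit 2776)]))) (.node (.leaf (.cyc (nat_lit 4) [(nat_lit 454), (nat_lit 1554), (nat_lit 1500), (nat_lit 1570), (nat_lit 1791)])) (.leaf .df))))) (.node (.node (.node (.node (.leaf .df) (.leaf (.cyc (nat_lit 6) [(nat_lit 2175), (nat_lit 719)]))) (.node (.leaf .df) (.leaf (.cyc (nat_lit 35) [(nat_lit 1004), (nat_lit 1778), (nat_lit 1009), (nat_lit 2929), (nat_lit 2081), (nat_lit 1621), (nat_lit 2083), (nat_lit 1985), (nat_lit 1944), (nat_lit 2553), (nat_lit 2556), (nat_lit 3198), (nat_lit 3199)])))) (.node (.node (.leaf .df) (.leaf (.cyc (nat_lit 5) [(nat_lit 2687), (nat_lit 2656)]))) (.node (.leaf (.cyc (nat_lit 8) [(nat_lit 1663), (nat_lit 333), (nat_lit 1440), (nat_lit 1388), (nat_lit 396)])) (.leaf (.cyc (nat_lit 43) [(nat_lit 3670), (nat_lit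 3561), (nat_lit 3480), (nat_lit 1005), (nat_lit 503), (nat_lit 176), (nat_lit 1313), (nat_lit 170), (nat_lit 483), (nat_lit 1747), (nat_lit 1761), (nat_lit 989), (nat_lit 1243)]))))) (.node (.node (.node (.leaf .df) (.leaf (.cyc (nat_lit 15) [(nat_lit 831), (nat_lit 357), (nat_lit 122), (nat_lit 36), (nat_lit 38), (nat_lit 128), (nat_lit 1605), (nat_lit 820), (nat_lit 2417)]))) (.node (.leaf (.cyc (nat_lit 2) [(nat_lit 161), (nat_lit 1391)])) (.leaf (.cyc (nat_lit 41) [(nat_lit 1024), (nat_lit 515), (nat_lit 1421), (nat_lit 1488), (nat_lit 298), (nat_lit 1936), (nat_lit 2893), (nat_lit 2894), (nat_lit 786), (nat_lit 784), (nat_lit 2895), (nat_lit 2285), (nat_lit 1175)])))) (.node (.node (.leaf .df) (.leaf (.cyc (nat_lit 46) [(nat_lit 990), (nat_lit 1763), (nat_lit 307), (nat_lit 1357), (nat_lit 1442), (nat_lit 202), (nat_lit 1324), (nat_lit 1487), (nat_lit 298), (nat_lit 743), (nat_lit 2248), (nat_lit 2943), (nat_lit 2941)]))) (.node (.leaf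 (.cyc (nat_lit 5) [(nat_lit 609), (nat_lit 1624)])) (.leaf .df)))))) (.node (.node (.node (.node (.node (.leaf .df) (.leaf (.cyc (nat_lit 35) [(nat_lit 583), (nat_lit 214), (nat_lit 1326), (nat_lit 218), (nat_lit 596), (nat_lit 2027), (nat_lit 1623), (nat_lit 346), (nat_lit 1592), (nat_lit 1545), (nat_lit 296), (nat_lit 1600), (nat_lit 2109)]))) (.node (.leaf .df) (.leaf (.cyc (nat_lit 9) [(nat_lit 2584), (nat_lit 2469), (nat_lit 2471), (nat_lit 1889), (nat_lit 1075)])))) (.node (.node (.leaf .df) (.leaf (.cyc (nat_lit 2) [(nat_lit 895), (nat_lit 894)]))) (.node (.leaf (.cyc (nat_lit 3) [(nat_lit 296), (nat_lit 1545), (nat_lit 1592), (nat_lit 1370), (nat_lit 344)])) (.leaf (.cyc (nat_lit 5) [(nat_lit 3647), (nat_lit 3619)]))))) (.node (.node (.node (.leaf .df) (.leaf (.cyc (nat_lit 11) [(nat_lit 2337), (nat_lit 710), (nat_lit 1526), (nat_lit 1813), (nat_lit 1814), (nat_lit 2367), (nat_lit 2366)]))) (.node (.leaf (.cyc (nat_lit 5) [(nat_lit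 94), (nat_lit 93)])) (.leaf (.cyc (nat_lit 8) [(nat_lit 3315), (nat_lit 3388), (nat_lit 3389), (nat_lit 2167), (nat_lit 3084)])))) (.node (.node (.leaf .df) (.leaf (.cyc (nat_lit 19) [(nat_lit 2850), (nat_lit 2878)]))) (.node (.leaf (.cyc (nat_lit 1) [(nat_lit 1659), (nat_lit 573)])) (.leaf .df))))) (.node (.node (.node (.node (.leaf .df) (.leaf (.cyc (nat_lit 21) [(nat_lit 698), (nat_lit 2238)]))) (.node (.leaf .df) (.leaf (.cyc (nat_lit 4) [(nat_lit 2061), (nat_lit 2059), (nat_lit 1942), (nat_lit 1940), (nat_lit 1118)])))) (.node (.node (.leaf .df) (.leaf (.cyc (nat_lit 3) [(nat_lit 2749), (nat_lit 2106), (nat_lit 2403), (nat_lit 2707), (nat_lit 2709)]))) (.node (.leaf (.cyc (nat_lit 6) [(nat_lit 460), (nat_lit 459)])) (.leaf (.cyc (nat_lit 5) [(nat_lit 1261), (nat_lit 3732)]))))) (.node (.node (.node (.leaf .df) (.leaf (.cyc (nat_lit 0) [(nat_lit 2068), (nat_lit 2495)]))) (.node (.leaf (.cyc (nat_lit 6) [(nat_lit 232), (nat_lit 231)]))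 (.leaf (.cyc (nat_lit 32) [(nat_lit 3015), (nat_lit 3014), (nat_lit 712), (nat_lit 1526), (nat_lit 710), (nat_lit 2379), (nat_lit 1191), (nat_lit 3518), (nat_lit 3394)])))) (.node (.node (.leaf .df) (.leaf (.cyc (nat_lit 23) [(nat_lit 2827), (nat_lit 3007)]))) (.node (.leaf (.cyc (nat_lit 6) [(nat_lit 672), (nat_lit 671)])) (.leaf .df))))))) (.node (.node (.node (.node (.node (.node (.leaf .df) (.leaf (.cyc (nat_lit 27) [(nat_lit 2069), (nat_lit 2079), (nat_lit 1621)]))) (.node (.leaf .df) (.leaf (.cyc (nat_lit 35) [(nat_lit 731), (nat_lit 288), (nat_lit 92), (nat_lit 1292), (nat_lit 88), (nat_lit 276), (nat_lit 1658), (nat_lit 2267), (nat_lit 2392), (nat_lit 1696), (nat_lit 953), (nat_lit 2755), (nat_lit 3103)])))) (.node (.node (.leaf .df) (.leaf (.cyc (nat_lit 27) [(nat_lit 883), (nat_lit 2590), (nat_lit 428)]))) (.node (.leaf (.cyc (nat_lit 7) [(nat_lit 160), (nat_lit 1391), (nat_lit 1455), (nat_lit 1538), (nat_lit 1537), (nat_lit 1444),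 (nat_lit 314)])) (.leaf (.cyc (nat_lit 8) [(nat_lit 1218), (nat_lit 3299), (nat_lit 2923), (nat_lit 2910), (nat_lit 3365)]))))) (.node (.node (.node (.leaf .df) (.leaf (.cyc (nat_lit 8) [(nat_lit 1968), (nat_lit 2327), (nat_lit 1919), (nat_lit 1575), (nat_lit 797)]))) (.node (.leaf (.cyc (nat_lit 6) [(nat_lit 52), (nat_lit 51)])) (.leaf (.cyc (nat_lit 43) [(nat_lit 2655), (nat_lit 3163), (nat_lit 3356), (nat_lit 3358), (nat_lit 2480), (nat_lit 1622), (nat_lit 855), (nat_lit 2501), (nat_lit 430), (nat_lit 427), (nat_lit 937), (nat_lit 2724), (nat_lit 2604)])))) (.node (.node (.leaf .df) (.leaf (.cyc (nat_lit 24) [(nat_lit 1956), (nat_lit 2845)]))) (.node (.leaf (.cyc (nat_lit 5) [(nat_lit 540), (nat_lit 1667)])) (.leaf .df))))) (.node (.node (.node (.node (.leaf .df) (.leaf (.cyc (nat_lit 44) [(nat_lit 510), (nat_lit 178), (nat_lit 55), (nat_lit 15), (nat_lit 1278), (nat_lit 19), (nat_lit 72), (nat_lit 230), (nat_lit 629), (nat_lit 2146),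 (nat_lit 287), (nat_lit 289), (nat_lit 733)]))) (.node (.leaf .df) (.leaf (.cyc (nat_lit 1) [(nat_lit 3231), (nat_lit 1109)])))) (.node (.node (.leaf .df) (.leaf (.cyc (nat_lit 6) [(nat_lit 936), (nat_lit 2417)]))) (.node (.leaf (.cyc (nat_lit 6) [(nat_lit 441), (nat_lit 440)])) (.leaf (.cyc (nat_lit 10) [(nat_lit 3282), (nat_lit 3184), (nat_lit 3239), (nat_lit 3286), (nat_lit 3743)]))))) (.node (.node (.node (.leaf .df) (.leaf (.cyc (nat_lit 13) [(nat_lit 837), (nat_lit 2456), (nat_lit 482), (nat_lit 169), (nat_lit 171), (nat_lit 487), (nat_lit 1787)]))) (.node (.leaf (.cyc (nat_lit 21) [(nat_lit 192), (nat_lit 1437)])) (.leaf (.cyc (nat_lit 25) [(nat_lit 3199), (nat_lit 3198), (nat_lit 3245), (nat_lit 1112), (nat_lit 2423), (nat_lit 866), (nat_lit 3487)])))) (.node (.node (.leaf .df) (.leaf (.cyc (nat_lit 1) [(nat_lit 2562), (nat_lit 1025)]))) (.node (.leaf (.cyc (nat_lit 16) [(nat_lit 1951), (nat_lit 1735), (nat_lit 1476), (nat_lit 233),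 (nat_lit 1329), (nat_lit 138), (nat_lit 1644), (nat_lit 1427), (nat_lit 531), (nat_lit 1813), (nat_lit 1527), (nat_lit 1637), (nat_lit 1869)])) (.leaf .df)))))) (.node (.node (.node (.node (.node (.leaf .df) (.leaf (.cyc (nat_lit 20) [(nat_lit 1826), (nat_lit 2143)]))) (.node (.leaf .df) (.leaf (.cyc (nat_lit 14) [(nat_lit 2994), (nat_lit 3167)])))) (.node (.node (.leaf .df) (.leaf (.cyc (nat_lit 9) [(nat_lit 2519), (nat_lit 2344), (nat_lit 400), (nat_lit 401), (nat_lit 908)]))) (.node (.leaf (.cyc (nat_lit 7) [(nat_lit 237), (nat_lit 1330), (nat_lit 1398), (nat_lit 1397), (nat_lit 129), (nat_lit 130), (nat_lit 378)])) (.leaf (.cyc (nat_lit 0) [(nat_lit 3661), (nat_lit 1236)]))))) (.node (.node (.node (.leaf .df) (.leaf (.cyc (nat_lit 25) [(nat_lit 2169), (nat_lit 1602), (nat_lit 282), (nat_lit 1356), (nat_lit 304), (nat_lit 2398), (nat_lit 1695)]))) (.node (.leaf (.cyc (nat_lit 2) [(nat_lit 127), (nat_lit 1355)])) (.leaf (.cyc (nat_lit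 1) [(nat_lit 3409), (nat_lit 1165)])))) (.node (.node (.leaf .df) (.leaf (.cyc (nat_lit 1) [(nat_lit 2770), (nat_lit 2911)]))) (.node (.leaf (.cyc (nat_lit 5) [(nat_lit 577), (nat_lit 576)])) (.leaf .df))))) (.node (.node (.node (.node (.leaf .df) (.leaf (.cyc (nat_lit 2) [(nat_lit 758), (nat_lit 757)]))) (.node (.leaf .df) (.leaf (.cyc (nat_lit 0) [(nat_lit 2837), (nat_lit 1130)])))) (.node (.node (.leaf .df) (.leaf (.cyc (nat_lit 0) [(nat_lit 2747), (nat_lit 964)]))) (.node (.leaf (.cyc (nat_lit 5) [(nat_lit 491), (nat_lit 490)])) (.leaf (.cyc (nat_lit 8) [(nat_lit 1268), (nat_lit 3318), (nat_lit 3690), (nat_lit 3687), (nat_lit 1257)]))))) (.node (.node (.node (.leaf .df) (.leaf (.cyc (nat_lit 39) [(nat_lit 770), (nat_lit 2514), (nat_lit 779), (nat_lit 2527), (nat_lit 866), (nat_lit 2423), (nat_lit 1927), (nat_lit 1926), (nat_lit 1934)]))) (.node (.leaf (.cyc (nat_lit 0) [(nat_lit 1334), (nat_lit 256)])) (.leaf (.cyc (nat_lit 1) [(nat_lit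 2569), (nat_lit 1200)])))) (.node (.node (.leaf .df) (.leaf (.cyc (nat_lit 29) [(nat_lit 3038), (nat_lit 867), (nat_lit 869), (nat_lit 2551), (nat_lit 1882), (nat_lit 1883), (nat_lit 2412), (nat_lit 2413), (nat_lit 708), (nat_lit 1520), (nat_lit 2110), (nat_lit 1601), (nat_lit 819)]))) (.node (.leaf (.cyc (nat_lit 21) [(nat_lit 594), (nat_lit 2013), (nat_lit 1679)])) (.leaf .df))))))))
noncomputable def c5P00001 : BT Pf := (.node (.node (.node (.node (.node (.node (.node (.leaf .df) (.leaf (.cyc (nat_lit 23) [(nat_lit 685), (nat_lit 2063)]))) (.node (.leaf .df) (.leaf (.cyc (nat_lit 6) [(nat_lit 1062), (nat_lit 1061)])))) (.node (.node (.leaf .df) (.leaf (.cyc (nat_lit 20) [(nat_lit 2571), (nat_lit 2574)]))) (.node (.leaf (.cyc (nat_lit 21) [(nat_lit 1501), (nat_lit 1550)])) (.leaf (.cyc (nat_lit 5) [(nat_lit 1213), (nat_lit 2993)]))))) (.node (.node (.node (.leaf .df) (.leaf (.cyc (nat_lit 3) [(nat_lit 1781), (nat_lit 2319), (nat_lit 2318),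 (nat_lit 1988), (nat_lit 745)]))) (.node (.leaf (.cyc (nat_lit 2) [(nat_lit 30), (nat_lit 29)])) (.leaf (.cyc (nat_lit 16) [(nat_lit 3343), (nat_lit 2284), (nat_lit 1569), (nat_lit 1567), (nat_lit 250), (nat_lit 1332), (nat_lit 1300), (nat_lit 1351), (nat_lit 1339), (nat_lit 1329), (nat_lit 235), (nat_lit 642), (nat_lit 1126)])))) (.node (.node (.leaf .df) (.leaf (.cyc (nat_lit 6) [(nat_lit 984), (nat_lit 983)]))) (.node (.leaf (.cyc (nat_lit 2) [(nat_lit 527), (nat_lit 526)])) (.leaf .df))))) (.node (.node (.node (.node (.leaf .df) (.leaf (.cyc (nat_lit 24) [(nat_lit 724), (nat_lit 2190)]))) (.node (.leaf .df) (.leaf (.cyc (nat_lit 25) [(nat_lit 1056), (nat_lit 563), (nat_lit 1443), (nat_lit 2537), (nat_lit 1469), (nat_lit 611), (nat_lit 1102)])))) (.node (.node (.leaf .df) (.leaf (.cyc (nat_lit 13) [(nat_lit 1966), (nat_lit 552), (nat_lit 1434), (nat_lit 1747), (nat_lit 2409), (nat_lit 1680), (nat_lit 926)]))) (.node (.leaf (.cyc (nat_lit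 5) [(nat_lit 419), (nat_lit 418)])) (.leaf (.cyc (nat_lit 8) [(nat_lit 1247), (nat_lit 3635), (nat_lit 3634), (nat_lit 3525), (nat_lit 3522)]))))) (.node (.node (.node (.leaf .df) (.leaf (.cyc (nat_lit 23) [(nat_lit 485), (nat_lit 2446), (nat_lit 824)]))) (.node (.leaf (.cyc (nat_lit 4) [(nat_lit 182), (nat_lit 56), (nat_lit 1286), (nat_lit 52), (nat_lit 166)])) (.leaf (.cyc (nat_lit 8) [(nat_lit 3027), (nat_lit 1014), (nat_lit 1780), (nat_lit 2902), (nat_lit 1181)])))) (.node (.node (.leaf .df) (.leaf (.cyc (nat_lit 3) [(nat_lit 2959), (nat_lit 2608), (nat_lit 2578), (nat_lit 2230), (nat_lit 2948)]))) (.node (.leaf (.cyc (nat_lit 1) [(nat_lit 1913), (nat_lit 626)])) (.leaf .df)))))) (.node (.node (.node (.node (.node (.leaf .df) (.leaf (.cyc (nat_lit 6) [(nat_lit 703), (nat_lit 702)]))) (.node (.leaf .df) (.leaf (.cyc (nat_lit 18) [(nat_lit 2136), (nat_lit 2118), (nat_lit 2112), (nat_lit 1895), (nat_lit 1081)])))) (.node (.node (.leaf .df)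 (.leaf (.cyc (nat_lit 8) [(nat_lit 827), (nat_lit 351), (nat_lit 349), (nat_lit 2330), (nat_lit 2639), (nat_lit 2359)]))) (.node (.leaf (.cyc (nat_lit 31) [(nat_lit 336), (nat_lit 1369), (nat_lit 1543), (nat_lit 297), (nat_lit 1545), (nat_lit 1592), (nat_lit 1370), (nat_lit 342), (nat_lit 1615)])) (.leaf (.cyc (nat_lit 14) [(nat_lit 3541), (nat_lit 3662)]))))) (.node (.node (.node (.leaf .df) (.leaf (.cyc (nat_lit 10) [(nat_lit 444), (nat_lit 156), (nat_lit 154), (nat_lit 1885), (nat_lit 2383)]))) (.node (.leaf (.cyc (nat_lit 5) [(nat_lit 106), (nat_lit 105)])) (.leaf (.cyc (nat_lit 11) [(nat_lit 734), (nat_lit 2142), (nat_lit 714), (nat_lit 279), (nat_lit 280), (nat_lit 716), (nat_lit 1161)])))) (.node (.node (.leaf .df) (.leaf (.cyc (nat_lit 14) [(nat_lit 2657), (nat_lit 2895)]))) (.node (.leaf (.cyc (nat_lit 19) [(nat_lit 1868), (nat_lit 1871)])) (.leaf .df))))) (.node (.node (.node (.node (.leaf .df) (.leaf (.cyc (nat_lit 1) [(nat_lit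 2201), (nat_lit 749)]))) (.node (.leaf .df) (.leaf (.cyc (nat_lit 34) [(nat_lit 3279), (nat_lit 3005), (nat_lit 3004), (nat_lit 2104), (nat_lit 606), (nat_lit 1574), (nat_lit 1575), (nat_lit 797), (nat_lit 2325), (nat_lit 809), (nat_lit 2617), (nat_lit 1900), (nat_lit 1090)])))) (.node (.node (.leaf .df) (.leaf (.cyc (nat_lit 38) [(nat_lit 882), (nat_lit 2000), (nat_lit 1514), (nat_lit 2007), (nat_lit 1411), (nat_lit 470), (nat_lit 2271), (nat_lit 758), (nat_lit 2377), (nat_lit 1661), (nat_lit 2034), (nat_lit 444), (nat_lit 957)]))) (.node (.leaf (.cyc (nat_lit 3) [(nat_lit 1743), (nat_lit 1740), (nat_lit 1741), (nat_lit 383), (nat_lit 385)])) (.leaf (.cyc (nat_lit 6) [(nat_lit 1264), (nat_lit 3751)]))))) (.node (.node (.node (.leaf .df) (.leaf (.cyc (nat_lit 27) [(nat_lit 777), (nat_lit 2511), (nat_lit 2287)]))) (.node (.leaf (.cyc (nat_lit 21) [(nat_lit 1446), (nat_lit 1486)])) (.leaf (.cyc (nat_lit 1) [(nat_lit 2520), (nat_lit 1195)]))))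 (.node (.node (.leaf .df) (.leaf (.cyc (nat_lit 34) [(nat_lit 1041), (nat_lit 1821), (nat_lit 2133), (nat_lit 707), (nat_lit 2114), (nat_lit 665), (nat_lit 1654), (nat_lit 448), (nat_lit 2096), (nat_lit 2317), (nat_lit 2316), (nat_lit 1743), (nat_lit 977)]))) (.node (.leaf (.cyc (nat_lit 10) [(nat_lit 1514), (nat_lit 1998), (nat_lit 1433), (nat_lit 478), (nat_lit 1744)])) (.leaf .df))))))) (.node (.node (.node (.node (.node (.node (.leaf .df) (.leaf (.cyc (nat_lit 5) [(nat_lit 2094), (nat_lit 1880)]))) (.node (.leaf .df) (.leaf (.cyc (nat_lit 14) [(nat_lit 1952), (nat_lit 1070)])))) (.node (.node (.leaf .df) (.leaf (.cyc (nat_lit 33) [(nat_lit 2578), (nat_lit 2230), (nat_lit 580), (nat_lit 1473), (nat_lit 1474), (nat_lit 1475), (nat_lit 388), (nat_lit 890), (nat_lit 2606)]))) (.node (.leaf (.cyc (nat_lit 12) [(nat_lit 1583), (nat_lit 198), (nat_lit 63), (nat_lit 1287), (nat_lit 59), (nat_lit 1402), (nat_lit 1403), (nat_lit 143), (nat_lit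 141)])) (.leaf (.cyc (nat_lit 14) [(nat_lit 2756), (nat_lit 1223)]))))) (.node (.node (.node (.leaf .df) (.leaf (.cyc (nat_lit 24) [(nat_lit 2246), (nat_lit 2350)]))) (.node (.leaf (.cyc (nat_lit 2) [(nat_lit 72), (nat_lit 71)])) (.leaf (.cyc (nat_lit 1) [(nat_lit 2670), (nat_lit 1154)])))) (.node (.node (.leaf .df) (.leaf (.cyc (nat_lit 4) [(nat_lit 683), (nat_lit 1506), (nat_lit 1417), (nat_lit 495), (nat_lit 992)]))) (.node (.leaf (.cyc (nat_lit 0) [(nat_lit 1747), (nat_lit 555)])) (.leaf .df))))) (.node (.node (.node (.node (.leaf .df) (.leaf (.cyc (nat_lit 6) [(nat_lit 738), (nat_lit 1652)]))) (.node (.leaf .df) (.leaf (.cyc (nat_lit 16) [(nat_lit 2219), (nat_lit 738), (nat_lit 1542), (nat_lit 245), (nat_lit 77), (nat_lit 78), (nat_lit 1553), (nat_lit 252), (nat_lit 2082), (nat_lit 1621), (nat_lit 2484), (nat_lit 1933), (nat_lit 1113)])))) (.node (.node (.leaf .df) (.leaf (.cyc (nat_lit 4) [(nat_lit 946), (nat_lit 434), (nat_lit 432),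 (nat_lit 1979), (nat_lit 2689)]))) (.node (.leaf (.cyc (nat_lit 0) [(nat_lit 1704), (nat_lit 1711)])) (.leaf (.cyc (nat_lit 10) [(nat_lit 3087), (nat_lit 3697), (nat_lit 1239), (nat_lit 3024), (nat_lit 1257)]))))) (.node (.node (.node (.leaf .df) (.leaf (.cyc (nat_lit 9) [(nat_lit 367), (nat_lit 365), (nat_lit 2084), (nat_lit 2082), (nat_lit 849)]))) (.node (.leaf (.cyc (nat_lit 0) [(nat_lit 210), (nat_lit 1455)])) (.leaf (.cyc (nat_lit 37) [(nat_lit 1187), (nat_lit 2296), (nat_lit 2295), (nat_lit 723), (nat_lit 725), (nat_lit 2469), (nat_lit 2584), (nat_lit 3136), (nat_lit 1075), (nat_lit 2530), (nat_lit 761), (nat_lit 3334), (nat_lit 3324)])))) (.node (.node (.leaf .df) (.leaf (.cyc (nat_lit 8) [(nat_lit 1030), (nat_lit 1029), (nat_lit 2990), (nat_lit 2623), (nat_lit 2357)]))) (.node (.leaf (.cyc (nat_lit 7) [(nat_lit 642), (nat_lit 235), (nat_lit 73), (nat_lit 1289), (nat_lit 76), (nat_lit 243), (nat_lit 657)])) (.leaf .df)))))) (.node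 (.node (.node (.node (.node (.leaf .df) (.leaf (.cyc (nat_lit 19) [(nat_lit 1674), (nat_lit 2158)]))) (.node (.leaf .df) (.leaf (.cyc (nat_lit 29) [(nat_lit 968), (nat_lit 969), (nat_lit 2871), (nat_lit 2935), (nat_lit 2947), (nat_lit 2946), (nat_lit 2613), (nat_lit 2646), (nat_lit 3028), (nat_lit 2823), (nat_lit 590), (nat_lit 591), (nat_lit 1093)])))) (.node (.node (.leaf .df) (.leaf (.cyc (nat_lit 8) [(nat_lit 2670), (nat_lit 2453), (nat_lit 479), (nat_lit 1415), (nat_lit 2408)]))) (.node (.leaf (.cyc (nat_lit 0) [(nat_lit 1537), (nat_lit 387)])) (.leaf (.cyc (nat_lit 6) [(nat_lit 1239), (nat_lit 3692)]))))) (.node (.node (.node (.leaf .df) (.leaf (.cyc (nat_lit 3) [(nat_lit 2415), (nat_lit 719), (nat_lit 2172), (nat_lit 566), (nat_lit 567)]))) (.node (.leaf (.cyc (nat_lit 5) [(nat_lit 142), (nat_lit 141)])) (.leaf (.cyc (nat_lit 28) [(nat_lit 3439), (nat_lit 1065), (nat_lit 3060), (nat_lit 3063), (nat_lit 3062), (nat_lit 768), (nat_lit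 765)])))) (.node (.node (.leaf .df) (.leaf (.cyc (nat_lit 11) [(nat_lit 1854), (nat_lit 2261), (nat_lit 1690), (nat_lit 2501), (nat_lit 855), (nat_lit 854), (nat_lit 2927)]))) (.node (.leaf (.cyc (nat_lit 13) [(nat_lit 594), (nat_lit 218), (nat_lit 69), (nat_lit 18), (nat_lit 20), (nat_lit 73), (nat_lit 234)])) (.leaf .df))))) (.node (.node (.node (.node (.leaf .df) (.leaf (.cyc (nat_lit 1) [(nat_lit 1687), (nat_lit 770)]))) (.node (.leaf .df) (.leaf (.cyc (nat_lit 11) [(nat_lit 2135), (nat_lit 1843), (nat_lit 1846), (nat_lit 2109), (nat_lit 2112), (nat_lit 1974), (nat_lit 1134)])))) (.node (.node (.leaf .df) (.leaf (.cyc (nat_lit 1) [(nat_lit 1823), (nat_lit 969)]))) (.node (.leaf (.cyc (nat_lit 0) [(nat_lit 1727), (nat_lit 500)])) (.leaf (.cyc (nat_lit 10) [(nat_lit 3736), (nat_lit 3541), (nat_lit 2923), (nat_lit 1180), (nat_lit 1272)]))))) (.node (.node (.node (.leaf .df) (.leaf (.cyc (nat_lit 3) [(nat_lit 2541), (nat_lit 435), (nat_lit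 1401), (nat_lit 1485), (nat_lit 569)]))) (.node (.leaf (.cyc (nat_lit 6) [(nat_lit 274), (nat_lit 273)])) (.leaf (.cyc (nat_lit 13) [(nat_lit 3491), (nat_lit 935), (nat_lit 1688), (nat_lit 2433), (nat_lit 1620), (nat_lit 845), (nat_lit 1204)])))) (.node (.node (.leaf .df) (.leaf (.cyc (nat_lit 25) [(nat_lit 622), (nat_lit 228), (nat_lit 225), (nat_lit 3050), (nat_lit 555), (nat_lit 556), (nat_lit 1048)]))) (.node (.leaf (.cyc (nat_lit 27) [(nat_lit 1760), (nat_lit 2023), (nat_lit 601)])) (.leaf .df))))))))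
noncomputable def c5P0000 : BT Pf := .node c5P00000 c5P00001
noncomputable def c5P00010 : BT Pf := (.node (.node (.node (.node (.node (.node (.node (.leaf .df) (.leaf (.cyc (nat_lit 8) [(nat_lit 681), (nat_lit 679), (nat_lit 2043), (nat_lit 2053), (nat_lit 1734)]))) (.node (.leaf .df) (.leaf (.cyc (nat_lit 4) [(nat_lit 772), (nat_lit 1564), (nat_lit 1443), (nat_lit 563), (nat_lit 1056)])))) (.node (.node (.leaf .df) (.leaf (.cyc (nat_lit 8) [(nat_lit 2539), (nat_lit 2567), (nat_lit 875), (nat_lit 2491), (nat_lit 2520)]))) (.node (.leaf (.cyc (nat_lit 5) [(nat_lit 297), (nat_lit 296)])) (.leaf (.cyc (nat_lit 0) [(nat_lit 3546), (nat_lit 1211)]))))) (.node (.node (.node (.leaf .df) (.leaf (.cyc (nat_lit 5) [(nat_lit 789), (nat_lit 788)]))) (.node (.leaf (.cyc (nat_lit 5) [(nat_lit 19), (nat_lit 18)])) (.leaf (.cyc (nat_lit 0) [(nat_lit 1143), (nat_lit 3333)])))) (.node (.node (.leaf .df) (.leaf (.cyc (nat_lit 5) [(nat_lit 975), (nat_lit 974)])))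 (.node (.leaf (.cyc (nat_lit 4) [(nat_lit 317), (nat_lit 315), (nat_lit 1798), (nat_lit 329), (nat_lit 327)])) (.leaf .df))))) (.node (.node (.node (.node (.leaf .df) (.leaf (.cyc (nat_lit 42) [(nat_lit 1681), (nat_lit 2179), (nat_lit 1604), (nat_lit 1628), (nat_lit 1629), (nat_lit 309), (nat_lit 102), (nat_lit 29), (nat_lit 28), (nat_lit 99), (nat_lit 301), (nat_lit 2160), (nat_lit 2183)]))) (.node (.leaf .df) (.leaf (.cyc (nat_lit 13) [(nat_lit 2778), (nat_lit 785), (nat_lit 1571), (nat_lit 2356), (nat_lit 2797), (nat_lit 2796), (nat_lit 3207)])))) (.node (.node (.leaf .df) (.leaf (.cyc (nat_lit 4) [(nat_lit 1739), (nat_lit 2304), (nat_lit 2692), (nat_lit 2691), (nat_lit 2478)]))) (.node (.leaf (.cyc (nat_lit 4) [(nat_lit 412), (nat_lit 144), (nat_lit 142), (nat_lit 1585), (nat_lit 1586)])) (.leaf (.cyc (nat_lit 16) [(nat_lit 3451), (nat_lit 3346), (nat_lit 3585), (nat_lit 1209), (nat_lit 3412), (nat_lit 1162), (nat_lit 3084), (nat_lit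 3083), (nat_lit 3086), (nat_lit 2739), (nat_lit 1775), (nat_lit 996), (nat_lit 1245)]))))) (.node (.node (.node (.leaf .df) (.leaf (.cyc (nat_lit 16) [(nat_lit 1750), (nat_lit 1751), (nat_lit 1445), (nat_lit 1588), (nat_lit 335), (nat_lit 115), (nat_lit 33), (nat_lit 31), (nat_lit 110), (nat_lit 328), (nat_lit 2352), (nat_lit 2439), (nat_lit 2438)]))) (.node (.leaf (.cyc (nat_lit 6) [(nat_lit 172), (nat_lit 171)])) (.leaf (.cyc (nat_lit 15) [(nat_lit 3463), (nat_lit 3459), (nat_lit 3460), (nat_lit 3366), (nat_lit 3364), (nat_lit 959), (nat_lit 1699), (nat_lit 955), (nat_lit 3110)])))) (.node (.node (.leaf .df) (.leaf (.cyc (nat_lit 4) [(nat_lit 2405), (nat_lit 2319), (nat_lit 509), (nat_lit 512), (nat_lit 1017)]))) (.node (.leaf (.cyc (nat_lit 0) [(nat_lit 1911), (nat_lit 619)])) (.leaf .df)))))) (.node (.node (.node (.node (.node (.leaf .df) (.leaf (.cyc (nat_lit 2) [(nat_lit 697), (nat_lit 2111)]))) (.node (.leaf .df) (.leaf (.cyc (nat_lit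 1) [(nat_lit 3113), (nat_lit 3143)])))) (.node (.node (.leaf .df) (.leaf (.cyc (nat_lit 21) [(nat_lit 840), (nat_lit 2630)]))) (.node (.leaf (.cyc (nat_lit 6) [(nat_lit 355), (nat_lit 354)])) (.leaf (.cyc (nat_lit 35) [(nat_lit 1023), (nat_lit 1021), (nat_lit 3189), (nat_lit 3187), (nat_lit 3316), (nat_lit 1136), (nat_lit 3231), (nat_lit 3049), (nat_lit 555), (nat_lit 556), (nat_lit 1048), (nat_lit 3654), (nat_lit 3655)]))))) (.node (.node (.node (.leaf .df) (.leaf (.cyc (nat_lit 22) [(nat_lit 756), (nat_lit 1561), (nat_lit 1516), (nat_lit 696), (nat_lit 2117), (nat_lit 277), (nat_lit 1525), (nat_lit 332), (nat_lit 810), (nat_lit 2375)]))) (.node (.leaf (.cyc (nat_lit 8) [(nat_lit 90), (nat_lit 1292), (nat_lit 86), (nat_lit 1350), (nat_lit 99)])) (.leaf (.cyc (nat_lit 18) [(nat_lit 919), (nat_lit 2637), (nat_lit 2644), (nat_lit 2875), (nat_lit 1159)])))) (.node (.node (.leaf .df) (.leaf (.cyc (nat_lit 4) [(nat_lit 994), (nat_lit 495), (nat_lit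 173), (nat_lit 176), (nat_lit 503)]))) (.node (.leaf (.cyc (nat_lit 27) [(nat_lit 213), (nat_lit 1862), (nat_lit 410)])) (.leaf .df))))) (.node (.node (.node (.node (.leaf .df) (.leaf (.cyc (nat_lit 13) [(nat_lit 1955), (nat_lit 2074), (nat_lit 516), (nat_lit 1421), (nat_lit 1488), (nat_lit 298), (nat_lit 743)]))) (.node (.leaf .df) (.leaf (.cyc (nat_lit 14) [(nat_lit 2499), (nat_lit 3270)])))) (.node (.node (.leaf .df) (.leaf (.cyc (nat_lit 11) [(nat_lit 565), (nat_lit 201), (nat_lit 1323), (nat_lit 134), (nat_lit 385), (nat_lit 2005), (nat_lit 2759)]))) (.node (.leaf (.cyc (nat_lit 2) [(nat_lit 473), (nat_lit 472)])) (.leaf (.cyc (nat_lit 3) [(nat_lit 1190), (nat_lit 2617), (nat_lit 1900), (nat_lit 1089), (nat_lit 1263)]))))) (.node (.node (.node (.leaf .df) (.leaf (.cyc (nat_lit 44) [(nat_lit 525), (nat_lit 526), (nat_lit 2097), (nat_lit 395), (nat_lit 1386), (nat_lit 1351), (nat_lit 115), (nat_lit 335), (nat_lit 1588), (nat_lit 570),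 (nat_lit 2261), (nat_lit 1690), (nat_lit 2501)]))) (.node (.leaf (.cyc (nat_lit 7) [(nat_lit 194), (nat_lit 61), (nat_lit 1304), (nat_lit 1306), (nat_lit 1305), (nat_lit 74), (nat_lit 237)])) (.leaf (.cyc (nat_lit 4) [(nat_lit 3513), (nat_lit 1160), (nat_lit 2139), (nat_lit 2381), (nat_lit 1193)])))) (.node (.node (.leaf .df) (.leaf (.cyc (nat_lit 1) [(nat_lit 2381), (nat_lit 1037)]))) (.node (.leaf (.cyc (nat_lit 20) [(nat_lit 1719), (nat_lit 1991)])) (.leaf .df))))))) (.node (.node (.node (.node (.node (.node (.leaf .df) (.leaf (.cyc (nat_lit 27) [(nat_lit 1804), (nat_lit 2087)]))) (.node (.leaf .df) (.leaf (.cyc (nat_lit 2) [(nat_lit 1068), (nat_lit 1067)])))) (.node (.node (.leaf .df) (.leaf (.cyc (nat_lit 34) [(nat_lit 887), (nat_lit 387), (nat_lit 1384), (nat_lit 64), (nat_lit 63), (nat_lit 198), (nat_lit 1438), (nat_lit 1440), (nat_lit 1388), (nat_lit 397), (nat_lit 1856), (nat_lit 1857), (nat_lit 587)]))) (.node (.leaf (.cyc (nat_lit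 2) [(nat_lit 324), (nat_lit 323)])) (.leaf (.cyc (nat_lit 7) [(nat_lit 1170), (nat_lit 2268), (nat_lit 1560), (nat_lit 752), (nat_lit 2390), (nat_lit 2654), (nat_lit 1221)]))))) (.node (.node (.node (.leaf .df) (.leaf (.cyc (nat_lit 0) [(nat_lit 1844), (nat_lit 2342)]))) (.node (.leaf (.cyc (nat_lit 13) [(nat_lit 1319), (nat_lit 49), (nat_lit 13), (nat_lit 11), (nat_lit 41), (nat_lit 1304), (nat_lit 60)])) (.leaf (.cyc (nat_lit 1) [(nat_lit 3004), (nat_lit 1152)])))) (.node (.node (.leaf .df) (.leaf (.cyc (nat_lit 20) [(nat_lit 2835), (nat_lit 2855)]))) (.node (.leaf (.cyc (nat_lit 2) [(nat_lit 550), (nat_lit 549)])) (.leaf .df))))) (.node (.node (.node (.node (.leaf .df) (.leaf (.cyc (nat_lit 14) [(nat_lit 2164), (nat_lit 736)]))) (.node (.leaf .df) (.leaf (.cyc (nat_lit 9) [(nat_lit 3239), (nat_lit 1093), (nat_lit 1975), (nat_lit 2621), (nat_lit 2579)])))) (.node (.node (.leaf .df) (.leaf (.cyc (nat_lit 3) [(nat_lit 2727), (nat_lit 2504),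 (nat_lit 525), (nat_lit 1426), (nat_lit 522)]))) (.node (.leaf (.cyc (nat_lit 10) [(nat_lit 450), (nat_lit 158), (nat_lit 1389), (nat_lit 1637), (nat_lit 1638)])) (.leaf (.cyc (nat_lit 25) [(nat_lit 1242), (nat_lit 984), (nat_lit 2455), (nat_lit 3010), (nat_lit 2939), (nat_lit 1025), (nat_lit 1253)]))))) (.node (.node (.node (.leaf .df) (.leaf (.cyc (nat_lit 6) [(nat_lit 839), (nat_lit 1887)]))) (.node (.leaf (.cyc (nat_lit 5) [(nat_lit 207), (nat_lit 206)])) (.leaf (.cyc (nat_lit 2) [(nat_lit 1186), (nat_lit 1185)])))) (.node (.node (.leaf .df) (.leaf (.cyc (nat_lit 41) [(nat_lit 2362), (nat_lit 806), (nat_lit 1799), (nat_lit 396), (nat_lit 139), (nat_lit 140), (nat_lit 1390), (nat_lit 131), (nat_lit 1302), (nat_lit 126), (nat_lit 370), (nat_lit 2094), (nat_lit 1027)]))) (.node (.leaf (.cyc (nat_lit 27) [(nat_lit 1691), (nat_lit 1959)])) (.leaf .df)))))) (.node (.node (.node (.node (.node (.leaf .df) (.leaf (.cyc (nat_lit 27) [(nat_lit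 1732), (nat_lit 2151)]))) (.node (.leaf .df) (.leaf (.cyc (nat_lit 25) [(nat_lit 1034), (nat_lit 2245), (nat_lit 2429), (nat_lit 2614), (nat_lit 2139), (nat_lit 3119), (nat_lit 3173)])))) (.node (.node (.leaf .df) (.leaf (.cyc (nat_lit 38) [(nat_lit 2663), (nat_lit 2300), (nat_lit 1869), (nat_lit 1637), (nat_lit 1527), (nat_lit 1526), (nat_lit 710), (nat_lit 2137), (nat_lit 325), (nat_lit 1517), (nat_lit 1859), (nat_lit 1462), (nat_lit 592)]))) (.node (.leaf (.cyc (nat_lit 2) [(nat_lit 382), (nat_lit 381)])) (.leaf (.cyc (nat_lit 37) [(nat_lit 1238), (nat_lit 977), (nat_lit 1743), (nat_lit 2316), (nat_lit 2317), (nat_lit 2096), (nat_lit 448), (nat_lit 446), (nat_lit 961), (nat_lit 3053), (nat_lit 3653), (nat_lit 3657), (nat_lit 3296)]))))) (.node (.node (.node (.leaf .df) (.leaf (.cyc (nat_lit 20) [(nat_lit 484), (nat_lit 2407)]))) (.node (.leaf (.cyc (nat_lit 1) [(nat_lit 1323), (nat_lit 135)])) (.leaf (.cyc (nat_lit 2) [(nat_lit 3431),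 (nat_lit 3089)])))) (.node (.node (.leaf .df) (.leaf (.cyc (nat_lit 6) [(nat_lit 1008), (nat_lit 1007)]))) (.node (.leaf (.cyc (nat_lit 2) [(nat_lit 586), (nat_lit 585)])) (.leaf .df))))) (.node (.node (.node (.node (.leaf .df) (.leaf (.cyc (nat_lit 2) [(nat_lit 762), (nat_lit 761)]))) (.node (.leaf .df) (.leaf (.cyc (nat_lit 11) [(nat_lit 2662), (nat_lit 2814), (nat_lit 2812), (nat_lit 2370), (nat_lit 2336), (nat_lit 1969), (nat_lit 1131)])))) (.node (.node (.leaf .df) (.leaf (.cyc (nat_lit 0) [(nat_lit 965), (nat_lit 2789)]))) (.node (.leaf (.cyc (nat_lit 23) [(nat_lit 489), (nat_lit 1766)])) (.leaf (.cyc (nat_lit 43) [(nat_lit 1180), (nat_lit 2289), (nat_lit 2902), (nat_lit 2609), (nat_lit 2610), (nat_lit 393), (nat_lit 1385), (nat_lit 389), (nat_lit 892), (nat_lit 2615), (nat_lit 2616), (nat_lit 1190), (nat_lit 3815)]))))) (.node (.node (.node (.leaf .df) (.leaf (.cyc (nat_lit 24) [(nat_lit 617), (nat_lit 2534)]))) (.node (.leaf (.cyc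 (nat_lit 6) [(nat_lit 263), (nat_lit 262)])) (.leaf (.cyc (nat_lit 9) [(nat_lit 3559), (nat_lit 3499), (nat_lit 2913), (nat_lit 3492), (nat_lit 3500)])))) (.node (.node (.leaf .df) (.leaf (.cyc (nat_lit 43) [(nat_lit 1047), (nat_lit 3047), (nat_lit 2341), (nat_lit 2342), (nat_lit 2335), (nat_lit 2327), (nat_lit 608), (nat_lit 223), (nat_lit 222), (nat_lit 603), (nat_lit 1911), (nat_lit 227), (nat_lit 225), (nat_lit 613)]))) (.node (.leaf (.cyc (nat_lit 27) [(nat_lit 1463), (nat_lit 2019)])) (.leaf .df))))))))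
noncomputable def c5P00011 : BT Pf := (.node (.node (.node (.node (.node (.node (.node (.leaf .df) (.leaf (.cyc (nat_lit 23) [(nat_lit 458), (nat_lit 2071)]))) (.node (.leaf .df) (.leaf (.cyc (nat_lit 29) [(nat_lit 863), (nat_lit 865), (nat_lit 3095), (nat_lit 2222), (nat_lit 667), (nat_lit 2981), (nat_lit 2982), (nat_lit 2323), (nat_lit 523), (nat_lit 185), (nat_lit 183), (nat_lit 519), (nat_lit 1029)])))) (.node (.node (.leaf .df) (.leaf (.cyc (nat_lit 43) [(nat_lit 2469), (nat_lit 725), (nat_lit 283), (nat_lit 91), (nat_lit 1292), (nat_lit 85), (nat_lit 1364), (nat_lit 326), (nat_lit 799), (nat_lit 2339), (nat_lit 1878), (nat_lit 1876), (nat_lit 881)]))) (.node (.leaf (.cyc (nat_lit 5) [(nat_lit 304), (nat_lit 303)])) (.leaf (.cyc (nat_lit 13) [(nat_lit 3606), (nat_lit 1073), (nat_lit 1889), (nat_lit 1926), (nat_lit 1927), (nat_lit 2421), (nat_lit 3019)]))))) (.node (.node (.node (.leaf .df) (.leaf (.cyc (nat_lit 19) [(nat_lit 641), (nat_lit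 2326)]))) (.node (.leaf (.cyc (nat_lit 9) [(nat_lit 41), (nat_lit 11), (nat_lit 2), (nat_lit 3), (nat_lit 16)])) (.leaf (.cyc (nat_lit 22) [(nat_lit 2765), (nat_lit 2705), (nat_lit 2691), (nat_lit 2478), (nat_lit 2696), (nat_lit 974), (nat_lit 2817), (nat_lit 3350), (nat_lit 3351)])))) (.node (.node (.leaf .df) (.leaf (.cyc (nat_lit 41) [(nat_lit 2838), (nat_lit 654), (nat_lit 1961), (nat_lit 433), (nat_lit 1970), (nat_lit 658), (nat_lit 656), (nat_lit 2633), (nat_lit 892), (nat_lit 389), (nat_lit 1385), (nat_lit 391), (nat_lit 898)]))) (.node (.leaf (.cyc (nat_lit 3) [(nat_lit 533), (nat_lit 189), (nat_lit 187), (nat_lit 1645), (nat_lit 292)])) (.leaf .df))))) (.node (.node (.node (.node (.leaf .df) (.leaf (.cyc (nat_lit 14) [(nat_lit 2186), (nat_lit 729)]))) (.node (.leaf .df) (.leaf (.cyc (nat_lit 2) [(nat_lit 1106), (nat_lit 3139)])))) (.node (.node (.leaf .df) (.leaf (.cyc (nat_lit 4) [(nat_lit 930), (nat_lit 1684), (nat_lit 819), (nat_lit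 2416), (nat_lit 2449)]))) (.node (.leaf (.cyc (nat_lit 2) [(nat_lit 426), (nat_lit 425)])) (.leaf (.cyc (nat_lit 43) [(nat_lit 3544), (nat_lit 3545), (nat_lit 3471), (nat_lit 897), (nat_lit 1650), (nat_lit 2224), (nat_lit 2225), (nat_lit 2937), (nat_lit 1013), (nat_lit 506), (nat_lit 508), (nat_lit 1014), (nat_lit 1249)]))))) (.node (.node (.node (.leaf .df) (.leaf (.cyc (nat_lit 19) [(nat_lit 834), (nat_lit 2454)]))) (.node (.leaf (.cyc (nat_lit 5) [(nat_lit 194), (nat_lit 193)])) (.leaf (.cyc (nat_lit 22) [(nat_lit 3455), (nat_lit 3452), (nat_lit 3143), (nat_lit 2771), (nat_lit 2908), (nat_lit 1003), (nat_lit 2911), (nat_lit 3476), (nat_lit 3478)])))) (.node (.node (.leaf .df) (.leaf (.cyc (nat_lit 2) [(nat_lit 1020), (nat_lit 2833)]))) (.node (.leaf (.cyc (nat_lit 0) [(nat_lit 1912), (nat_lit 633)])) (.leaf .df)))))) (.node (.node (.node (.node (.node (.leaf .df) (.leaf (.cyc (nat_lit 0) [(nat_lit 2117), (nat_lit 710)]))) (.node (.leaf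 .df) (.leaf (.cyc (nat_lit 27) [(nat_lit 3157), (nat_lit 3159)])))) (.node (.node (.leaf .df) (.leaf (.cyc (nat_lit 9) [(nat_lit 643), (nat_lit 2328), (nat_lit 1919), (nat_lit 1656), (nat_lit 902)]))) (.node (.leaf (.cyc (nat_lit 15) [(nat_lit 369), (nat_lit 1375), (nat_lit 1354), (nat_lit 1349), (nat_lit 33), (nat_lit 31), (nat_lit 109), (nat_lit 325), (nat_lit 1577)])) (.leaf (.cyc (nat_lit 42) [(nat_lit 3630), (nat_lit 1170), (nat_lit 2268), (nat_lit 1717), (nat_lit 1716), (nat_lit 1694), (nat_lit 2403), (nat_lit 692), (nat_lit 2000), (nat_lit 1744), (nat_lit 978), (nat_lit 3483), (nat_lit 1234)]))))) (.node (.node (.node (.leaf .df) (.leaf (.cyc (nat_lit 0) [(nat_lit 2390), (nat_lit 2391)]))) (.node (.leaf (.cyc (nat_lit 2) [(nat_lit 115), (nat_lit 114)])) (.leaf (.cyc (nat_lit 3) [(nat_lit 2254), (nat_lit 2189), (nat_lit 1531), (nat_lit 726), (nat_lit 1163)])))) (.node (.node (.leaf .df) (.leaf (.cyc (nat_lit 16) [(nat_lit 2253), (nat_lit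 2791), (nat_lit 2792), (nat_lit 456), (nat_lit 1410), (nat_lit 1754), (nat_lit 1587), (nat_lit 153), (nat_lit 1376), (nat_lit 1565), (nat_lit 772), (nat_lit 2902), (nat_lit 1780)]))) (.node (.leaf (.cyc (nat_lit 10) [(nat_lit 1873), (nat_lit 324), (nat_lit 1365), (nat_lit 326), (nat_lit 1625)])) (.leaf .df))))) (.node (.node (.node (.node (.leaf .df) (.leaf (.cyc (nat_lit 5) [(nat_lit 751), (nat_lit 750)]))) (.node (.leaf .df) (.leaf (.cyc (nat_lit 9) [(nat_lit 2362), (nat_lit 2984), (nat_lit 3000), (nat_lit 3002), (nat_lit 1126)])))) (.node (.node (.leaf .df) (.leaf (.cyc (nat_lit 8) [(nat_lit 961), (nat_lit 446), (nat_lit 448), (nat_lit 2096), (nat_lit 1789)]))) (.node (.leaf (.cyc (nat_lit 3) [(nat_lit 1588), (nat_lit 1445), (nat_lit 1751), (nat_lit 1750), (nat_lit 459), (nat_lit 461)])) (.leaf (.cyc (nat_lit 34) [(nat_lit 1266), (nat_lit 3233), (nat_lit 3193), (nat_lit 1070), (nat_lit 2300), (nat_lit 2299), (nat_lit 2303), (nat_lit 2305),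 (nat_lit 552), (nat_lit 1434), (nat_lit 1761), (nat_lit 989), (nat_lit 1243)]))))) (.node (.node (.node (.leaf .df) (.leaf (.cyc (nat_lit 7) [(nat_lit 2490), (nat_lit 371), (nat_lit 126), (nat_lit 1302), (nat_lit 128), (nat_lit 374), (nat_lit 864)]))) (.node (.leaf (.cyc (nat_lit 9) [(nat_lit 245), (nat_lit 77), (nat_lit 1289), (nat_lit 74), (nat_lit 1491)])) (.leaf (.cyc (nat_lit 5) [(nat_lit 1197), (nat_lit 1196)])))) (.node (.node (.leaf .df) (.leaf (.cyc (nat_lit 6) [(nat_lit 1043), (nat_lit 2215)]))) (.node (.leaf (.cyc (nat_lit 27) [(nat_lit 1730), (nat_lit 2006), (nat_lit 1990)])) (.leaf .df))))))) (.node (.node (.node (.node (.node (.node (.leaf .df) (.leaf (.cyc (nat_lit 2) [(nat_lit 691), (nat_lit 2004)]))) (.node (.leaf .df) (.leaf (.cyc (nat_lit 5) [(nat_lit 1073), (nat_lit 2475)])))) (.node (.node (.leaf .df) (.leaf (.cyc (nat_lit 3) [(nat_lit 2615), (nat_lit 892), (nat_lit 389), (nat_lit 1581), (nat_lit 809)]))) (.node (.leaf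 (.cyc (nat_lit 19) [(nat_lit 334), (nat_lit 1590)])) (.leaf (.cyc (nat_lit 3) [(nat_lit 1157), (nat_lit 2133), (nat_lit 1821), (nat_lit 3012), (nat_lit 3639)]))))) (.node (.node (.node (.leaf .df) (.leaf (.cyc (nat_lit 3) [(nat_lit 2347), (nat_lit 804), (nat_lit 328), (nat_lit 330), (nat_lit 806)]))) (.node (.leaf (.cyc (nat_lit 6) [(nat_lit 82), (nat_lit 81)])) (.leaf (.cyc (nat_lit 16) [(nat_lit 1143), (nat_lit 668), (nat_lit 2222), (nat_lit 1683), (nat_lit 282), (nat_lit 1356), (nat_lit 305), (nat_lit 755), (nat_lit 2994), (nat_lit 3327), (nat_lit 1141), (nat_lit 2130), (nat_lit 1156)])))) (.node (.node (.leaf .df) (.leaf (.cyc (nat_lit 8) [(nat_lit 991), (nat_lit 1771), (nat_lit 2869), (nat_lit 969), (nat_lit 968), (nat_lit 2799)]))) (.node (.leaf (.cyc (nat_lit 8) [(nat_lit 384), (nat_lit 134), (nat_lit 1323), (nat_lit 201), (nat_lit 563)])) (.leaf .df))))) (.node (.node (.node (.node (.leaf .df) (.leaf (.cyc (nat_lit 37) [(nat_lit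 1612), (nat_lit 1611), (nat_lit 179), (nat_lit 56), (nat_lit 58), (nat_lit 188), (nat_lit 529), (nat_lit 2228), (nat_lit 2229), (nat_lit 2231), (nat_lit 382), (nat_lit 1457), (nat_lit 576)]))) (.node (.leaf .df) (.leaf (.cyc (nat_lit 11) [(nat_lit 2651), (nat_lit 2648), (nat_lit 1953), (nat_lit 1606), (nat_lit 2332), (nat_lit 623), (nat_lit 1115)])))) (.node (.node (.leaf .df) (.leaf (.cyc (nat_lit 3) [(nat_lit 2741), (nat_lit 2311), (nat_lit 2308), (nat_lit 1658), (nat_lit 709)]))) (.node (.leaf (.cyc (nat_lit 2) [(nat_lit 453), (nat_lit 452)])) (.leaf (.cyc (nat_lit 4) [(nat_lit 3759), (nat_lit 3746), (nat_lit 3749), (nat_lit 3458), (nat_lit 1259)]))))) (.node (.node (.node (.leaf .df) (.leaf (.cyc (nat_lit 8) [(nat_lit 850), (nat_lit 1621), (nat_lit 2084), (nat_lit 1502), (nat_lit 675)]))) (.node (.leaf (.cyc (nat_lit 6) [(nat_lit 220), (nat_lit 219)])) (.leaf (.cyc (nat_lit 5) [(nat_lit 1189), (nat_lit 2741)])))) (.node (.node (.leaf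 .df) (.leaf (.cyc (nat_lit 1) [(nat_lit 2986), (nat_lit 1032)]))) (.node (.leaf (.cyc (nat_lit 9) [(nat_lit 1692), (nat_lit 1970), (nat_lit 658), (nat_lit 1495), (nat_lit 661)])) (.leaf .df)))))) (.node (.node (.node (.node (.node (.leaf .df) (.leaf (.cyc (nat_lit 5) [(nat_lit 718), (nat_lit 717)]))) (.node (.leaf .df) (.leaf (.cyc (nat_lit 5) [(nat_lit 1095), (nat_lit 2840)])))) (.node (.node (.leaf .df) (.leaf (.cyc (nat_lit 6) [(nat_lit 917), (nat_lit 916)]))) (.node (.leaf (.cyc (nat_lit 28) [(nat_lit 394), (nat_lit 1387), (nat_lit 1344), (nat_lit 1453), (nat_lit 1298), (nat_lit 108), (nat_lit 321)])) (.leaf (.cyc (nat_lit 10) [(nat_lit 3390), (nat_lit 3218), (nat_lit 3615), (nat_lit 3617), (nat_lit 1241)]))))) (.node (.node (.node (.leaf .df) (.leaf (.cyc (nat_lit 13) [(nat_lit 2416), (nat_lit 819), (nat_lit 345), (nat_lit 1707), (nat_lit 450), (nat_lit 1711), (nat_lit 823)]))) (.node (.leaf (.cyc (nat_lit 2) [(nat_lit 151), (nat_lit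 150)])) (.leaf (.cyc (nat_lit 24) [(nat_lit 3434), (nat_lit 3446)])))) (.node (.node (.leaf .df) (.leaf (.cyc (nat_lit 8) [(nat_lit 2608), (nat_lit 2606), (nat_lit 2607), (nat_lit 2933), (nat_lit 1012)]))) (.node (.leaf (.cyc (nat_lit 10) [(nat_lit 231), (nat_lit 72), (nat_lit 70), (nat_lit 222), (nat_lit 604)])) (.leaf .df))))) (.node (.node (.node (.node (.leaf .df) (.leaf (.cyc (nat_lit 2) [(nat_lit 782), (nat_lit 781)]))) (.node (.leaf .df) (.leaf (.cyc (nat_lit 9) [(nat_lit 1138), (nat_lit 3301), (nat_lit 562), (nat_lit 564), (nat_lit 1059)])))) (.node (.node (.leaf .df) (.leaf (.cyc (nat_lit 25) [(nat_lit 2629), (nat_lit 2282), (nat_lit 763), (nat_lit 2012), (nat_lit 463), (nat_lit 465), (nat_lit 972)]))) (.node (.leaf (.cyc (nat_lit 25) [(nat_lit 388), (nat_lit 1475), (nat_lit 1477), (nat_lit 182), (nat_lit 180), (nat_lit 513), (nat_lit 1783)])) (.leaf (.cyc (nat_lit 14) [(nat_lit 3651), (nat_lit 1274)]))))) (.node (.node (.node (.leaf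 .df) (.leaf (.cyc (nat_lit 3) [(nat_lit 2248), (nat_lit 644), (nat_lit 1481), (nat_lit 1632), (nat_lit 870)]))) (.node (.leaf (.cyc (nat_lit 5) [(nat_lit 279), (nat_lit 1484)])) (.leaf (.cyc (nat_lit 4) [(nat_lit 1206), (nat_lit 2927), (nat_lit 2929), (nat_lit 2546), (nat_lit 995)])))) (.node (.node (.leaf .df) (.leaf (.cyc (nat_lit 40) [(nat_lit 2286), (nat_lit 3062), (nat_lit 1051), (nat_lit 1842), (nat_lit 1879), (nat_lit 1876), (nat_lit 881)]))) (.node (.leaf (.cyc (nat_lit 5) [(nat_lit 679), (nat_lit 678)])) (.leaf .df))))))))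
noncomputable def c5P0001 : BT Pf := .node c5P00010 c5P00011
noncomputable def c5P000 : BT Pf := .node c5P0000 c5P0001
noncomputable def c5P00100 : BT Pf := (.node (.node (.node (.node (.node (.node (.node (.leaf .df) (.leaf (.cyc (nat_lit 3) [(nat_lit 470), (nat_lit 468), (nat_lit 2050), (nat_lit 687), (nat_lit 1512), (nat_lit 684)]))) (.node (.leaf .df) (.leaf (.cyc (nat_lit 25) [(nat_lit 3017), (nat_lit 2235), (nat_lit 2237), (nat_lit 1945), (nat_lit 3075), (nat_lit 3074), (nat_lit 2973)])))) (.node (.node (.leaf .df) (.leaf (.cyc (nat_lit 2) [(nat_lit 872), (nat_lit 1835)]))) (.node (.leaf (.cyc (nat_lit 29) [(nat_lit 256), (nat_lit 1358), (nat_lit 1444), (nat_lit 1537), (nat_lit 294), (nat_lit 94), (nat_lit 1293), (nat_lit 1284), (nat_lit 43), (nat_lit 140), (nat_lit 1390), (nat_lit 131), (nat_lit 129)])) (.leaf (.cyc (nat_lit 31) [(nat_lit 3583), (nat_lit 1172), (nat_lit 2293), (nat_lit 2779), (nat_lit 2780), (nat_lit 2358), (nat_lit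 1043), (nat_lit 3031), (nat_lit 1210)]))))) (.node (.node (.node (.leaf .df) (.leaf (.cyc (nat_lit 0) [(nat_lit 1799), (nat_lit 2307)]))) (.node (.leaf (.cyc (nat_lit 5) [(nat_lit 11), (nat_lit 10)])) (.leaf (.cyc (nat_lit 28) [(nat_lit 1143), (nat_lit 668), (nat_lit 2222), (nat_lit 3095), (nat_lit 2524), (nat_lit 2292), (nat_lit 2527)])))) (.node (.node (.leaf .df) (.leaf (.cyc (nat_lit 23) [(nat_lit 895), (nat_lit 2819)]))) (.node (.leaf (.cyc (nat_lit 24) [(nat_lit 1721), (nat_lit 1793)])) (.leaf .df))))) (.node (.node (.node (.node (.leaf .df) (.leaf (.cyc (nat_lit 6) [(nat_lit 723), (nat_lit 722)]))) (.node (.leaf .df) (.leaf (.cyc (nat_lit 8) [(nat_lit 675), (nat_lit 1502), (nat_lit 672), (nat_lit 2068), (nat_lit 1099)])))) (.node (.node (.leaf .df) (.leaf (.cyc (nat_lit 42) [(nat_lit 2304), (nat_lit 2302), (nat_lit 191), (nat_lit 1402), (nat_lit 1403), (nat_lit 1715), (nat_lit 1616), (nat_lit 360), (nat_lit 1381), (nat_lit 380), (nat_lit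 2602), (nat_lit 2478), (nat_lit 2691)]))) (.node (.leaf (.cyc (nat_lit 2) [(nat_lit 405), (nat_lit 404)])) (.leaf (.cyc (nat_lit 0) [(nat_lit 3322), (nat_lit 3715)]))))) (.node (.node (.node (.leaf .df) (.leaf (.cyc (nat_lit 6) [(nat_lit 832), (nat_lit 831)]))) (.node (.leaf (.cyc (nat_lit 5) [(nat_lit 167), (nat_lit 166)])) (.leaf (.cyc (nat_lit 3) [(nat_lit 3459), (nat_lit 1176), (nat_lit 766), (nat_lit 768), (nat_lit 3363)])))) (.node (.node (.leaf .df) (.leaf (.cyc (nat_lit 2) [(nat_lit 1016), (nat_lit 2075)]))) (.node (.leaf (.cyc (nat_lit 6) [(nat_lit 612), (nat_lit 611)])) (.leaf .df)))))) (.node (.node (.node (.node (.node (.leaf .df) (.leaf (.cyc (nat_lit 8) [(nat_lit 1520), (nat_lit 2114), (nat_lit 1980), (nat_lit 391), (nat_lit 393)]))) (.node (.leaf .df) (.leaf (.cyc (nat_lit 2) [(nat_lit 1077), (nat_lit 2909)])))) (.node (.node (.leaf .df) (.leaf (.cyc (nat_lit 7) [(nat_lit 2356), (nat_lit 317), (nat_lit 105), (nat_lit 107),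 (nat_lit 1507), (nat_lit 682), (nat_lit 2627)]))) (.node (.leaf (.cyc (nat_lit 2) [(nat_lit 347), (nat_lit 346)])) (.leaf (.cyc (nat_lit 41) [(nat_lit 3113), (nat_lit 3461), (nat_lit 3464), (nat_lit 3110), (nat_lit 2761), (nat_lit 2389), (nat_lit 2391), (nat_lit 2393), (nat_lit 469), (nat_lit 2153), (nat_lit 729), (nat_lit 2713), (nat_lit 1229)]))))) (.node (.node (.node (.leaf .df) (.leaf (.cyc (nat_lit 9) [(nat_lit 2371), (nat_lit 2370), (nat_lit 2329), (nat_lit 520), (nat_lit 517)]))) (.node (.leaf (.cyc (nat_lit 2) [(nat_lit 98), (nat_lit 97)])) (.leaf (.cyc (nat_lit 0) [(nat_lit 3312), (nat_lit 1158)])))) (.node (.node (.leaf .df) (.leaf (.cyc (nat_lit 8) [(nat_lit 793), (nat_lit 2881), (nat_lit 776), (nat_lit 2883), (nat_lit 2680)]))) (.node (.leaf (.cyc (nat_lit 8) [(nat_lit 1543), (nat_lit 1369), (nat_lit 1518), (nat_lit 1858), (nat_lit 573)])) (.leaf .df))))) (.node (.node (.node (.node (.leaf .df) (.leaf (.cyc (nat_lit 26) [(nat_lit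 740), (nat_lit 295), (nat_lit 1490), (nat_lit 1528), (nat_lit 2077), (nat_lit 2088), (nat_lit 1608)]))) (.node (.leaf .df) (.leaf (.cyc (nat_lit 1) [(nat_lit 3198), (nat_lit 1119)])))) (.node (.node (.leaf .df) (.leaf (.cyc (nat_lit 25) [(nat_lit 2660), (nat_lit 2345), (nat_lit 2344), (nat_lit 2266), (nat_lit 2392), (nat_lit 1696), (nat_lit 953)]))) (.node (.leaf (.cyc (nat_lit 5) [(nat_lit 468), (nat_lit 467)])) (.leaf (.cyc (nat_lit 13) [(nat_lit 3253), (nat_lit 3192), (nat_lit 3515), (nat_lit 3512), (nat_lit 2743), (nat_lit 1082), (nat_lit 1262)]))))) (.node (.node (.node (.leaf .df) (.leaf (.cyc (nat_lit 5) [(nat_lit 854), (nat_lit 853)]))) (.node (.leaf (.cyc (nat_lit 15) [(nat_lit 233), (nat_lit 1329), (nat_lit 1306), (nat_lit 1304), (nat_lit 16), (nat_lit 14), (nat_lit 52), (nat_lit 166), (nat_lit 1424)])) (.leaf (.cyc (nat_lit 29) [(nat_lit 1056), (nat_lit 563), (nat_lit 565), (nat_lit 2760), (nat_lit 2758), (nat_lit 964), (nat_lit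 3429), (nat_lit 1166), (nat_lit 2216), (nat_lit 2048), (nat_lit 2049), (nat_lit 811), (nat_lit 1192)])))) (.node (.node (.leaf .df) (.leaf (.cyc (nat_lit 18) [(nat_lit 3011), (nat_lit 2947), (nat_lit 535), (nat_lit 1428), (nat_lit 537)]))) (.node (.leaf (.cyc (nat_lit 6) [(nat_lit 675), (nat_lit 1548)])) (.leaf .df))))))) (.node (.node (.node (.node (.node (.node (.leaf .df) (.leaf (.cyc (nat_lit 21) [(nat_lit 671), (nat_lit 2080)]))) (.node (.leaf .df) (.leaf (.cyc (nat_lit 11) [(nat_lit 2848), (nat_lit 1831), (nat_lit 2315), (nat_lit 2853), (nat_lit 1853), (nat_lit 2858), (nat_lit 1066)])))) (.node (.node (.leaf .df) (.leaf (.cyc (nat_lit 19) [(nat_lit 1689), (nat_lit 2592)]))) (.node (.leaf (.cyc (nat_lit 2) [(nat_lit 319), (nat_lit 318)])) (.leaf (.cyc (nat_lit 29) [(nat_lit 3619), (nat_lit 3071), (nat_lit 2428), (nat_lit 2452), (nat_lit 480), (nat_lit 1415), (nat_lit 2408), (nat_lit 1680), (nat_lit 926), (nat_lit 2706), (nat_lit 1150),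 (nat_lit 3362), (nat_lit 3160)]))))) (.node (.node (.node (.leaf .df) (.leaf (.cyc (nat_lit 8) [(nat_lit 355), (nat_lit 2093), (nat_lit 518), (nat_lit 2094), (nat_lit 2338)]))) (.node (.leaf (.cyc (nat_lit 2) [(nat_lit 58), (nat_lit 57)])) (.leaf (.cyc (nat_lit 18) [(nat_lit 959), (nat_lit 1699), (nat_lit 956), (nat_lit 2766), (nat_lit 1151)])))) (.node (.node (.leaf .df) (.leaf (.cyc (nat_lit 7) [(nat_lit 793), (nat_lit 2851), (nat_lit 744), (nat_lit 298), (nat_lit 1487), (nat_lit 203), (nat_lit 567), (nat_lit 2834)]))) (.node (.leaf (.cyc (nat_lit 2) [(nat_lit 544), (nat_lit 543)])) (.leaf .df))))) (.node (.node (.node (.node (.leaf .df) (.leaf (.cyc (nat_lit 8) [(nat_lit 2147), (nat_lit 2207), (nat_lit 2208), (nat_lit 510), (nat_lit 512)]))) (.node (.leaf .df) (.leaf (.cyc (nat_lit 41) [(nat_lit 2876), (nat_lit 528), (nat_lit 187), (nat_lit 189), (nat_lit 1877), (nat_lit 1879), (nat_lit 1842), (nat_lit 1050), (nat_lit 3127), (nat_lit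 1073), (nat_lit 1889), (nat_lit 1926), (nat_lit 1110)])))) (.node (.node (.leaf .df) (.leaf (.cyc (nat_lit 13) [(nat_lit 937), (nat_lit 2596), (nat_lit 386), (nat_lit 134), (nat_lit 135), (nat_lit 387), (nat_lit 887)]))) (.node (.leaf (.cyc (nat_lit 8) [(nat_lit 445), (nat_lit 443), (nat_lit 1698), (nat_lit 261), (nat_lit 263)])) (.leaf (.cyc (nat_lit 29) [(nat_lit 3592), (nat_lit 3595), (nat_lit 3725), (nat_lit 3729), (nat_lit 3276), (nat_lit 2880), (nat_lit 776), (nat_lit 2883), (nat_lit 3003), (nat_lit 3368), (nat_lit 3371), (nat_lit 3105), (nat_lit 1252)]))))) (.node (.node (.node (.leaf .df) (.leaf (.cyc (nat_lit 33) [(nat_lit 1648), (nat_lit 1538), (nat_lit 1455), (nat_lit 133), (nat_lit 132), (nat_lit 1457), (nat_lit 576), (nat_lit 1887), (nat_lit 838)]))) (.node (.leaf (.cyc (nat_lit 8) [(nat_lit 104), (nat_lit 103), (nat_lit 1442), (nat_lit 202), (nat_lit 1384)])) (.leaf (.cyc (nat_lit 35) [(nat_lit 3489), (nat_lit 2718), (nat_lit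 3490), (nat_lit 968), (nat_lit 457), (nat_lit 162), (nat_lit 1312), (nat_lit 168), (nat_lit 478), (nat_lit 2585), (nat_lit 2768), (nat_lit 2770), (nat_lit 2919)])))) (.node (.node (.leaf .df) (.leaf (.cyc (nat_lit 22) [(nat_lit 2224), (nat_lit 1650), (nat_lit 1653), (nat_lit 1654), (nat_lit 448), (nat_lit 2096), (nat_lit 1789), (nat_lit 1026), (nat_lit 2978)]))) (.node (.leaf (.cyc (nat_lit 2) [(nat_lit 648), (nat_lit 647)])) (.leaf .df)))))) (.node (.node (.node (.node (.node (.leaf .df) (.leaf (.cyc (nat_lit 16) [(nat_lit 2142), (nat_lit 714), (nat_lit 279), (nat_lit 89), (nat_lit 25), (nat_lit 6), (nat_lit 1277), (nat_lit 10), (nat_lit 39), (nat_lit 1373), (nat_lit 1593), (nat_lit 1401), (nat_lit 435)]))) (.node (.leaf .df) (.leaf (.cyc (nat_lit 9) [(nat_lit 1087), (nat_lit 3171), (nat_lit 2237), (nat_lit 529), (nat_lit 531), (nat_lit 3119)])))) (.node (.node (.leaf .df) (.leaf (.cyc (nat_lit 9) [(nat_lit 2518), (nat_lit 2656), (nat_lit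 908), (nat_lit 1665), (nat_lit 910)]))) (.node (.leaf (.cyc (nat_lit 6) [(nat_lit 1634), (nat_lit 1609)])) (.leaf (.cyc (nat_lit 9) [(nat_lit 1237), (nat_lit 1236), (nat_lit 3681), (nat_lit 3587), (nat_lit 3589)]))))) (.node (.node (.node (.leaf .df) (.leaf (.cyc (nat_lit 7) [(nat_lit 2403), (nat_lit 437), (nat_lit 152), (nat_lit 47), (nat_lit 45), (nat_lit 147), (nat_lit 419)]))) (.node (.leaf (.cyc (nat_lit 4) [(nat_lit 131), (nat_lit 38), (nat_lit 36), (nat_lit 123), (nat_lit 1373)])) (.leaf (.cyc (nat_lit 18) [(nat_lit 1094), (nat_lit 2176), (nat_lit 2750), (nat_lit 2753), (nat_lit 1166)])))) (.node (.node (.leaf .df) (.leaf (.cyc (nat_lit 3) [(nat_lit 2915), (nat_lit 562), (nat_lit 1443), (nat_lit 1564), (nat_lit 771)]))) (.node (.leaf (.cyc (nat_lit 7) [(nat_lit 582), (nat_lit 212), (nat_lit 1456), (nat_lit 1382), (nat_lit 379), (nat_lit 1835), (nat_lit 1836)])) (.leaf .df))))) (.node (.node (.node (.node (.leaf .df) (.leaf (.cyc (nat_lit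 22) [(nat_lit 626), (nat_lit 1471), (nat_lit 630), (nat_lit 1942), (nat_lit 2059), (nat_lit 468), (nat_lit 470), (nat_lit 2271), (nat_lit 2274)]))) (.node (.leaf .df) (.leaf (.cyc (nat_lit 25) [(nat_lit 663), (nat_lit 1542), (nat_lit 1652), (nat_lit 1650), (nat_lit 897), (nat_lit 3299), (nat_lit 2916), (nat_lit 3072)])))) (.node (.node (.leaf .df) (.leaf (.cyc (nat_lit 3) [(nat_lit 795), (nat_lit 1636), (nat_lit 1612), (nat_lit 832), (nat_lit 2787)]))) (.node (.leaf (.cyc (nat_lit 8) [(nat_lit 1442), (nat_lit 1357), (nat_lit 307), (nat_lit 1763), (nat_lit 494)])) (.leaf (.cyc (nat_lit 10) [(nat_lit 1269), (nat_lit 3517), (nat_lit 3754), (nat_lit 3755), (nat_lit 3788)]))))) (.node (.node (.node (.leaf .df) (.leaf (.cyc (nat_lit 19) [(nat_lit 759), (nat_lit 2531)]))) (.node (.leaf (.cyc (nat_lit 3) [(nat_lit 176), (nat_lit 174), (nat_lit 1506), (nat_lit 259), (nat_lit 1336), (nat_lit 257)])) (.leaf (.cyc (nat_lit 14) [(nat_lit 3539), (nat_lit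 1201)])))) (.node (.node (.leaf .df) (.leaf (.cyc (nat_lit 29) [(nat_lit 1918), (nat_lit 3043), (nat_lit 3041), (nat_lit 2772), (nat_lit 2121), (nat_lit 559), (nat_lit 561), (nat_lit 2348), (nat_lit 2641), (nat_lit 1607), (nat_lit 1712), (nat_lit 1449), (nat_lit 577)]))) (.node (.leaf (.cyc (nat_lit 21) [(nat_lit 1679), (nat_lit 2016)])) (.leaf .df))))))))
noncomputable def c5P00101 : BT Pf := (.node (.node (.node (.node (.node (.node (.node (.leaf .df) (.leaf (.cyc (nat_lit 40) [(nat_lit 672), (nat_lit 1502), (nat_lit 1941), (nat_lit 2066), (nat_lit 554), (nat_lit 551), (nat_lit 1917)]))) (.node (.leaf .df) (.leaf (.cyc (nat_lit 8) [(nat_lit 1063), (nat_lit 2853), (nat_lit 2315), (nat_lit 1831), (nat_lit 1046)])))) (.node (.node (.leaf .df) (.leaf (.cyc (nat_lit 2) [(nat_lit 880), (nat_lit 879)]))) (.node (.leaf (.cyc (nat_lit 8) [(nat_lit 1435), (nat_lit 1360), (nat_lit 1555), (nat_lit 1500), (nat_lit 1554)])) (.leaf (.cyc (nat_lit 0)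 [(nat_lit 3327), (nat_lit 3602)]))))) (.node (.node (.node (.leaf .df) (.leaf (.cyc (nat_lit 2) [(nat_lit 796), (nat_lit 1656)]))) (.node (.leaf (.cyc (nat_lit 6) [(nat_lit 34), (nat_lit 33)])) (.leaf (.cyc (nat_lit 13) [(nat_lit 3291), (nat_lit 1969), (nat_lit 3211), (nat_lit 3212), (nat_lit 2712), (nat_lit 2854), (nat_lit 3347)])))) (.node (.node (.leaf .df) (.leaf (.cyc (nat_lit 1) [(nat_lit 2831), (nat_lit 987)]))) (.node (.leaf (.cyc (nat_lit 13) [(nat_lit 530), (nat_lit 188), (nat_lit 58), (nat_lit 1286), (nat_lit 51), (nat_lit 162), (nat_lit 457)])) (.leaf .df))))) (.node (.node (.node (.node (.leaf .df) (.leaf (.cyc (nat_lit 18) [(nat_lit 2195), (nat_lit 713), (nat_lit 2077), (nat_lit 2086), (nat_lit 1657)]))) (.node (.leaf .df) (.leaf (.cyc (nat_lit 4) [(nat_lit 980), (nat_lit 1745), (nat_lit 981), (nat_lit 2905), (nat_lit 3219)])))) (.node (.node (.leaf .df) (.leaf (.cyc (nat_lit 41) [(nat_lit 2206), (nat_lit 647), (nat_lit 1481),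 (nat_lit 644), (nat_lit 2248), (nat_lit 2552), (nat_lit 2556), (nat_lit 2559), (nat_lit 1800), (nat_lit 2355), (nat_lit 2178), (nat_lit 2177), (nat_lit 928)]))) (.node (.leaf (.cyc (nat_lit 1) [(nat_lit 1602), (nat_lit 1683)])) (.leaf (.cyc (nat_lit 13) [(nat_lit 1062), (nat_lit 2925), (nat_lit 2924), (nat_lit 1778), (nat_lit 1004), (nat_lit 2921), (nat_lit 1248)]))))) (.node (.node (.node (.leaf .df) (.leaf (.cyc (nat_lit 40) [(nat_lit 480), (nat_lit 1415), (nat_lit 2451), (nat_lit 1711), (nat_lit 1710), (nat_lit 1618), (nat_lit 828)]))) (.node (.leaf (.cyc (nat_lit 6) [(nat_lit 190), (nat_lit 189)])) (.leaf (.cyc (nat_lit 41) [(nat_lit 2911), (nat_lit 501), (nat_lit 1727), (nat_lit 460), (nat_lit 163), (nat_lit 51), (nat_lit 1286), (nat_lit 57), (nat_lit 186), (nat_lit 524), (nat_lit 2681), (nat_lit 2883), (nat_lit 1182)])))) (.node (.node (.leaf .df) (.leaf (.cyc (nat_lit 2) [(nat_lit 1019), (nat_lit 2212)]))) (.node (.leaf (.cyc (nat_lit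 6) [(nat_lit 630), (nat_lit 629)])) (.leaf .df)))))) (.node (.node (.node (.node (.node (.leaf .df) (.leaf (.cyc (nat_lit 3) [(nat_lit 2125), (nat_lit 702), (nat_lit 272), (nat_lit 274), (nat_lit 707)]))) (.node (.leaf .df) (.leaf (.cyc (nat_lit 0) [(nat_lit 2388), (nat_lit 1082)])))) (.node (.node (.leaf .df) (.leaf (.cyc (nat_lit 2) [(nat_lit 900), (nat_lit 899)]))) (.node (.leaf (.cyc (nat_lit 6) [(nat_lit 364), (nat_lit 363)])) (.leaf (.cyc (nat_lit 25) [(nat_lit 3350), (nat_lit 2817), (nat_lit 2824), (nat_lit 3621), (nat_lit 3622), (nat_lit 3642), (nat_lit 3667)]))))) (.node (.node (.node (.leaf .df) (.leaf (.cyc (nat_lit 13) [(nat_lit 2387), (nat_lit 814), (nat_lit 1598), (nat_lit 1886), (nat_lit 1393), (nat_lit 1865), (nat_lit 585)]))) (.node (.leaf (.cyc (nat_lit 8) [(nat_lit 1340), (nat_lit 1351), (nat_lit 33), (nat_lit 31), (nat_lit 109)])) (.leaf (.cyc (nat_lit 34) [(nat_lit 2516), (nat_lit 3036), (nat_lit 1975), (nat_lit 591),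 (nat_lit 590), (nat_lit 2823), (nat_lit 975), (nat_lit 2697), (nat_lit 2725), (nat_lit 2954), (nat_lit 2952), (nat_lit 2264), (nat_lit 3411)])))) (.node (.node (.leaf .df) (.leaf (.cyc (nat_lit 25) [(nat_lit 2508), (nat_lit 2515), (nat_lit 2510), (nat_lit 2898), (nat_lit 2899), (nat_lit 2702), (nat_lit 2828)]))) (.node (.leaf (.cyc (nat_lit 27) [(nat_lit 1815), (nat_lit 1875)])) (.leaf .df))))) (.node (.node (.node (.node (.leaf .df) (.leaf (.cyc (nat_lit 22) [(nat_lit 649), (nat_lit 1492), (nat_lit 149), (nat_lit 46), (nat_lit 47), (nat_lit 152), (nat_lit 1559), (nat_lit 750), (nat_lit 2259)]))) (.node (.leaf .df) (.leaf (.cyc (nat_lit 28) [(nat_lit 3281), (nat_lit 1124), (nat_lit 636), (nat_lit 637), (nat_lit 2667), (nat_lit 3148), (nat_lit 3154)])))) (.node (.node (.leaf .df) (.leaf (.cyc (nat_lit 10) [(nat_lit 960), (nat_lit 2343), (nat_lit 561), (nat_lit 559), (nat_lit 2121)]))) (.node (.leaf (.cyc (nat_lit 6) [(nat_lit 484), (nat_lit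 483)])) (.leaf (.cyc (nat_lit 13) [(nat_lit 3663), (nat_lit 1236), (nat_lit 3753), (nat_lit 1253), (nat_lit 2976), (nat_lit 3229), (nat_lit 1265)]))))) (.node (.node (.node (.leaf .df) (.leaf (.cyc (nat_lit 2) [(nat_lit 860), (nat_lit 859)]))) (.node (.leaf (.cyc (nat_lit 0) [(nat_lit 1398), (nat_lit 240)])) (.leaf (.cyc (nat_lit 4) [(nat_lit 1110), (nat_lit 1927), (nat_lit 2423), (nat_lit 2426), (nat_lit 1196)])))) (.node (.node (.leaf .df) (.leaf (.cyc (nat_lit 29) [(nat_lit 2646), (nat_lit 2613), (nat_lit 1808), (nat_lit 2862), (nat_lit 3026), (nat_lit 3025), (nat_lit 2962), (nat_lit 2961), (nat_lit 2605), (nat_lit 471), (nat_lit 1412), (nat_lit 475), (nat_lit 975)]))) (.node (.leaf (.cyc (nat_lit 25) [(nat_lit 606), (nat_lit 1574), (nat_lit 1575), (nat_lit 1795), (nat_lit 1407), (nat_lit 1993), (nat_lit 1513)])) (.leaf .df))))))) (.node (.node (.node (.node (.node (.node (.leaf .df) (.leaf (.cyc (nat_lit 16) [(nat_lit 477), (nat_lit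 1414), (nat_lit 1322), (nat_lit 1359), (nat_lit 106), (nat_lit 30), (nat_lit 7), (nat_lit 1276), (nat_lit 5), (nat_lit 23), (nat_lit 84), (nat_lit 265), (nat_lit 689)]))) (.node (.leaf .df) (.leaf (.cyc (nat_lit 11) [(nat_lit 1972), (nat_lit 348), (nat_lit 350), (nat_lit 1712), (nat_lit 1449), (nat_lit 577), (nat_lit 1071)])))) (.node (.node (.leaf .df) (.leaf (.cyc (nat_lit 25) [(nat_lit 808), (nat_lit 1581), (nat_lit 388), (nat_lit 891), (nat_lit 2610), (nat_lit 393), (nat_lit 390)]))) (.node (.leaf (.cyc (nat_lit 7) [(nat_lit 204), (nat_lit 65), (nat_lit 63), (nat_lit 198), (nat_lit 1438), (nat_lit 1368), (nat_lit 335)])) (.leaf (.cyc (nat_lit 7) [(nat_lit 3394), (nat_lit 1001), (nat_lit 500), (nat_lit 1418), (nat_lit 503), (nat_lit 1005), (nat_lit 3635)]))))) (.node (.node (.node (.leaf .df) (.leaf (.cyc (nat_lit 27) [(nat_lit 789), (nat_lit 2354)]))) (.node (.leaf (.cyc (nat_lit 14) [(nat_lit 1299), (nat_lit 78)])) (.leaf (.cyc (nat_lit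 0) [(nat_lit 3090), (nat_lit 1155)])))) (.node (.node (.leaf .df) (.leaf (.cyc (nat_lit 10) [(nat_lit 969), (nat_lit 2073), (nat_lit 644), (nat_lit 2253), (nat_lit 2866)]))) (.node (.leaf (.cyc (nat_lit 9) [(nat_lit 400), (nat_lit 1392), (nat_lit 1585), (nat_lit 1441), (nat_lit 560)])) (.leaf .df))))) (.node (.node (.node (.node (.leaf .df) (.leaf (.cyc (nat_lit 13) [(nat_lit 1810), (nat_lit 1812), (nat_lit 2073), (nat_lit 236), (nat_lit 1491), (nat_lit 295), (nat_lit 739)]))) (.node (.leaf .df) (.leaf (.cyc (nat_lit 14) [(nat_lit 3056), (nat_lit 1114)])))) (.node (.node (.leaf .df) (.leaf (.cyc (nat_lit 35) [(nat_lit 2255), (nat_lit 2026), (nat_lit 224), (nat_lit 222), (nat_lit 605), (nat_lit 2068), (nat_lit 672), (nat_lit 674), (nat_lit 2545), (nat_lit 2544), (nat_lit 2542), (nat_lit 2543), (nat_lit 2739)]))) (.node (.leaf (.cyc (nat_lit 34) [(nat_lit 340), (nat_lit 1369), (nat_lit 336), (nat_lit 1715), (nat_lit 1403), (nat_lit 1402),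 (nat_lit 1317), (nat_lit 41), (nat_lit 11), (nat_lit 12), (nat_lit 47), (nat_lit 152), (nat_lit 436)])) (.leaf (.cyc (nat_lit 1) [(nat_lit 3562), (nat_lit 1258)]))))) (.node (.node (.node (.leaf .df) (.leaf (.cyc (nat_lit 23) [(nat_lit 848), (nat_lit 2482)]))) (.node (.leaf (.cyc (nat_lit 4) [(nat_lit 212), (nat_lit 67), (nat_lit 18), (nat_lit 21), (nat_lit 76)])) (.leaf (.cyc (nat_lit 9) [(nat_lit 1098), (nat_lit 2495), (nat_lit 2999), (nat_lit 2296), (nat_lit 1188)])))) (.node (.node (.leaf .df) (.leaf (.cyc (nat_lit 4) [(nat_lit 2474), (nat_lit 1690), (nat_lit 938), (nat_lit 2728), (nat_lit 1031)]))) (.node (.leaf (.cyc (nat_lit 8) [(nat_lit 1954), (nat_lit 642), (nat_lit 1968), (nat_lit 657), (nat_lit 659)])) (.leaf .df)))))) (.node (.node (.node (.node (.node (.leaf .df) (.leaf (.cyc (nat_lit 8) [(nat_lit 290), (nat_lit 288), (nat_lit 2161), (nat_lit 2162), (nat_lit 2163)]))) (.node (.leaf .df) (.leaf (.cyc (nat_lit 25) [(nat_lit 920),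 (nat_lit 1672), (nat_lit 1842), (nat_lit 1050), (nat_lit 3060), (nat_lit 1064), (nat_lit 3187)])))) (.node (.node (.leaf .df) (.leaf (.cyc (nat_lit 27) [(nat_lit 2671), (nat_lit 2675)]))) (.node (.leaf (.cyc (nat_lit 33) [(nat_lit 1542), (nat_lit 245), (nat_lit 77), (nat_lit 1289), (nat_lit 73), (nat_lit 1458), (nat_lit 1651), (nat_lit 392), (nat_lit 390)])) (.leaf (.cyc (nat_lit 29) [(nat_lit 2890), (nat_lit 2738), (nat_lit 927), (nat_lit 2184), (nat_lit 726), (nat_lit 284), (nat_lit 286), (nat_lit 2152), (nat_lit 2060), (nat_lit 1472), (nat_lit 633), (nat_lit 3008), (nat_lit 1240)]))))) (.node (.node (.node (.leaf .df) (.leaf (.cyc (nat_lit 1) [(nat_lit 2330), (nat_lit 822)]))) (.node (.leaf (.cyc (nat_lit 2) [(nat_lit 148), (nat_lit 147)])) (.leaf (.cyc (nat_lit 10) [(nat_lit 3442), (nat_lit 2756), (nat_lit 2659), (nat_lit 1069), (nat_lit 3180)])))) (.node (.node (.leaf .df) (.leaf (.cyc (nat_lit 16) [(nat_lit 653), (nat_lit 1493), (nat_lit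 372), (nat_lit 858), (nat_lit 2510), (nat_lit 2898), (nat_lit 999), (nat_lit 1776), (nat_lit 2467), (nat_lit 509), (nat_lit 1419), (nat_lit 506), (nat_lit 1012)]))) (.node (.leaf (.cyc (nat_lit 2) [(nat_lit 599), (nat_lit 598)])) (.leaf .df))))) (.node (.node (.node (.node (.leaf .df) (.leaf (.cyc (nat_lit 6) [(nat_lit 779), (nat_lit 778)]))) (.node (.leaf .df) (.leaf (.cyc (nat_lit 25) [(nat_lit 3099), (nat_lit 2175), (nat_lit 2172), (nat_lit 2830), (nat_lit 3234), (nat_lit 3232), (nat_lit 1136)])))) (.node (.node (.leaf .df) (.leaf (.cyc (nat_lit 6) [(nat_lit 971), (nat_lit 2173)]))) (.node (.leaf (.cyc (nat_lit 6) [(nat_lit 508), (nat_lit 507)])) (.leaf (.cyc (nat_lit 2) [(nat_lit 1273), (nat_lit 3598)]))))) (.node (.node (.node (.leaf .df) (.leaf (.cyc (nat_lit 6) [(nat_lit 2546), (nat_lit 2498)]))) (.node (.leaf (.cyc (nat_lit 27) [(nat_lit 1521), (nat_lit 1523)])) (.leaf (.cyc (nat_lit 8) [(nat_lit 1205), (nat_lit 2500), (nat_lit 2498),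 (nat_lit 2929), (nat_lit 2927)])))) (.node (.node (.leaf .df) (.leaf (.cyc (nat_lit 34) [(nat_lit 1853), (nat_lit 2853), (nat_lit 793), (nat_lit 318), (nat_lit 1360), (nat_lit 315), (nat_lit 1791), (nat_lit 1794), (nat_lit 322), (nat_lit 323), (nat_lit 1879), (nat_lit 1842), (nat_lit 1050)]))) (.node (.leaf (.cyc (nat_lit 27) [(nat_lit 601), (nat_lit 2032)])) (.leaf .df))))))))
noncomputable def c5P0010 : BT Pf := .node c5P00100 c5P00101
noncomputable def c5P00110 : BT Pf := (.node (.node (.node (.node (.node (.node (.node (.leaf .df) (.leaf (.cyc (nat_lit 23) [(nat_lit 638), (nat_lit 2058)]))) (.node (.leaf .df) (.leaf (.cyc (nat_lit 7) [(nat_lit 716), (nat_lit 1529), (nat_lit 718), (nat_lit 2804), (nat_lit 2803), (nat_lit 3082), (nat_lit 3083)])))) (.node (.node (.leaf .df) (.leaf (.cyc (nat_lit 8) [(nat_lit 876), (nat_lit 2095), (nat_lit 2240), (nat_lit 1519), (nat_lit 703)]))) (.node (.leaf (.cyc (nat_lit 7) [(nat_lit 299), (nat_lit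 98), (nat_lit 27), (nat_lit 1281), (nat_lit 22), (nat_lit 79), (nat_lit 253)])) (.leaf (.cyc (nat_lit 10) [(nat_lit 2856), (nat_lit 2341), (nat_lit 2519), (nat_lit 2687), (nat_lit 1212)]))))) (.node (.node (.node (.leaf .df) (.leaf (.cyc (nat_lit 6) [(nat_lit 794), (nat_lit 1740)]))) (.node (.leaf (.cyc (nat_lit 5) [(nat_lit 25), (nat_lit 24)])) (.leaf (.cyc (nat_lit 11) [(nat_lit 2715), (nat_lit 2714), (nat_lit 905), (nat_lit 2377), (nat_lit 757), (nat_lit 2859), (nat_lit 3339)])))) (.node (.node (.leaf .df) (.leaf (.cyc (nat_lit 5) [(nat_lit 981), (nat_lit 2452)]))) (.node (.leaf (.cyc (nat_lit 11) [(nat_lit 473), (nat_lit 166), (nat_lit 52), (nat_lit 1286), (nat_lit 57), (nat_lit 184), (nat_lit 521)])) (.leaf .df))))) (.node (.node (.node (.node (.leaf .df) (.leaf (.cyc (nat_lit 20) [(nat_lit 2180), (nat_lit 2187)]))) (.node (.leaf .df) (.leaf (.cyc (nat_lit 9) [(nat_lit 2856), (nat_lit 2816), (nat_lit 2775), (nat_lit 3041), (nat_lit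 3210)])))) (.node (.node (.leaf .df) (.leaf (.cyc (nat_lit 0) [(nat_lit 2589), (nat_lit 2699)]))) (.node (.leaf (.cyc (nat_lit 4) [(nat_lit 1540), (nat_lit 1378), (nat_lit 1308), (nat_lit 146), (nat_lit 417)])) (.leaf (.cyc (nat_lit 1) [(nat_lit 3180), (nat_lit 3723)]))))) (.node (.node (.node (.leaf .df) (.leaf (.cyc (nat_lit 25) [(nat_lit 750), (nat_lit 1559), (nat_lit 1401), (nat_lit 1593), (nat_lit 1381), (nat_lit 380), (nat_lit 2442)]))) (.node (.leaf (.cyc (nat_lit 4) [(nat_lit 65), (nat_lit 17), (nat_lit 15), (nat_lit 56), (nat_lit 179)])) (.leaf (.cyc (nat_lit 2) [(nat_lit 1179), (nat_lit 1178)])))) (.node (.node (.leaf .df) (.leaf (.cyc (nat_lit 17) [(nat_lit 2578), (nat_lit 2230), (nat_lit 580), (nat_lit 1459), (nat_lit 1494), (nat_lit 1960), (nat_lit 2226), (nat_lit 715), (nat_lit 280), (nat_lit 279), (nat_lit 713), (nat_lit 2212), (nat_lit 1018)]))) (.node (.leaf (.cyc (nat_lit 2) [(nat_lit 621), (nat_lit 620)])) (.leaf .df))))))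 (.node (.node (.node (.node (.node (.leaf .df) (.leaf (.cyc (nat_lit 2) [(nat_lit 701), (nat_lit 700)]))) (.node (.leaf .df) (.leaf (.cyc (nat_lit 4) [(nat_lit 592), (nat_lit 216), (nat_lit 214), (nat_lit 584), (nat_lit 1080)])))) (.node (.node (.leaf .df) (.leaf (.cyc (nat_lit 43) [(nat_lit 2368), (nat_lit 2337), (nat_lit 710), (nat_lit 1899), (nat_lit 589), (nat_lit 216), (nat_lit 68), (nat_lit 18), (nat_lit 20), (nat_lit 73), (nat_lit 1458), (nat_lit 1651), (nat_lit 899)]))) (.node (.leaf (.cyc (nat_lit 5) [(nat_lit 357), (nat_lit 356)])) (.leaf (.cyc (nat_lit 1) [(nat_lit 3491), (nat_lit 1231)]))))) (.node (.node (.node (.leaf .df) (.leaf (.cyc (nat_lit 2) [(nat_lit 812), (nat_lit 811)]))) (.node (.leaf (.cyc (nat_lit 2) [(nat_lit 101), (nat_lit 1352)])) (.leaf (.cyc (nat_lit 8) [(nat_lit 3191), (nat_lit 3173), (nat_lit 3119), (nat_lit 2139), (nat_lit 1160)])))) (.node (.node (.leaf .df) (.leaf (.cyc (nat_lit 6) [(nat_lit 998), (nat_lit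 2543)]))) (.node (.leaf (.cyc (nat_lit 10) [(nat_lit 447), (nat_lit 1406), (nat_lit 450), (nat_lit 1704), (nat_lit 575)])) (.leaf .df))))) (.node (.node (.node (.node (.leaf .df) (.leaf (.cyc (nat_lit 2) [(nat_lit 746), (nat_lit 745)]))) (.node (.leaf .df) (.leaf (.cyc (nat_lit 1) [(nat_lit 2250), (nat_lit 1122)])))) (.node (.node (.leaf .df) (.leaf (.cyc (nat_lit 4) [(nat_lit 2762), (nat_lit 1723), (nat_lit 303), (nat_lit 305), (nat_lit 755)]))) (.node (.leaf (.cyc (nat_lit 4) [(nat_lit 319), (nat_lit 1359), (nat_lit 1322), (nat_lit 1414), (nat_lit 477)])) (.leaf (.cyc (nat_lit 3) [(nat_lit 3786), (nat_lit 3787), (nat_lit 3785), (nat_lit 3787), (nat_lit 3756)]))))) (.node (.node (.node (.leaf .df) (.leaf (.cyc (nat_lit 9) [(nat_lit 857), (nat_lit 1627), (nat_lit 310), (nat_lit 311), (nat_lit 775)]))) (.node (.leaf (.cyc (nat_lit 26) [(nat_lit 1482), (nat_lit 1363), (nat_lit 82), (nat_lit 23), (nat_lit 1280), (nat_lit 25), (nat_lit 89)]))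 (.leaf (.cyc (nat_lit 3) [(nat_lit 2661), (nat_lit 910), (nat_lit 1883), (nat_lit 2412), (nat_lit 1194)])))) (.node (.node (.leaf .df) (.leaf (.cyc (nat_lit 1) [(nat_lit 3012), (nat_lit 1040)]))) (.node (.leaf (.cyc (nat_lit 8) [(nat_lit 677), (nat_lit 256), (nat_lit 1335), (nat_lit 102), (nat_lit 307)])) (.leaf .df))))))) (.node (.node (.node (.node (.node (.node (.leaf .df) (.leaf (.cyc (nat_lit 19) [(nat_lit 352), (nat_lit 2090)]))) (.node (.leaf .df) (.leaf (.cyc (nat_lit 2) [(nat_lit 3115), (nat_lit 2614)])))) (.node (.node (.leaf .df) (.leaf (.cyc (nat_lit 2) [(nat_lit 888), (nat_lit 887)]))) (.node (.leaf (.cyc (nat_lit 6) [(nat_lit 330), (nat_lit 329)])) (.leaf (.cyc (nat_lit 14) [(nat_lit 3361), (nat_lit 1222)]))))) (.node (.node (.node (.leaf .df) (.leaf (.cyc (nat_lit 15) [(nat_lit 804), (nat_lit 328), (nat_lit 330), (nat_lit 2307), (nat_lit 786), (nat_lit 784), (nat_lit 2309), (nat_lit 559), (nat_lit 561)]))) (.node (.leaf (.cyc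 (nat_lit 2) [(nat_lit 65), (nat_lit 64)])) (.leaf (.cyc (nat_lit 14) [(nat_lit 2992), (nat_lit 3370)])))) (.node (.node (.leaf .df) (.leaf (.cyc (nat_lit 33) [(nat_lit 2713), (nat_lit 2256), (nat_lit 2258), (nat_lit 420), (nat_lit 418), (nat_lit 2409), (nat_lit 1747), (nat_lit 1761), (nat_lit 989)]))) (.node (.leaf (.cyc (nat_lit 5) [(nat_lit 552), (nat_lit 551)])) (.leaf .df))))) (.node (.node (.node (.node (.leaf .df) (.leaf (.cyc (nat_lit 32) [(nat_lit 1683), (nat_lit 282), (nat_lit 1342), (nat_lit 1484), (nat_lit 1490), (nat_lit 295), (nat_lit 738), (nat_lit 2219), (nat_lit 667), (nat_lit 666)]))) (.node (.leaf .df) (.leaf (.cyc (nat_lit 6) [(nat_lit 3242), (nat_lit 2905)])))) (.node (.node (.leaf .df) (.leaf (.cyc (nat_lit 2) [(nat_lit 942), (nat_lit 2226)]))) (.node (.leaf (.cyc (nat_lit 19) [(nat_lit 1599), (nat_lit 1706)])) (.leaf (.cyc (nat_lit 2) [(nat_lit 1255), (nat_lit 1254)]))))) (.node (.node (.node (.leaf .df) (.leaf (.cyc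 (nat_lit 2) [(nat_lit 844), (nat_lit 843)]))) (.node (.leaf (.cyc (nat_lit 20) [(nat_lit 1450), (nat_lit 1451)])) (.leaf (.cyc (nat_lit 6) [(nat_lit 3497), (nat_lit 3489)])))) (.node (.node (.leaf .df) (.leaf (.cyc (nat_lit 33) [(nat_lit 2682), (nat_lit 892), (nat_lit 389), (nat_lit 1581), (nat_lit 808), (nat_lit 2812), (nat_lit 2814), (nat_lit 2815), (nat_lit 1028)]))) (.node (.leaf (.cyc (nat_lit 0) [(nat_lit 1497), (nat_lit 653)])) (.leaf .df)))))) (.node (.node (.node (.node (.node (.leaf .df) (.leaf (.cyc (nat_lit 23) [(nat_lit 1631), (nat_lit 2154)]))) (.node (.leaf .df) (.leaf (.cyc (nat_lit 3) [(nat_lit 3114), (nat_lit 2822), (nat_lit 2824), (nat_lit 2823), (nat_lit 1090)])))) (.node (.node (.leaf .df) (.leaf (.cyc (nat_lit 0) [(nat_lit 2664), (nat_lit 2667)]))) (.node (.leaf (.cyc (nat_lit 20) [(nat_lit 1535), (nat_lit 1643)])) (.leaf (.cyc (nat_lit 43) [(nat_lit 1238), (nat_lit 3689), (nat_lit 3473), (nat_lit 3475), (nat_lit 3030),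 (nat_lit 3501), (nat_lit 2801), (nat_lit 2419), (nat_lit 2720), (nat_lit 2719), (nat_lit 2472), (nat_lit 1888), (nat_lit 1072)]))))) (.node (.node (.node (.leaf .df) (.leaf (.cyc (nat_lit 1) [(nat_lit 1615), (nat_lit 816)]))) (.node (.leaf (.cyc (nat_lit 5) [(nat_lit 139), (nat_lit 1320)])) (.leaf (.cyc (nat_lit 4) [(nat_lit 1169), (nat_lit 3373), (nat_lit 3375), (nat_lit 3360), (nat_lit 2655)])))) (.node (.node (.leaf .df) (.leaf (.cyc (nat_lit 8) [(nat_lit 1007), (nat_lit 2921), (nat_lit 1004), (nat_lit 1778), (nat_lit 1008)]))) (.node (.leaf (.cyc (nat_lit 5) [(nat_lit 590), (nat_lit 589)])) (.leaf .df))))) (.node (.node (.node (.node (.leaf .df) (.leaf (.cyc (nat_lit 4) [(nat_lit 764), (nat_lit 307), (nat_lit 102), (nat_lit 104), (nat_lit 313)]))) (.node (.leaf .df) (.leaf (.cyc (nat_lit 0) [(nat_lit 3124), (nat_lit 1133)])))) (.node (.node (.leaf .df) (.leaf (.cyc (nat_lit 31) [(nat_lit 2487), (nat_lit 2485), (nat_lit 2436), (nat_lit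 2431), (nat_lit 363), (nat_lit 361), (nat_lit 841), (nat_lit 2626), (nat_lit 2795)]))) (.node (.leaf (.cyc (nat_lit 2) [(nat_lit 496), (nat_lit 1764)])) (.leaf (.cyc (nat_lit 29) [(nat_lit 1259), (nat_lit 3458), (nat_lit 3457), (nat_lit 3439), (nat_lit 1065), (nat_lit 3060), (nat_lit 3127), (nat_lit 1073), (nat_lit 1889), (nat_lit 1934), (nat_lit 2528), (nat_lit 1178), (nat_lit 1271)]))))) (.node (.node (.node (.leaf .df) (.leaf (.cyc (nat_lit 3) [(nat_lit 2493), (nat_lit 680), (nat_lit 678), (nat_lit 2042), (nat_lit 868)]))) (.node (.leaf (.cyc (nat_lit 5) [(nat_lit 269), (nat_lit 268)])) (.leaf (.cyc (nat_lit 4) [(nat_lit 888), (nat_lit 2468), (nat_lit 838), (nat_lit 839), (nat_lit 1203)])))) (.node (.node (.leaf .df) (.leaf (.cyc (nat_lit 8) [(nat_lit 1047), (nat_lit 555), (nat_lit 1761), (nat_lit 989), (nat_lit 2860)]))) (.node (.leaf (.cyc (nat_lit 21) [(nat_lit 1922), (nat_lit 2021)])) (.leaf .df))))))))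
noncomputable def c5P00111 : BT Pf := (.node (.node (.node (.node (.node (.node (.node (.leaf .df) (.leaf (.cyc (nat_lit 40) [(nat_lit 1528), (nat_lit 239), (nat_lit 236), (nat_lit 2072), (nat_lit 162), (nat_lit 1312), (nat_lit 166), (nat_lit 472)]))) (.node (.leaf .df) (.leaf (.cyc (nat_lit 16) [(nat_lit 3099), (nat_lit 2175), (nat_lit 2172), (nat_lit 566), (nat_lit 1445), (nat_lit 569), (nat_lit 2547), (nat_lit 2492), (nat_lit 1827), (nat_lit 1837), (nat_lit 2065), (nat_lit 2053), (nat_lit 2043)])))) (.node (.node (.leaf .df) (.leaf (.cyc (nat_lit 8) [(nat_lit 839), (nat_lit 2470), (nat_lit 2471), (nat_lit 2475), (nat_lit 2586)]))) (.node (.leaf (.cyc (nat_lit 1) [(nat_lit 1442), (nat_lit 310)])) (.leaf (.cyc (nat_lit 8) [(nat_lit 1217), (nat_lit 2622), (nat_lit 1043), (nat_lit 3031), (nat_lit 1210)]))))) (.node (.node (.node (.leaf .df) (.leaf (.cyc (nat_lit 23) [(nat_lit 625), (nat_lit 2331)]))) (.node (.leaf (.cyc (nat_lit 5) [(nat_lit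 46), (nat_lit 45)])) (.leaf (.cyc (nat_lit 10) [(nat_lit 3337), (nat_lit 2280), (nat_lit 2631), (nat_lit 2629), (nat_lit 1149)])))) (.node (.node (.leaf .df) (.leaf (.cyc (nat_lit 4) [(nat_lit 648), (nat_lit 1480), (nat_lit 1432), (nat_lit 542), (nat_lit 2842)]))) (.node (.leaf (.cyc (nat_lit 16) [(nat_lit 536), (nat_lit 190), (nat_lit 187), (nat_lit 1645), (nat_lit 1344), (nat_lit 1453), (nat_lit 1327), (nat_lit 221), (nat_lit 1466), (nat_lit 179), (nat_lit 182), (nat_lit 1477), (nat_lit 331)])) (.leaf .df))))) (.node (.node (.node (.node (.leaf .df) (.leaf (.cyc (nat_lit 4) [(nat_lit 730), (nat_lit 2144), (nat_lit 1837), (nat_lit 553), (nat_lit 551)]))) (.node (.leaf .df) (.leaf (.cyc (nat_lit 10) [(nat_lit 3226), (nat_lit 3227), (nat_lit 2932), (nat_lit 2938), (nat_lit 2939), (nat_lit 2562)])))) (.node (.node (.leaf .df) (.leaf (.cyc (nat_lit 3) [(nat_lit 2714), (nat_lit 2653), (nat_lit 2374), (nat_lit 2165), (nat_lit 2107)]))) (.node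 (.leaf (.cyc (nat_lit 6) [(nat_lit 434), (nat_lit 433)])) (.leaf (.cyc (nat_lit 34) [(nat_lit 1250), (nat_lit 2957), (nat_lit 2955), (nat_lit 1854), (nat_lit 2928), (nat_lit 3571), (nat_lit 3570), (nat_lit 3501), (nat_lit 3030), (nat_lit 3475), (nat_lit 3474), (nat_lit 3079), (nat_lit 3706)]))))) (.node (.node (.node (.leaf .df) (.leaf (.cyc (nat_lit 23) [(nat_lit 732), (nat_lit 2459), (nat_lit 1746)]))) (.node (.leaf (.cyc (nat_lit 9) [(nat_lit 198), (nat_lit 63), (nat_lit 1287), (nat_lit 60), (nat_lit 192)])) (.leaf (.cyc (nat_lit 20) [(nat_lit 3455), (nat_lit 3481)])))) (.node (.node (.leaf .df) (.leaf (.cyc (nat_lit 7) [(nat_lit 2858), (nat_lit 568), (nat_lit 203), (nat_lit 1420), (nat_lit 1421), (nat_lit 515), (nat_lit 1022)]))) (.node (.leaf (.cyc (nat_lit 4) [(nat_lit 638), (nat_lit 232), (nat_lit 230), (nat_lit 630), (nat_lit 1942)])) (.leaf .df)))))) (.node (.node (.node (.node (.node (.leaf .df) (.leaf (.cyc (nat_lit 9) [(nat_lit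 713), (nat_lit 279), (nat_lit 89), (nat_lit 91), (nat_lit 285)]))) (.node (.leaf .df) (.leaf (.cyc (nat_lit 24) [(nat_lit 945), (nat_lit 3162)])))) (.node (.node (.leaf .df) (.leaf (.cyc (nat_lit 2) [(nat_lit 904), (nat_lit 903)]))) (.node (.leaf (.cyc (nat_lit 1) [(nat_lit 1605), (nat_lit 373)])) (.leaf (.cyc (nat_lit 6) [(nat_lit 1235), (nat_lit 1234)]))))) (.node (.node (.node (.leaf .df) (.leaf (.cyc (nat_lit 4) [(nat_lit 754), (nat_lit 2113), (nat_lit 752), (nat_lit 2392), (nat_lit 440), (nat_lit 438)]))) (.node (.leaf (.cyc (nat_lit 6) [(nat_lit 123), (nat_lit 122)])) (.leaf (.cyc (nat_lit 37) [(nat_lit 1164), (nat_lit 2213), (nat_lit 2149), (nat_lit 2892), (nat_lit 3258), (nat_lit 3255), (nat_lit 2999), (nat_lit 2496), (nat_lit 2083), (nat_lit 1621), (nat_lit 2081), (nat_lit 2546), (nat_lit 995)])))) (.node (.node (.leaf .df) (.leaf (.cyc (nat_lit 7) [(nat_lit 959), (nat_lit 1768), (nat_lit 1726), (nat_lit 1728), (nat_lit 1727), (nat_lit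 501), (nat_lit 1003)]))) (.node (.leaf (.cyc (nat_lit 28) [(nat_lit 341), (nat_lit 1369), (nat_lit 336), (nat_lit 1881), (nat_lit 402), (nat_lit 141), (nat_lit 143), (nat_lit 406)])) (.leaf .df))))) (.node (.node (.node (.node (.leaf .df) (.leaf (.cyc (nat_lit 14) [(nat_lit 2113), (nat_lit 753)]))) (.node (.leaf .df) (.leaf (.cyc (nat_lit 14) [(nat_lit 2509), (nat_lit 1128)])))) (.node (.node (.leaf .df) (.leaf (.cyc (nat_lit 3) [(nat_lit 2779), (nat_lit 780), (nat_lit 1569), (nat_lit 1567), (nat_lit 669)]))) (.node (.leaf (.cyc (nat_lit 27) [(nat_lit 362), (nat_lit 1755)])) (.leaf (.cyc (nat_lit 6) [(nat_lit 3802), (nat_lit 3795)]))))) (.node (.node (.node (.leaf .df) (.leaf (.cyc (nat_lit 9) [(nat_lit 778), (nat_lit 2513), (nat_lit 373), (nat_lit 374), (nat_lit 865)]))) (.node (.leaf (.cyc (nat_lit 5) [(nat_lit 250), (nat_lit 249)])) (.leaf (.cyc (nat_lit 10) [(nat_lit 1156), (nat_lit 2131), (nat_lit 1608), (nat_lit 829), (nat_lit 1199)]))))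 (.node (.node (.leaf .df) (.leaf (.cyc (nat_lit 19) [(nat_lit 2734), (nat_lit 3034)]))) (.node (.leaf (.cyc (nat_lit 24) [(nat_lit 1996), (nat_lit 2008)])) (.leaf .df))))))) (.node (.node (.node (.node (.node (.node (.leaf .df) (.leaf (.cyc (nat_lit 9) [(nat_lit 695), (nat_lit 269), (nat_lit 85), (nat_lit 87), (nat_lit 273)]))) (.node (.leaf .df) (.leaf (.cyc (nat_lit 6) [(nat_lit 1074), (nat_lit 2471)])))) (.node (.node (.leaf .df) (.leaf (.cyc (nat_lit 8) [(nat_lit 893), (nat_lit 1649), (nat_lit 890), (nat_lit 2606), (nat_lit 2608)]))) (.node (.leaf (.cyc (nat_lit 1) [(nat_lit 1543), (nat_lit 339)])) (.leaf (.cyc (nat_lit 13) [(nat_lit 2729), (nat_lit 2700), (nat_lit 2985), (nat_lit 2984), (nat_lit 2362), (nat_lit 3288), (nat_lit 3643)]))))) (.node (.node (.node (.leaf .df) (.leaf (.cyc (nat_lit 2) [(nat_lit 807), (nat_lit 806)]))) (.node (.leaf (.cyc (nat_lit 6) [(nat_lit 86), (nat_lit 85)])) (.leaf (.cyc (nat_lit 0) [(nat_lit 3313),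 (nat_lit 3386)])))) (.node (.node (.leaf .df) (.leaf (.cyc (nat_lit 1) [(nat_lit 2645), (nat_lit 2875)]))) (.node (.leaf (.cyc (nat_lit 8) [(nat_lit 1851), (nat_lit 487), (nat_lit 171), (nat_lit 169), (nat_lit 480)])) (.leaf .df))))) (.node (.node (.node (.node (.leaf .df) (.leaf (.cyc (nat_lit 26) [(nat_lit 2129), (nat_lit 2234), (nat_lit 2227), (nat_lit 580), (nat_lit 1459), (nat_lit 582), (nat_lit 2205)]))) (.node (.leaf .df) (.leaf (.cyc (nat_lit 5) [(nat_lit 1116), (nat_lit 2528)])))) (.node (.node (.leaf .df) (.leaf (.cyc (nat_lit 16) [(nat_lit 2257), (nat_lit 1603), (nat_lit 1375), (nat_lit 1354), (nat_lit 1349), (nat_lit 114), (nat_lit 1440), (nat_lit 1388), (nat_lit 397), (nat_lit 2034), (nat_lit 1405), (nat_lit 439), (nat_lit 951)]))) (.node (.leaf (.cyc (nat_lit 1) [(nat_lit 1422), (nat_lit 456)])) (.leaf (.cyc (nat_lit 43) [(nat_lit 3604), (nat_lit 3325), (nat_lit 2425), (nat_lit 1908), (nat_lit 1095), (nat_lit 3191), (nat_lit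 3638), (nat_lit 1224), (nat_lit 3059), (nat_lit 3622), (nat_lit 3769), (nat_lit 3767), (nat_lit 3771)]))))) (.node (.node (.node (.leaf .df) (.leaf (.cyc (nat_lit 34) [(nat_lit 851), (nat_lit 2435), (nat_lit 832), (nat_lit 2232), (nat_lit 576), (nat_lit 1457), (nat_lit 1381), (nat_lit 1372), (nat_lit 356), (nat_lit 1610), (nat_lit 1465), (nat_lit 249), (nat_lit 1774)]))) (.node (.leaf (.cyc (nat_lit 2) [(nat_lit 224), (nat_lit 223)])) (.leaf (.cyc (nat_lit 0) [(nat_lit 3405), (nat_lit 1190)])))) (.node (.node (.leaf .df) (.leaf (.cyc (nat_lit 3) [(nat_lit 2673), (nat_lit 2670), (nat_lit 915), (nat_lit 917), (nat_lit 3003)]))) (.node (.leaf (.cyc (nat_lit 6) [(nat_lit 665), (nat_lit 1653)])) (.leaf .df)))))) (.node (.node (.node (.node (.node (.leaf .df) (.leaf (.cyc (nat_lit 19) [(nat_lit 717), (nat_lit 2170)]))) (.node (.leaf .df) (.leaf (.cyc (nat_lit 14) [(nat_lit 2621), (nat_lit 3195)])))) (.node (.node (.leaf .df) (.leaf (.cyc (nat_lit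 5) [(nat_lit 919), (nat_lit 2367)]))) (.node (.leaf (.cyc (nat_lit 10) [(nat_lit 219), (nat_lit 69), (nat_lit 66), (nat_lit 207), (nat_lit 1659)])) (.leaf (.cyc (nat_lit 4) [(nat_lit 3310), (nat_lit 2569), (nat_lit 2455), (nat_lit 984), (nat_lit 1242)]))))) (.node (.node (.node (.leaf .df) (.leaf (.cyc (nat_lit 14) [(nat_lit 2131), (nat_lit 828)]))) (.node (.leaf (.cyc (nat_lit 8) [(nat_lit 1402), (nat_lit 59), (nat_lit 16), (nat_lit 14), (nat_lit 52)])) (.leaf (.cyc (nat_lit 11) [(nat_lit 2742), (nat_lit 2741), (nat_lit 787), (nat_lit 784), (nat_lit 2895), (nat_lit 2285), (nat_lit 1173)])))) (.node (.node (.leaf .df) (.leaf (.cyc (nat_lit 7) [(nat_lit 2935), (nat_lit 2871), (nat_lit 2868), (nat_lit 2866), (nat_lit 2253), (nat_lit 2904), (nat_lit 1015)]))) (.node (.leaf (.cyc (nat_lit 8) [(nat_lit 604), (nat_lit 1467), (nat_lit 1465), (nat_lit 249), (nat_lit 1570)])) (.leaf .df))))) (.node (.node (.node (.node (.leaf .df) (.leaf (.cyc (nat_lit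 10) [(nat_lit 1869), (nat_lit 1835), (nat_lit 1834), (nat_lit 1824), (nat_lit 2299)]))) (.node (.leaf (.cyc (nat_lit 0) [(nat_lit 1275), (nat_lit 1)])) (.leaf (.cyc (nat_lit 5) [(nat_lit 1140), (nat_lit 2689)])))) (.node (.node (.leaf .df) (.leaf (.cyc (nat_lit 3) [(nat_lit 808), (nat_lit 331), (nat_lit 1477), (nat_lit 1735), (nat_lit 973)]))) (.node (.leaf (.cyc (nat_lit 2) [(nat_lit 516), (nat_lit 515)])) (.leaf (.cyc (nat_lit 34) [(nat_lit 1274), (nat_lit 3600), (nat_lit 1030), (nat_lit 519), (nat_lit 183), (nat_lit 185), (nat_lit 1742), (nat_lit 794), (nat_lit 2589), (nat_lit 1214), (nat_lit 3678), (nat_lit 3749), (nat_lit 3826)]))))) (.node (.node (.node (.leaf .df) (.leaf (.cyc (nat_lit 19) [(nat_lit 2554), (nat_lit 2555)]))) (.node (.leaf (.cyc (nat_lit 6) [(nat_lit 286), (nat_lit 285)])) (.leaf (.cyc (nat_lit 3) [(nat_lit 1155), (nat_lit 2523), (nat_lit 2525), (nat_lit 2515), (nat_lit 1207)])))) (.node (.node (.leaf .df) (.leaf (.cyc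 (nat_lit 23) [(nat_lit 940), (nat_lit 3067)]))) (.node (.leaf (.cyc (nat_lit 6) [(nat_lit 681), (nat_lit 680)])) (.leaf .df))))))))
noncomputable def c5P0011 : BT Pf := .node c5P00110 c5P00111
noncomputable def c5P001 : BT Pf := .node c5P0010 c5P0011
noncomputable def c5P00 : BT Pf := .node c5P000 c5P001
noncomputable def c5P01000 : BT Pf := (.node (.node (.node (.node (.node (.node (.node (.leaf .df) (.leaf (.cyc (nat_lit 7) [(nat_lit 468), (nat_lit 165), (nat_lit 163), (nat_lit 459), (nat_lit 1726), (nat_lit 1767), (nat_lit 687)]))) (.node (.leaf .df) (.leaf (.cyc (nat_lit 4) [(nat_lit 1055), (nat_lit 1849), (nat_lit 2974), (nat_lit 1023), (nat_lit 1021)])))) (.node (.node (.leaf .df) (.leaf (.cyc (nat_lit 4) [(nat_lit 871), (nat_lit 1632), (nat_lit 1481), (nat_lit 645), (nat_lit 2074)]))) (.node (.leaf (.cyc (nat_lit 6) [(nat_lit 294), (nat_lit 1452)])) (.leaf (.cyc (nat_lit 11) [(nat_lit 1127), (nat_lit 2260), (nat_lit 2259), (nat_lit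 2264), (nat_lit 3411), (nat_lit 3412), (nat_lit 1209)]))))) (.node (.node (.node (.leaf .df) (.leaf (.cyc (nat_lit 5) [(nat_lit 785), (nat_lit 784)]))) (.node (.leaf (.cyc (nat_lit 2) [(nat_lit 9), (nat_lit 8)])) (.leaf (.cyc (nat_lit 34) [(nat_lit 3328), (nat_lit 3251), (nat_lit 2839), (nat_lit 598), (nat_lit 1660), (nat_lit 1659), (nat_lit 207), (nat_lit 66), (nat_lit 1288), (nat_lit 71), (nat_lit 228), (nat_lit 622), (nat_lit 1114)])))) (.node (.node (.leaf .df) (.leaf (.cyc (nat_lit 35) [(nat_lit 816), (nat_lit 1708), (nat_lit 158), (nat_lit 1310), (nat_lit 156), (nat_lit 2033), (nat_lit 1464), (nat_lit 1906), (nat_lit 2806), (nat_lit 2810), (nat_lit 2478), (nat_lit 2696), (nat_lit 974)]))) (.node (.leaf (.cyc (nat_lit 20) [(nat_lit 1792), (nat_lit 1793)])) (.leaf .df))))) (.node (.node (.node (.node (.leaf .df) (.leaf (.cyc (nat_lit 2) [(nat_lit 721), (nat_lit 720)]))) (.node (.leaf .df) (.leaf (.cyc (nat_lit 16) [(nat_lit 3201), (nat_lit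 3138), (nat_lit 1928), (nat_lit 603), (nat_lit 222), (nat_lit 223), (nat_lit 608), (nat_lit 2327), (nat_lit 2335), (nat_lit 1844), (nat_lit 1664), (nat_lit 2308), (nat_lit 2311)])))) (.node (.node (.leaf .df) (.leaf (.cyc (nat_lit 2) [(nat_lit 922), (nat_lit 921)]))) (.node (.leaf (.cyc (nat_lit 1) [(nat_lit 1585), (nat_lit 403)])) (.leaf (.cyc (nat_lit 4) [(nat_lit 1244), (nat_lit 3421), (nat_lit 1164), (nat_lit 3409), (nat_lit 1230)]))))) (.node (.node (.node (.leaf .df) (.leaf (.cyc (nat_lit 28) [(nat_lit 361), (nat_lit 363), (nat_lit 2433), (nat_lit 426), (nat_lit 1492), (nat_lit 649), (nat_lit 1957)]))) (.node (.leaf (.cyc (nat_lit 5) [(nat_lit 163), (nat_lit 162)])) (.leaf (.cyc (nat_lit 3) [(nat_lit 3456), (nat_lit 2975), (nat_lit 2974), (nat_lit 1849), (nat_lit 1054)])))) (.node (.node (.leaf .df) (.leaf (.cyc (nat_lit 10) [(nat_lit 2613), (nat_lit 2609), (nat_lit 1780), (nat_lit 1015), (nat_lit 2945)]))) (.node (.leaf (.cyc (nat_lit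 3) [(nat_lit 1920), (nat_lit 369), (nat_lit 1375), (nat_lit 1354), (nat_lit 300)])) (.leaf .df)))))) (.node (.node (.node (.node (.node (.leaf .df) (.leaf (.cyc (nat_lit 42) [(nat_lit 1520), (nat_lit 2110), (nat_lit 1601), (nat_lit 1684), (nat_lit 423), (nat_lit 148), (nat_lit 45), (nat_lit 12), (nat_lit 11), (nat_lit 41), (nat_lit 137), (nat_lit 391), (nat_lit 1980)]))) (.node (.leaf .df) (.leaf (.cyc (nat_lit 1) [(nat_lit 1929), (nat_lit 1076)])))) (.node (.node (.leaf .df) (.leaf (.cyc (nat_lit 13) [(nat_lit 841), (nat_lit 1757), (nat_lit 1423), (nat_lit 1477), (nat_lit 331), (nat_lit 808), (nat_lit 2625)]))) (.node (.leaf (.cyc (nat_lit 4) [(nat_lit 345), (nat_lit 1370), (nat_lit 1592), (nat_lit 1546), (nat_lit 1530)])) (.leaf (.cyc (nat_lit 0) [(nat_lit 3418), (nat_lit 1228)]))))) (.node (.node (.node (.leaf .df) (.leaf (.cyc (nat_lit 0) [(nat_lit 2325), (nat_lit 808)]))) (.node (.leaf (.cyc (nat_lit 13) [(nat_lit 90), (nat_lit 25),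 (nat_lit 6), (nat_lit 1276), (nat_lit 7), (nat_lit 27), (nat_lit 97)])) (.leaf (.cyc (nat_lit 34) [(nat_lit 1079), (nat_lit 1974), (nat_lit 1134), (nat_lit 3392), (nat_lit 1057), (nat_lit 1059), (nat_lit 3307), (nat_lit 3294), (nat_lit 1108), (nat_lit 614), (nat_lit 612), (nat_lit 2906), (nat_lit 2907)])))) (.node (.node (.leaf .df) (.leaf (.cyc (nat_lit 11) [(nat_lit 670), (nat_lit 1500), (nat_lit 1555), (nat_lit 1360), (nat_lit 318), (nat_lit 2881), (nat_lit 775)]))) (.node (.leaf (.cyc (nat_lit 15) [(nat_lit 573), (nat_lit 207), (nat_lit 66), (nat_lit 1288), (nat_lit 1297), (nat_lit 32), (nat_lit 34), (nat_lit 116), (nat_lit 1518)])) (.leaf .df))))) (.node (.node (.node (.node (.leaf .df) (.leaf (.cyc (nat_lit 4) [(nat_lit 1965), (nat_lit 1966), (nat_lit 1836), (nat_lit 2204), (nat_lit 2236)]))) (.node (.leaf .df) (.leaf (.cyc (nat_lit 2) [(nat_lit 3265), (nat_lit 3019)])))) (.node (.node (.leaf .df) (.leaf (.cyc (nat_lit 0) [(nat_lit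 2395), (nat_lit 953)]))) (.node (.leaf (.cyc (nat_lit 5) [(nat_lit 464), (nat_lit 463)])) (.leaf (.cyc (nat_lit 25) [(nat_lit 3324), (nat_lit 3334), (nat_lit 3336), (nat_lit 1144), (nat_lit 3658), (nat_lit 3733), (nat_lit 3776)]))))) (.node (.node (.node (.leaf .df) (.leaf (.cyc (nat_lit 4) [(nat_lit 674), (nat_lit 2084), (nat_lit 365), (nat_lit 368), (nat_lit 853)]))) (.node (.leaf (.cyc (nat_lit 11) [(nat_lit 111), (nat_lit 31), (nat_lit 33), (nat_lit 1351), (nat_lit 1339), (nat_lit 1329), (nat_lit 233)])) (.leaf (.cyc (nat_lit 18) [(nat_lit 1116), (nat_lit 3135), (nat_lit 3155), (nat_lit 3153), (nat_lit 1192)])))) (.node (.node (.leaf .df) (.leaf (.cyc (nat_lit 37) [(nat_lit 2939), (nat_lit 1788), (nat_lit 1022), (nat_lit 2972), (nat_lit 1855), (nat_lit 1942), (nat_lit 630), (nat_lit 230), (nat_lit 232), (nat_lit 635), (nat_lit 3006), (nat_lit 983), (nat_lit 2455)]))) (.node (.leaf (.cyc (nat_lit 2) [(nat_lit 674), (nat_lit 673)])) (.leaf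 .df))))))) (.node (.node (.node (.node (.node (.node (.leaf .df) (.leaf (.cyc (nat_lit 24) [(nat_lit 673), (nat_lit 2079)]))) (.node (.leaf .df) (.leaf (.cyc (nat_lit 1) [(nat_lit 2972), (nat_lit 1066)])))) (.node (.node (.leaf .df) (.leaf (.cyc (nat_lit 23) [(nat_lit 2588), (nat_lit 2591)]))) (.node (.leaf (.cyc (nat_lit 1) [(nat_lit 1555), (nat_lit 315)])) (.leaf (.cyc (nat_lit 1) [(nat_lit 3253), (nat_lit 1219)]))))) (.node (.node (.node (.leaf .df) (.leaf (.cyc (nat_lit 1) [(nat_lit 1625), (nat_lit 799)]))) (.node (.leaf (.cyc (nat_lit 11) [(nat_lit 40), (nat_lit 10), (nat_lit 1277), (nat_lit 1275), (nat_lit 3), (nat_lit 15), (nat_lit 55)])) (.leaf (.cyc (nat_lit 25) [(nat_lit 3160), (nat_lit 2731), (nat_lit 2689), (nat_lit 2690), (nat_lit 2767), (nat_lit 2766), (nat_lit 1150)])))) (.node (.node (.leaf .df) (.leaf (.cyc (nat_lit 27) [(nat_lit 2314), (nat_lit 2849)]))) (.node (.leaf (.cyc (nat_lit 6) [(nat_lit 542), (nat_lit 541)])) (.leaf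 .df))))) (.node (.node (.node (.node (.leaf .df) (.leaf (.cyc (nat_lit 23) [(nat_lit 1828), (nat_lit 2209)]))) (.node (.leaf .df) (.leaf (.cyc (nat_lit 42) [(nat_lit 2836), (nat_lit 2837), (nat_lit 1965), (nat_lit 2304), (nat_lit 2302), (nat_lit 191), (nat_lit 59), (nat_lit 61), (nat_lit 194), (nat_lit 1635), (nat_lit 871), (nat_lit 3230), (nat_lit 1109)])))) (.node (.node (.leaf .df) (.leaf (.cyc (nat_lit 6) [(nat_lit 937), (nat_lit 2593)]))) (.node (.leaf (.cyc (nat_lit 7) [(nat_lit 443), (nat_lit 156), (nat_lit 48), (nat_lit 1290), (nat_lit 1291), (nat_lit 83), (nat_lit 261)])) (.leaf (.cyc (nat_lit 18) [(nat_lit 3156), (nat_lit 1117), (nat_lit 3656), (nat_lit 2975), (nat_lit 1252)]))))) (.node (.node (.node (.leaf .df) (.leaf (.cyc (nat_lit 16) [(nat_lit 509), (nat_lit 511), (nat_lit 2465), (nat_lit 2463), (nat_lit 2457), (nat_lit 546), (nat_lit 1480), (nat_lit 237), (nat_lit 1330), (nat_lit 1398), (nat_lit 426), (nat_lit 2433), (nat_lit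 1620)]))) (.node (.leaf (.cyc (nat_lit 7) [(nat_lit 103), (nat_lit 1296), (nat_lit 106), (nat_lit 1359), (nat_lit 63), (nat_lit 64), (nat_lit 202)])) (.leaf (.cyc (nat_lit 16) [(nat_lit 2718), (nat_lit 3489), (nat_lit 1184), (nat_lit 2292), (nat_lit 2524), (nat_lit 3094), (nat_lit 2856), (nat_lit 2816), (nat_lit 2774), (nat_lit 2668), (nat_lit 637), (nat_lit 636), (nat_lit 2799)])))) (.node (.node (.leaf .df) (.leaf (.cyc (nat_lit 4) [(nat_lit 2430), (nat_lit 2338), (nat_lit 2094), (nat_lit 1789), (nat_lit 1026)]))) (.node (.leaf (.cyc (nat_lit 1) [(nat_lit 643), (nat_lit 1953)])) (.leaf .df)))))) (.node (.node (.node (.node (.node (.leaf .df) (.leaf (.cyc (nat_lit 23) [(nat_lit 2067), (nat_lit 2143)]))) (.node (.leaf .df) (.leaf (.cyc (nat_lit 5) [(nat_lit 1088), (nat_lit 1087)])))) (.node (.node (.leaf .df) (.leaf (.cyc (nat_lit 6) [(nat_lit 909), (nat_lit 908)]))) (.node (.leaf (.cyc (nat_lit 4) [(nat_lit 1573), (nat_lit 239), (nat_lit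 237), (nat_lit 1632), (nat_lit 378)])) (.leaf (.cyc (nat_lit 1) [(nat_lit 3663), (nat_lit 1237)]))))) (.node (.node (.node (.leaf .df) (.leaf (.cyc (nat_lit 8) [(nat_lit 441), (nat_lit 439), (nat_lit 2399), (nat_lit 2401), (nat_lit 1841)]))) (.node (.leaf (.cyc (nat_lit 18) [(nat_lit 129), (nat_lit 1302), (nat_lit 1355), (nat_lit 47), (nat_lit 46)])) (.leaf (.cyc (nat_lit 29) [(nat_lit 3425), (nat_lit 1129), (nat_lit 651), (nat_lit 240), (nat_lit 241), (nat_lit 653), (nat_lit 3293), (nat_lit 3319), (nat_lit 3321), (nat_lit 2860), (nat_lit 2713), (nat_lit 2200), (nat_lit 2258)])))) (.node (.node (.leaf .df) (.leaf (.cyc (nat_lit 2) [(nat_lit 1006), (nat_lit 1005)]))) (.node (.leaf (.cyc (nat_lit 5) [(nat_lit 580), (nat_lit 1651)])) (.leaf .df))))) (.node (.node (.node (.node (.leaf .df) (.leaf (.cyc (nat_lit 3) [(nat_lit 2271), (nat_lit 1734), (nat_lit 2015), (nat_lit 2017), (nat_lit 2199)]))) (.node (.leaf .df) (.leaf (.cyc (nat_lit 29)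 [(nat_lit 1130), (nat_lit 2242), (nat_lit 704), (nat_lit 1519), (nat_lit 2240), (nat_lit 2095), (nat_lit 876), (nat_lit 2570), (nat_lit 462), (nat_lit 460), (nat_lit 1727), (nat_lit 501), (nat_lit 1003)])))) (.node (.node (.leaf .df) (.leaf (.cyc (nat_lit 25) [(nat_lit 2575), (nat_lit 2576), (nat_lit 2570), (nat_lit 462), (nat_lit 1410), (nat_lit 456), (nat_lit 965)]))) (.node (.leaf (.cyc (nat_lit 2) [(nat_lit 493), (nat_lit 492)])) (.leaf (.cyc (nat_lit 1) [(nat_lit 3640), (nat_lit 1269)]))))) (.node (.node (.node (.leaf .df) (.leaf (.cyc (nat_lit 27) [(nat_lit 760), (nat_lit 2529)]))) (.node (.leaf (.cyc (nat_lit 7) [(nat_lit 174), (nat_lit 54), (nat_lit 14), (nat_lit 16), (nat_lit 59), (nat_lit 1337), (nat_lit 259)])) (.leaf (.cyc (nat_lit 10) [(nat_lit 1200), (nat_lit 3010), (nat_lit 1013), (nat_lit 1779), (nat_lit 1011)])))) (.node (.node (.leaf .df) (.leaf (.cyc (nat_lit 26) [(nat_lit 1045), (nat_lit 547), (nat_lit 1433), (nat_lit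 477), (nat_lit 2100), (nat_lit 2751), (nat_lit 2753)]))) (.node (.leaf (.cyc (nat_lit 19) [(nat_lit 1511), (nat_lit 2016), (nat_lit 218)])) (.leaf .df))))))))
noncomputable def c5P01001 : BT Pf := (.node (.node (.node (.node (.node (.node (.node (.leaf .df) (.leaf (.cyc (nat_lit 0) [(nat_lit 1942), (nat_lit 2062)]))) (.node (.leaf .df) (.leaf (.cyc (nat_lit 31) [(nat_lit 2523), (nat_lit 2525), (nat_lit 2515), (nat_lit 2508), (nat_lit 775), (nat_lit 2881), (nat_lit 793), (nat_lit 2853), (nat_lit 1063)])))) (.node (.node (.leaf .df) (.leaf (.cyc (nat_lit 0) [(nat_lit 2231), (nat_lit 877)]))) (.node (.leaf (.cyc (nat_lit 18) [(nat_lit 160), (nat_lit 1311), (nat_lit 79), (nat_lit 1553), (nat_lit 250)])) (.leaf (.cyc (nat_lit 41) [(nat_lit 909), (nat_lit 401), (nat_lit 141), (nat_lit 143), (nat_lit 1886), (nat_lit 2383), (nat_lit 2384), (nat_lit 956), (nat_lit 2765), (nat_lit 2705), (nat_lit 2698), (nat_lit 2699), (nat_lit 1215)]))))) (.node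 (.node (.node (.leaf .df) (.leaf (.cyc (nat_lit 13) [(nat_lit 2320), (nat_lit 510), (nat_lit 178), (nat_lit 1383), (nat_lit 383), (nat_lit 1641), (nat_lit 522)]))) (.node (.leaf (.cyc (nat_lit 5) [(nat_lit 32), (nat_lit 31)])) (.leaf (.cyc (nat_lit 6) [(nat_lit 1147), (nat_lit 1146)])))) (.node (.node (.leaf .df) (.leaf (.cyc (nat_lit 0) [(nat_lit 2449), (nat_lit 985)]))) (.node (.leaf (.cyc (nat_lit 6) [(nat_lit 530), (nat_lit 529)])) (.leaf .df))))) (.node (.node (.node (.node (.leaf .df) (.leaf (.cyc (nat_lit 1) [(nat_lit 2043), (nat_lit 2193)]))) (.node (.leaf .df) (.leaf (.cyc (nat_lit 2) [(nat_lit 1104), (nat_lit 1103)])))) (.node (.node (.leaf .df) (.leaf (.cyc (nat_lit 3) [(nat_lit 2704), (nat_lit 2304), (nat_lit 2302), (nat_lit 1992), (nat_lit 688)]))) (.node (.leaf (.cyc (nat_lit 5) [(nat_lit 423), (nat_lit 422)])) (.leaf (.cyc (nat_lit 14) [(nat_lit 3659), (nat_lit 1248)]))))) (.node (.node (.node (.leaf .df) (.leaf (.cyc (nat_lit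 24) [(nat_lit 823), (nat_lit 2447)]))) (.node (.leaf (.cyc (nat_lit 6) [(nat_lit 186), (nat_lit 185)])) (.leaf (.cyc (nat_lit 6) [(nat_lit 1181), (nat_lit 3080)])))) (.node (.node (.leaf .df) (.leaf (.cyc (nat_lit 18) [(nat_lit 2961), (nat_lit 2607), (nat_lit 2871), (nat_lit 2800), (nat_lit 2951)]))) (.node (.leaf (.cyc (nat_lit 8) [(nat_lit 1751), (nat_lit 203), (nat_lit 1487), (nat_lit 298), (nat_lit 1936)])) (.leaf .df)))))) (.node (.node (.node (.node (.node (.leaf .df) (.leaf (.cyc (nat_lit 0) [(nat_lit 2114), (nat_lit 706)]))) (.node (.leaf .df) (.leaf (.cyc (nat_lit 5) [(nat_lit 1081), (nat_lit 1080)])))) (.node (.node (.leaf .df) (.leaf (.cyc (nat_lit 24) [(nat_lit 2427), (nat_lit 2640)]))) (.node (.leaf (.cyc (nat_lit 10) [(nat_lit 354), (nat_lit 121), (nat_lit 118), (nat_lit 343), (nat_lit 1617)])) (.leaf (.cyc (nat_lit 29) [(nat_lit 1193), (nat_lit 2381), (nat_lit 531), (nat_lit 1427), (nat_lit 1644), (nat_lit 394), (nat_lit 2196),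 (nat_lit 2195), (nat_lit 2964), (nat_lit 2967), (nat_lit 938), (nat_lit 939), (nat_lit 1232)]))))) (.node (.node (.node (.leaf .df) (.leaf (.cyc (nat_lit 5) [(nat_lit 814), (nat_lit 1716)]))) (.node (.leaf (.cyc (nat_lit 1) [(nat_lit 1361), (nat_lit 107)])) (.leaf (.cyc (nat_lit 8) [(nat_lit 3294), (nat_lit 3307), (nat_lit 1059), (nat_lit 1057), (nat_lit 3407)])))) (.node (.node (.leaf .df) (.leaf (.cyc (nat_lit 16) [(nat_lit 2510), (nat_lit 858), (nat_lit 1627), (nat_lit 310), (nat_lit 103), (nat_lit 1296), (nat_lit 1361), (nat_lit 193), (nat_lit 2211), (nat_lit 1781), (nat_lit 2467), (nat_lit 1776), (nat_lit 999)]))) (.node (.leaf (.cyc (nat_lit 21) [(nat_lit 447), (nat_lit 1871)])) (.leaf .df))))) (.node (.node (.node (.node (.leaf .df) (.leaf (.cyc (nat_lit 11) [(nat_lit 2186), (nat_lit 2153), (nat_lit 469), (nat_lit 2015), (nat_lit 416), (nat_lit 2159), (nat_lit 749)]))) (.node (.leaf .df) (.leaf (.cyc (nat_lit 6) [(nat_lit 1124), (nat_lit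 2799)])))) (.node (.node (.leaf .df) (.leaf (.cyc (nat_lit 3) [(nat_lit 2768), (nat_lit 2585), (nat_lit 478), (nat_lit 1433), (nat_lit 549)]))) (.node (.leaf (.cyc (nat_lit 2) [(nat_lit 482), (nat_lit 481)])) (.leaf (.cyc (nat_lit 14) [(nat_lit 3410), (nat_lit 1265)]))))) (.node (.node (.node (.leaf .df) (.leaf (.cyc (nat_lit 19) [(nat_lit 769), (nat_lit 2512)]))) (.node (.leaf (.cyc (nat_lit 20) [(nat_lit 1483), (nat_lit 1489)])) (.leaf (.cyc (nat_lit 11) [(nat_lit 3379), (nat_lit 1026), (nat_lit 1789), (nat_lit 2094), (nat_lit 1626), (nat_lit 2490), (nat_lit 1195)])))) (.node (.node (.leaf .df) (.leaf (.cyc (nat_lit 4) [(nat_lit 2874), (nat_lit 2799), (nat_lit 968), (nat_lit 1823), (nat_lit 1042)]))) (.node (.leaf (.cyc (nat_lit 38) [(nat_lit 267), (nat_lit 264), (nat_lit 1993), (nat_lit 1407), (nat_lit 1556), (nat_lit 198), (nat_lit 63), (nat_lit 64), (nat_lit 202), (nat_lit 1764), (nat_lit 173), (nat_lit 175), (nat_lit 502)])) (.leaf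 .df))))))) (.node (.node (.node (.node (.node (.node (.leaf .df) (.leaf (.cyc (nat_lit 14) [(nat_lit 1994), (nat_lit 688)]))) (.node (.leaf .df) (.leaf (.cyc (nat_lit 10) [(nat_lit 611), (nat_lit 3050), (nat_lit 2445), (nat_lit 2425), (nat_lit 3121)])))) (.node (.node (.leaf .df) (.leaf (.cyc (nat_lit 34) [(nat_lit 1702), (nat_lit 1880), (nat_lit 1625), (nat_lit 801), (nat_lit 2342), (nat_lit 1847), (nat_lit 2348), (nat_lit 804), (nat_lit 328), (nat_lit 1366), (nat_lit 1475), (nat_lit 388), (nat_lit 891)]))) (.node (.leaf (.cyc (nat_lit 13) [(nat_lit 1585), (nat_lit 142), (nat_lit 44), (nat_lit 1284), (nat_lit 1293), (nat_lit 93), (nat_lit 292)])) (.leaf (.cyc (nat_lit 43) [(nat_lit 3525), (nat_lit 3526), (nat_lit 1102), (nat_lit 1104), (nat_lit 3383), (nat_lit 3382), (nat_lit 1052), (nat_lit 558), (nat_lit 560), (nat_lit 2342), (nat_lit 2345), (nat_lit 2660), (nat_lit 1223)]))))) (.node (.node (.node (.leaf .df) (.leaf (.cyc (nat_lit 19)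 [(nat_lit 2312), (nat_lit 2353), (nat_lit 2323)]))) (.node (.leaf (.cyc (nat_lit 2) [(nat_lit 75), (nat_lit 74)])) (.leaf (.cyc (nat_lit 16) [(nat_lit 2639), (nat_lit 2330), (nat_lit 349), (nat_lit 351), (nat_lit 1909), (nat_lit 599), (nat_lit 219), (nat_lit 2025), (nat_lit 1338), (nat_lit 265), (nat_lit 691), (nat_lit 2673), (nat_lit 1154)])))) (.node (.node (.leaf .df) (.leaf (.cyc (nat_lit 4) [(nat_lit 2865), (nat_lit 1915), (nat_lit 1944), (nat_lit 2247), (nat_lit 2251)]))) (.node (.leaf (.cyc (nat_lit 5) [(nat_lit 557), (nat_lit 1586)])) (.leaf .df))))) (.node (.node (.node (.node (.leaf .df) (.leaf (.cyc (nat_lit 28) [(nat_lit 715), (nat_lit 1685), (nat_lit 2223), (nat_lit 248), (nat_lit 1331), (nat_lit 242), (nat_lit 1960)]))) (.node (.leaf .df) (.leaf (.cyc (nat_lit 10) [(nat_lit 3118), (nat_lit 621), (nat_lit 1470), (nat_lit 623), (nat_lit 3249)])))) (.node (.node (.leaf .df) (.leaf (.cyc (nat_lit 1) [(nat_lit 2707), (nat_lit 948)])))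 (.node (.leaf (.cyc (nat_lit 23) [(nat_lit 1670), (nat_lit 1713)])) (.leaf (.cyc (nat_lit 8) [(nat_lit 1257), (nat_lit 3687), (nat_lit 3691), (nat_lit 3280), (nat_lit 3724)]))))) (.node (.node (.node (.leaf .df) (.leaf (.cyc (nat_lit 24) [(nat_lit 2479), (nat_lit 2481), (nat_lit 2334)]))) (.node (.leaf (.cyc (nat_lit 3) [(nat_lit 73), (nat_lit 20), (nat_lit 18), (nat_lit 67), (nat_lit 211)])) (.leaf (.cyc (nat_lit 35) [(nat_lit 3349), (nat_lit 1148), (nat_lit 2394), (nat_lit 2391), (nat_lit 3465), (nat_lit 3502), (nat_lit 3505), (nat_lit 1141), (nat_lit 2130), (nat_lit 1156), (nat_lit 3383), (nat_lit 3385), (nat_lit 3471)])))) (.node (.node (.leaf .df) (.leaf (.cyc (nat_lit 16) [(nat_lit 755), (nat_lit 305), (nat_lit 303), (nat_lit 1723), (nat_lit 1722), (nat_lit 2120), (nat_lit 2310), (nat_lit 2306), (nat_lit 2992), (nat_lit 2993), (nat_lit 2580), (nat_lit 2688), (nat_lit 2658)]))) (.node (.leaf (.cyc (nat_lit 9) [(nat_lit 433), (nat_lit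 1961), (nat_lit 242), (nat_lit 243), (nat_lit 658)])) (.leaf .df)))))) (.node (.node (.node (.node (.node (.leaf .df) (.leaf (.cyc (nat_lit 13) [(nat_lit 2161), (nat_lit 288), (nat_lit 92), (nat_lit 1292), (nat_lit 85), (nat_lit 268), (nat_lit 693)]))) (.node (.leaf .df) (.leaf (.cyc (nat_lit 18) [(nat_lit 2784), (nat_lit 951), (nat_lit 2400), (nat_lit 2176), (nat_lit 1094)])))) (.node (.node (.leaf .df) (.leaf (.cyc (nat_lit 0) [(nat_lit 2453), (nat_lit 2673)]))) (.node (.leaf (.cyc (nat_lit 5) [(nat_lit 391), (nat_lit 390)])) (.leaf (.cyc (nat_lit 2) [(nat_lit 3697), (nat_lit 3694)]))))) (.node (.node (.node (.leaf .df) (.leaf (.cyc (nat_lit 28) [(nat_lit 820), (nat_lit 1605), (nat_lit 1377), (nat_lit 2157), (nat_lit 1531), (nat_lit 2189), (nat_lit 2254)]))) (.node (.leaf (.cyc (nat_lit 8) [(nat_lit 100), (nat_lit 1295), (nat_lit 1294), (nat_lit 45), (nat_lit 146)])) (.leaf (.cyc (nat_lit 6) [(nat_lit 1171), (nat_lit 2755)])))) (.node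 (.node (.leaf .df) (.leaf (.cyc (nat_lit 6) [(nat_lit 1011), (nat_lit 1010)]))) (.node (.leaf (.cyc (nat_lit 8) [(nat_lit 220), (nat_lit 218), (nat_lit 594), (nat_lit 1904), (nat_lit 1737)])) (.leaf .df))))) (.node (.node (.node (.node (.leaf .df) (.leaf (.cyc (nat_lit 5) [(nat_lit 774), (nat_lit 773)]))) (.node (.leaf .df) (.leaf (.cyc (nat_lit 37) [(nat_lit 810), (nat_lit 812), (nat_lit 3250), (nat_lit 3249), (nat_lit 2334), (nat_lit 733), (nat_lit 1534), (nat_lit 735), (nat_lit 2215), (nat_lit 2622), (nat_lit 2821), (nat_lit 1135), (nat_lit 3313)])))) (.node (.node (.leaf .df) (.leaf (.cyc (nat_lit 8) [(nat_lit 2520), (nat_lit 2491), (nat_lit 876), (nat_lit 2570), (nat_lit 971)]))) (.node (.leaf (.cyc (nat_lit 5) [(nat_lit 504), (nat_lit 503)])) (.leaf (.cyc (nat_lit 8) [(nat_lit 1272), (nat_lit 3471), (nat_lit 1218), (nat_lit 3701), (nat_lit 3747)]))))) (.node (.node (.node (.leaf .df) (.leaf (.cyc (nat_lit 4) [(nat_lit 1775), (nat_lit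 2543), (nat_lit 2542), (nat_lit 2544), (nat_lit 2545)]))) (.node (.leaf (.cyc (nat_lit 7) [(nat_lit 276), (nat_lit 88), (nat_lit 24), (nat_lit 1283), (nat_lit 1284), (nat_lit 43), (nat_lit 139)])) (.leaf (.cyc (nat_lit 10) [(nat_lit 3501), (nat_lit 852), (nat_lit 1622), (nat_lit 854), (nat_lit 1205)])))) (.node (.node (.leaf .df) (.leaf (.cyc (nat_lit 11) [(nat_lit 976), (nat_lit 477), (nat_lit 1414), (nat_lit 1322), (nat_lit 199), (nat_lit 557), (nat_lit 1049)]))) (.node (.leaf (.cyc (nat_lit 19) [(nat_lit 442), (nat_lit 2030)])) (.leaf .df))))))))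
noncomputable def c5P0100 : BT Pf := .node c5P01000 c5P01001
noncomputable def c5P01010 : BT Pf := (.node (.node (.node (.node (.node (.node (.node (.leaf .df) (.leaf (.cyc (nat_lit 6) [(nat_lit 1948), (nat_lit 2057), (nat_lit 2050)]))) (.node (.leaf .df) (.leaf (.cyc (nat_lit 29) [(nat_lit 2803), (nat_lit 971), (nat_lit 1753), (nat_lit 1591), (nat_lit 119), (nat_lit 1301), (nat_lit 123), (nat_lit 1373), (nat_lit 1303), (nat_lit 1323), (nat_lit 201), (nat_lit 564), (nat_lit 1058)])))) (.node (.node (.leaf .df) (.leaf (.cyc (nat_lit 47) [(nat_lit 462), (nat_lit 1410), (nat_lit 2072), (nat_lit 236), (nat_lit 1491), (nat_lit 95), (nat_lit 94), (nat_lit 1452), (nat_lit 1455), (nat_lit 133), (nat_lit 132), (nat_lit 381), (nat_lit 876)]))) (.node (.leaf (.cyc (nat_lit 6) [(nat_lit 1545), (nat_lit 1347)])) (.leaf (.cyc (nat_lit 25) [(nat_lit 1014), (nat_lit 508), (nat_lit 505), (nat_lit 2829), (nat_lit 2828), (nat_lit 3097), (nat_lit 1211)])))))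 (.node (.node (.node (.leaf .df) (.leaf (.cyc (nat_lit 5) [(nat_lit 792), (nat_lit 791)]))) (.node (.leaf (.cyc (nat_lit 4) [(nat_lit 13), (nat_lit 1277), (nat_lit 1276), (nat_lit 1279), (nat_lit 22)])) (.leaf (.cyc (nat_lit 3) [(nat_lit 931), (nat_lit 424), (nat_lit 2223), (nat_lit 668), (nat_lit 1144)])))) (.node (.node (.leaf .df) (.leaf (.cyc (nat_lit 2) [(nat_lit 978), (nat_lit 977)]))) (.node (.leaf (.cyc (nat_lit 23) [(nat_lit 399), (nat_lit 1801)])) (.leaf .df))))) (.node (.node (.node (.node (.leaf .df) (.leaf (.cyc (nat_lit 8) [(nat_lit 286), (nat_lit 284), (nat_lit 726), (nat_lit 2184), (nat_lit 1681)]))) (.node (.leaf .df) (.leaf (.cyc (nat_lit 6) [(nat_lit 1100), (nat_lit 3043)])))) (.node (.node (.leaf .df) (.leaf (.cyc (nat_lit 2) [(nat_lit 924), (nat_lit 923)]))) (.node (.leaf (.cyc (nat_lit 5) [(nat_lit 414), (nat_lit 413)])) (.leaf (.cyc (nat_lit 0) [(nat_lit 3394), (nat_lit 1246)]))))) (.node (.node (.node (.leaf .df)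 (.leaf (.cyc (nat_lit 9) [(nat_lit 380), (nat_lit 1381), (nat_lit 1372), (nat_lit 358), (nat_lit 836)]))) (.node (.leaf (.cyc (nat_lit 6) [(nat_lit 176), (nat_lit 175)])) (.leaf (.cyc (nat_lit 8) [(nat_lit 3463), (nat_lit 3464), (nat_lit 3111), (nat_lit 2378), (nat_lit 905)])))) (.node (.node (.leaf .df) (.leaf (.cyc (nat_lit 28) [(nat_lit 1017), (nat_lit 512), (nat_lit 509), (nat_lit 2466), (nat_lit 846), (nat_lit 2477), (nat_lit 2725)]))) (.node (.leaf (.cyc (nat_lit 8) [(nat_lit 246), (nat_lit 1331), (nat_lit 1460), (nat_lit 581), (nat_lit 1929)])) (.leaf .df)))))) (.node (.node (.node (.node (.node (.leaf .df) (.leaf (.cyc (nat_lit 8) [(nat_lit 1846), (nat_lit 2110), (nat_lit 273), (nat_lit 271), (nat_lit 699)]))) (.node (.leaf .df) (.leaf (.cyc (nat_lit 2) [(nat_lit 1078), (nat_lit 2867)])))) (.node (.node (.leaf .df) (.leaf (.cyc (nat_lit 2) [(nat_lit 898), (nat_lit 897)]))) (.node (.leaf (.cyc (nat_lit 25) [(nat_lit 221), (nat_lit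 1327), (nat_lit 32), (nat_lit 1282), (nat_lit 36), (nat_lit 122), (nat_lit 356)])) (.leaf (.cyc (nat_lit 0) [(nat_lit 3340), (nat_lit 1230)]))))) (.node (.node (.node (.leaf .df) (.leaf (.cyc (nat_lit 19) [(nat_lit 2270), (nat_lit 2376)]))) (.node (.leaf (.cyc (nat_lit 6) [(nat_lit 100), (nat_lit 99)])) (.leaf (.cyc (nat_lit 5) [(nat_lit 1159), (nat_lit 3236)])))) (.node (.node (.leaf .df) (.leaf (.cyc (nat_lit 5) [(nat_lit 997), (nat_lit 2739)]))) (.node (.leaf (.cyc (nat_lit 27) [(nat_lit 410), (nat_lit 1864)])) (.leaf .df))))) (.node (.node (.node (.node (.leaf .df) (.leaf (.cyc (nat_lit 4) [(nat_lit 744), (nat_lit 1913), (nat_lit 229), (nat_lit 232), (nat_lit 635)]))) (.node (.leaf .df) (.leaf (.cyc (nat_lit 37) [(nat_lit 1120), (nat_lit 1945), (nat_lit 2237), (nat_lit 3171), (nat_lit 1897), (nat_lit 2600), (nat_lit 2599), (nat_lit 577), (nat_lit 1639), (nat_lit 2442), (nat_lit 2444), (nat_lit 2259), (nat_lit 2260)])))) (.node (.node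 (.leaf .df) (.leaf (.cyc (nat_lit 25) [(nat_lit 455), (nat_lit 1409), (nat_lit 1388), (nat_lit 397), (nat_lit 2034), (nat_lit 444), (nat_lit 955)]))) (.node (.leaf (.cyc (nat_lit 9) [(nat_lit 474), (nat_lit 167), (nat_lit 1312), (nat_lit 164), (nat_lit 465)])) (.leaf (.cyc (nat_lit 34) [(nat_lit 1263), (nat_lit 3179), (nat_lit 3018), (nat_lit 3019), (nat_lit 2421), (nat_lit 616), (nat_lit 226), (nat_lit 228), (nat_lit 622), (nat_lit 1114), (nat_lit 3618), (nat_lit 3648), (nat_lit 3649)]))))) (.node (.node (.node (.leaf .df) (.leaf (.cyc (nat_lit 14) [(nat_lit 2410), (nat_lit 856)]))) (.node (.leaf (.cyc (nat_lit 8) [(nat_lit 1362), (nat_lit 194), (nat_lit 1480), (nat_lit 237), (nat_lit 239)])) (.leaf (.cyc (nat_lit 3) [(nat_lit 2890), (nat_lit 948), (nat_lit 947), (nat_lit 3349), (nat_lit 3529)])))) (.node (.node (.leaf .df) (.leaf (.cyc (nat_lit 6) [(nat_lit 1039), (nat_lit 1038)]))) (.node (.leaf (.cyc (nat_lit 24) [(nat_lit 1838), (nat_lit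 1991)])) (.leaf .df))))))) (.node (.node (.node (.node (.node (.node (.leaf .df) (.leaf (.cyc (nat_lit 19) [(nat_lit 184), (nat_lit 2089), (nat_lit 352)]))) (.node (.leaf .df) (.leaf (.cyc (nat_lit 5) [(nat_lit 1069), (nat_lit 2551)])))) (.node (.node (.leaf .df) (.leaf (.cyc (nat_lit 23) [(nat_lit 874), (nat_lit 2601)]))) (.node (.leaf (.cyc (nat_lit 5) [(nat_lit 326), (nat_lit 325)])) (.leaf (.cyc (nat_lit 5) [(nat_lit 1221), (nat_lit 2714)]))))) (.node (.node (.node (.leaf .df) (.leaf (.cyc (nat_lit 2) [(nat_lit 803), (nat_lit 802)]))) (.node (.leaf (.cyc (nat_lit 5) [(nat_lit 63), (nat_lit 62)])) (.leaf (.cyc (nat_lit 16) [(nat_lit 2993), (nat_lit 2581), (nat_lit 557), (nat_lit 1666), (nat_lit 2365), (nat_lit 807), (nat_lit 1580), (nat_lit 1798), (nat_lit 1916), (nat_lit 1944), (nat_lit 3009), (nat_lit 2674), (nat_lit 1152)])))) (.node (.node (.leaf .df) (.leaf (.cyc (nat_lit 34) [(nat_lit 1855), (nat_lit 1942), (nat_lit 630), (nat_lit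 2560), (nat_lit 327), (nat_lit 329), (nat_lit 1798), (nat_lit 315), (nat_lit 1360), (nat_lit 318), (nat_lit 793), (nat_lit 2853), (nat_lit 1853)]))) (.node (.leaf (.cyc (nat_lit 7) [(nat_lit 540), (nat_lit 191), (nat_lit 59), (nat_lit 1287), (nat_lit 62), (nat_lit 196), (nat_lit 552)])) (.leaf .df))))) (.node (.node (.node (.node (.leaf .df) (.leaf (.cyc (nat_lit 8) [(nat_lit 714), (nat_lit 1528), (nat_lit 1490), (nat_lit 295), (nat_lit 738)]))) (.node (.leaf .df) (.leaf (.cyc (nat_lit 4) [(nat_lit 1112), (nat_lit 616), (nat_lit 1469), (nat_lit 612), (nat_lit 2906)])))) (.node (.node (.leaf .df) (.leaf (.cyc (nat_lit 2) [(nat_lit 940), (nat_lit 939)]))) (.node (.leaf (.cyc (nat_lit 27) [(nat_lit 449), (nat_lit 1705), (nat_lit 343)])) (.leaf (.cyc (nat_lit 43) [(nat_lit 3516), (nat_lit 3404), (nat_lit 3192), (nat_lit 2634), (nat_lit 3299), (nat_lit 2916), (nat_lit 2914), (nat_lit 3635), (nat_lit 3636), (nat_lit 3394), (nat_lit 3520), (nat_lit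 3015), (nat_lit 1254)]))))) (.node (.node (.node (.leaf .df) (.leaf (.cyc (nat_lit 14) [(nat_lit 2434), (nat_lit 842)]))) (.node (.leaf (.cyc (nat_lit 4) [(nat_lit 113), (nat_lit 1297), (nat_lit 1288), (nat_lit 67), (nat_lit 210)])) (.leaf (.cyc (nat_lit 10) [(nat_lit 2897), (nat_lit 3486), (nat_lit 3491), (nat_lit 2718), (nat_lit 3497)])))) (.node (.node (.leaf .df) (.leaf (.cyc (nat_lit 4) [(nat_lit 1027), (nat_lit 518), (nat_lit 183), (nat_lit 186), (nat_lit 524)]))) (.node (.leaf (.cyc (nat_lit 6) [(nat_lit 650), (nat_lit 649)])) (.leaf .df)))))) (.node (.node (.node (.node (.node (.leaf .df) (.leaf (.cyc (nat_lit 15) [(nat_lit 284), (nat_lit 286), (nat_lit 2152), (nat_lit 2050), (nat_lit 687), (nat_lit 1512), (nat_lit 1678), (nat_lit 1395), (nat_lit 413), (nat_lit 1673)]))) (.node (.leaf .df) (.leaf (.cyc (nat_lit 6) [(nat_lit 1089), (nat_lit 2823)])))) (.node (.node (.leaf .df) (.leaf (.cyc (nat_lit 4) [(nat_lit 872), (nat_lit 1869),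 (nat_lit 2300), (nat_lit 2663), (nat_lit 2664)]))) (.node (.leaf (.cyc (nat_lit 10) [(nat_lit 189), (nat_lit 58), (nat_lit 55), (nat_lit 1383), (nat_lit 384)])) (.leaf (.cyc (nat_lit 3) [(nat_lit 1136), (nat_lit 3232), (nat_lit 3234), (nat_lit 2836), (nat_lit 3688)]))))) (.node (.node (.node (.leaf .df) (.leaf (.cyc (nat_lit 8) [(nat_lit 1623), (nat_lit 2179), (nat_lit 420), (nat_lit 418), (nat_lit 2409)]))) (.node (.leaf (.cyc (nat_lit 14) [(nat_lit 1339), (nat_lit 138)])) (.leaf (.cyc (nat_lit 2) [(nat_lit 1168), (nat_lit 1167)])))) (.node (.node (.leaf .df) (.leaf (.cyc (nat_lit 4) [(nat_lit 1006), (nat_lit 1004), (nat_lit 2919), (nat_lit 2912), (nat_lit 1002)]))) (.node (.leaf (.cyc (nat_lit 4) [(nat_lit 408), (nat_lit 1393), (nat_lit 1866), (nat_lit 216), (nat_lit 589)])) (.leaf .df))))) (.node (.node (.node (.node (.leaf .df) (.leaf (.cyc (nat_lit 3) [(nat_lit 2281), (nat_lit 494), (nat_lit 1417), (nat_lit 1506), (nat_lit 682)])))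 (.node (.leaf .df) (.leaf (.cyc (nat_lit 2) [(nat_lit 1132), (nat_lit 2633)])))) (.node (.node (.leaf .df) (.leaf (.cyc (nat_lit 2) [(nat_lit 967), (nat_lit 966)]))) (.node (.leaf (.cyc (nat_lit 1) [(nat_lit 1698), (nat_lit 1769)])) (.leaf (.cyc (nat_lit 18) [(nat_lit 3650), (nat_lit 3417), (nat_lit 3685), (nat_lit 3682), (nat_lit 1271)]))))) (.node (.node (.node (.leaf .df) (.leaf (.cyc (nat_lit 8) [(nat_lit 832), (nat_lit 1612), (nat_lit 1609), (nat_lit 377), (nat_lit 867)]))) (.node (.leaf (.cyc (nat_lit 6) [(nat_lit 267), (nat_lit 266)])) (.leaf (.cyc (nat_lit 3) [(nat_lit 3062), (nat_lit 2286), (nat_lit 3064), (nat_lit 2584), (nat_lit 1202)])))) (.node (.node (.leaf .df) (.leaf (.cyc (nat_lit 24) [(nat_lit 613), (nat_lit 3048)]))) (.node (.leaf (.cyc (nat_lit 27) [(nat_lit 609), (nat_lit 2021)])) (.leaf .df))))))))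
noncomputable def c5P01011 : BT Pf := (.node (.node (.node (.node (.node (.node (.node (.leaf .df) (.leaf (.cyc (nat_lit 41) [(nat_lit 645), (nat_lit 2073), (nat_lit 1812), (nat_lit 530), (nat_lit 188), (nat_lit 190), (nat_lit 536), (nat_lit 1820), (nat_lit 331), (nat_lit 1477), (nat_lit 182), (nat_lit 180), (nat_lit 516)]))) (.node (.leaf .df) (.leaf (.cyc (nat_lit 1) [(nat_lit 2702), (nat_lit 3097)])))) (.node (.node (.leaf .df) (.leaf (.cyc (nat_lit 46) [(nat_lit 843), (nat_lit 2431), (nat_lit 2436), (nat_lit 2435), (nat_lit 367), (nat_lit 365), (nat_lit 2483), (nat_lit 2208), (nat_lit 510), (nat_lit 178), (nat_lit 1383), (nat_lit 386), (nat_lit 884)]))) (.node (.leaf (.cyc (nat_lit 6) [(nat_lit 307), (nat_lit 306)])) (.leaf (.cyc (nat_lit 10) [(nat_lit 3368), (nat_lit 3372), (nat_lit 2357), (nat_lit 2623), (nat_lit 1217)]))))) (.node (.node (.node (.leaf .df) (.leaf (.cyc (nat_lit 4) [(nat_lit 796), (nat_lit 1919), (nat_lit 2328), (nat_lit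 1954), (nat_lit 1606)]))) (.node (.leaf (.cyc (nat_lit 6) [(nat_lit 42), (nat_lit 41)])) (.leaf (.cyc (nat_lit 7) [(nat_lit 3352), (nat_lit 2769), (nat_lit 2768), (nat_lit 882), (nat_lit 2000), (nat_lit 692), (nat_lit 2737)])))) (.node (.node (.leaf .df) (.leaf (.cyc (nat_lit 26) [(nat_lit 988), (nat_lit 490), (nat_lit 172), (nat_lit 169), (nat_lit 2462), (nat_lit 1533), (nat_lit 2144)]))) (.node (.leaf (.cyc (nat_lit 2) [(nat_lit 535), (nat_lit 534)])) (.leaf .df))))) (.node (.node (.node (.node (.leaf .df) (.leaf (.cyc (nat_lit 10) [(nat_lit 424), (nat_lit 148), (nat_lit 145), (nat_lit 2159), (nat_lit 2201)]))) (.node (.leaf .df) (.leaf (.cyc (nat_lit 5) [(nat_lit 1108), (nat_lit 1107)])))) (.node (.node (.leaf .df) (.leaf (.cyc (nat_lit 38) [(nat_lit 905), (nat_lit 2377), (nat_lit 1561), (nat_lit 1516), (nat_lit 2111), (nat_lit 339), (nat_lit 117), (nat_lit 1299), (nat_lit 77), (nat_lit 248), (nat_lit 2223), (nat_lit 424), (nat_lit 933)])))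 (.node (.leaf (.cyc (nat_lit 6) [(nat_lit 430), (nat_lit 429)])) (.leaf (.cyc (nat_lit 13) [(nat_lit 3342), (nat_lit 2167), (nat_lit 3391), (nat_lit 2264), (nat_lit 2952), (nat_lit 2957), (nat_lit 1250)]))))) (.node (.node (.node (.leaf .df) (.leaf (.cyc (nat_lit 0) [(nat_lit 2442), (nat_lit 2457)]))) (.node (.leaf (.cyc (nat_lit 2) [(nat_lit 197), (nat_lit 196)])) (.leaf (.cyc (nat_lit 27) [(nat_lit 3452), (nat_lit 3481)])))) (.node (.node (.leaf .df) (.leaf (.cyc (nat_lit 10) [(nat_lit 878), (nat_lit 382), (nat_lit 380), (nat_lit 2458), (nat_lit 2969)]))) (.node (.leaf (.cyc (nat_lit 5) [(nat_lit 636), (nat_lit 635)])) (.leaf .df)))))) (.node (.node (.node (.node (.node (.leaf .df) (.leaf (.cyc (nat_lit 14) [(nat_lit 1899), (nat_lit 711)]))) (.node (.leaf .df) (.leaf (.cyc (nat_lit 8) [(nat_lit 2735), (nat_lit 2736), (nat_lit 2689), (nat_lit 2731), (nat_lit 3160), (nat_lit 3158)])))) (.node (.node (.leaf .df) (.leaf (.cyc (nat_lit 35)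 [(nat_lit 2057), (nat_lit 2062), (nat_lit 1994), (nat_lit 264), (nat_lit 1338), (nat_lit 2025), (nat_lit 219), (nat_lit 599), (nat_lit 1909), (nat_lit 351), (nat_lit 348), (nat_lit 1953), (nat_lit 2648)]))) (.node (.leaf (.cyc (nat_lit 2) [(nat_lit 371), (nat_lit 370)])) (.leaf (.cyc (nat_lit 8) [(nat_lit 3657), (nat_lit 3652), (nat_lit 3144), (nat_lit 3145), (nat_lit 1235)]))))) (.node (.node (.node (.leaf .df) (.leaf (.cyc (nat_lit 2) [(nat_lit 2393), (nat_lit 2056)]))) (.node (.leaf (.cyc (nat_lit 6) [(nat_lit 119), (nat_lit 118)])) (.leaf (.cyc (nat_lit 34) [(nat_lit 1163), (nat_lit 2185), (nat_lit 3331), (nat_lit 3332), (nat_lit 2527), (nat_lit 779), (nat_lit 2513), (nat_lit 373), (nat_lit 1377), (nat_lit 2157), (nat_lit 726), (nat_lit 2184), (nat_lit 927)])))) (.node (.node (.leaf .df) (.leaf (.cyc (nat_lit 13) [(nat_lit 612), (nat_lit 1469), (nat_lit 2536), (nat_lit 173), (nat_lit 175), (nat_lit 500), (nat_lit 1000)]))) (.node (.leaf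 (.cyc (nat_lit 3) [(nat_lit 1881), (nat_lit 336), (nat_lit 1369), (nat_lit 1543), (nat_lit 1867)])) (.leaf .df))))) (.node (.node (.node (.node (.leaf .df) (.leaf (.cyc (nat_lit 8) [(nat_lit 2265), (nat_lit 455), (nat_lit 1439), (nat_lit 333), (nat_lit 1663)]))) (.node (.leaf .df) (.leaf (.cyc (nat_lit 2) [(nat_lit 1127), (nat_lit 3274)])))) (.node (.node (.leaf .df) (.leaf (.cyc (nat_lit 4) [(nat_lit 962), (nat_lit 960), (nat_lit 2772), (nat_lit 2310), (nat_lit 2306)]))) (.node (.leaf (.cyc (nat_lit 24) [(nat_lit 461), (nat_lit 1752)])) (.leaf (.cyc (nat_lit 4) [(nat_lit 1267), (nat_lit 3681), (nat_lit 1236), (nat_lit 3663), (nat_lit 3796)]))))) (.node (.node (.node (.leaf .df) (.leaf (.cyc (nat_lit 4) [(nat_lit 701), (nat_lit 2240), (nat_lit 2490), (nat_lit 2520), (nat_lit 864)]))) (.node (.leaf (.cyc (nat_lit 6) [(nat_lit 246), (nat_lit 245)])) (.leaf (.cyc (nat_lit 11) [(nat_lit 2517), (nat_lit 2687), (nat_lit 2686), (nat_lit 2685),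 (nat_lit 2340), (nat_lit 829), (nat_lit 1198)])))) (.node (.node (.leaf .df) (.leaf (.cyc (nat_lit 28) [(nat_lit 2516), (nat_lit 3031), (nat_lit 1043), (nat_lit 2622), (nat_lit 2821), (nat_lit 660), (nat_lit 661), (nat_lit 2734)]))) (.node (.leaf (.cyc (nat_lit 20) [(nat_lit 677), (nat_lit 2008)])) (.leaf .df))))))) (.node (.node (.node (.node (.node (.node (.leaf .df) (.leaf (.cyc (nat_lit 3) [(nat_lit 2099), (nat_lit 689), (nat_lit 265), (nat_lit 267), (nat_lit 692)]))) (.node (.leaf .df) (.leaf (.cyc (nat_lit 8) [(nat_lit 2972), (nat_lit 3061), (nat_lit 3127), (nat_lit 1073), (nat_lit 1074)])))) (.node (.node (.leaf .df) (.leaf (.cyc (nat_lit 10) [(nat_lit 2133), (nat_lit 1820), (nat_lit 1581), (nat_lit 389), (nat_lit 893)]))) (.node (.leaf (.cyc (nat_lit 1) [(nat_lit 1518), (nat_lit 336)])) (.leaf (.cyc (nat_lit 6) [(nat_lit 1225), (nat_lit 3059)]))))) (.node (.node (.node (.leaf .df) (.leaf (.cyc (nat_lit 3) [(nat_lit 2361), (nat_lit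 2128), (nat_lit 2125), (nat_lit 2132), (nat_lit 2134)]))) (.node (.leaf (.cyc (nat_lit 2) [(nat_lit 84), (nat_lit 83)])) (.leaf (.cyc (nat_lit 47) [(nat_lit 3218), (nat_lit 3383), (nat_lit 3384), (nat_lit 1143), (nat_lit 668), (nat_lit 1499), (nat_lit 1701), (nat_lit 960), (nat_lit 3141), (nat_lit 3326), (nat_lit 3327), (nat_lit 3167), (nat_lit 3166)])))) (.node (.node (.leaf .df) (.leaf (.cyc (nat_lit 24) [(nat_lit 2863), (nat_lit 2872)]))) (.node (.leaf (.cyc (nat_lit 2) [(nat_lit 565), (nat_lit 564)])) (.leaf .df))))) (.node (.node (.node (.node (.leaf .df) (.leaf (.cyc (nat_lit 41) [(nat_lit 2227), (nat_lit 2075), (nat_lit 1785), (nat_lit 514), (nat_lit 180), (nat_lit 1315), (nat_lit 1314), (nat_lit 40), (nat_lit 1283), (nat_lit 24), (nat_lit 87), (nat_lit 272), (nat_lit 705)]))) (.node (.leaf .df) (.leaf (.cyc (nat_lit 14) [(nat_lit 2894), (nat_lit 3257)])))) (.node (.node (.leaf .df) (.leaf (.cyc (nat_lit 1) [(nat_lit 2399), (nat_lit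 951)]))) (.node (.leaf (.cyc (nat_lit 0) [(nat_lit 1597), (nat_lit 455)])) (.leaf (.cyc (nat_lit 41) [(nat_lit 3562), (nat_lit 3063), (nat_lit 3060), (nat_lit 1064), (nat_lit 3187), (nat_lit 3186), (nat_lit 2784), (nat_lit 3427), (nat_lit 1165), (nat_lit 1164), (nat_lit 3713), (nat_lit 3715), (nat_lit 1260)]))))) (.node (.node (.node (.leaf .df) (.leaf (.cyc (nat_lit 34) [(nat_lit 2414), (nat_lit 2489), (nat_lit 850), (nat_lit 2082), (nat_lit 252), (nat_lit 1553), (nat_lit 249), (nat_lit 1570), (nat_lit 1791), (nat_lit 520), (nat_lit 518), (nat_lit 2094), (nat_lit 1626)]))) (.node (.leaf (.cyc (nat_lit 25) [(nat_lit 179), (nat_lit 56), (nat_lit 15), (nat_lit 1278), (nat_lit 19), (nat_lit 70), (nat_lit 221)])) (.leaf (.cyc (nat_lit 8) [(nat_lit 3511), (nat_lit 3512), (nat_lit 2744), (nat_lit 1158), (nat_lit 3397)])))) (.node (.node (.leaf .df) (.leaf (.cyc (nat_lit 14) [(nat_lit 2335), (nat_lit 3001)]))) (.node (.leaf (.cyc (nat_lit 14) [(nat_lit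 1930), (nat_lit 664)])) (.leaf .df)))))) (.node (.node (.node (.node (.node (.leaf .df) (.leaf (.cyc (nat_lit 33) [(nat_lit 566), (nat_lit 1445), (nat_lit 1588), (nat_lit 335), (nat_lit 1546), (nat_lit 1530), (nat_lit 1602), (nat_lit 2169), (nat_lit 719), (nat_lit 717)]))) (.node (.leaf .df) (.leaf (.cyc (nat_lit 9) [(nat_lit 2836), (nat_lit 2837), (nat_lit 2838), (nat_lit 1908), (nat_lit 1096)])))) (.node (.node (.leaf .df) (.leaf (.cyc (nat_lit 0) [(nat_lit 2615), (nat_lit 918)]))) (.node (.leaf (.cyc (nat_lit 6) [(nat_lit 396), (nat_lit 1522)])) (.leaf (.cyc (nat_lit 16) [(nat_lit 3079), (nat_lit 3474), (nat_lit 3473), (nat_lit 1025), (nat_lit 2939), (nat_lit 3423), (nat_lit 3414), (nat_lit 3413), (nat_lit 3203), (nat_lit 3201), (nat_lit 3139), (nat_lit 1105), (nat_lit 3705)]))))) (.node (.node (.node (.leaf .df) (.leaf (.cyc (nat_lit 3) [(nat_lit 2422), (nat_lit 822), (nat_lit 349), (nat_lit 351), (nat_lit 826)]))) (.node (.leaf (.cyc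 (nat_lit 1) [(nat_lit 1318), (nat_lit 154)])) (.leaf (.cyc (nat_lit 18) [(nat_lit 3035), (nat_lit 1692), (nat_lit 2294), (nat_lit 2293), (nat_lit 1172)])))) (.node (.node (.leaf .df) (.leaf (.cyc (nat_lit 6) [(nat_lit 1013), (nat_lit 1012)]))) (.node (.leaf (.cyc (nat_lit 35) [(nat_lit 529), (nat_lit 188), (nat_lit 58), (nat_lit 1286), (nat_lit 54), (nat_lit 174), (nat_lit 497), (nat_lit 1774), (nat_lit 249), (nat_lit 1465), (nat_lit 1467), (nat_lit 604), (nat_lit 1912)])) (.leaf .df))))) (.node (.node (.node (.node (.leaf .df) (.leaf (.cyc (nat_lit 2) [(nat_lit 783), (nat_lit 2103)]))) (.node (.leaf .df) (.leaf (.cyc (nat_lit 10) [(nat_lit 1061), (nat_lit 565), (nat_lit 562), (nat_lit 3301), (nat_lit 1139)])))) (.node (.node (.leaf .df) (.leaf (.cyc (nat_lit 4) [(nat_lit 2808), (nat_lit 841), (nat_lit 361), (nat_lit 364), (nat_lit 845)]))) (.node (.leaf (.cyc (nat_lit 6) [(nat_lit 514), (nat_lit 513)])) (.leaf (.cyc (nat_lit 13) [(nat_lit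 3735), (nat_lit 3402), (nat_lit 3403), (nat_lit 3021), (nat_lit 2991), (nat_lit 3600), (nat_lit 1274)]))))) (.node (.node (.node (.leaf .df) (.leaf (.cyc (nat_lit 11) [(nat_lit 803), (nat_lit 327), (nat_lit 329), (nat_lit 1798), (nat_lit 1916), (nat_lit 1944), (nat_lit 2553)]))) (.node (.leaf (.cyc (nat_lit 5) [(nat_lit 282), (nat_lit 1346)])) (.leaf (.cyc (nat_lit 6) [(nat_lit 3576), (nat_lit 3421)])))) (.node (.node (.leaf .df) (.leaf (.cyc (nat_lit 5) [(nat_lit 3065), (nat_lit 3062)]))) (.node (.leaf (.cyc (nat_lit 33) [(nat_lit 1633), (nat_lit 1635), (nat_lit 194), (nat_lit 1362), (nat_lit 1507), (nat_lit 1773), (nat_lit 2041), (nat_lit 680), (nat_lit 678)])) (.leaf .df))))))))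
noncomputable def c5P0101 : BT Pf := .node c5P01010 c5P01011
noncomputable def c5P010 : BT Pf := .node c5P0100 c5P0101
noncomputable def c5P01100 : BT Pf := (.node (.node (.node (.node (.node (.node (.node (.leaf .df) (.leaf (.cyc (nat_lit 23) [(nat_lit 2047), (nat_lit 2052)]))) (.node (.leaf .df) (.leaf (.cyc (nat_lit 6) [(nat_lit 3077), (nat_lit 3074)])))) (.node (.node (.leaf .df) (.leaf (.cyc (nat_lit 2) [(nat_lit 874), (nat_lit 873)]))) (.node (.leaf (.cyc (nat_lit 0) [(nat_lit 1496), (nat_lit 295)])) (.leaf (.cyc (nat_lit 8) [(nat_lit 1210), (nat_lit 3031), (nat_lit 3032), (nat_lit 2214), (nat_lit 1129)]))))) (.node (.node (.node (.leaf .df) (.leaf (.cyc (nat_lit 1) [(nat_lit 2121), (nat_lit 2309)]))) (.node (.leaf (.cyc (nat_lit 5) [(nat_lit 15), (nat_lit 14)])) (.leaf (.cyc (nat_lit 3) [(nat_lit 3333), (nat_lit 3331), (nat_lit 2185), (nat_lit 2183), (nat_lit 921)])))) (.node (.node (.leaf .df) (.leaf (.cyc (nat_lit 4) [(nat_lit 2818),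 (nat_lit 2412), (nat_lit 1883), (nat_lit 1882), (nat_lit 2551)]))) (.node (.leaf (.cyc (nat_lit 0) [(nat_lit 1791), (nat_lit 1797)])) (.leaf .df))))) (.node (.node (.node (.node (.leaf .df) (.leaf (.cyc (nat_lit 2) [(nat_lit 725), (nat_lit 724)]))) (.node (.leaf .df) (.leaf (.cyc (nat_lit 6) [(nat_lit 1099), (nat_lit 1098)])))) (.node (.node (.leaf .df) (.leaf (.cyc (nat_lit 23) [(nat_lit 2603), (nat_lit 2693)]))) (.node (.leaf (.cyc (nat_lit 2) [(nat_lit 408), (nat_lit 407)])) (.leaf (.cyc (nat_lit 9) [(nat_lit 1010), (nat_lit 1779), (nat_lit 1013), (nat_lit 3423), (nat_lit 1245)]))))) (.node (.node (.node (.leaf .df) (.leaf (.cyc (nat_lit 3) [(nat_lit 2419), (nat_lit 2417), (nat_lit 2432), (nat_lit 831), (nat_lit 833)]))) (.node (.leaf (.cyc (nat_lit 4) [(nat_lit 168), (nat_lit 52), (nat_lit 14), (nat_lit 17), (nat_lit 62)])) (.leaf (.cyc (nat_lit 10) [(nat_lit 3438), (nat_lit 3165), (nat_lit 768), (nat_lit 766), (nat_lit 1177)])))) (.node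 (.node (.leaf .df) (.leaf (.cyc (nat_lit 4) [(nat_lit 2794), (nat_lit 2795), (nat_lit 2626), (nat_lit 2631), (nat_lit 2949)]))) (.node (.leaf (.cyc (nat_lit 11) [(nat_lit 579), (nat_lit 210), (nat_lit 67), (nat_lit 1288), (nat_lit 71), (nat_lit 226), (nat_lit 615)])) (.leaf .df)))))) (.node (.node (.node (.node (.node (.leaf .df) (.leaf (.cyc (nat_lit 6) [(nat_lit 696), (nat_lit 695)]))) (.node (.leaf .df) (.leaf (.cyc (nat_lit 0) [(nat_lit 2772), (nat_lit 3141)])))) (.node (.node (.leaf .df) (.leaf (.cyc (nat_lit 8) [(nat_lit 762), (nat_lit 1562), (nat_lit 763), (nat_lit 2282), (nat_lit 2629), (nat_lit 2473)]))) (.node (.leaf (.cyc (nat_lit 5) [(nat_lit 349), (nat_lit 348)])) (.leaf (.cyc (nat_lit 4) [(nat_lit 1229), (nat_lit 2860), (nat_lit 989), (nat_lit 1841), (nat_lit 1048)]))))) (.node (.node (.node (.leaf .df) (.leaf (.cyc (nat_lit 0) [(nat_lit 2049), (nat_lit 810)]))) (.node (.leaf (.cyc (nat_lit 15) [(nat_lit 99), (nat_lit 28),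 (nat_lit 7), (nat_lit 1276), (nat_lit 1277), (nat_lit 10), (nat_lit 1283), (nat_lit 24), (nat_lit 86)])) (.leaf (.cyc (nat_lit 35) [(nat_lit 3178), (nat_lit 975), (nat_lit 1739), (nat_lit 2303), (nat_lit 404), (nat_lit 1392), (nat_lit 400), (nat_lit 1664), (nat_lit 2308), (nat_lit 2311), (nat_lit 2741), (nat_lit 2744), (nat_lit 1158)])))) (.node (.node (.leaf .df) (.leaf (.cyc (nat_lit 3) [(nat_lit 500), (nat_lit 175), (nat_lit 173), (nat_lit 495), (nat_lit 993)]))) (.node (.leaf (.cyc (nat_lit 4) [(nat_lit 1393), (nat_lit 1715), (nat_lit 1594), (nat_lit 1859), (nat_lit 215), (nat_lit 213)])) (.leaf .df))))) (.node (.node (.node (.node (.leaf .df) (.leaf (.cyc (nat_lit 2) [(nat_lit 742), (nat_lit 741)]))) (.node (.leaf .df) (.leaf (.cyc (nat_lit 16) [(nat_lit 853), (nat_lit 368), (nat_lit 365), (nat_lit 2084), (nat_lit 1502), (nat_lit 1941), (nat_lit 1940), (nat_lit 1118), (nat_lit 3265), (nat_lit 2421), (nat_lit 1112), (nat_lit 3245), (nat_lit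 1119)])))) (.node (.node (.leaf .df) (.leaf (.cyc (nat_lit 3) [(nat_lit 2747), (nat_lit 951), (nat_lit 439), (nat_lit 441), (nat_lit 954)]))) (.node (.leaf (.cyc (nat_lit 6) [(nat_lit 470), (nat_lit 469)])) (.leaf (.cyc (nat_lit 34) [(nat_lit 1262), (nat_lit 1082), (nat_lit 2745), (nat_lit 709), (nat_lit 1524), (nat_lit 1447), (nat_lit 1448), (nat_lit 1659), (nat_lit 1660), (nat_lit 598), (nat_lit 2839), (nat_lit 3251), (nat_lit 3328)]))))) (.node (.node (.node (.leaf .df) (.leaf (.cyc (nat_lit 2) [(nat_lit 855), (nat_lit 2486)]))) (.node (.leaf (.cyc (nat_lit 3) [(nat_lit 1412), (nat_lit 1424), (nat_lit 1476), (nat_lit 233), (nat_lit 234)])) (.leaf (.cyc (nat_lit 25) [(nat_lit 1102), (nat_lit 1924), (nat_lit 2906), (nat_lit 2907), (nat_lit 3394), (nat_lit 3518), (nat_lit 3525)])))) (.node (.node (.leaf .df) (.leaf (.cyc (nat_lit 18) [(nat_lit 712), (nat_lit 1526), (nat_lit 711), (nat_lit 2876), (nat_lit 1036)]))) (.node (.leaf (.cyc (nat_lit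 10) [(nat_lit 266), (nat_lit 84), (nat_lit 81), (nat_lit 1504), (nat_lit 677)])) (.leaf .df))))))) (.node (.node (.node (.node (.node (.node (.leaf .df) (.leaf (.cyc (nat_lit 7) [(nat_lit 395), (nat_lit 1386), (nat_lit 1351), (nat_lit 1300), (nat_lit 116), (nat_lit 337), (nat_lit 2085)]))) (.node (.leaf .df) (.leaf (.cyc (nat_lit 3) [(nat_lit 955), (nat_lit 444), (nat_lit 2034), (nat_lit 1856), (nat_lit 1067)])))) (.node (.node (.leaf .df) (.leaf (.cyc (nat_lit 6) [(nat_lit 886), (nat_lit 885)]))) (.node (.leaf (.cyc (nat_lit 3) [(nat_lit 321), (nat_lit 108), (nat_lit 1298), (nat_lit 1327), (nat_lit 223)])) (.leaf (.cyc (nat_lit 34) [(nat_lit 2825), (nat_lit 2751), (nat_lit 2753), (nat_lit 736), (nat_lit 2166), (nat_lit 2263), (nat_lit 751), (nat_lit 1693), (nat_lit 2541), (nat_lit 2549), (nat_lit 2822), (nat_lit 2824), (nat_lit 3621)]))))) (.node (.node (.node (.leaf .df) (.leaf (.cyc (nat_lit 26) [(nat_lit 801), (nat_lit 1578), (nat_lit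 1923), (nat_lit 2241), (nat_lit 2122), (nat_lit 558), (nat_lit 560)]))) (.node (.leaf (.cyc (nat_lit 12) [(nat_lit 1317), (nat_lit 41), (nat_lit 11), (nat_lit 2), (nat_lit 1), (nat_lit 1279), (nat_lit 22), (nat_lit 1290), (nat_lit 48)])) (.leaf (.cyc (nat_lit 5) [(nat_lit 1151), (nat_lit 1150)])))) (.node (.node (.leaf .df) (.leaf (.cyc (nat_lit 19) [(nat_lit 985), (nat_lit 2852)]))) (.node (.leaf (.cyc (nat_lit 4) [(nat_lit 1572), (nat_lit 1740), (nat_lit 477), (nat_lit 1433), (nat_lit 547)])) (.leaf .df))))) (.node (.node (.node (.node (.leaf .df) (.leaf (.cyc (nat_lit 0) [(nat_lit 2166), (nat_lit 735)]))) (.node (.leaf .df) (.leaf (.cyc (nat_lit 3) [(nat_lit 1102), (nat_lit 611), (nat_lit 1469), (nat_lit 616), (nat_lit 1111)])))) (.node (.node (.leaf .df) (.leaf (.cyc (nat_lit 34) [(nat_lit 2107), (nat_lit 2162), (nat_lit 2161), (nat_lit 2462), (nat_lit 169), (nat_lit 171), (nat_lit 487), (nat_lit 1851), (nat_lit 2171), (nat_lit 2262),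 (nat_lit 937), (nat_lit 2724), (nat_lit 2604)]))) (.node (.leaf (.cyc (nat_lit 8) [(nat_lit 393), (nat_lit 391), (nat_lit 1653), (nat_lit 1654), (nat_lit 448)])) (.leaf (.cyc (nat_lit 0) [(nat_lit 3473), (nat_lit 1253)]))))) (.node (.node (.node (.leaf .df) (.leaf (.cyc (nat_lit 0) [(nat_lit 838), (nat_lit 2469)]))) (.node (.leaf (.cyc (nat_lit 6) [(nat_lit 205), (nat_lit 1420)])) (.leaf (.cyc (nat_lit 3) [(nat_lit 3260), (nat_lit 770), (nat_lit 2514), (nat_lit 779), (nat_lit 1185)])))) (.node (.node (.leaf .df) (.leaf (.cyc (nat_lit 7) [(nat_lit 2980), (nat_lit 2218), (nat_lit 2207), (nat_lit 2321), (nat_lit 2322), (nat_lit 1805), (nat_lit 2323)]))) (.node (.leaf (.cyc (nat_lit 10) [(nat_lit 433), (nat_lit 151), (nat_lit 149), (nat_lit 1492), (nat_lit 650)])) (.leaf .df)))))) (.node (.node (.node (.node (.node (.leaf .df) (.leaf (.cyc (nat_lit 16) [(nat_lit 2140), (nat_lit 2147), (nat_lit 2142), (nat_lit 289), (nat_lit 287), (nat_lit 2146),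 (nat_lit 629), (nat_lit 230), (nat_lit 72), (nat_lit 1288), (nat_lit 69), (nat_lit 218), (nat_lit 593)]))) (.node (.leaf .df) (.leaf (.cyc (nat_lit 19) [(nat_lit 1087), (nat_lit 3172)])))) (.node (.node (.leaf .df) (.leaf (.cyc (nat_lit 2) [(nat_lit 912), (nat_lit 911)]))) (.node (.leaf (.cyc (nat_lit 4) [(nat_lit 1449), (nat_lit 1457), (nat_lit 132), (nat_lit 1380), (nat_lit 379)])) (.leaf (.cyc (nat_lit 29) [(nat_lit 3683), (nat_lit 1208), (nat_lit 859), (nat_lit 372), (nat_lit 1399), (nat_lit 240), (nat_lit 650), (nat_lit 1958), (nat_lit 2294), (nat_lit 780), (nat_lit 1569), (nat_lit 2103), (nat_lit 2781)]))))) (.node (.node (.node (.leaf .df) (.leaf (.cyc (nat_lit 6) [(nat_lit 2404), (nat_lit 2106)]))) (.node (.leaf (.cyc (nat_lit 1) [(nat_lit 1380), (nat_lit 133)])) (.leaf (.cyc (nat_lit 5) [(nat_lit 1166), (nat_lit 3042)])))) (.node (.node (.leaf .df) (.leaf (.cyc (nat_lit 10) [(nat_lit 2759), (nat_lit 502), (nat_lit 1418), (nat_lit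 504), (nat_lit 1008)]))) (.node (.leaf (.cyc (nat_lit 8) [(nat_lit 1584), (nat_lit 141), (nat_lit 144), (nat_lit 1865), (nat_lit 584)])) (.leaf .df))))) (.node (.node (.node (.node (.leaf .df) (.leaf (.cyc (nat_lit 4) [(nat_lit 496), (nat_lit 494), (nat_lit 1763), (nat_lit 1562), (nat_lit 759)]))) (.node (.leaf .df) (.leaf (.cyc (nat_lit 19) [(nat_lit 3072), (nat_lit 3300)])))) (.node (.node (.leaf .df) (.leaf (.cyc (nat_lit 35) [(nat_lit 889), (nat_lit 1649), (nat_lit 894), (nat_lit 2622), (nat_lit 2210), (nat_lit 1781), (nat_lit 2785), (nat_lit 2787), (nat_lit 2485), (nat_lit 2487), (nat_lit 2489), (nat_lit 2503), (nat_lit 2727)]))) (.node (.leaf (.cyc (nat_lit 24) [(nat_lit 1759), (nat_lit 1765), (nat_lit 1700)])) (.leaf (.cyc (nat_lit 41) [(nat_lit 3567), (nat_lit 2690), (nat_lit 2689), (nat_lit 1979), (nat_lit 432), (nat_lit 434), (nat_lit 1976), (nat_lit 2621), (nat_lit 878), (nat_lit 877), (nat_lit 2620), (nat_lit 3395), (nat_lit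 1270)]))))) (.node (.node (.node (.leaf .df) (.leaf (.cyc (nat_lit 24) [(nat_lit 496), (nat_lit 2533), (nat_lit 617)]))) (.node (.leaf (.cyc (nat_lit 24) [(nat_lit 257), (nat_lit 1508)])) (.leaf (.cyc (nat_lit 13) [(nat_lit 2886), (nat_lit 1776), (nat_lit 2467), (nat_lit 509), (nat_lit 511), (nat_lit 2465), (nat_lit 1201)])))) (.node (.node (.leaf .df) (.leaf (.cyc (nat_lit 6) [(nat_lit 1046), (nat_lit 2846)]))) (.node (.leaf (.cyc (nat_lit 21) [(nat_lit 1698), (nat_lit 2018), (nat_lit 219)])) (.leaf .df))))))))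
noncomputable def c5P01101 : BT Pf := (.node (.node (.node (.node (.node (.node (.node (.leaf .df) (.leaf (.cyc (nat_lit 34) [(nat_lit 162), (nat_lit 165), (nat_lit 468), (nat_lit 2059), (nat_lit 571), (nat_lit 206), (nat_lit 1325), (nat_lit 210), (nat_lit 1452), (nat_lit 94), (nat_lit 95), (nat_lit 1491), (nat_lit 236), (nat_lit 646)]))) (.node (.leaf .df) (.leaf (.cyc (nat_lit 23) [(nat_lit 2711), (nat_lit 3093)])))) (.node (.node (.leaf .df) (.leaf (.cyc (nat_lit 14) [(nat_lit 1848), (nat_lit 881)]))) (.node (.leaf (.cyc (nat_lit 14) [(nat_lit 1394), (nat_lit 302)])) (.leaf (.cyc (nat_lit 3) [(nat_lit 3128), (nat_lit 2593), (nat_lit 2596), (nat_lit 886), (nat_lit 1216)]))))) (.node (.node (.node (.leaf .df) (.leaf (.cyc (nat_lit 30) [(nat_lit 1919), (nat_lit 1575), (nat_lit 797), (nat_lit 2325), (nat_lit 331), (nat_lit 1477), (nat_lit 1735), (nat_lit 1951), (nat_lit 643), (nat_lit 641)]))) (.node (.leaf (.cyc (nat_lit 6) [(nat_lit 38),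 (nat_lit 37)])) (.leaf (.cyc (nat_lit 5) [(nat_lit 1148), (nat_lit 2494)])))) (.node (.node (.leaf .df) (.leaf (.cyc (nat_lit 3) [(nat_lit 2837), (nat_lit 987), (nat_lit 2036), (nat_lit 1464), (nat_lit 598)]))) (.node (.leaf (.cyc (nat_lit 2) [(nat_lit 532), (nat_lit 531)])) (.leaf .df))))) (.node (.node (.node (.node (.leaf .df) (.leaf (.cyc (nat_lit 8) [(nat_lit 2196), (nat_lit 394), (nat_lit 1644), (nat_lit 1427), (nat_lit 530)]))) (.node (.leaf .df) (.leaf (.cyc (nat_lit 28) [(nat_lit 3219), (nat_lit 2905), (nat_lit 981), (nat_lit 1852), (nat_lit 2172), (nat_lit 719), (nat_lit 2415)])))) (.node (.node (.leaf .df) (.leaf (.cyc (nat_lit 3) [(nat_lit 2708), (nat_lit 731), (nat_lit 288), (nat_lit 290), (nat_lit 736)]))) (.node (.leaf (.cyc (nat_lit 1) [(nat_lit 1685), (nat_lit 424)])) (.leaf (.cyc (nat_lit 14) [(nat_lit 3594), (nat_lit 1249)]))))) (.node (.node (.node (.leaf .df) (.leaf (.cyc (nat_lit 35) [(nat_lit 482), (nat_lit 480), (nat_lit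 2452), (nat_lit 2428), (nat_lit 706), (nat_lit 708), (nat_lit 2413), (nat_lit 2412), (nat_lit 360), (nat_lit 1381), (nat_lit 380), (nat_lit 2442), (nat_lit 836), (nat_lit 834)]))) (.node (.leaf (.cyc (nat_lit 4) [(nat_lit 191), (nat_lit 1318), (nat_lit 48), (nat_lit 50), (nat_lit 159)])) (.leaf (.cyc (nat_lit 3) [(nat_lit 3476), (nat_lit 2770), (nat_lit 2919), (nat_lit 1004), (nat_lit 1005)])))) (.node (.node (.leaf .df) (.leaf (.cyc (nat_lit 31) [(nat_lit 2632), (nat_lit 1757), (nat_lit 1724), (nat_lit 965), (nat_lit 2785), (nat_lit 1781), (nat_lit 2320), (nat_lit 2322), (nat_lit 2965)]))) (.node (.leaf (.cyc (nat_lit 13) [(nat_lit 630), (nat_lit 230), (nat_lit 72), (nat_lit 1288), (nat_lit 66), (nat_lit 206), (nat_lit 571)])) (.leaf .df)))))) (.node (.node (.node (.node (.node (.leaf .df) (.leaf (.cyc (nat_lit 2) [(nat_lit 708), (nat_lit 707)]))) (.node (.leaf .df) (.leaf (.cyc (nat_lit 7) [(nat_lit 1084), (nat_lit 586), (nat_lit 1865),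 (nat_lit 144), (nat_lit 141), (nat_lit 401), (nat_lit 907)])))) (.node (.node (.leaf .df) (.leaf (.cyc (nat_lit 5) [(nat_lit 901), (nat_lit 2610)]))) (.node (.leaf (.cyc (nat_lit 6) [(nat_lit 368), (nat_lit 367)])) (.leaf (.cyc (nat_lit 34) [(nat_lit 1233), (nat_lit 3161), (nat_lit 1085), (nat_lit 3449), (nat_lit 3444), (nat_lit 3180), (nat_lit 1069), (nat_lit 2659), (nat_lit 2661), (nat_lit 2437), (nat_lit 1887), (nat_lit 838), (nat_lit 1202)]))))) (.node (.node (.node (.leaf .df) (.leaf (.cyc (nat_lit 9) [(nat_lit 752), (nat_lit 1560), (nat_lit 1717), (nat_lit 1598), (nat_lit 815)]))) (.node (.leaf (.cyc (nat_lit 2) [(nat_lit 111), (nat_lit 110)])) (.leaf (.cyc (nat_lit 18) [(nat_lit 3413), (nat_lit 3032), (nat_lit 2499), (nat_lit 2548), (nat_lit 996)])))) (.node (.node (.leaf .df) (.leaf (.cyc (nat_lit 11) [(nat_lit 772), (nat_lit 1627), (nat_lit 857), (nat_lit 2508), (nat_lit 2901), (nat_lit 505), (nat_lit 507)]))) (.node (.leaf (.cyc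 (nat_lit 20) [(nat_lit 1817), (nat_lit 1875)])) (.leaf .df))))) (.node (.node (.node (.node (.leaf .df) (.leaf (.cyc (nat_lit 28) [(nat_lit 427), (nat_lit 429), (nat_lit 2261), (nat_lit 570), (nat_lit 1445), (nat_lit 566), (nat_lit 2171)]))) (.node (.leaf .df) (.leaf (.cyc (nat_lit 0) [(nat_lit 3240), (nat_lit 1125)])))) (.node (.node (.leaf .df) (.leaf (.cyc (nat_lit 8) [(nat_lit 2663), (nat_lit 2297), (nat_lit 1874), (nat_lit 446), (nat_lit 961)]))) (.node (.leaf (.cyc (nat_lit 0) [(nat_lit 1726), (nat_lit 487)])) (.leaf (.cyc (nat_lit 3) [(nat_lit 3782), (nat_lit 3781), (nat_lit 1137), (nat_lit 3232), (nat_lit 1266)]))))) (.node (.node (.node (.leaf .df) (.leaf (.cyc (nat_lit 4) [(nat_lit 862), (nat_lit 1628), (nat_lit 821), (nat_lit 2438), (nat_lit 2439)]))) (.node (.leaf (.cyc (nat_lit 1) [(nat_lit 1460), (nat_lit 242)])) (.leaf (.cyc (nat_lit 7) [(nat_lit 3433), (nat_lit 2506), (nat_lit 1840), (nat_lit 2445), (nat_lit 825), (nat_lit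 826), (nat_lit 1197)])))) (.node (.node (.leaf .df) (.leaf (.cyc (nat_lit 34) [(nat_lit 2497), (nat_lit 2493), (nat_lit 2044), (nat_lit 2056), (nat_lit 1733), (nat_lit 1478), (nat_lit 167), (nat_lit 1312), (nat_lit 162), (nat_lit 457), (nat_lit 1823), (nat_lit 1042), (nat_lit 3029)]))) (.node (.leaf (.cyc (nat_lit 7) [(nat_lit 1514), (nat_lit 2002), (nat_lit 502), (nat_lit 1727), (nat_lit 460), (nat_lit 163), (nat_lit 164), (nat_lit 464)])) (.leaf .df))))))) (.node (.node (.node (.node (.node (.node (.leaf .df) (.leaf (.cyc (nat_lit 6) [(nat_lit 690), (nat_lit 689)]))) (.node (.leaf .df) (.leaf (.cyc (nat_lit 14) [(nat_lit 3044), (nat_lit 1072)])))) (.node (.node (.leaf .df) (.leaf (.cyc (nat_lit 29) [(nat_lit 2429), (nat_lit 2611), (nat_lit 891), (nat_lit 388), (nat_lit 1475), (nat_lit 1477), (nat_lit 1735), (nat_lit 1951), (nat_lit 1952), (nat_lit 1869), (nat_lit 1637), (nat_lit 1527), (nat_lit 712)]))) (.node (.leaf (.cyc (nat_lit 31)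 [(nat_lit 1589), (nat_lit 1587), (nat_lit 153), (nat_lit 1309), (nat_lit 1295), (nat_lit 100), (nat_lit 1353), (nat_lit 37), (nat_lit 35), (nat_lit 119)])) (.leaf (.cyc (nat_lit 35) [(nat_lit 3191), (nat_lit 1095), (nat_lit 1908), (nat_lit 1909), (nat_lit 2641), (nat_lit 2348), (nat_lit 561), (nat_lit 1441), (nat_lit 557), (nat_lit 1049), (nat_lit 3058), (nat_lit 3059), (nat_lit 1224)]))))) (.node (.node (.node (.leaf .df) (.leaf (.cyc (nat_lit 11) [(nat_lit 544), (nat_lit 193), (nat_lit 1361), (nat_lit 105), (nat_lit 316), (nat_lit 785), (nat_lit 2357)]))) (.node (.leaf (.cyc (nat_lit 11) [(nat_lit 80), (nat_lit 22), (nat_lit 1279), (nat_lit 1276), (nat_lit 5), (nat_lit 23), (nat_lit 81)])) (.leaf (.cyc (nat_lit 1) [(nat_lit 3071), (nat_lit 1156)])))) (.node (.node (.leaf .df) (.leaf (.cyc (nat_lit 25) [(nat_lit 2727), (nat_lit 2503), (nat_lit 2793), (nat_lit 967), (nat_lit 2792), (nat_lit 2864), (nat_lit 2868)]))) (.node (.leaf (.cyc (nat_lit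 1) [(nat_lit 1600), (nat_lit 1845)])) (.leaf .df))))) (.node (.node (.node (.node (.leaf .df) (.leaf (.cyc (nat_lit 6) [(nat_lit 2229), (nat_lit 2227)]))) (.node (.leaf .df) (.leaf (.cyc (nat_lit 1) [(nat_lit 3249), (nat_lit 1115)])))) (.node (.node (.leaf .df) (.leaf (.cyc (nat_lit 2) [(nat_lit 950), (nat_lit 949)]))) (.node (.leaf (.cyc (nat_lit 35) [(nat_lit 1645), (nat_lit 1344), (nat_lit 1453), (nat_lit 1298), (nat_lit 111), (nat_lit 1474), (nat_lit 1473), (nat_lit 211), (nat_lit 1456), (nat_lit 1382), (nat_lit 379), (nat_lit 1638), (nat_lit 1704)])) (.leaf (.cyc (nat_lit 16) [(nat_lit 3322), (nat_lit 1139), (nat_lit 3301), (nat_lit 562), (nat_lit 1443), (nat_lit 2537), (nat_lit 616), (nat_lit 2421), (nat_lit 3019), (nat_lit 3608), (nat_lit 1216), (nat_lit 3066), (nat_lit 1258)]))))) (.node (.node (.node (.leaf .df) (.leaf (.cyc (nat_lit 8) [(nat_lit 2436), (nat_lit 2485), (nat_lit 849), (nat_lit 366), (nat_lit 368)]))) (.node (.leaf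 (.cyc (nat_lit 6) [(nat_lit 216), (nat_lit 215)])) (.leaf (.cyc (nat_lit 29) [(nat_lit 3508), (nat_lit 3206), (nat_lit 3207), (nat_lit 2796), (nat_lit 2795), (nat_lit 2627), (nat_lit 1149), (nat_lit 3356), (nat_lit 946), (nat_lit 1692), (nat_lit 1970), (nat_lit 2694), (nat_lit 2478)])))) (.node (.node (.leaf .df) (.leaf (.cyc (nat_lit 4) [(nat_lit 2997), (nat_lit 726), (nat_lit 1531), (nat_lit 723), (nat_lit 2295)]))) (.node (.leaf (.cyc (nat_lit 0) [(nat_lit 1893), (nat_lit 660)])) (.leaf .df)))))) (.node (.node (.node (.node (.node (.leaf .df) (.leaf (.cyc (nat_lit 34) [(nat_lit 651), (nat_lit 240), (nat_lit 241), (nat_lit 1541), (nat_lit 314), (nat_lit 1568), (nat_lit 160), (nat_lit 1311), (nat_lit 1291), (nat_lit 83), (nat_lit 263), (nat_lit 686), (nat_lit 2164)]))) (.node (.leaf .df) (.leaf (.cyc (nat_lit 18) [(nat_lit 2217), (nat_lit 702), (nat_lit 704), (nat_lit 2839), (nat_lit 1095)])))) (.node (.node (.leaf .df) (.leaf (.cyc (nat_lit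 9) [(nat_lit 916), (nat_lit 2677), (nat_lit 2313), (nat_lit 2560), (nat_lit 629)]))) (.node (.leaf (.cyc (nat_lit 13) [(nat_lit 1653), (nat_lit 391), (nat_lit 137), (nat_lit 1317), (nat_lit 1318), (nat_lit 1310), (nat_lit 157)])) (.leaf (.cyc (nat_lit 25) [(nat_lit 1028), (nat_lit 2815), (nat_lit 3021), (nat_lit 3550), (nat_lit 3551), (nat_lit 3615), (nat_lit 3701)]))))) (.node (.node (.node (.leaf .df) (.leaf (.cyc (nat_lit 11) [(nat_lit 375), (nat_lit 128), (nat_lit 38), (nat_lit 35), (nat_lit 120), (nat_lit 349), (nat_lit 822)]))) (.node (.leaf (.cyc (nat_lit 11) [(nat_lit 75), (nat_lit 1305), (nat_lit 42), (nat_lit 11), (nat_lit 12), (nat_lit 46), (nat_lit 149)])) (.leaf (.cyc (nat_lit 41) [(nat_lit 3318), (nat_lit 3445), (nat_lit 3279), (nat_lit 3005), (nat_lit 3004), (nat_lit 2674), (nat_lit 479), (nat_lit 1415), (nat_lit 2451), (nat_lit 350), (nat_lit 348), (nat_lit 2126), (nat_lit 2217), (nat_lit 1168)])))) (.node (.node (.leaf .df)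 (.leaf (.cyc (nat_lit 8) [(nat_lit 1012), (nat_lit 2933), (nat_lit 889), (nat_lit 1649), (nat_lit 893)]))) (.node (.leaf (.cyc (nat_lit 14) [(nat_lit 1906), (nat_lit 602)])) (.leaf .df))))) (.node (.node (.node (.node (.leaf .df) (.leaf (.cyc (nat_lit 16) [(nat_lit 1958), (nat_lit 650), (nat_lit 1492), (nat_lit 149), (nat_lit 46), (nat_lit 1285), (nat_lit 50), (nat_lit 159), (nat_lit 452), (nat_lit 2101), (nat_lit 2103), (nat_lit 1569), (nat_lit 780)]))) (.node (.leaf .df) (.leaf (.cyc (nat_lit 5) [(nat_lit 1137), (nat_lit 1136)])))) (.node (.node (.leaf .df) (.leaf (.cyc (nat_lit 0) [(nat_lit 1738), (nat_lit 972)]))) (.node (.leaf (.cyc (nat_lit 6) [(nat_lit 512), (nat_lit 511)])) (.leaf (.cyc (nat_lit 10) [(nat_lit 3799), (nat_lit 3504), (nat_lit 3505), (nat_lit 3604), (nat_lit 3829)]))))) (.node (.node (.node (.leaf .df) (.leaf (.cyc (nat_lit 4) [(nat_lit 869), (nat_lit 2042), (nat_lit 678), (nat_lit 681), (nat_lit 2494)]))) (.node (.leaf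 (.cyc (nat_lit 6) [(nat_lit 278), (nat_lit 277)])) (.leaf (.cyc (nat_lit 41) [(nat_lit 3424), (nat_lit 932), (nat_lit 2202), (nat_lit 2201), (nat_lit 2159), (nat_lit 145), (nat_lit 1308), (nat_lit 150), (nat_lit 430), (nat_lit 2501), (nat_lit 855), (nat_lit 854), (nat_lit 1206)])))) (.node (.node (.leaf .df) (.leaf (.cyc (nat_lit 41) [(nat_lit 768), (nat_lit 308), (nat_lit 102), (nat_lit 1335), (nat_lit 256), (nat_lit 2010), (nat_lit 2009), (nat_lit 1998), (nat_lit 195), (nat_lit 1322), (nat_lit 199), (nat_lit 557), (nat_lit 1051)]))) (.node (.leaf (.cyc (nat_lit 20) [(nat_lit 466), (nat_lit 2037)])) (.leaf .df))))))))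
noncomputable def c5P0110 : BT Pf := .node c5P01100 c5P01101
noncomputable def c5P01110 : BT Pf := (.node (.node (.node (.node (.node (.node (.node (.leaf .df) (.leaf (.cyc (nat_lit 38) [(nat_lit 2057), (nat_lit 687), (nat_lit 1512), (nat_lit 1678), (nat_lit 1394), (nat_lit 1354), (nat_lit 1349), (nat_lit 114), (nat_lit 1438), (nat_lit 1556), (nat_lit 1407), (nat_lit 1993), (nat_lit 1994)]))) (.node (.leaf .df) (.leaf (.cyc (nat_lit 14) [(nat_lit 2740), (nat_lit 3082)])))) (.node (.node (.leaf .df) (.leaf (.cyc (nat_lit 8) [(nat_lit 1910), (nat_lit 1737), (nat_lit 2014), (nat_lit 2017), (nat_lit 2573), (nat_lit 2571)]))) (.node (.leaf (.cyc (nat_lit 21) [(nat_lit 255), (nat_lit 1549), (nat_lit 1501)])) (.leaf (.cyc (nat_lit 8) [(nat_lit 1212), (nat_lit 2688), (nat_lit 908), (nat_lit 906), (nat_lit 3565)]))))) (.node (.node (.node (.leaf .df) (.leaf (.cyc (nat_lit 0) [(nat_lit 1987), (nat_lit 795)]))) (.node (.leaf (.cyc (nat_lit 4) [(nat_lit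 1285), (nat_lit 1290), (nat_lit 22), (nat_lit 1281), (nat_lit 27)])) (.leaf (.cyc (nat_lit 4) [(nat_lit 1145), (nat_lit 668), (nat_lit 2223), (nat_lit 1685), (nat_lit 715)])))) (.node (.node (.leaf .df) (.leaf (.cyc (nat_lit 2) [(nat_lit 982), (nat_lit 1852)]))) (.node (.leaf (.cyc (nat_lit 5) [(nat_lit 525), (nat_lit 524)])) (.leaf .df))))) (.node (.node (.node (.node (.leaf .df) (.leaf (.cyc (nat_lit 3) [(nat_lit 610), (nat_lit 2026), (nat_lit 2028), (nat_lit 1931), (nat_lit 2189), (nat_lit 724)]))) (.node (.leaf .df) (.leaf (.cyc (nat_lit 3) [(nat_lit 3075), (nat_lit 3077), (nat_lit 607), (nat_lit 608), (nat_lit 1101)])))) (.node (.node (.leaf .df) (.leaf (.cyc (nat_lit 4) [(nat_lit 925), (nat_lit 2408), (nat_lit 1415), (nat_lit 480), (nat_lit 2452)]))) (.node (.leaf (.cyc (nat_lit 0) [(nat_lit 417), (nat_lit 1677)])) (.leaf (.cyc (nat_lit 10) [(nat_lit 3692), (nat_lit 2826), (nat_lit 3484), (nat_lit 3480), (nat_lit 1247)]))))) (.node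 (.node (.node (.leaf .df) (.leaf (.cyc (nat_lit 3) [(nat_lit 1607), (nat_lit 825), (nat_lit 2445), (nat_lit 1840), (nat_lit 483), (nat_lit 485)]))) (.node (.leaf (.cyc (nat_lit 3) [(nat_lit 162), (nat_lit 51), (nat_lit 1286), (nat_lit 56), (nat_lit 181)])) (.leaf (.cyc (nat_lit 0) [(nat_lit 3433), (nat_lit 3467)])))) (.node (.node (.leaf .df) (.leaf (.cyc (nat_lit 4) [(nat_lit 652), (nat_lit 649), (nat_lit 2260), (nat_lit 2955), (nat_lit 2957)]))) (.node (.leaf (.cyc (nat_lit 3) [(nat_lit 1926), (nat_lit 615), (nat_lit 226), (nat_lit 228), (nat_lit 624)])) (.leaf .df)))))) (.node (.node (.node (.node (.node (.leaf .df) (.leaf (.cyc (nat_lit 16) [(nat_lit 348), (nat_lit 350), (nat_lit 1712), (nat_lit 575), (nat_lit 1872), (nat_lit 324), (nat_lit 108), (nat_lit 1298), (nat_lit 112), (nat_lit 1525), (nat_lit 1341), (nat_lit 272), (nat_lit 702)]))) (.node (.leaf .df) (.leaf (.cyc (nat_lit 28) [(nat_lit 1080), (nat_lit 584), (nat_lit 214), (nat_lit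 1326), (nat_lit 218), (nat_lit 593), (nat_lit 2573)])))) (.node (.node (.leaf .df) (.leaf (.cyc (nat_lit 11) [(nat_lit 796), (nat_lit 321), (nat_lit 1365), (nat_lit 325), (nat_lit 798), (nat_lit 2368), (nat_lit 2636)]))) (.node (.leaf (.cyc (nat_lit 14) [(nat_lit 1593), (nat_lit 360)])) (.leaf (.cyc (nat_lit 16) [(nat_lit 1002), (nat_lit 2912), (nat_lit 2919), (nat_lit 1004), (nat_lit 1778), (nat_lit 1009), (nat_lit 2927), (nat_lit 854), (nat_lit 2486), (nat_lit 2432), (nat_lit 1688), (nat_lit 935), (nat_lit 1231)]))))) (.node (.node (.node (.leaf .df) (.leaf (.cyc (nat_lit 14) [(nat_lit 1894), (nat_lit 813)]))) (.node (.leaf (.cyc (nat_lit 6) [(nat_lit 104), (nat_lit 1335)])) (.leaf (.cyc (nat_lit 6) [(nat_lit 1160), (nat_lit 3014)])))) (.node (.node (.leaf .df) (.leaf (.cyc (nat_lit 25) [(nat_lit 2307), (nat_lit 330), (nat_lit 327), (nat_lit 2560), (nat_lit 1471), (nat_lit 626), (nat_lit 2893)]))) (.node (.leaf (.cyc (nat_lit 28) [(nat_lit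 1868), (nat_lit 575), (nat_lit 1704), (nat_lit 1718), (nat_lit 187), (nat_lit 189), (nat_lit 533)])) (.leaf .df))))) (.node (.node (.node (.node (.leaf .df) (.leaf (.cyc (nat_lit 5) [(nat_lit 747), (nat_lit 1931)]))) (.node (.leaf .df) (.leaf (.cyc (nat_lit 8) [(nat_lit 1046), (nat_lit 1831), (nat_lit 1830), (nat_lit 2851), (nat_lit 3276)])))) (.node (.node (.leaf .df) (.leaf (.cyc (nat_lit 1) [(nat_lit 2706), (nat_lit 2765)]))) (.node (.leaf (.cyc (nat_lit 5) [(nat_lit 1741), (nat_lit 1641)])) (.leaf (.cyc (nat_lit 10) [(nat_lit 3523), (nat_lit 3526), (nat_lit 3217), (nat_lit 3185), (nat_lit 1264)]))))) (.node (.node (.node (.leaf .df) (.leaf (.cyc (nat_lit 10) [(nat_lit 778), (nat_lit 312), (nat_lit 310), (nat_lit 1627), (nat_lit 858)]))) (.node (.leaf (.cyc (nat_lit 8) [(nat_lit 98), (nat_lit 1309), (nat_lit 153), (nat_lit 1485), (nat_lit 204), (nat_lit 205)])) (.leaf (.cyc (nat_lit 9) [(nat_lit 3533), (nat_lit 821), (nat_lit 1628), (nat_lit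 861), (nat_lit 3098)])))) (.node (.node (.leaf .df) (.leaf (.cyc (nat_lit 11) [(nat_lit 2811), (nat_lit 2961), (nat_lit 2962), (nat_lit 2951), (nat_lit 539), (nat_lit 537), (nat_lit 1040)]))) (.node (.leaf (.cyc (nat_lit 23) [(nat_lit 550), (nat_lit 1997)])) (.leaf .df))))))) (.node (.node (.node (.node (.node (.node (.leaf .df) (.leaf (.cyc (nat_lit 13) [(nat_lit 518), (nat_lit 2093), (nat_lit 121), (nat_lit 35), (nat_lit 37), (nat_lit 126), (nat_lit 370)]))) (.node (.leaf .df) (.leaf (.cyc (nat_lit 20) [(nat_lit 3016), (nat_lit 3117)])))) (.node (.node (.leaf .df) (.leaf (.cyc (nat_lit 47) [(nat_lit 652), (nat_lit 240), (nat_lit 1330), (nat_lit 237), (nat_lit 1480), (nat_lit 546), (nat_lit 2457), (nat_lit 2463), (nat_lit 2464), (nat_lit 1786), (nat_lit 1783), (nat_lit 1784), (nat_lit 890)]))) (.node (.leaf (.cyc (nat_lit 6) [(nat_lit 332), (nat_lit 1447)])) (.leaf (.cyc (nat_lit 43) [(nat_lit 1170), (nat_lit 2268), (nat_lit 1560), (nat_lit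 2113), (nat_lit 1560), (nat_lit 752), (nat_lit 2266), (nat_lit 2344), (nat_lit 2519), (nat_lit 2656), (nat_lit 908), (nat_lit 906), (nat_lit 1222)]))))) (.node (.node (.node (.leaf .df) (.leaf (.cyc (nat_lit 8) [(nat_lit 742), (nat_lit 1845), (nat_lit 558), (nat_lit 561), (nat_lit 2348), (nat_lit 804)]))) (.node (.leaf (.cyc (nat_lit 2) [(nat_lit 69), (nat_lit 68)])) (.leaf (.cyc (nat_lit 29) [(nat_lit 963), (nat_lit 2038), (nat_lit 164), (nat_lit 163), (nat_lit 459), (nat_lit 1726), (nat_lit 171), (nat_lit 169), (nat_lit 2462), (nat_lit 2161), (nat_lit 2162), (nat_lit 2107), (nat_lit 1153)])))) (.node (.node (.leaf .df) (.leaf (.cyc (nat_lit 34) [(nat_lit 990), (nat_lit 1763), (nat_lit 307), (nat_lit 309), (nat_lit 1629), (nat_lit 1628), (nat_lit 820), (nat_lit 2417), (nat_lit 2432), (nat_lit 2502), (nat_lit 2504), (nat_lit 525), (nat_lit 526)]))) (.node (.leaf (.cyc (nat_lit 8) [(nat_lit 1719), (nat_lit 540), (nat_lit 1834), (nat_lit 552),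 (nat_lit 554)])) (.leaf .df))))) (.node (.node (.node (.node (.leaf .df) (.leaf (.cyc (nat_lit 27) [(nat_lit 1682), (nat_lit 2221)]))) (.node (.leaf .df) (.leaf (.cyc (nat_lit 1) [(nat_lit 3225), (nat_lit 1113)])))) (.node (.node (.leaf .df) (.leaf (.cyc (nat_lit 5) [(nat_lit 944), (nat_lit 1976)]))) (.node (.leaf (.cyc (nat_lit 6) [(nat_lit 1709), (nat_lit 450)])) (.leaf (.cyc (nat_lit 4) [(nat_lit 1220), (nat_lit 2683), (nat_lit 2684), (nat_lit 1039), (nat_lit 1256)]))))) (.node (.node (.node (.leaf .df) (.leaf (.cyc (nat_lit 5) [(nat_lit 846), (nat_lit 845)]))) (.node (.leaf (.cyc (nat_lit 24) [(nat_lit 1367), (nat_lit 1451)])) (.leaf (.cyc (nat_lit 0) [(nat_lit 3459), (nat_lit 1187)])))) (.node (.node (.leaf .df) (.leaf (.cyc (nat_lit 7) [(nat_lit 1029), (nat_lit 1790), (nat_lit 1791), (nat_lit 1570), (nat_lit 1500), (nat_lit 669), (nat_lit 2623)]))) (.node (.leaf (.cyc (nat_lit 4) [(nat_lit 655), (nat_lit 1494), (nat_lit 582), (nat_lit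 1892), (nat_lit 1836)])) (.leaf .df)))))) (.node (.node (.node (.node (.node (.leaf .df) (.leaf (.cyc (nat_lit 25) [(nat_lit 301), (nat_lit 1350), (nat_lit 86), (nat_lit 1292), (nat_lit 91), (nat_lit 284), (nat_lit 2155), (nat_lit 1674)]))) (.node (.leaf .df) (.leaf (.cyc (nat_lit 25) [(nat_lit 653), (nat_lit 1493), (nat_lit 372), (nat_lit 859), (nat_lit 3036), (nat_lit 1975), (nat_lit 1092)])))) (.node (.node (.leaf .df) (.leaf (.cyc (nat_lit 46) [(nat_lit 700), (nat_lit 271), (nat_lit 273), (nat_lit 2110), (nat_lit 1846), (nat_lit 1843), (nat_lit 1861), (nat_lit 1522), (nat_lit 139), (nat_lit 1307), (nat_lit 142), (nat_lit 405), (nat_lit 915)]))) (.node (.leaf (.cyc (nat_lit 6) [(nat_lit 384), (nat_lit 383)])) (.leaf (.cyc (nat_lit 8) [(nat_lit 3057), (nat_lit 1213), (nat_lit 3601), (nat_lit 3024), (nat_lit 1239)]))))) (.node (.node (.node (.leaf .df) (.leaf (.cyc (nat_lit 2) [(nat_lit 818), (nat_lit 817)]))) (.node (.leaf (.cyc (nat_lit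 11) [(nat_lit 131), (nat_lit 129), (nat_lit 1378), (nat_lit 46), (nat_lit 1285), (nat_lit 49), (nat_lit 1389)])) (.leaf (.cyc (nat_lit 6) [(nat_lit 3436), (nat_lit 3158)])))) (.node (.node (.leaf .df) (.leaf (.cyc (nat_lit 14) [(nat_lit 2924), (nat_lit 1009)]))) (.node (.leaf (.cyc (nat_lit 2) [(nat_lit 592), (nat_lit 591)])) (.leaf .df))))) (.node (.node (.node (.node (.leaf .df) (.leaf (.cyc (nat_lit 6) [(nat_lit 768), (nat_lit 767)]))) (.node (.leaf .df) (.leaf (.cyc (nat_lit 25) [(nat_lit 863), (nat_lit 865), (nat_lit 2525), (nat_lit 2509), (nat_lit 1971), (nat_lit 1973), (nat_lit 1133)])))) (.node (.node (.leaf .df) (.leaf (.cyc (nat_lit 0) [(nat_lit 1812), (nat_lit 968)]))) (.node (.leaf (.cyc (nat_lit 35) [(nat_lit 497), (nat_lit 174), (nat_lit 54), (nat_lit 14), (nat_lit 3), (nat_lit 1275), (nat_lit 0), (nat_lit 4), (nat_lit 19), (nat_lit 70), (nat_lit 221), (nat_lit 1465), (nat_lit 249)])) (.leaf (.cyc (nat_lit 25) [(nat_lit 3812),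 (nat_lit 3788), (nat_lit 3755), (nat_lit 3756), (nat_lit 3803), (nat_lit 3802), (nat_lit 3821)]))))) (.node (.node (.node (.leaf .df) (.leaf (.cyc (nat_lit 34) [(nat_lit 868), (nat_lit 377), (nat_lit 1609), (nat_lit 1611), (nat_lit 179), (nat_lit 56), (nat_lit 15), (nat_lit 17), (nat_lit 62), (nat_lit 196), (nat_lit 554), (nat_lit 2066), (nat_lit 1989)]))) (.node (.leaf (.cyc (nat_lit 3) [(nat_lit 116), (nat_lit 1300), (nat_lit 1351), (nat_lit 1340), (nat_lit 270)])) (.leaf (.cyc (nat_lit 14) [(nat_lit 3510), (nat_lit 1204)])))) (.node (.node (.leaf .df) (.leaf (.cyc (nat_lit 8) [(nat_lit 665), (nat_lit 1701), (nat_lit 961), (nat_lit 3053), (nat_lit 3051)]))) (.node (.leaf (.cyc (nat_lit 27) [(nat_lit 1697), (nat_lit 2022), (nat_lit 1660)])) (.leaf .df))))))))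
noncomputable def c5P01111 : BT Pf := (.node (.node (.node (.node (.node (.node (.node (.leaf .df) (.leaf (.cyc (nat_lit 24) [(nat_lit 472), (nat_lit 2076)]))) (.node (.leaf .df) (.leaf (.cyc (nat_lit 8) [(nat_lit 1065), (nat_lit 2858), (nat_lit 2972), (nat_lit 1022), (nat_lit 1024)])))) (.node (.node (.leaf .df) (.leaf (.cyc (nat_lit 33) [(nat_lit 430), (nat_lit 2501), (nat_lit 2504), (nat_lit 525), (nat_lit 1426), (nat_lit 1742), (nat_lit 794), (nat_lit 2589), (nat_lit 885), (nat_lit 883)]))) (.node (.leaf (.cyc (nat_lit 2) [(nat_lit 312), (nat_lit 311)])) (.leaf (.cyc (nat_lit 8) [(nat_lit 1139), (nat_lit 3302), (nat_lit 2916), (nat_lit 3299), (nat_lit 1218)]))))) (.node (.node (.node (.leaf .df) (.leaf (.cyc (nat_lit 29) [(nat_lit 733), (nat_lit 1534), (nat_lit 2164), (nat_lit 686), (nat_lit 263), (nat_lit 2024), (nat_lit 2020), (nat_lit 2014), (nat_lit 1479), (nat_lit 1954), (nat_lit 1606), (nat_lit 2332), (nat_lit 623)]))) (.node (.leaf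 (.cyc (nat_lit 5) [(nat_lit 49), (nat_lit 48)])) (.leaf (.cyc (nat_lit 8) [(nat_lit 1149), (nat_lit 2627), (nat_lit 2795), (nat_lit 2796), (nat_lit 2487)])))) (.node (.node (.leaf .df) (.leaf (.cyc (nat_lit 20) [(nat_lit 2844), (nat_lit 2845)]))) (.node (.leaf (.cyc (nat_lit 2) [(nat_lit 539), (nat_lit 538)])) (.leaf .df))))) (.node (.node (.node (.node (.leaf .df) (.leaf (.cyc (nat_lit 1) [(nat_lit 2161), (nat_lit 731)]))) (.node (.leaf .df) (.leaf (.cyc (nat_lit 19) [(nat_lit 1107), (nat_lit 3228)])))) (.node (.node (.leaf .df) (.leaf (.cyc (nat_lit 5) [(nat_lit 935), (nat_lit 934)]))) (.node (.leaf (.cyc (nat_lit 2) [(nat_lit 437), (nat_lit 436)])) (.leaf (.cyc (nat_lit 2) [(nat_lit 1251), (nat_lit 1250)]))))) (.node (.node (.node (.leaf .df) (.leaf (.cyc (nat_lit 24) [(nat_lit 481), (nat_lit 2460)]))) (.node (.leaf (.cyc (nat_lit 19) [(nat_lit 1436), (nat_lit 1437)])) (.leaf (.cyc (nat_lit 2) [(nat_lit 1183), (nat_lit 2898)])))) (.node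 (.node (.leaf .df) (.leaf (.cyc (nat_lit 11) [(nat_lit 1848), (nat_lit 1876), (nat_lit 1878), (nat_lit 920), (nat_lit 2971), (nat_lit 1021), (nat_lit 1023)]))) (.node (.leaf (.cyc (nat_lit 5) [(nat_lit 642), (nat_lit 641)])) (.leaf .df)))))) (.node (.node (.node (.node (.node (.leaf .df) (.leaf (.cyc (nat_lit 10) [(nat_lit 289), (nat_lit 92), (nat_lit 89), (nat_lit 279), (nat_lit 714)]))) (.node (.leaf .df) (.leaf (.cyc (nat_lit 6) [(nat_lit 1086), (nat_lit 1085)])))) (.node (.node (.leaf .df) (.leaf (.cyc (nat_lit 16) [(nat_lit 2390), (nat_lit 2265), (nat_lit 1722), (nat_lit 339), (nat_lit 117), (nat_lit 1299), (nat_lit 1289), (nat_lit 73), (nat_lit 234), (nat_lit 2014), (nat_lit 1675), (nat_lit 2374), (nat_lit 2653)]))) (.node (.leaf (.cyc (nat_lit 2) [(nat_lit 375), (nat_lit 374)])) (.leaf (.cyc (nat_lit 3) [(nat_lit 3675), (nat_lit 3676), (nat_lit 3672), (nat_lit 3630), (nat_lit 3457)]))))) (.node (.node (.node (.leaf .df) (.leaf (.cyc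 (nat_lit 21) [(nat_lit 754), (nat_lit 2396)]))) (.node (.leaf (.cyc (nat_lit 2) [(nat_lit 125), (nat_lit 124)])) (.leaf (.cyc (nat_lit 37) [(nat_lit 2455), (nat_lit 2461), (nat_lit 1533), (nat_lit 2144), (nat_lit 1827), (nat_lit 2492), (nat_lit 2547), (nat_lit 2545), (nat_lit 2546), (nat_lit 995), (nat_lit 3420), (nat_lit 3421), (nat_lit 2889)])))) (.node (.node (.leaf .df) (.leaf (.cyc (nat_lit 5) [(nat_lit 1003), (nat_lit 1002)]))) (.node (.leaf (.cyc (nat_lit 19) [(nat_lit 406), (nat_lit 1884)])) (.leaf .df))))) (.node (.node (.node (.node (.leaf .df) (.leaf (.cyc (nat_lit 5) [(nat_lit 756), (nat_lit 755)]))) (.node (.leaf .df) (.leaf (.cyc (nat_lit 43) [(nat_lit 1108), (nat_lit 614), (nat_lit 225), (nat_lit 71), (nat_lit 1288), (nat_lit 66), (nat_lit 209), (nat_lit 577), (nat_lit 1071), (nat_lit 3124), (nat_lit 1973), (nat_lit 1971), (nat_lit 1128)])))) (.node (.node (.leaf .df) (.leaf (.cyc (nat_lit 4) [(nat_lit 924), (nat_lit 2011),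 (nat_lit 463), (nat_lit 2038), (nat_lit 963)]))) (.node (.leaf (.cyc (nat_lit 8) [(nat_lit 460), (nat_lit 1410), (nat_lit 1422), (nat_lit 1756), (nat_lit 364)])) (.leaf (.cyc (nat_lit 10) [(nat_lit 3676), (nat_lit 3673), (nat_lit 3232), (nat_lit 1137), (nat_lit 1268)]))))) (.node (.node (.node (.leaf .df) (.leaf (.cyc (nat_lit 1) [(nat_lit 2426), (nat_lit 866)]))) (.node (.leaf (.cyc (nat_lit 5) [(nat_lit 253), (nat_lit 252)])) (.leaf (.cyc (nat_lit 8) [(nat_lit 1199), (nat_lit 2429), (nat_lit 2245), (nat_lit 1034), (nat_lit 3020)])))) (.node (.node (.leaf .df) (.leaf (.cyc (nat_lit 9) [(nat_lit 2539), (nat_lit 2040), (nat_lit 2043), (nat_lit 1829), (nat_lit 1044)]))) (.node (.leaf (.cyc (nat_lit 27) [(nat_lit 1904), (nat_lit 2013)])) (.leaf .df))))))) (.node (.node (.node (.node (.node (.node (.leaf .df) (.leaf (.cyc (nat_lit 5) [(nat_lit 2109), (nat_lit 2108)]))) (.node (.leaf .df) (.leaf (.cyc (nat_lit 16) [(nat_lit 3017), (nat_lit 2235),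 (nat_lit 2237), (nat_lit 529), (nat_lit 188), (nat_lit 58), (nat_lit 56), (nat_lit 179), (nat_lit 1611), (nat_lit 356), (nat_lit 359), (nat_lit 2470), (nat_lit 3132)])))) (.node (.node (.leaf .df) (.leaf (.cyc (nat_lit 13) [(nat_lit 2215), (nat_lit 2214), (nat_lit 1963), (nat_lit 2606), (nat_lit 890), (nat_lit 1649), (nat_lit 894)]))) (.node (.leaf (.cyc (nat_lit 2) [(nat_lit 341), (nat_lit 340)])) (.leaf (.cyc (nat_lit 43) [(nat_lit 3433), (nat_lit 2506), (nat_lit 1840), (nat_lit 3050), (nat_lit 225), (nat_lit 227), (nat_lit 621), (nat_lit 3174), (nat_lit 3175), (nat_lit 3017), (nat_lit 1038), (nat_lit 2684), (nat_lit 1226)]))))) (.node (.node (.node (.leaf .df) (.leaf (.cyc (nat_lit 4) [(nat_lit 1671), (nat_lit 1672), (nat_lit 1586), (nat_lit 1666), (nat_lit 2365)]))) (.node (.leaf (.cyc (nat_lit 6) [(nat_lit 90), (nat_lit 89)])) (.leaf (.cyc (nat_lit 1) [(nat_lit 3342), (nat_lit 3389)])))) (.node (.node (.leaf .df) (.leaf (.cyc (nat_lit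 19) [(nat_lit 774), (nat_lit 2877), (nat_lit 2850)]))) (.node (.leaf (.cyc (nat_lit 2) [(nat_lit 570), (nat_lit 569)])) (.leaf .df))))) (.node (.node (.node (.node (.leaf .df) (.leaf (.cyc (nat_lit 26) [(nat_lit 2095), (nat_lit 1640), (nat_lit 2231), (nat_lit 2229), (nat_lit 2234), (nat_lit 705), (nat_lit 1519), (nat_lit 698)]))) (.node (.leaf .df) (.leaf (.cyc (nat_lit 6) [(nat_lit 1117), (nat_lit 2387)])))) (.node (.node (.leaf .df) (.leaf (.cyc (nat_lit 37) [(nat_lit 2749), (nat_lit 1762), (nat_lit 2401), (nat_lit 2399), (nat_lit 952), (nat_lit 2749), (nat_lit 2406), (nat_lit 419), (nat_lit 421), (nat_lit 2177), (nat_lit 721), (nat_lit 1602), (nat_lit 2169)]))) (.node (.leaf (.cyc (nat_lit 9) [(nat_lit 459), (nat_lit 163), (nat_lit 51), (nat_lit 53), (nat_lit 171)])) (.leaf (.cyc (nat_lit 7) [(nat_lit 3670), (nat_lit 3561), (nat_lit 3480), (nat_lit 3478), (nat_lit 3479), (nat_lit 3089), (nat_lit 1261)]))))) (.node (.node (.node (.leaf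 .df) (.leaf (.cyc (nat_lit 11) [(nat_lit 844), (nat_lit 2431), (nat_lit 2436), (nat_lit 2435), (nat_lit 851), (nat_lit 2493), (nat_lit 2044)]))) (.node (.leaf (.cyc (nat_lit 6) [(nat_lit 228), (nat_lit 227)])) (.leaf (.cyc (nat_lit 4) [(nat_lit 3147), (nat_lit 2118), (nat_lit 2136), (nat_lit 2379), (nat_lit 1191)])))) (.node (.node (.leaf .df) (.leaf (.cyc (nat_lit 37) [(nat_lit 3005), (nat_lit 3003), (nat_lit 2883), (nat_lit 776), (nat_lit 311), (nat_lit 1357), (nat_lit 306), (nat_lit 2532), (nat_lit 615), (nat_lit 226), (nat_lit 1328), (nat_lit 232), (nat_lit 635)]))) (.node (.leaf (.cyc (nat_lit 2) [(nat_lit 670), (nat_lit 669)])) (.leaf .df)))))) (.node (.node (.node (.node (.node (.leaf .df) (.leaf (.cyc (nat_lit 22) [(nat_lit 593), (nat_lit 218), (nat_lit 220), (nat_lit 2035), (nat_lit 1416), (nat_lit 487), (nat_lit 1851), (nat_lit 2171), (nat_lit 2173)]))) (.node (.leaf .df) (.leaf (.cyc (nat_lit 3) [(nat_lit 2556), (nat_lit 2553),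 (nat_lit 1944), (nat_lit 1915), (nat_lit 1097)])))) (.node (.node (.leaf .df) (.leaf (.cyc (nat_lit 4) [(nat_lit 2580), (nat_lit 2581), (nat_lit 1842), (nat_lit 1672), (nat_lit 920)]))) (.node (.leaf (.cyc (nat_lit 2) [(nat_lit 399), (nat_lit 1527)])) (.leaf (.cyc (nat_lit 1) [(nat_lit 3309), (nat_lit 3708)]))))) (.node (.node (.node (.leaf .df) (.leaf (.cyc (nat_lit 14) [(nat_lit 2340), (nat_lit 830)]))) (.node (.leaf (.cyc (nat_lit 2) [(nat_lit 158), (nat_lit 157)])) (.leaf (.cyc (nat_lit 8) [(nat_lit 2584), (nat_lit 3064), (nat_lit 767), (nat_lit 765), (nat_lit 1174)])))) (.node (.node (.leaf .df) (.leaf (.cyc (nat_lit 8) [(nat_lit 2940), (nat_lit 2931), (nat_lit 1012), (nat_lit 506), (nat_lit 508)]))) (.node (.leaf (.cyc (nat_lit 5) [(nat_lit 607), (nat_lit 606)])) (.leaf .df))))) (.node (.node (.node (.node (.leaf .df) (.leaf (.cyc (nat_lit 27) [(nat_lit 540), (nat_lit 2301)]))) (.node (.leaf (.cyc (nat_lit 2) [(nat_lit 4), (nat_lit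 3)])) (.leaf (.cyc (nat_lit 3) [(nat_lit 3141), (nat_lit 960), (nat_lit 1701), (nat_lit 665), (nat_lit 1141)])))) (.node (.node (.leaf .df) (.leaf (.cyc (nat_lit 41) [(nat_lit 2812), (nat_lit 2612), (nat_lit 390), (nat_lit 392), (nat_lit 1890), (nat_lit 2227), (nat_lit 2234), (nat_lit 705), (nat_lit 703), (nat_lit 2361), (nat_lit 2364), (nat_lit 2365), (nat_lit 912)]))) (.node (.leaf (.cyc (nat_lit 2) [(nat_lit 520), (nat_lit 519)])) (.leaf .df)))) (.node (.node (.node (.leaf .df) (.leaf (.cyc (nat_lit 23) [(nat_lit 2346), (nat_lit 2555), (nat_lit 631)]))) (.node (.leaf (.cyc (nat_lit 6) [(nat_lit 290), (nat_lit 289)])) (.leaf (.cyc (nat_lit 5) [(nat_lit 3581), (nat_lit 2970)])))) (.node (.node (.leaf .df) (.leaf (.cyc (nat_lit 14) [(nat_lit 2122), (nat_lit 1052)]))) (.node (.leaf (.cyc (nat_lit 13) [(nat_lit 2043), (nat_lit 679), (nat_lit 258), (nat_lit 1504), (nat_lit 1676), (nat_lit 1677), (nat_lit 684)])) (.leaf .df))))))))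
noncomputable def c5P0111 : BT Pf := .node c5P01110 c5P01111
noncomputable def c5P011 : BT Pf := .node c5P0110 c5P0111
noncomputable def c5P01 : BT Pf := .node c5P010 c5P011
noncomputable def c5P0 : BT Pf := .node c5P00 c5P01
noncomputable def c5P10000 : BT Pf := (.node (.node (.node (.node (.node (.node (.node (.leaf .df) (.leaf (.cyc (nat_lit 22) [(nat_lit 1582), (nat_lit 1448), (nat_lit 1659), (nat_lit 1660), (nat_lit 219), (nat_lit 2025), (nat_lit 263), (nat_lit 686), (nat_lit 2048)]))) (.node (.leaf .df) (.leaf (.cyc (nat_lit 2) [(nat_lit 1055), (nat_lit 1054)])))) (.node (.node (.leaf .df) (.leaf (.cyc (nat_lit 2) [(nat_lit 871), (nat_lit 870)]))) (.node (.leaf (.cyc (nat_lit 10) [(nat_lit 135), (nat_lit 40), (nat_lit 1293), (nat_lit 94), (nat_lit 294)])) (.leaf (.cyc (nat_lit 9) [(nat_lit 3346), (nat_lit 3451), (nat_lit 3450), (nat_lit 2516), (nat_lit 1209)]))))) (.node (.node (.node (.leaf .df) (.leaf (.cyc (nat_lit 21) [(nat_lit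 1834), (nat_lit 2301)]))) (.node (.leaf (.cyc (nat_lit 1) [(nat_lit 1279), (nat_lit 7)])) (.leaf (.cyc (nat_lit 3) [(nat_lit 3324), (nat_lit 2736), (nat_lit 3223), (nat_lit 3246), (nat_lit 3328)])))) (.node (.node (.leaf .df) (.leaf (.cyc (nat_lit 4) [(nat_lit 844), (nat_lit 1620), (nat_lit 846), (nat_lit 2696), (nat_lit 974)]))) (.node (.leaf (.cyc (nat_lit 22) [(nat_lit 322), (nat_lit 108), (nat_lit 1298), (nat_lit 1327), (nat_lit 221), (nat_lit 1465), (nat_lit 249), (nat_lit 1570), (nat_lit 1791), (nat_lit 1792)])) (.leaf .df))))) (.node (.node (.node (.node (.leaf .df) (.leaf (.cyc (nat_lit 41) [(nat_lit 421), (nat_lit 147), (nat_lit 45), (nat_lit 1294), (nat_lit 1295), (nat_lit 100), (nat_lit 1353), (nat_lit 1355), (nat_lit 1309), (nat_lit 1295), (nat_lit 1352), (nat_lit 282), (nat_lit 721)]))) (.node (.leaf .df) (.leaf (.cyc (nat_lit 9) [(nat_lit 1076), (nat_lit 1891), (nat_lit 1892), (nat_lit 1917), (nat_lit 1098)])))) (.node (.node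 (.leaf .df) (.leaf (.cyc (nat_lit 13) [(nat_lit 1979), (nat_lit 432), (nat_lit 151), (nat_lit 1308), (nat_lit 145), (nat_lit 413), (nat_lit 921)]))) (.node (.leaf (.cyc (nat_lit 2) [(nat_lit 402), (nat_lit 401)])) (.leaf (.cyc (nat_lit 2) [(nat_lit 1244), (nat_lit 3420)]))))) (.node (.node (.node (.leaf .df) (.leaf (.cyc (nat_lit 5) [(nat_lit 2432), (nat_lit 2431)]))) (.node (.leaf (.cyc (nat_lit 4) [(nat_lit 161), (nat_lit 50), (nat_lit 49), (nat_lit 1319), (nat_lit 1320)])) (.leaf (.cyc (nat_lit 2) [(nat_lit 1175), (nat_lit 3440)])))) (.node (.node (.leaf .df) (.leaf (.cyc (nat_lit 4) [(nat_lit 904), (nat_lit 2097), (nat_lit 2862), (nat_lit 2944), (nat_lit 2941)]))) (.node (.leaf (.cyc (nat_lit 25) [(nat_lit 260), (nat_lit 262), (nat_lit 1678), (nat_lit 1394), (nat_lit 1375), (nat_lit 369), (nat_lit 1920)])) (.leaf .df)))))) (.node (.node (.node (.node (.node (.leaf .df) (.leaf (.cyc (nat_lit 25) [(nat_lit 303), (nat_lit 1515), (nat_lit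 1516), (nat_lit 2111), (nat_lit 1722), (nat_lit 1723), (nat_lit 1560)]))) (.node (.leaf .df) (.leaf (.cyc (nat_lit 11) [(nat_lit 3068), (nat_lit 938), (nat_lit 2967), (nat_lit 2966), (nat_lit 762), (nat_lit 2530), (nat_lit 1075)])))) (.node (.node (.leaf .df) (.leaf (.cyc (nat_lit 2) [(nat_lit 896), (nat_lit 2612)]))) (.node (.leaf (.cyc (nat_lit 2) [(nat_lit 345), (nat_lit 344)])) (.leaf (.cyc (nat_lit 2) [(nat_lit 1227), (nat_lit 1226)]))))) (.node (.node (.node (.leaf .df) (.leaf (.cyc (nat_lit 0) [(nat_lit 2365), (nat_lit 2368)]))) (.node (.leaf (.cyc (nat_lit 2) [(nat_lit 96), (nat_lit 95)])) (.leaf (.cyc (nat_lit 14) [(nat_lit 3381), (nat_lit 3392)])))) (.node (.node (.leaf .df) (.leaf (.cyc (nat_lit 19) [(nat_lit 773), (nat_lit 2879)]))) (.node (.leaf (.cyc (nat_lit 9) [(nat_lit 573), (nat_lit 207), (nat_lit 66), (nat_lit 68), (nat_lit 215)])) (.leaf .df))))) (.node (.node (.node (.node (.leaf .df) (.leaf (.cyc (nat_lit 9) [(nat_lit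 1923), (nat_lit 1578), (nat_lit 1625), (nat_lit 1626), (nat_lit 2239)]))) (.node (.leaf .df) (.leaf (.cyc (nat_lit 25) [(nat_lit 2421), (nat_lit 616), (nat_lit 226), (nat_lit 1328), (nat_lit 230), (nat_lit 629), (nat_lit 1118)])))) (.node (.node (.leaf .df) (.leaf (.cyc (nat_lit 1) [(nat_lit 2710), (nat_lit 2752)]))) (.node (.leaf (.cyc (nat_lit 2) [(nat_lit 462), (nat_lit 461)])) (.leaf (.cyc (nat_lit 4) [(nat_lit 3711), (nat_lit 3323), (nat_lit 3716), (nat_lit 3731), (nat_lit 3776)]))))) (.node (.node (.node (.leaf .df) (.leaf (.cyc (nat_lit 2) [(nat_lit 852), (nat_lit 851)]))) (.node (.leaf (.cyc (nat_lit 1) [(nat_lit 1458), (nat_lit 233)])) (.leaf (.cyc (nat_lit 28) [(nat_lit 1191), (nat_lit 2379), (nat_lit 2136), (nat_lit 2763), (nat_lit 955), (nat_lit 1699), (nat_lit 958)])))) (.node (.node (.leaf .df) (.leaf (.cyc (nat_lit 24) [(nat_lit 979), (nat_lit 3007)]))) (.node (.leaf (.cyc (nat_lit 8) [(nat_lit 672), (nat_lit 252), (nat_lit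 1552), (nat_lit 1467), (nat_lit 604)])) (.leaf .df))))))) (.node (.node (.node (.node (.node (.node (.leaf .df) (.leaf (.cyc (nat_lit 23) [(nat_lit 1986), (nat_lit 2079)]))) (.node (.leaf .df) (.leaf (.cyc (nat_lit 14) [(nat_lit 3102), (nat_lit 3104)])))) (.node (.node (.leaf .df) (.leaf (.cyc (nat_lit 20) [(nat_lit 2586), (nat_lit 2591)]))) (.node (.leaf (.cyc (nat_lit 5) [(nat_lit 314), (nat_lit 313)])) (.leaf (.cyc (nat_lit 13) [(nat_lit 3220), (nat_lit 1105), (nat_lit 3139), (nat_lit 3509), (nat_lit 3507), (nat_lit 3366), (nat_lit 3616)]))))) (.node (.node (.node (.leaf .df) (.leaf (.cyc (nat_lit 14) [(nat_lit 2137), (nat_lit 798)]))) (.node (.leaf (.cyc (nat_lit 2) [(nat_lit 54), (nat_lit 53)])) (.leaf (.cyc (nat_lit 8) [(nat_lit 3360), (nat_lit 2726), (nat_lit 3081), (nat_lit 1058), (nat_lit 1060)])))) (.node (.node (.leaf .df) (.leaf (.cyc (nat_lit 40) [(nat_lit 791), (nat_lit 1830), (nat_lit 1831), (nat_lit 2847), (nat_lit 1481),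 (nat_lit 644), (nat_lit 2248), (nat_lit 2249)]))) (.node (.leaf (.cyc (nat_lit 8) [(nat_lit 1555), (nat_lit 105), (nat_lit 1361), (nat_lit 193), (nat_lit 542)])) (.leaf .df))))) (.node (.node (.node (.node (.leaf .df) (.leaf (.cyc (nat_lit 3) [(nat_lit 2208), (nat_lit 733), (nat_lit 289), (nat_lit 287), (nat_lit 2145), (nat_lit 543)]))) (.node (.leaf .df) (.leaf (.cyc (nat_lit 9) [(nat_lit 1096), (nat_lit 2425), (nat_lit 2445), (nat_lit 3049), (nat_lit 1109)])))) (.node (.node (.leaf .df) (.leaf (.cyc (nat_lit 8) [(nat_lit 936), (nat_lit 2433), (nat_lit 363), (nat_lit 361), (nat_lit 841)]))) (.node (.leaf (.cyc (nat_lit 5) [(nat_lit 443), (nat_lit 442)])) (.leaf (.cyc (nat_lit 6) [(nat_lit 3743), (nat_lit 3681)]))))) (.node (.node (.node (.leaf .df) (.leaf (.cyc (nat_lit 5) [(nat_lit 2464), (nat_lit 1785)]))) (.node (.leaf (.cyc (nat_lit 2) [(nat_lit 200), (nat_lit 199)])) (.leaf (.cyc (nat_lit 3) [(nat_lit 3487), (nat_lit 866), (nat_lit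 2423), (nat_lit 1927), (nat_lit 2717)])))) (.node (.node (.leaf .df) (.leaf (.cyc (nat_lit 0) [(nat_lit 2372), (nat_lit 1026)]))) (.node (.leaf (.cyc (nat_lit 4) [(nat_lit 1952), (nat_lit 575), (nat_lit 1712), (nat_lit 350), (nat_lit 348)])) (.leaf .df)))))) (.node (.node (.node (.node (.node (.leaf .df) (.leaf (.cyc (nat_lit 21) [(nat_lit 541), (nat_lit 2143)]))) (.node (.leaf .df) (.leaf (.cyc (nat_lit 7) [(nat_lit 2217), (nat_lit 2127), (nat_lit 3124), (nat_lit 3123), (nat_lit 2600), (nat_lit 1897), (nat_lit 1088)])))) (.node (.node (.leaf .df) (.leaf (.cyc (nat_lit 25) [(nat_lit 784), (nat_lit 786), (nat_lit 2308), (nat_lit 1664), (nat_lit 2344), (nat_lit 2519), (nat_lit 2656)]))) (.node (.leaf (.cyc (nat_lit 5) [(nat_lit 378), (nat_lit 377)])) (.leaf (.cyc (nat_lit 7) [(nat_lit 3680), (nat_lit 3664), (nat_lit 1196), (nat_lit 2426), (nat_lit 2423), (nat_lit 1111), (nat_lit 3286)]))))) (.node (.node (.node (.leaf .df) (.leaf (.cyc (nat_lit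 13) [(nat_lit 2399), (nat_lit 439), (nat_lit 1405), (nat_lit 2033), (nat_lit 1464), (nat_lit 2035), (nat_lit 492)]))) (.node (.leaf (.cyc (nat_lit 5) [(nat_lit 129), (nat_lit 128)])) (.leaf (.cyc (nat_lit 9) [(nat_lit 3295), (nat_lit 751), (nat_lit 1693), (nat_lit 2213), (nat_lit 1165)])))) (.node (.node (.leaf .df) (.leaf (.cyc (nat_lit 1) [(nat_lit 2888), (nat_lit 1004)]))) (.node (.leaf (.cyc (nat_lit 2) [(nat_lit 579), (nat_lit 578)])) (.leaf .df))))) (.node (.node (.node (.node (.leaf .df) (.leaf (.cyc (nat_lit 4) [(nat_lit 758), (nat_lit 305), (nat_lit 304), (nat_lit 1717), (nat_lit 1716)]))) (.node (.leaf .df) (.leaf (.cyc (nat_lit 4) [(nat_lit 3056), (nat_lit 1113), (nat_lit 3251), (nat_lit 2242), (nat_lit 1130)])))) (.node (.node (.leaf .df) (.leaf (.cyc (nat_lit 4) [(nat_lit 2466), (nat_lit 364), (nat_lit 1756), (nat_lit 1724), (nat_lit 965)]))) (.node (.leaf (.cyc (nat_lit 3) [(nat_lit 1747), (nat_lit 483), (nat_lit 170), (nat_lit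 172), (nat_lit 492)])) (.leaf (.cyc (nat_lit 34) [(nat_lit 1214), (nat_lit 2589), (nat_lit 794), (nat_lit 1572), (nat_lit 2881), (nat_lit 775), (nat_lit 2882), (nat_lit 1147), (nat_lit 3585), (nat_lit 3801), (nat_lit 3804), (nat_lit 3763), (nat_lit 3808)]))))) (.node (.node (.node (.leaf .df) (.leaf (.cyc (nat_lit 18) [(nat_lit 1934), (nat_lit 2528), (nat_lit 770), (nat_lit 309), (nat_lit 306), (nat_lit 760)]))) (.node (.leaf (.cyc (nat_lit 2) [(nat_lit 258), (nat_lit 257)])) (.leaf (.cyc (nat_lit 11) [(nat_lit 852), (nat_lit 2435), (nat_lit 832), (nat_lit 357), (nat_lit 358), (nat_lit 835), (nat_lit 1200)])))) (.node (.node (.leaf .df) (.leaf (.cyc (nat_lit 2) [(nat_lit 1045), (nat_lit 2773)]))) (.node (.leaf (.cyc (nat_lit 21) [(nat_lit 1903), (nat_lit 2013)])) (.leaf .df))))))))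
noncomputable def c5P10001 : BT Pf := (.node (.node (.node (.node (.node (.node (.node (.leaf .df) (.leaf (.cyc (nat_lit 24) [(nat_lit 2054), (nat_lit 2063)]))) (.node (.leaf .df) (.leaf (.cyc (nat_lit 8) [(nat_lit 1062), (nat_lit 2760), (nat_lit 2759), (nat_lit 2005), (nat_lit 882)])))) (.node (.node (.leaf .df) (.leaf (.cyc (nat_lit 21) [(nat_lit 875), (nat_lit 2574)]))) (.node (.leaf (.cyc (nat_lit 21) [(nat_lit 254), (nat_lit 1551)])) (.leaf (.cyc (nat_lit 7) [(nat_lit 1213), (nat_lit 880), (nat_lit 1741), (nat_lit 1740), (nat_lit 1743), (nat_lit 977), (nat_lit 3024)]))))) (.node (.node (.node (.leaf .df) (.leaf (.cyc (nat_lit 6) [(nat_lit 2320), (nat_lit 2208)]))) (.node (.leaf (.cyc (nat_lit 7) [(nat_lit 19), (nat_lit 4), (nat_lit 1275), (nat_lit 0), (nat_lit 1), (nat_lit 8), (nat_lit 32)])) (.leaf (.cyc (nat_lit 8) [(nat_lit 2680), (nat_lit 2883), (nat_lit 2291), (nat_lit 2882), (nat_lit 1147)])))) (.node (.node (.leaf .df) (.leaf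 (.cyc (nat_lit 8) [(nat_lit 984), (nat_lit 2456), (nat_lit 837), (nat_lit 2464), (nat_lit 1786)]))) (.node (.leaf (.cyc (nat_lit 14) [(nat_lit 1718), (nat_lit 528)])) (.leaf .df))))) (.node (.node (.node (.node (.leaf .df) (.leaf (.cyc (nat_lit 43) [(nat_lit 679), (nat_lit 258), (nat_lit 1504), (nat_lit 2156), (nat_lit 1531), (nat_lit 2189), (nat_lit 620), (nat_lit 1911), (nat_lit 1915), (nat_lit 1912), (nat_lit 231), (nat_lit 229), (nat_lit 627)]))) (.node (.leaf .df) (.leaf (.cyc (nat_lit 18) [(nat_lit 3215), (nat_lit 3193), (nat_lit 3196), (nat_lit 1975), (nat_lit 1093)])))) (.node (.node (.leaf .df) (.leaf (.cyc (nat_lit 34) [(nat_lit 926), (nat_lit 1680), (nat_lit 2408), (nat_lit 486), (nat_lit 2449), (nat_lit 2416), (nat_lit 819), (nat_lit 1684), (nat_lit 423), (nat_lit 148), (nat_lit 146), (nat_lit 417), (nat_lit 923)]))) (.node (.leaf (.cyc (nat_lit 6) [(nat_lit 421), (nat_lit 420)])) (.leaf (.cyc (nat_lit 13) [(nat_lit 3276), (nat_lit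 2880), (nat_lit 1566), (nat_lit 2514), (nat_lit 770), (nat_lit 3260), (nat_lit 3728)]))))) (.node (.node (.node (.leaf .df) (.leaf (.cyc (nat_lit 19) [(nat_lit 2424), (nat_lit 2447)]))) (.node (.leaf (.cyc (nat_lit 5) [(nat_lit 184), (nat_lit 183)])) (.leaf (.cyc (nat_lit 10) [(nat_lit 1025), (nat_lit 516), (nat_lit 513), (nat_lit 2903), (nat_lit 1181)])))) (.node (.node (.leaf .df) (.leaf (.cyc (nat_lit 0) [(nat_lit 2606), (nat_lit 2959)]))) (.node (.leaf (.cyc (nat_lit 8) [(nat_lit 1936), (nat_lit 298), (nat_lit 1488), (nat_lit 1421), (nat_lit 514)])) (.leaf .df)))))) (.node (.node (.node (.node (.node (.leaf .df) (.leaf (.cyc (nat_lit 2) [(nat_lit 705), (nat_lit 704)]))) (.node (.leaf .df) (.leaf (.cyc (nat_lit 46) [(nat_lit 811), (nat_lit 2049), (nat_lit 2048), (nat_lit 2051), (nat_lit 2057), (nat_lit 2062), (nat_lit 1994), (nat_lit 1993), (nat_lit 1407), (nat_lit 1556), (nat_lit 1583), (nat_lit 1894), (nat_lit 1081)])))) (.node (.node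 (.leaf .df) (.leaf (.cyc (nat_lit 23) [(nat_lit 827), (nat_lit 2640)]))) (.node (.leaf (.cyc (nat_lit 3) [(nat_lit 1599), (nat_lit 1615), (nat_lit 1616), (nat_lit 336), (nat_lit 337)])) (.leaf (.cyc (nat_lit 7) [(nat_lit 3650), (nat_lit 3415), (nat_lit 1031), (nat_lit 2728), (nat_lit 938), (nat_lit 939), (nat_lit 1232)]))))) (.node (.node (.node (.leaf .df) (.leaf (.cyc (nat_lit 29) [(nat_lit 490), (nat_lit 172), (nat_lit 53), (nat_lit 14), (nat_lit 16), (nat_lit 59), (nat_lit 1402), (nat_lit 1403), (nat_lit 1715), (nat_lit 336), (nat_lit 1369), (nat_lit 340), (nat_lit 814)]))) (.node (.leaf (.cyc (nat_lit 4) [(nat_lit 61), (nat_lit 1287), (nat_lit 63), (nat_lit 1359), (nat_lit 106)])) (.leaf (.cyc (nat_lit 3) [(nat_lit 3408), (nat_lit 1161), (nat_lit 716), (nat_lit 1686), (nat_lit 932)])))) (.node (.node (.leaf .df) (.leaf (.cyc (nat_lit 1) [(nat_lit 2886), (nat_lit 999)]))) (.node (.leaf (.cyc (nat_lit 20) [(nat_lit 1703), (nat_lit 1871)]))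 (.leaf .df))))) (.node (.node (.node (.node (.leaf .df) (.leaf (.cyc (nat_lit 9) [(nat_lit 1623), (nat_lit 2027), (nat_lit 2028), (nat_lit 1557), (nat_lit 749)]))) (.node (.leaf .df) (.leaf (.cyc (nat_lit 10) [(nat_lit 1121), (nat_lit 634), (nat_lit 1472), (nat_lit 636), (nat_lit 1124)])))) (.node (.node (.leaf .df) (.leaf (.cyc (nat_lit 2) [(nat_lit 957), (nat_lit 956)]))) (.node (.leaf (.cyc (nat_lit 6) [(nat_lit 480), (nat_lit 479)])) (.leaf (.cyc (nat_lit 9) [(nat_lit 3275), (nat_lit 3741), (nat_lit 3745), (nat_lit 3753), (nat_lit 3792)]))))) (.node (.node (.node (.leaf .df) (.leaf (.cyc (nat_lit 27) [(nat_lit 2287), (nat_lit 2512)]))) (.node (.leaf (.cyc (nat_lit 8) [(nat_lit 1345), (nat_lit 1347), (nat_lit 1346), (nat_lit 1342), (nat_lit 1484), (nat_lit 1483)])) (.leaf (.cyc (nat_lit 9) [(nat_lit 1032), (nat_lit 1806), (nat_lit 2505), (nat_lit 2414), (nat_lit 1195)])))) (.node (.node (.leaf .df) (.leaf (.cyc (nat_lit 0) [(nat_lit 2951),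 (nat_lit 1042)]))) (.node (.leaf (.cyc (nat_lit 28) [(nat_lit 2000), (nat_lit 1744), (nat_lit 478), (nat_lit 168), (nat_lit 167), (nat_lit 474), (nat_lit 1738)])) (.leaf .df))))))) (.node (.node (.node (.node (.node (.node (.leaf .df) (.leaf (.cyc (nat_lit 1) [(nat_lit 1807), (nat_lit 2086)]))) (.node (.leaf .df) (.leaf (.cyc (nat_lit 3) [(nat_lit 1909), (nat_lit 1607), (nat_lit 1712), (nat_lit 575), (nat_lit 1070)])))) (.node (.node (.leaf .df) (.leaf (.cyc (nat_lit 14) [(nat_lit 1784), (nat_lit 891)]))) (.node (.leaf (.cyc (nat_lit 3) [(nat_lit 1392), (nat_lit 1584), (nat_lit 1583), (nat_lit 198), (nat_lit 199)])) (.leaf (.cyc (nat_lit 13) [(nat_lit 1174), (nat_lit 2285), (nat_lit 2896), (nat_lit 2656), (nat_lit 2518), (nat_lit 2660), (nat_lit 1223)]))))) (.node (.node (.node (.leaf .df) (.leaf (.cyc (nat_lit 40) [(nat_lit 788), (nat_lit 1800), (nat_lit 1579), (nat_lit 2351), (nat_lit 296), (nat_lit 1347), (nat_lit 1530), (nat_lit 720)])))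 (.node (.leaf (.cyc (nat_lit 0) [(nat_lit 1305), (nat_lit 73)])) (.leaf (.cyc (nat_lit 11) [(nat_lit 3002), (nat_lit 2327), (nat_lit 608), (nat_lit 606), (nat_lit 2104), (nat_lit 2673), (nat_lit 1154)])))) (.node (.node (.leaf .df) (.leaf (.cyc (nat_lit 16) [(nat_lit 992), (nat_lit 495), (nat_lit 1417), (nat_lit 1506), (nat_lit 259), (nat_lit 1429), (nat_lit 1992), (nat_lit 1513), (nat_lit 2004), (nat_lit 606), (nat_lit 223), (nat_lit 222), (nat_lit 603)]))) (.node (.leaf (.cyc (nat_lit 1) [(nat_lit 1761), (nat_lit 556)])) (.leaf .df))))) (.node (.node (.node (.node (.leaf .df) (.leaf (.cyc (nat_lit 8) [(nat_lit 738), (nat_lit 295), (nat_lit 1491), (nat_lit 236), (nat_lit 645)]))) (.node (.leaf .df) (.leaf (.cyc (nat_lit 4) [(nat_lit 1078), (nat_lit 2205), (nat_lit 3247), (nat_lit 1113), (nat_lit 1933)])))) (.node (.node (.leaf .df) (.leaf (.cyc (nat_lit 0) [(nat_lit 2403), (nat_lit 947)]))) (.node (.leaf (.cyc (nat_lit 13) [(nat_lit 1616),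 (nat_lit 1615), (nat_lit 1708), (nat_lit 158), (nat_lit 1310), (nat_lit 154), (nat_lit 1403), (nat_lit 407)])) (.leaf (.cyc (nat_lit 6) [(nat_lit 1257), (nat_lit 3601)]))))) (.node (.node (.node (.leaf .df) (.leaf (.cyc (nat_lit 16) [(nat_lit 847), (nat_lit 365), (nat_lit 367), (nat_lit 2480), (nat_lit 849), (nat_lit 366), (nat_lit 125), (nat_lit 123), (nat_lit 1373), (nat_lit 1303), (nat_lit 1314), (nat_lit 178), (nat_lit 510), (nat_lit 2208)]))) (.node (.leaf (.cyc (nat_lit 4) [(nat_lit 209), (nat_lit 1325), (nat_lit 1456), (nat_lit 133), (nat_lit 132)])) (.leaf (.cyc (nat_lit 1) [(nat_lit 3326), (nat_lit 3503)])))) (.node (.node (.leaf .df) (.leaf (.cyc (nat_lit 13) [(nat_lit 2581), (nat_lit 557), (nat_lit 1441), (nat_lit 559), (nat_lit 2309), (nat_lit 2306), (nat_lit 2992)]))) (.node (.leaf (.cyc (nat_lit 5) [(nat_lit 657), (nat_lit 656)])) (.leaf .df)))))) (.node (.node (.node (.node (.node (.leaf .df) (.leaf (.cyc (nat_lit 3) [(nat_lit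 1533), (nat_lit 2145), (nat_lit 1432), (nat_lit 1480), (nat_lit 647)]))) (.node (.leaf .df) (.leaf (.cyc (nat_lit 5) [(nat_lit 1093), (nat_lit 1092)])))) (.node (.node (.leaf .df) (.leaf (.cyc (nat_lit 11) [(nat_lit 691), (nat_lit 1513), (nat_lit 1992), (nat_lit 1667), (nat_lit 1668), (nat_lit 915), (nat_lit 2670)]))) (.node (.leaf (.cyc (nat_lit 5) [(nat_lit 389), (nat_lit 388)])) (.leaf (.cyc (nat_lit 16) [(nat_lit 3320), (nat_lit 3323), (nat_lit 3322), (nat_lit 1061), (nat_lit 2925), (nat_lit 2924), (nat_lit 1008), (nat_lit 2918), (nat_lit 2757), (nat_lit 3045), (nat_lit 3278), (nat_lit 3693), (nat_lit 3696)]))))) (.node (.node (.node (.leaf .df) (.leaf (.cyc (nat_lit 4) [(nat_lit 426), (nat_lit 1397), (nat_lit 1377), (nat_lit 1605), (nat_lit 820)]))) (.node (.leaf (.cyc (nat_lit 6) [(nat_lit 144), (nat_lit 143)])) (.leaf (.cyc (nat_lit 47) [(nat_lit 1123), (nat_lit 635), (nat_lit 2060), (nat_lit 2152), (nat_lit 286), (nat_lit 91), (nat_lit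 1292), (nat_lit 85), (nat_lit 268), (nat_lit 1515), (nat_lit 303), (nat_lit 753), (nat_lit 1171)])))) (.node (.node (.leaf .df) (.leaf (.cyc (nat_lit 15) [(nat_lit 2927), (nat_lit 854), (nat_lit 1622), (nat_lit 2480), (nat_lit 849), (nat_lit 366), (nat_lit 368), (nat_lit 853), (nat_lit 2498)]))) (.node (.leaf (.cyc (nat_lit 5) [(nat_lit 1904), (nat_lit 1733)])) (.leaf .df))))) (.node (.node (.node (.node (.leaf .df) (.leaf (.cyc (nat_lit 2) [(nat_lit 772), (nat_lit 771)]))) (.node (.leaf .df) (.leaf (.cyc (nat_lit 10) [(nat_lit 1085), (nat_lit 586), (nat_lit 583), (nat_lit 1974), (nat_lit 1135)])))) (.node (.node (.leaf .df) (.leaf (.cyc (nat_lit 2) [(nat_lit 970), (nat_lit 2440)]))) (.node (.leaf (.cyc (nat_lit 2) [(nat_lit 502), (nat_lit 501)])) (.leaf (.cyc (nat_lit 17) [(nat_lit 3824), (nat_lit 3736), (nat_lit 3544), (nat_lit 3545), (nat_lit 1272), (nat_lit 3824), (nat_lit 3734), (nat_lit 1211), (nat_lit 861), (nat_lit 2513), (nat_lit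 778), (nat_lit 1183), (nat_lit 3817)]))))) (.node (.node (.node (.leaf .df) (.leaf (.cyc (nat_lit 45) [(nat_lit 674), (nat_lit 672), (nat_lit 2068), (nat_lit 605), (nat_lit 1467), (nat_lit 1610), (nat_lit 356), (nat_lit 1372), (nat_lit 1593), (nat_lit 1401), (nat_lit 435), (nat_lit 2541), (nat_lit 2544)]))) (.node (.leaf (.cyc (nat_lit 5) [(nat_lit 276), (nat_lit 275)])) (.leaf (.cyc (nat_lit 43) [(nat_lit 3470), (nat_lit 3448), (nat_lit 3318), (nat_lit 3317), (nat_lit 2040), (nat_lit 2539), (nat_lit 2786), (nat_lit 965), (nat_lit 1724), (nat_lit 1756), (nat_lit 364), (nat_lit 845), (nat_lit 1204)])))) (.node (.node (.leaf .df) (.leaf (.cyc (nat_lit 1) [(nat_lit 2581), (nat_lit 1049)]))) (.node (.leaf (.cyc (nat_lit 19) [(nat_lit 597), (nat_lit 2029)])) (.leaf .df))))))))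
noncomputable def c5P1000 : BT Pf := .node c5P10000 c5P10001
noncomputable def c5P10010 : BT Pf := (.node (.node (.node (.node (.node (.node (.node (.leaf .df) (.leaf (.cyc (nat_lit 3) [(nat_lit 2051), (nat_lit 2048), (nat_lit 2049), (nat_lit 1582), (nat_lit 571)]))) (.node (.leaf .df) (.leaf (.cyc (nat_lit 7) [(nat_lit 2726), (nat_lit 888), (nat_lit 387), (nat_lit 1384), (nat_lit 201), (nat_lit 564), (nat_lit 1058)])))) (.node (.node (.leaf .df) (.leaf (.cyc (nat_lit 17) [(nat_lit 835), (nat_lit 837), (nat_lit 2464), (nat_lit 1937), (nat_lit 626), (nat_lit 1471), (nat_lit 631), (nat_lit 2556), (nat_lit 870), (nat_lit 1633), (nat_lit 2042), (nat_lit 2568), (nat_lit 2521)]))) (.node (.leaf (.cyc (nat_lit 4) [(nat_lit 115), (nat_lit 1300), (nat_lit 117), (nat_lit 1543), (nat_lit 297)])) (.leaf (.cyc (nat_lit 4) [(nat_lit 1001), (nat_lit 999), (nat_lit 2899), (nat_lit 3098), (nat_lit 1211)]))))) (.node (.node (.node (.leaf .df) (.leaf (.cyc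 (nat_lit 6) [(nat_lit 790), (nat_lit 1800)]))) (.node (.leaf (.cyc (nat_lit 6) [(nat_lit 21), (nat_lit 20)])) (.leaf (.cyc (nat_lit 18) [(nat_lit 3336), (nat_lit 1981), (nat_lit 3248), (nat_lit 3246), (nat_lit 3223)])))) (.node (.node (.leaf .df) (.leaf (.cyc (nat_lit 2) [(nat_lit 976), (nat_lit 2100)]))) (.node (.leaf (.cyc (nat_lit 8) [(nat_lit 399), (nat_lit 140), (nat_lit 139), (nat_lit 396), (nat_lit 1799), (nat_lit 1580)])) (.leaf .df))))) (.node (.node (.node (.node (.leaf .df) (.leaf (.cyc (nat_lit 5) [(nat_lit 2184), (nat_lit 2177)]))) (.node (.leaf .df) (.leaf (.cyc (nat_lit 8) [(nat_lit 797), (nat_lit 1575), (nat_lit 1574), (nat_lit 606), (nat_lit 1100)])))) (.node (.node (.leaf .df) (.leaf (.cyc (nat_lit 6) [(nat_lit 2696), (nat_lit 2477)]))) (.node (.leaf (.cyc (nat_lit 3) [(nat_lit 413), (nat_lit 145), (nat_lit 1308), (nat_lit 1378), (nat_lit 376)])) (.leaf (.cyc (nat_lit 14) [(nat_lit 3591), (nat_lit 3720)]))))) (.node (.node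 (.node (.leaf .df) (.leaf (.cyc (nat_lit 5) [(nat_lit 835), (nat_lit 834)]))) (.node (.leaf (.cyc (nat_lit 5) [(nat_lit 174), (nat_lit 173)])) (.leaf (.cyc (nat_lit 8) [(nat_lit 2389), (nat_lit 2761), (nat_lit 3110), (nat_lit 3464), (nat_lit 3463)])))) (.node (.node (.leaf .df) (.leaf (.cyc (nat_lit 35) [(nat_lit 2505), (nat_lit 2793), (nat_lit 967), (nat_lit 2792), (nat_lit 2045), (nat_lit 2627), (nat_lit 2628), (nat_lit 1805), (nat_lit 2322), (nat_lit 2320), (nat_lit 510), (nat_lit 512), (nat_lit 1017)]))) (.node (.leaf (.cyc (nat_lit 18) [(nat_lit 1928), (nat_lit 603), (nat_lit 1833), (nat_lit 1892), (nat_lit 1891)])) (.leaf .df)))))) (.node (.node (.node (.node (.node (.leaf .df) (.leaf (.cyc (nat_lit 4) [(nat_lit 697), (nat_lit 695), (nat_lit 2109), (nat_lit 1846), (nat_lit 1843)]))) (.node (.leaf .df) (.leaf (.cyc (nat_lit 11) [(nat_lit 942), (nat_lit 1960), (nat_lit 1494), (nat_lit 581), (nat_lit 2909), (nat_lit 2771), (nat_lit 3143)]))))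 (.node (.node (.leaf .df) (.leaf (.cyc (nat_lit 16) [(nat_lit 656), (nat_lit 658), (nat_lit 1971), (nat_lit 1962), (nat_lit 1957), (nat_lit 2434), (nat_lit 841), (nat_lit 2626), (nat_lit 896), (nat_lit 390), (nat_lit 1385), (nat_lit 389), (nat_lit 892)]))) (.node (.leaf (.cyc (nat_lit 4) [(nat_lit 1379), (nat_lit 1380), (nat_lit 1373), (nat_lit 1372), (nat_lit 356)])) (.leaf (.cyc (nat_lit 6) [(nat_lit 3654), (nat_lit 3297)]))))) (.node (.node (.node (.leaf .df) (.leaf (.cyc (nat_lit 27) [(nat_lit 756), (nat_lit 2376)]))) (.node (.leaf (.cyc (nat_lit 10) [(nat_lit 37), (nat_lit 9), (nat_lit 7), (nat_lit 28), (nat_lit 100)])) (.leaf (.cyc (nat_lit 7) [(nat_lit 901), (nat_lit 2116), (nat_lit 2108), (nat_lit 2118), (nat_lit 2117), (nat_lit 711), (nat_lit 1159)])))) (.node (.node (.leaf .df) (.leaf (.cyc (nat_lit 5) [(nat_lit 996), (nat_lit 995)]))) (.node (.leaf (.cyc (nat_lit 19) [(nat_lit 409), (nat_lit 1863)])) (.leaf .df))))) (.node (.node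 (.node (.node (.leaf .df) (.leaf (.cyc (nat_lit 2) [(nat_lit 744), (nat_lit 743)]))) (.node (.leaf .df) (.leaf (.cyc (nat_lit 0) [(nat_lit 3075), (nat_lit 1120)])))) (.node (.node (.leaf .df) (.leaf (.cyc (nat_lit 0) [(nat_lit 2384), (nat_lit 955)]))) (.node (.leaf (.cyc (nat_lit 1) [(nat_lit 1478), (nat_lit 474)])) (.leaf (.cyc (nat_lit 34) [(nat_lit 1254), (nat_lit 3015), (nat_lit 3520), (nat_lit 2907), (nat_lit 2906), (nat_lit 612), (nat_lit 1469), (nat_lit 616), (nat_lit 2421), (nat_lit 3019), (nat_lit 3018), (nat_lit 3179), (nat_lit 1263)]))))) (.node (.node (.node (.leaf .df) (.leaf (.cyc (nat_lit 6) [(nat_lit 2504), (nat_lit 2503)]))) (.node (.leaf (.cyc (nat_lit 5) [(nat_lit 237), (nat_lit 236)])) (.leaf (.cyc (nat_lit 28) [(nat_lit 1193), (nat_lit 2381), (nat_lit 2139), (nat_lit 3116), (nat_lit 3114), (nat_lit 2550), (nat_lit 3350)])))) (.node (.node (.leaf .df) (.leaf (.cyc (nat_lit 10) [(nat_lit 1038), (nat_lit 532), (nat_lit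 529), (nat_lit 2237), (nat_lit 2235)]))) (.node (.leaf (.cyc (nat_lit 21) [(nat_lit 451), (nat_lit 1991)])) (.leaf .df))))))) (.node (.node (.node (.node (.node (.node (.leaf .df) (.leaf (.cyc (nat_lit 20) [(nat_lit 521), (nat_lit 2087), (nat_lit 354)]))) (.node (.leaf .df) (.leaf (.cyc (nat_lit 4) [(nat_lit 1068), (nat_lit 1856), (nat_lit 2034), (nat_lit 445), (nat_lit 958)])))) (.node (.node (.leaf .df) (.leaf (.cyc (nat_lit 8) [(nat_lit 874), (nat_lit 1639), (nat_lit 577), (nat_lit 2599), (nat_lit 2600), (nat_lit 2477)]))) (.node (.leaf (.cyc (nat_lit 4) [(nat_lit 224), (nat_lit 1327), (nat_lit 1298), (nat_lit 109), (nat_lit 325)])) (.leaf (.cyc (nat_lit 29) [(nat_lit 964), (nat_lit 2003), (nat_lit 1777), (nat_lit 1003), (nat_lit 2908), (nat_lit 959), (nat_lit 1699), (nat_lit 955), (nat_lit 2762), (nat_lit 2265), (nat_lit 2390), (nat_lit 2654), (nat_lit 1221)]))))) (.node (.node (.node (.leaf .df) (.leaf (.cyc (nat_lit 3) [(nat_lit 2342),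 (nat_lit 560), (nat_lit 558), (nat_lit 1845), (nat_lit 741)]))) (.node (.leaf (.cyc (nat_lit 2) [(nat_lit 61), (nat_lit 60)])) (.leaf (.cyc (nat_lit 9) [(nat_lit 2710), (nat_lit 3042), (nat_lit 3043), (nat_lit 2104), (nat_lit 1152)])))) (.node (.node (.leaf .df) (.leaf (.cyc (nat_lit 21) [(nat_lit 986), (nat_lit 2855)]))) (.node (.leaf (.cyc (nat_lit 37) [(nat_lit 551), (nat_lit 196), (nat_lit 62), (nat_lit 17), (nat_lit 3), (nat_lit 1275), (nat_lit 0), (nat_lit 1), (nat_lit 1279), (nat_lit 22), (nat_lit 79), (nat_lit 1552), (nat_lit 1467)])) (.leaf .df))))) (.node (.node (.node (.node (.leaf .df) (.leaf (.cyc (nat_lit 0) [(nat_lit 2125), (nat_lit 737)]))) (.node (.leaf .df) (.leaf (.cyc (nat_lit 2) [(nat_lit 1112), (nat_lit 1111)])))) (.node (.node (.leaf .df) (.leaf (.cyc (nat_lit 3) [(nat_lit 2699), (nat_lit 885), (nat_lit 2595), (nat_lit 430), (nat_lit 939)]))) (.node (.leaf (.cyc (nat_lit 33) [(nat_lit 118), (nat_lit 1301), (nat_lit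 123), (nat_lit 1373), (nat_lit 1380), (nat_lit 379), (nat_lit 1638), (nat_lit 1704), (nat_lit 450), (nat_lit 449)])) (.leaf (.cyc (nat_lit 37) [(nat_lit 1253), (nat_lit 3689), (nat_lit 1238), (nat_lit 3692), (nat_lit 1072), (nat_lit 1888), (nat_lit 2472), (nat_lit 1203), (nat_lit 3564), (nat_lit 3375), (nat_lit 3685), (nat_lit 1237), (nat_lit 1236)]))))) (.node (.node (.node (.leaf .df) (.leaf (.cyc (nat_lit 6) [(nat_lit 841), (nat_lit 840)]))) (.node (.leaf (.cyc (nat_lit 2) [(nat_lit 209), (nat_lit 208)])) (.leaf (.cyc (nat_lit 4) [(nat_lit 1186), (nat_lit 779), (nat_lit 2514), (nat_lit 1687), (nat_lit 934)])))) (.node (.node (.leaf .df) (.leaf (.cyc (nat_lit 2) [(nat_lit 1027), (nat_lit 2317)]))) (.node (.leaf (.cyc (nat_lit 19) [(nat_lit 431), (nat_lit 1959)])) (.leaf .df)))))) (.node (.node (.node (.node (.node (.leaf .df) (.leaf (.cyc (nat_lit 19) [(nat_lit 467), (nat_lit 2151)]))) (.node (.leaf .df) (.leaf (.cyc (nat_lit 10) [(nat_lit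 3175), (nat_lit 588), (nat_lit 1462), (nat_lit 590), (nat_lit 1089)])))) (.node (.node (.leaf .df) (.leaf (.cyc (nat_lit 8) [(nat_lit 1789), (nat_lit 2096), (nat_lit 1873), (nat_lit 2297), (nat_lit 2663)]))) (.node (.leaf (.cyc (nat_lit 9) [(nat_lit 383), (nat_lit 1383), (nat_lit 55), (nat_lit 57), (nat_lit 185)])) (.leaf (.cyc (nat_lit 14) [(nat_lit 3235), (nat_lit 3688)]))))) (.node (.node (.node (.leaf .df) (.leaf (.cyc (nat_lit 21) [(nat_lit 1748), (nat_lit 2407)]))) (.node (.leaf (.cyc (nat_lit 2) [(nat_lit 137), (nat_lit 136)])) (.leaf (.cyc (nat_lit 34) [(nat_lit 1167), (nat_lit 737), (nat_lit 1819), (nat_lit 2373), (nat_lit 3405), (nat_lit 1160), (nat_lit 712), (nat_lit 1526), (nat_lit 710), (nat_lit 2137), (nat_lit 1577), (nat_lit 1624), (nat_lit 856)])))) (.node (.node (.leaf .df) (.leaf (.cyc (nat_lit 0) [(nat_lit 2917), (nat_lit 2919)]))) (.node (.leaf (.cyc (nat_lit 2) [(nat_lit 588), (nat_lit 587)])) (.leaf .df))))) (.node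 (.node (.node (.node (.leaf .df) (.leaf (.cyc (nat_lit 5) [(nat_lit 763), (nat_lit 1763)]))) (.node (.leaf .df) (.leaf (.cyc (nat_lit 41) [(nat_lit 1060), (nat_lit 564), (nat_lit 201), (nat_lit 1323), (nat_lit 134), (nat_lit 384), (nat_lit 1642), (nat_lit 534), (nat_lit 2371), (nat_lit 2370), (nat_lit 2336), (nat_lit 1969), (nat_lit 1132)])))) (.node (.node (.leaf .df) (.leaf (.cyc (nat_lit 38) [(nat_lit 2505), (nat_lit 525), (nat_lit 1426), (nat_lit 1742), (nat_lit 319), (nat_lit 1435), (nat_lit 1438), (nat_lit 1368), (nat_lit 335), (nat_lit 1754), (nat_lit 1410), (nat_lit 456), (nat_lit 967)]))) (.node (.leaf (.cyc (nat_lit 18) [(nat_lit 443), (nat_lit 445), (nat_lit 1768), (nat_lit 1416), (nat_lit 491)])) (.leaf (.cyc (nat_lit 34) [(nat_lit 3815), (nat_lit 1190), (nat_lit 2616), (nat_lit 1714), (nat_lit 1616), (nat_lit 1615), (nat_lit 1708), (nat_lit 1709), (nat_lit 1618), (nat_lit 828), (nat_lit 2702), (nat_lit 2899), (nat_lit 3486)])))))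 (.node (.node (.node (.leaf .df) (.leaf (.cyc (nat_lit 23) [(nat_lit 618), (nat_lit 2535)]))) (.node (.leaf (.cyc (nat_lit 5) [(nat_lit 265), (nat_lit 264)])) (.leaf (.cyc (nat_lit 14) [(nat_lit 3454), (nat_lit 1202)])))) (.node (.node (.leaf .df) (.leaf (.cyc (nat_lit 23) [(nat_lit 1925), (nat_lit 3048)]))) (.node (.leaf (.cyc (nat_lit 19) [(nat_lit 217), (nat_lit 2019)])) (.leaf .df))))))))
noncomputable def c5P10011 : BT Pf := (.node (.node (.node (.node (.node (.node (.node (.leaf .df) (.leaf (.cyc (nat_lit 24) [(nat_lit 1725), (nat_lit 2071)]))) (.node (.leaf .df) (.leaf (.cyc (nat_lit 46) [(nat_lit 861), (nat_lit 2513), (nat_lit 778), (nat_lit 2524), (nat_lit 865), (nat_lit 863), (nat_lit 3096), (nat_lit 2990), (nat_lit 2623), (nat_lit 1982), (nat_lit 2882), (nat_lit 2900), (nat_lit 2828)])))) (.node (.node (.leaf .df) (.leaf (.cyc (nat_lit 6) [(nat_lit 882), (nat_lit 1744)]))) (.node (.leaf (.cyc (nat_lit 6) [(nat_lit 305), (nat_lit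 1515)])) (.leaf (.cyc (nat_lit 8) [(nat_lit 1129), (nat_lit 2214), (nat_lit 2215), (nat_lit 2622), (nat_lit 1217)]))))) (.node (.node (.node (.leaf .df) (.leaf (.cyc (nat_lit 6) [(nat_lit 797), (nat_lit 1794)]))) (.node (.leaf (.cyc (nat_lit 10) [(nat_lit 20), (nat_lit 4), (nat_lit 2), (nat_lit 11), (nat_lit 42)])) (.leaf (.cyc (nat_lit 5) [(nat_lit 3352), (nat_lit 2767)])))) (.node (.node (.leaf .df) (.leaf (.cyc (nat_lit 2) [(nat_lit 988), (nat_lit 2385)]))) (.node (.leaf (.cyc (nat_lit 1) [(nat_lit 1672), (nat_lit 1816)])) (.leaf .df))))) (.node (.node (.node (.node (.leaf .df) (.leaf (.cyc (nat_lit 3) [(nat_lit 2160), (nat_lit 2155), (nat_lit 284), (nat_lit 286), (nat_lit 729)]))) (.node (.leaf .df) (.leaf (.cyc (nat_lit 4) [(nat_lit 1106), (nat_lit 612), (nat_lit 225), (nat_lit 228), (nat_lit 622)])))) (.node (.node (.leaf .df) (.leaf (.cyc (nat_lit 0) [(nat_lit 2202), (nat_lit 931)]))) (.node (.leaf (.cyc (nat_lit 5) [(nat_lit 428),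 (nat_lit 427)])) (.leaf (.cyc (nat_lit 3) [(nat_lit 3582), (nat_lit 878), (nat_lit 877), (nat_lit 2956), (nat_lit 1250)]))))) (.node (.node (.node (.leaf .df) (.leaf (.cyc (nat_lit 34) [(nat_lit 2443), (nat_lit 795), (nat_lit 1634), (nat_lit 130), (nat_lit 129), (nat_lit 1378), (nat_lit 46), (nat_lit 47), (nat_lit 152), (nat_lit 436), (nat_lit 2273), (nat_lit 2275), (nat_lit 1829)]))) (.node (.leaf (.cyc (nat_lit 1) [(nat_lit 1414), (nat_lit 195)])) (.leaf (.cyc (nat_lit 8) [(nat_lit 978), (nat_lit 2585), (nat_lit 3479), (nat_lit 3478), (nat_lit 3480), (nat_lit 3455)])))) (.node (.node (.leaf .df) (.leaf (.cyc (nat_lit 4) [(nat_lit 1020), (nat_lit 1786), (nat_lit 2464), (nat_lit 2463), (nat_lit 2457)]))) (.node (.leaf (.cyc (nat_lit 2) [(nat_lit 634), (nat_lit 1914)])) (.leaf .df)))))) (.node (.node (.node (.node (.node (.leaf .df) (.leaf (.cyc (nat_lit 25) [(nat_lit 325), (nat_lit 109), (nat_lit 1298), (nat_lit 112), (nat_lit 1525), (nat_lit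 277), (nat_lit 710)]))) (.node (.leaf .df) (.leaf (.cyc (nat_lit 19) [(nat_lit 1083), (nat_lit 3159)])))) (.node (.node (.leaf .df) (.leaf (.cyc (nat_lit 9) [(nat_lit 902), (nat_lit 1657), (nat_lit 2086), (nat_lit 473), (nat_lit 471)]))) (.node (.leaf (.cyc (nat_lit 3) [(nat_lit 1578), (nat_lit 1577), (nat_lit 1624), (nat_lit 369), (nat_lit 370)])) (.leaf (.cyc (nat_lit 29) [(nat_lit 3671), (nat_lit 1086), (nat_lit 1896), (nat_lit 2388), (nat_lit 2387), (nat_lit 814), (nat_lit 2397), (nat_lit 1695), (nat_lit 2400), (nat_lit 719), (nat_lit 2172), (nat_lit 2830), (nat_lit 3234)]))))) (.node (.node (.node (.leaf .df) (.leaf (.cyc (nat_lit 25) [(nat_lit 1733), (nat_lit 1478), (nat_lit 167), (nat_lit 1404), (nat_lit 1885), (nat_lit 815), (nat_lit 2391)]))) (.node (.leaf (.cyc (nat_lit 5) [(nat_lit 117), (nat_lit 116)])) (.leaf (.cyc (nat_lit 43) [(nat_lit 1153), (nat_lit 694), (nat_lit 268), (nat_lit 1364), (nat_lit 326), (nat_lit 799), (nat_lit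 2430), (nat_lit 2981), (nat_lit 1981), (nat_lit 1143), (nat_lit 3331), (nat_lit 2185), (nat_lit 1163)])))) (.node (.node (.leaf .df) (.leaf (.cyc (nat_lit 3) [(nat_lit 2828), (nat_lit 2702), (nat_lit 2899), (nat_lit 999), (nat_lit 1000)]))) (.node (.leaf (.cyc (nat_lit 38) [(nat_lit 1594), (nat_lit 1858), (nat_lit 573), (nat_lit 207), (nat_lit 208), (nat_lit 575), (nat_lit 1872), (nat_lit 324), (nat_lit 322), (nat_lit 1796), (nat_lit 1583), (nat_lit 1584), (nat_lit 402)])) (.leaf .df))))) (.node (.node (.node (.node (.leaf .df) (.leaf (.cyc (nat_lit 1) [(nat_lit 1723), (nat_lit 752)]))) (.node (.leaf .df) (.leaf (.cyc (nat_lit 11) [(nat_lit 2572), (nat_lit 2573), (nat_lit 2017), (nat_lit 2014), (nat_lit 1479), (nat_lit 642), (nat_lit 1126)])))) (.node (.node (.leaf .df) (.leaf (.cyc (nat_lit 2) [(nat_lit 962), (nat_lit 2343)]))) (.node (.leaf (.cyc (nat_lit 23) [(nat_lit 1729), (nat_lit 1752)])) (.leaf (.cyc (nat_lit 2) [(nat_lit 1267),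 (nat_lit 3587)]))))) (.node (.node (.node (.leaf .df) (.leaf (.cyc (nat_lit 5) [(nat_lit 864), (nat_lit 863)]))) (.node (.leaf (.cyc (nat_lit 10) [(nat_lit 241), (nat_lit 75), (nat_lit 1289), (nat_lit 77), (nat_lit 246)])) (.leaf (.cyc (nat_lit 14) [(nat_lit 3506), (nat_lit 3543)])))) (.node (.node (.leaf .df) (.leaf (.cyc (nat_lit 8) [(nat_lit 1043), (nat_lit 2358), (nat_lit 2357), (nat_lit 785), (nat_lit 787)]))) (.node (.leaf (.cyc (nat_lit 27) [(nat_lit 1990), (nat_lit 2008)])) (.leaf .df))))))) (.node (.node (.node (.node (.node (.node (.leaf .df) (.leaf (.cyc (nat_lit 14) [(nat_lit 2001), (nat_lit 692)]))) (.node (.leaf .df) (.leaf (.cyc (nat_lit 25) [(nat_lit 964), (nat_lit 2003), (nat_lit 2005), (nat_lit 1647), (nat_lit 2596), (nat_lit 2593), (nat_lit 3128)])))) (.node (.node (.leaf .df) (.leaf (.cyc (nat_lit 6) [(nat_lit 2616), (nat_lit 1898)]))) (.node (.leaf (.cyc (nat_lit 8) [(nat_lit 123), (nat_lit 1301), (nat_lit 119), (nat_lit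 1591), (nat_lit 1587)])) (.leaf (.cyc (nat_lit 8) [(nat_lit 3346), (nat_lit 3348), (nat_lit 3303), (nat_lit 3304), (nat_lit 1225)]))))) (.node (.node (.node (.leaf .df) (.leaf (.cyc (nat_lit 13) [(nat_lit 703), (nat_lit 272), (nat_lit 1341), (nat_lit 276), (nat_lit 1658), (nat_lit 1799), (nat_lit 806)]))) (.node (.leaf (.cyc (nat_lit 8) [(nat_lit 82), (nat_lit 1291), (nat_lit 1290), (nat_lit 48), (nat_lit 1318)])) (.leaf (.cyc (nat_lit 3) [(nat_lit 3383), (nat_lit 1156), (nat_lit 2130), (nat_lit 1980), (nat_lit 897)])))) (.node (.node (.leaf .df) (.leaf (.cyc (nat_lit 23) [(nat_lit 991), (nat_lit 2872)]))) (.node (.leaf (.cyc (nat_lit 6) [(nat_lit 563), (nat_lit 562)])) (.leaf .df))))) (.node (.node (.node (.node (.leaf .df) (.leaf (.cyc (nat_lit 3) [(nat_lit 2231), (nat_lit 2230), (nat_lit 580), (nat_lit 1473), (nat_lit 639)]))) (.node (.leaf .df) (.leaf (.cyc (nat_lit 29) [(nat_lit 2307), (nat_lit 330), (nat_lit 110), (nat_lit 31), (nat_lit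 33), (nat_lit 1351), (nat_lit 1340), (nat_lit 268), (nat_lit 693), (nat_lit 2163), (nat_lit 2051), (nat_lit 2181), (nat_lit 3256)])))) (.node (.node (.leaf .df) (.leaf (.cyc (nat_lit 6) [(nat_lit 2744), (nat_lit 2743)]))) (.node (.leaf (.cyc (nat_lit 2) [(nat_lit 454), (nat_lit 1556)])) (.leaf (.cyc (nat_lit 1) [(nat_lit 3758), (nat_lit 3768)]))))) (.node (.node (.node (.leaf .df) (.leaf (.cyc (nat_lit 13) [(nat_lit 850), (nat_lit 366), (nat_lit 125), (nat_lit 1301), (nat_lit 118), (nat_lit 342), (nat_lit 817)]))) (.node (.leaf (.cyc (nat_lit 4) [(nat_lit 1332), (nat_lit 34), (nat_lit 32), (nat_lit 1327), (nat_lit 221)])) (.leaf (.cyc (nat_lit 35) [(nat_lit 3406), (nat_lit 1036), (nat_lit 1809), (nat_lit 1704), (nat_lit 208), (nat_lit 207), (nat_lit 573), (nat_lit 1068), (nat_lit 3261), (nat_lit 1117), (nat_lit 2388), (nat_lit 2743), (nat_lit 3512)])))) (.node (.node (.leaf .df) (.leaf (.cyc (nat_lit 16) [(nat_lit 1844), (nat_lit 1663),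 (nat_lit 1583), (nat_lit 198), (nat_lit 63), (nat_lit 64), (nat_lit 1384), (nat_lit 387), (nat_lit 887), (nat_lit 2724), (nat_lit 2723), (nat_lit 1806), (nat_lit 1032)]))) (.node (.leaf (.cyc (nat_lit 2) [(nat_lit 663), (nat_lit 662)])) (.leaf .df)))))) (.node (.node (.node (.node (.node (.leaf .df) (.leaf (.cyc (nat_lit 9) [(nat_lit 1684), (nat_lit 423), (nat_lit 1685), (nat_lit 1529), (nat_lit 719)]))) (.node (.leaf .df) (.leaf (.cyc (nat_lit 1) [(nat_lit 3121), (nat_lit 1096)])))) (.node (.node (.leaf .df) (.leaf (.cyc (nat_lit 16) [(nat_lit 524), (nat_lit 186), (nat_lit 183), (nat_lit 518), (nat_lit 2094), (nat_lit 1626), (nat_lit 2240), (nat_lit 1519), (nat_lit 704), (nat_lit 2236), (nat_lit 2203), (nat_lit 2678), (nat_lit 2680)]))) (.node (.leaf (.cyc (nat_lit 5) [(nat_lit 395), (nat_lit 394)])) (.leaf (.cyc (nat_lit 6) [(nat_lit 1241), (nat_lit 3220)]))))) (.node (.node (.node (.leaf .df) (.leaf (.cyc (nat_lit 5) [(nat_lit 825), (nat_lit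 1909)]))) (.node (.leaf (.cyc (nat_lit 5) [(nat_lit 153), (nat_lit 152)])) (.leaf (.cyc (nat_lit 29) [(nat_lit 3444), (nat_lit 3180), (nat_lit 3116), (nat_lit 2139), (nat_lit 3119), (nat_lit 3173), (nat_lit 3191), (nat_lit 1095), (nat_lit 1908), (nat_lit 3121), (nat_lit 3122), (nat_lit 1103), (nat_lit 3386)])))) (.node (.node (.leaf .df) (.leaf (.cyc (nat_lit 10) [(nat_lit 1955), (nat_lit 2904), (nat_lit 508), (nat_lit 506), (nat_lit 1013)]))) (.node (.leaf (.cyc (nat_lit 32) [(nat_lit 1547), (nat_lit 1548), (nat_lit 253), (nat_lit 1552), (nat_lit 1467), (nat_lit 604), (nat_lit 1912), (nat_lit 231), (nat_lit 229)])) (.leaf .df))))) (.node (.node (.node (.node (.leaf .df) (.leaf (.cyc (nat_lit 41) [(nat_lit 1873), (nat_lit 2115), (nat_lit 2108), (nat_lit 2118), (nat_lit 2117), (nat_lit 277), (nat_lit 1525), (nat_lit 1454), (nat_lit 294), (nat_lit 1537), (nat_lit 1444), (nat_lit 314), (nat_lit 783)]))) (.node (.leaf .df) (.leaf (.cyc (nat_lit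 29) [(nat_lit 3319), (nat_lit 3293), (nat_lit 3182), (nat_lit 1092), (nat_lit 1901), (nat_lit 660), (nat_lit 1135), (nat_lit 3313), (nat_lit 3314), (nat_lit 2375), (nat_lit 2377), (nat_lit 757), (nat_lit 2859)])))) (.node (.node (.leaf .df) (.leaf (.cyc (nat_lit 2) [(nat_lit 2808), (nat_lit 2721)]))) (.node (.leaf (.cyc (nat_lit 10) [(nat_lit 511), (nat_lit 178), (nat_lit 1315), (nat_lit 180), (nat_lit 514)])) (.leaf (.cyc (nat_lit 3) [(nat_lit 3803), (nat_lit 3804), (nat_lit 3763), (nat_lit 3761), (nat_lit 1274)]))))) (.node (.node (.node (.leaf .df) (.leaf (.cyc (nat_lit 43) [(nat_lit 1944), (nat_lit 1985), (nat_lit 2496), (nat_lit 842), (nat_lit 361), (nat_lit 363), (nat_lit 844), (nat_lit 2494), (nat_lit 681), (nat_lit 678), (nat_lit 2042), (nat_lit 1633), (nat_lit 870)]))) (.node (.leaf (.cyc (nat_lit 2) [(nat_lit 281), (nat_lit 280)])) (.leaf (.cyc (nat_lit 10) [(nat_lit 3295), (nat_lit 3411), (nat_lit 3414), (nat_lit 2889), (nat_lit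 3576)])))) (.node (.node (.leaf .df) (.leaf (.cyc (nat_lit 15) [(nat_lit 2286), (nat_lit 3064), (nat_lit 2584), (nat_lit 2469), (nat_lit 2471), (nat_lit 2475), (nat_lit 2593), (nat_lit 2596), (nat_lit 886)]))) (.node (.leaf (.cyc (nat_lit 9) [(nat_lit 497), (nat_lit 174), (nat_lit 176), (nat_lit 1509), (nat_lit 680)])) (.leaf .df))))))))
noncomputable def c5P1001 : BT Pf := .node c5P10010 c5P10011
noncomputable def c5P100 : BT Pf := .node c5P1000 c5P1001
noncomputable def c5P10100 : BT Pf := (.node (.node (.node (.node (.node (.node (.node (.leaf .df) (.leaf (.cyc (nat_lit 19) [(nat_lit 2046), (nat_lit 2052)]))) (.node (.leaf .df) (.leaf (.cyc (nat_lit 7) [(nat_lit 3075), (nat_lit 634), (nat_lit 1912), (nat_lit 604), (nat_lit 222), (nat_lit 223), (nat_lit 607)])))) (.node (.node (.leaf .df) (.leaf (.cyc (nat_lit 0) [(nat_lit 2241), (nat_lit 2563)]))) (.node (.leaf (.cyc (nat_lit 2) [(nat_lit 1539), (nat_lit 1444)])) (.leaf (.cyc (nat_lit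 6) [(nat_lit 1210), (nat_lit 1209)]))))) (.node (.node (.node (.leaf .df) (.leaf (.cyc (nat_lit 4) [(nat_lit 1861), (nat_lit 1658), (nat_lit 2308), (nat_lit 786), (nat_lit 784)]))) (.node (.leaf (.cyc (nat_lit 2) [(nat_lit 13), (nat_lit 12)])) (.leaf (.cyc (nat_lit 34) [(nat_lit 3332), (nat_lit 2527), (nat_lit 779), (nat_lit 1566), (nat_lit 2880), (nat_lit 2250), (nat_lit 1946), (nat_lit 1124), (nat_lit 3281), (nat_lit 3285), (nat_lit 1075), (nat_lit 2530), (nat_lit 761)])))) (.node (.node (.leaf .df) (.leaf (.cyc (nat_lit 24) [(nat_lit 2624), (nat_lit 2819)]))) (.node (.leaf (.cyc (nat_lit 9) [(nat_lit 1794), (nat_lit 322), (nat_lit 108), (nat_lit 110), (nat_lit 329)])) (.leaf .df))))) (.node (.node (.node (.node (.leaf .df) (.leaf (.cyc (nat_lit 8) [(nat_lit 723), (nat_lit 283), (nat_lit 286), (nat_lit 2152), (nat_lit 2050)]))) (.node (.leaf .df) (.leaf (.cyc (nat_lit 10) [(nat_lit 780), (nat_lit 781), (nat_lit 2999), (nat_lit 2495), (nat_lit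 1099)])))) (.node (.node (.leaf .df) (.leaf (.cyc (nat_lit 28) [(nat_lit 2603), (nat_lit 2478), (nat_lit 2691), (nat_lit 2692), (nat_lit 655), (nat_lit 1961), (nat_lit 433), (nat_lit 1970)]))) (.node (.leaf (.cyc (nat_lit 0) [(nat_lit 1403), (nat_lit 406)])) (.leaf (.cyc (nat_lit 1) [(nat_lit 3414), (nat_lit 1245)]))))) (.node (.node (.node (.leaf .df) (.leaf (.cyc (nat_lit 14) [(nat_lit 2232), (nat_lit 833)]))) (.node (.leaf (.cyc (nat_lit 2) [(nat_lit 168), (nat_lit 1404)])) (.leaf (.cyc (nat_lit 8) [(nat_lit 3143), (nat_lit 3452), (nat_lit 1173), (nat_lit 2285), (nat_lit 1177)])))) (.node (.node (.leaf .df) (.leaf (.cyc (nat_lit 26) [(nat_lit 1016), (nat_lit 1785), (nat_lit 514), (nat_lit 180), (nat_lit 181), (nat_lit 1757), (nat_lit 2632)]))) (.node (.leaf (.cyc (nat_lit 2) [(nat_lit 614), (nat_lit 613)])) (.leaf .df)))))) (.node (.node (.node (.node (.node (.leaf .df) (.leaf (.cyc (nat_lit 10) [(nat_lit 277), (nat_lit 88), (nat_lit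 85), (nat_lit 269), (nat_lit 696)]))) (.node (.leaf .df) (.leaf (.cyc (nat_lit 26) [(nat_lit 1077), (nat_lit 581), (nat_lit 1460), (nat_lit 1331), (nat_lit 247), (nat_lit 1701), (nat_lit 960)])))) (.node (.node (.leaf .df) (.leaf (.cyc (nat_lit 0) [(nat_lit 2626), (nat_lit 2627)]))) (.node (.leaf (.cyc (nat_lit 4) [(nat_lit 347), (nat_lit 119), (nat_lit 35), (nat_lit 38), (nat_lit 128)])) (.leaf (.cyc (nat_lit 2) [(nat_lit 1229), (nat_lit 3052)]))))) (.node (.node (.node (.leaf .df) (.leaf (.cyc (nat_lit 14) [(nat_lit 1820), (nat_lit 809)]))) (.node (.leaf (.cyc (nat_lit 9) [(nat_lit 99), (nat_lit 28), (nat_lit 7), (nat_lit 8), (nat_lit 33)])) (.leaf (.cyc (nat_lit 33) [(nat_lit 2989), (nat_lit 2990), (nat_lit 2623), (nat_lit 2357), (nat_lit 785), (nat_lit 787), (nat_lit 2741), (nat_lit 2744), (nat_lit 1158)])))) (.node (.node (.leaf .df) (.leaf (.cyc (nat_lit 0) [(nat_lit 2508), (nat_lit 2882)]))) (.node (.leaf (.cyc (nat_lit 25) [(nat_lit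 1524), (nat_lit 1447), (nat_lit 1448), (nat_lit 1860), (nat_lit 1544), (nat_lit 1845), (nat_lit 1843)])) (.leaf .df))))) (.node (.node (.node (.node (.leaf .df) (.leaf (.cyc (nat_lit 4) [(nat_lit 527), (nat_lit 186), (nat_lit 2092), (nat_lit 355), (nat_lit 2244)]))) (.node (.leaf .df) (.leaf (.cyc (nat_lit 9) [(nat_lit 2680), (nat_lit 2678), (nat_lit 629), (nat_lit 631), (nat_lit 1119)])))) (.node (.node (.leaf .df) (.leaf (.cyc (nat_lit 14) [(nat_lit 2402), (nat_lit 954)]))) (.node (.leaf (.cyc (nat_lit 10) [(nat_lit 469), (nat_lit 165), (nat_lit 1312), (nat_lit 167), (nat_lit 1478)])) (.leaf (.cyc (nat_lit 43) [(nat_lit 1137), (nat_lit 1977), (nat_lit 3302), (nat_lit 2914), (nat_lit 3635), (nat_lit 3636), (nat_lit 1079), (nat_lit 1974), (nat_lit 1134), (nat_lit 3312), (nat_lit 2745), (nat_lit 1082), (nat_lit 1262)]))))) (.node (.node (.node (.leaf .df) (.leaf (.cyc (nat_lit 41) [(nat_lit 430), (nat_lit 150), (nat_lit 1308), (nat_lit 145),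 (nat_lit 413), (nat_lit 2155), (nat_lit 284), (nat_lit 1343), (nat_lit 290), (nat_lit 735), (nat_lit 2499), (nat_lit 853), (nat_lit 855)]))) (.node (.leaf (.cyc (nat_lit 5) [(nat_lit 1476), (nat_lit 1474)])) (.leaf (.cyc (nat_lit 5) [(nat_lit 1192), (nat_lit 1191)])))) (.node (.node (.leaf .df) (.leaf (.cyc (nat_lit 35) [(nat_lit 3012), (nat_lit 3011), (nat_lit 904), (nat_lit 1657), (nat_lit 1656), (nat_lit 321), (nat_lit 1365), (nat_lit 1517), (nat_lit 1859), (nat_lit 1462), (nat_lit 589), (nat_lit 1898), (nat_lit 918)]))) (.node (.leaf (.cyc (nat_lit 2) [(nat_lit 676), (nat_lit 1941)])) (.leaf .df))))))) (.node (.node (.node (.node (.node (.node (.leaf .df) (.leaf (.cyc (nat_lit 34) [(nat_lit 2077), (nat_lit 1528), (nat_lit 239), (nat_lit 74), (nat_lit 1305), (nat_lit 42), (nat_lit 11), (nat_lit 2), (nat_lit 1), (nat_lit 8), (nat_lit 34), (nat_lit 116), (nat_lit 337)]))) (.node (.leaf .df) (.leaf (.cyc (nat_lit 16) [(nat_lit 3107), (nat_lit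 2165), (nat_lit 2049), (nat_lit 1582), (nat_lit 1448), (nat_lit 1860), (nat_lit 1596), (nat_lit 1597), (nat_lit 161), (nat_lit 160), (nat_lit 1795), (nat_lit 1575), (nat_lit 1919)])))) (.node (.node (.leaf .df) (.leaf (.cyc (nat_lit 14) [(nat_lit 2262), (nat_lit 2594)]))) (.node (.leaf (.cyc (nat_lit 14) [(nat_lit 1482), (nat_lit 320)])) (.leaf (.cyc (nat_lit 2) [(nat_lit 1220), (nat_lit 3028)]))))) (.node (.node (.node (.leaf .df) (.leaf (.cyc (nat_lit 2) [(nat_lit 801), (nat_lit 800)]))) (.node (.leaf (.cyc (nat_lit 0) [(nat_lit 1304), (nat_lit 59)])) (.leaf (.cyc (nat_lit 7) [(nat_lit 1003), (nat_lit 1777), (nat_lit 2002), (nat_lit 267), (nat_lit 264), (nat_lit 688), (nat_lit 1151)])))) (.node (.node (.leaf .df) (.leaf (.cyc (nat_lit 27) [(nat_lit 2834), (nat_lit 2852)]))) (.node (.leaf (.cyc (nat_lit 2) [(nat_lit 546), (nat_lit 545)])) (.leaf .df))))) (.node (.node (.node (.node (.leaf .df) (.leaf (.cyc (nat_lit 2) [(nat_lit 734), (nat_lit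 2148)]))) (.node (.leaf .df) (.leaf (.cyc (nat_lit 2) [(nat_lit 1110), (nat_lit 2717)])))) (.node (.node (.leaf .df) (.leaf (.cyc (nat_lit 5) [(nat_lit 2724), (nat_lit 2600)]))) (.node (.leaf (.cyc (nat_lit 0) [(nat_lit 1654), (nat_lit 446)])) (.leaf (.cyc (nat_lit 5) [(nat_lit 1252), (nat_lit 3456)]))))) (.node (.node (.node (.leaf .df) (.leaf (.cyc (nat_lit 11) [(nat_lit 725), (nat_lit 283), (nat_lit 285), (nat_lit 727), (nat_lit 2197), (nat_lit 1648), (nat_lit 2468)]))) (.node (.leaf (.cyc (nat_lit 5) [(nat_lit 204), (nat_lit 203)])) (.leaf (.cyc (nat_lit 2) [(nat_lit 3490), (nat_lit 3184)])))) (.node (.node (.leaf .df) (.leaf (.cyc (nat_lit 5) [(nat_lit 2980), (nat_lit 2219)]))) (.node (.leaf (.cyc (nat_lit 9) [(nat_lit 649), (nat_lit 1492), (nat_lit 149), (nat_lit 150), (nat_lit 429)])) (.leaf .df)))))) (.node (.node (.node (.node (.node (.leaf .df) (.leaf (.cyc (nat_lit 34) [(nat_lit 1989), (nat_lit 2066), (nat_lit 554), (nat_lit 196),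 (nat_lit 62), (nat_lit 17), (nat_lit 14), (nat_lit 52), (nat_lit 166), (nat_lit 2078), (nat_lit 714), (nat_lit 2142), (nat_lit 2148)]))) (.node (.leaf .df) (.leaf (.cyc (nat_lit 27) [(nat_lit 3170), (nat_lit 3172)])))) (.node (.node (.leaf .df) (.leaf (.cyc (nat_lit 11) [(nat_lit 2437), (nat_lit 576), (nat_lit 1457), (nat_lit 1381), (nat_lit 360), (nat_lit 1883), (nat_lit 910)]))) (.node (.leaf (.cyc (nat_lit 0) [(nat_lit 1390), (nat_lit 379)])) (.leaf (.cyc (nat_lit 28) [(nat_lit 3683), (nat_lit 1208), (nat_lit 3035), (nat_lit 3164), (nat_lit 2655), (nat_lit 3360), (nat_lit 3375)]))))) (.node (.node (.node (.leaf .df) (.leaf (.cyc (nat_lit 37) [(nat_lit 795), (nat_lit 320), (nat_lit 1363), (nat_lit 82), (nat_lit 84), (nat_lit 265), (nat_lit 689), (nat_lit 2099), (nat_lit 2106), (nat_lit 2403), (nat_lit 437), (nat_lit 1559), (nat_lit 750)]))) (.node (.leaf (.cyc (nat_lit 0) [(nat_lit 1373), (nat_lit 132)])) (.leaf (.cyc (nat_lit 7) [(nat_lit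 2784), (nat_lit 3427), (nat_lit 3425), (nat_lit 1129), (nat_lit 2166), (nat_lit 736), (nat_lit 1166)])))) (.node (.node (.leaf .df) (.leaf (.cyc (nat_lit 11) [(nat_lit 1999), (nat_lit 2009), (nat_lit 2010), (nat_lit 1504), (nat_lit 1510), (nat_lit 504), (nat_lit 1007)]))) (.node (.leaf (.cyc (nat_lit 11) [(nat_lit 244), (nat_lit 76), (nat_lit 21), (nat_lit 18), (nat_lit 68), (nat_lit 214), (nat_lit 583)])) (.leaf .df))))) (.node (.node (.node (.node (.leaf .df) (.leaf (.cyc (nat_lit 6) [(nat_lit 2274), (nat_lit 2273)]))) (.node (.leaf .df) (.leaf (.cyc (nat_lit 27) [(nat_lit 1053), (nat_lit 3300)])))) (.node (.node (.leaf .df) (.leaf (.cyc (nat_lit 34) [(nat_lit 2787), (nat_lit 2485), (nat_lit 2487), (nat_lit 2488), (nat_lit 2318), (nat_lit 2319), (nat_lit 1781), (nat_lit 2320), (nat_lit 2322), (nat_lit 1805), (nat_lit 2628), (nat_lit 2627), (nat_lit 2045)]))) (.node (.leaf (.cyc (nat_lit 16) [(nat_lit 488), (nat_lit 1726), (nat_lit 1728),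 (nat_lit 1727), (nat_lit 175), (nat_lit 173), (nat_lit 1764), (nat_lit 1564), (nat_lit 1565), (nat_lit 127), (nat_lit 1353), (nat_lit 1394), (nat_lit 1678), (nat_lit 1512)])) (.leaf (.cyc (nat_lit 35) [(nat_lit 3768), (nat_lit 3757), (nat_lit 3605), (nat_lit 3308), (nat_lit 3311), (nat_lit 2989), (nat_lit 3397), (nat_lit 3783), (nat_lit 3785), (nat_lit 3787), (nat_lit 3786), (nat_lit 3788), (nat_lit 3812)]))))) (.node (.node (.node (.leaf .df) (.leaf (.cyc (nat_lit 20) [(nat_lit 2278), (nat_lit 2531), (nat_lit 615)]))) (.node (.leaf (.cyc (nat_lit 23) [(nat_lit 1505), (nat_lit 1508)])) (.leaf (.cyc (nat_lit 3) [(nat_lit 3553), (nat_lit 1200), (nat_lit 835), (nat_lit 837), (nat_lit 1201)])))) (.node (.node (.leaf .df) (.leaf (.cyc (nat_lit 10) [(nat_lit 556), (nat_lit 197), (nat_lit 195), (nat_lit 548), (nat_lit 1046)]))) (.node (.leaf (.cyc (nat_lit 23) [(nat_lit 1921), (nat_lit 2016), (nat_lit 596)])) (.leaf .df))))))))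
noncomputable def c5P10101 : BT Pf := (.node (.node (.node (.node (.node (.node (.node (.leaf .df) (.leaf (.cyc (nat_lit 13) [(nat_lit 1984), (nat_lit 2068), (nat_lit 605), (nat_lit 1467), (nat_lit 1552), (nat_lit 252), (nat_lit 673)]))) (.node (.leaf .df) (.leaf (.cyc (nat_lit 3) [(nat_lit 2523), (nat_lit 3090), (nat_lit 3091), (nat_lit 819), (nat_lit 1684), (nat_lit 929)])))) (.node (.node (.leaf .df) (.leaf (.cyc (nat_lit 4) [(nat_lit 880), (nat_lit 1646), (nat_lit 1876), (nat_lit 1879), (nat_lit 1842)]))) (.node (.leaf (.cyc (nat_lit 2) [(nat_lit 301), (nat_lit 300)])) (.leaf (.cyc (nat_lit 14) [(nat_lit 3125), (nat_lit 1216)]))))) (.node (.node (.node (.leaf .df) (.leaf (.cyc (nat_lit 10) [(nat_lit 331), (nat_lit 111), (nat_lit 108), (nat_lit 322), (nat_lit 797)]))) (.node (.leaf (.cyc (nat_lit 5) [(nat_lit 36), (nat_lit 35)])) (.leaf (.cyc (nat_lit 7) [(nat_lit 2737), (nat_lit 2105), (nat_lit 1738), (nat_lit 1737), (nat_lit 1733),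 (nat_lit 2056), (nat_lit 1148)])))) (.node (.node (.leaf .df) (.leaf (.cyc (nat_lit 11) [(nat_lit 1965), (nat_lit 2692), (nat_lit 2807), (nat_lit 2806), (nat_lit 1906), (nat_lit 2036), (nat_lit 987)]))) (.node (.leaf (.cyc (nat_lit 13) [(nat_lit 278), (nat_lit 1525), (nat_lit 1454), (nat_lit 1344), (nat_lit 1645), (nat_lit 1427), (nat_lit 531)])) (.leaf .df))))) (.node (.node (.node (.node (.leaf .df) (.leaf (.cyc (nat_lit 8) [(nat_lit 294), (nat_lit 1344), (nat_lit 1387), (nat_lit 394), (nat_lit 2196)]))) (.node (.leaf .df) (.leaf (.cyc (nat_lit 37) [(nat_lit 3038), (nat_lit 2786), (nat_lit 965), (nat_lit 1724), (nat_lit 181), (nat_lit 180), (nat_lit 513), (nat_lit 1783), (nat_lit 507), (nat_lit 505), (nat_lit 2829), (nat_lit 2905), (nat_lit 3219)])))) (.node (.node (.leaf .df) (.leaf (.cyc (nat_lit 2) [(nat_lit 928), (nat_lit 927)]))) (.node (.leaf (.cyc (nat_lit 3) [(nat_lit 423), (nat_lit 1683), (nat_lit 282), (nat_lit 1342), (nat_lit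 280)])) (.leaf (.cyc (nat_lit 43) [(nat_lit 3658), (nat_lit 3341), (nat_lit 3704), (nat_lit 3706), (nat_lit 3079), (nat_lit 3474), (nat_lit 3475), (nat_lit 3030), (nat_lit 3501), (nat_lit 3499), (nat_lit 2913), (nat_lit 2921), (nat_lit 1248)]))))) (.node (.node (.node (.leaf .df) (.leaf (.cyc (nat_lit 13) [(nat_lit 1745), (nat_lit 2452), (nat_lit 2428), (nat_lit 706), (nat_lit 274), (nat_lit 271), (nat_lit 700)]))) (.node (.leaf (.cyc (nat_lit 2) [(nat_lit 191), (nat_lit 1337)])) (.leaf (.cyc (nat_lit 2) [(nat_lit 1182), (nat_lit 3283)])))) (.node (.node (.leaf .df) (.leaf (.cyc (nat_lit 4) [(nat_lit 1019), (nat_lit 512), (nat_lit 510), (nat_lit 2320), (nat_lit 2322)]))) (.node (.leaf (.cyc (nat_lit 8) [(nat_lit 630), (nat_lit 1471), (nat_lit 1913), (nat_lit 1547), (nat_lit 1548)])) (.leaf .df)))))) (.node (.node (.node (.node (.node (.leaf .df) (.leaf (.cyc (nat_lit 6) [(nat_lit 2132), (nat_lit 1819)]))) (.node (.leaf .df) (.leaf (.cyc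 (nat_lit 5) [(nat_lit 1084), (nat_lit 1083)])))) (.node (.node (.leaf .df) (.leaf (.cyc (nat_lit 3) [(nat_lit 2643), (nat_lit 2097), (nat_lit 395), (nat_lit 1644), (nat_lit 528)]))) (.node (.leaf (.cyc (nat_lit 5) [(nat_lit 366), (nat_lit 365)])) (.leaf (.cyc (nat_lit 14) [(nat_lit 3620), (nat_lit 1233)]))))) (.node (.node (.node (.leaf .df) (.leaf (.cyc (nat_lit 1) [(nat_lit 2383), (nat_lit 815)]))) (.node (.leaf (.cyc (nat_lit 6) [(nat_lit 109), (nat_lit 108)])) (.leaf (.cyc (nat_lit 0) [(nat_lit 3031), (nat_lit 3412)])))) (.node (.node (.leaf .df) (.leaf (.cyc (nat_lit 14) [(nat_lit 2829), (nat_lit 2900)]))) (.node (.leaf (.cyc (nat_lit 19) [(nat_lit 533), (nat_lit 1875)])) (.leaf .df))))) (.node (.node (.node (.node (.leaf .df) (.leaf (.cyc (nat_lit 5) [(nat_lit 2260), (nat_lit 1957)]))) (.node (.leaf .df) (.leaf (.cyc (nat_lit 14) [(nat_lit 3155), (nat_lit 3284)])))) (.node (.node (.leaf .df) (.leaf (.cyc (nat_lit 35) [(nat_lit 960),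 (nat_lit 1701), (nat_lit 1499), (nat_lit 2223), (nat_lit 1396), (nat_lit 419), (nat_lit 2404), (nat_lit 692), (nat_lit 2000), (nat_lit 1744), (nat_lit 478), (nat_lit 1433), (nat_lit 547)]))) (.node (.leaf (.cyc (nat_lit 2) [(nat_lit 486), (nat_lit 485)])) (.leaf (.cyc (nat_lit 14) [(nat_lit 3673), (nat_lit 1266)]))))) (.node (.node (.node (.leaf .df) (.leaf (.cyc (nat_lit 2) [(nat_lit 862), (nat_lit 861)]))) (.node (.leaf (.cyc (nat_lit 1) [(nat_lit 1399), (nat_lit 241)])) (.leaf (.cyc (nat_lit 25) [(nat_lit 1002), (nat_lit 2912), (nat_lit 2919), (nat_lit 3492), (nat_lit 3487), (nat_lit 2526), (nat_lit 1196)])))) (.node (.node (.leaf .df) (.leaf (.cyc (nat_lit 8) [(nat_lit 1011), (nat_lit 505), (nat_lit 508), (nat_lit 1014), (nat_lit 3027)]))) (.node (.leaf (.cyc (nat_lit 0) [(nat_lit 2000), (nat_lit 2002)])) (.leaf .df))))))) (.node (.node (.node (.node (.node (.node (.leaf .df) (.leaf (.cyc (nat_lit 10) [(nat_lit 2039), (nat_lit 2001),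 (nat_lit 267), (nat_lit 265), (nat_lit 690)]))) (.node (.leaf .df) (.leaf (.cyc (nat_lit 8) [(nat_lit 886), (nat_lit 2596), (nat_lit 937), (nat_lit 2724), (nat_lit 3123)])))) (.node (.node (.leaf .df) (.leaf (.cyc (nat_lit 1) [(nat_lit 2245), (nat_lit 2611)]))) (.node (.leaf (.cyc (nat_lit 5) [(nat_lit 335), (nat_lit 334)])) (.leaf (.cyc (nat_lit 0) [(nat_lit 3304), (nat_lit 1224)]))))) (.node (.node (.node (.leaf .df) (.leaf (.cyc (nat_lit 43) [(nat_lit 785), (nat_lit 1571), (nat_lit 2356), (nat_lit 1805), (nat_lit 2322), (nat_lit 2320), (nat_lit 2211), (nat_lit 193), (nat_lit 1361), (nat_lit 105), (nat_lit 1555), (nat_lit 1500), (nat_lit 669)]))) (.node (.leaf (.cyc (nat_lit 2) [(nat_lit 80), (nat_lit 79)])) (.leaf (.cyc (nat_lit 25) [(nat_lit 1057), (nat_lit 1059), (nat_lit 3307), (nat_lit 3292), (nat_lit 2525), (nat_lit 2523), (nat_lit 1155)])))) (.node (.node (.leaf .df) (.leaf (.cyc (nat_lit 0) [(nat_lit 992), (nat_lit 2868)]))) (.node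 (.leaf (.cyc (nat_lit 33) [(nat_lit 1544), (nat_lit 1596), (nat_lit 1597), (nat_lit 1439), (nat_lit 333), (nat_lit 1663), (nat_lit 1844), (nat_lit 560), (nat_lit 558)])) (.leaf .df))))) (.node (.node (.node (.node (.leaf .df) (.leaf (.cyc (nat_lit 3) [(nat_lit 2228), (nat_lit 529), (nat_lit 188), (nat_lit 190), (nat_lit 538)]))) (.node (.leaf .df) (.leaf (.cyc (nat_lit 3) [(nat_lit 2840), (nat_lit 2839), (nat_lit 3251), (nat_lit 1113), (nat_lit 1114)])))) (.node (.node (.leaf .df) (.leaf (.cyc (nat_lit 38) [(nat_lit 787), (nat_lit 784), (nat_lit 2309), (nat_lit 559), (nat_lit 200), (nat_lit 1359), (nat_lit 106), (nat_lit 30), (nat_lit 28), (nat_lit 101), (nat_lit 304), (nat_lit 2398), (nat_lit 950)]))) (.node (.leaf (.cyc (nat_lit 7) [(nat_lit 304), (nat_lit 101), (nat_lit 1295), (nat_lit 1309), (nat_lit 152), (nat_lit 436), (nat_lit 1716)])) (.leaf (.cyc (nat_lit 11) [(nat_lit 3073), (nat_lit 3273), (nat_lit 3309), (nat_lit 3308), (nat_lit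 3125), (nat_lit 3066), (nat_lit 1258)]))))) (.node (.node (.node (.leaf .df) (.leaf (.cyc (nat_lit 0) [(nat_lit 2435), (nat_lit 2480)]))) (.node (.leaf (.cyc (nat_lit 5) [(nat_lit 214), (nat_lit 213)])) (.leaf (.cyc (nat_lit 11) [(nat_lit 3224), (nat_lit 3223), (nat_lit 2736), (nat_lit 3324), (nat_lit 3504), (nat_lit 1187), (nat_lit 1188)])))) (.node (.node (.leaf .df) (.leaf (.cyc (nat_lit 35) [(nat_lit 2183), (nat_lit 2160), (nat_lit 301), (nat_lit 1350), (nat_lit 1386), (nat_lit 395), (nat_lit 2097), (nat_lit 526), (nat_lit 525), (nat_lit 2504), (nat_lit 2727), (nat_lit 2728), (nat_lit 1031)]))) (.node (.leaf (.cyc (nat_lit 6) [(nat_lit 659), (nat_lit 658)])) (.leaf .df)))))) (.node (.node (.node (.node (.node (.leaf .df) (.leaf (.cyc (nat_lit 1) [(nat_lit 2048), (nat_lit 2163)]))) (.node (.leaf .df) (.leaf (.cyc (nat_lit 2) [(nat_lit 3188), (nat_lit 2971)])))) (.node (.node (.leaf .df) (.leaf (.cyc (nat_lit 19) [(nat_lit 914), (nat_lit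 2675)]))) (.node (.leaf (.cyc (nat_lit 3) [(nat_lit 1650), (nat_lit 1652), (nat_lit 1542), (nat_lit 245), (nat_lit 247)])) (.leaf (.cyc (nat_lit 5) [(nat_lit 1240), (nat_lit 3617)]))))) (.node (.node (.node (.leaf .df) (.leaf (.cyc (nat_lit 9) [(nat_lit 1927), (nat_lit 1926), (nat_lit 1934), (nat_lit 2333), (nat_lit 822)]))) (.node (.leaf (.cyc (nat_lit 1) [(nat_lit 1378), (nat_lit 149)])) (.leaf (.cyc (nat_lit 3) [(nat_lit 3441), (nat_lit 3442), (nat_lit 2754), (nat_lit 2193), (nat_lit 3317)])))) (.node (.node (.leaf .df) (.leaf (.cyc (nat_lit 13) [(nat_lit 2607), (nat_lit 2606), (nat_lit 652), (nat_lit 240), (nat_lit 241), (nat_lit 653), (nat_lit 2932)]))) (.node (.leaf (.cyc (nat_lit 26) [(nat_lit 599), (nat_lit 1660), (nat_lit 1659), (nat_lit 207), (nat_lit 208), (nat_lit 1712), (nat_lit 1607)])) (.leaf .df))))) (.node (.node (.node (.node (.leaf .df) (.leaf (.cyc (nat_lit 1) [(nat_lit 2284), (nat_lit 780)]))) (.node (.leaf .df) (.leaf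 (.cyc (nat_lit 28) [(nat_lit 1136), (nat_lit 3231), (nat_lit 3230), (nat_lit 871), (nat_lit 1633), (nat_lit 2042), (nat_lit 2040)])))) (.node (.node (.leaf .df) (.leaf (.cyc (nat_lit 8) [(nat_lit 971), (nat_lit 2570), (nat_lit 2576), (nat_lit 2575), (nat_lit 2539)]))) (.node (.leaf (.cyc (nat_lit 5) [(nat_lit 510), (nat_lit 509)])) (.leaf (.cyc (nat_lit 4) [(nat_lit 1273), (nat_lit 3565), (nat_lit 906), (nat_lit 909), (nat_lit 3602)]))))) (.node (.node (.node (.leaf .df) (.leaf (.cyc (nat_lit 2) [(nat_lit 869), (nat_lit 868)]))) (.node (.leaf (.cyc (nat_lit 19) [(nat_lit 275), (nat_lit 1523)])) (.leaf (.cyc (nat_lit 13) [(nat_lit 2888), (nat_lit 1778), (nat_lit 1009), (nat_lit 2929), (nat_lit 2498), (nat_lit 2500), (nat_lit 3572)])))) (.node (.node (.leaf .df) (.leaf (.cyc (nat_lit 34) [(nat_lit 1050), (nat_lit 1842), (nat_lit 1879), (nat_lit 323), (nat_lit 322), (nat_lit 1794), (nat_lit 1797), (nat_lit 329), (nat_lit 327), (nat_lit 2560),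 (nat_lit 630), (nat_lit 1942), (nat_lit 1855)]))) (.node (.leaf (.cyc (nat_lit 8) [(nat_lit 1720), (nat_lit 2003), (nat_lit 2002), (nat_lit 1514), (nat_lit 2007), (nat_lit 466)])) (.leaf .df))))))))
noncomputable def c5P1010 : BT Pf := .node c5P10100 c5P10101
noncomputable def c5P10110 : BT Pf := (.node (.node (.node (.node (.node (.node (.node (.leaf .df) (.leaf (.cyc (nat_lit 24) [(nat_lit 1947), (nat_lit 2058)]))) (.node (.leaf .df) (.leaf (.cyc (nat_lit 4) [(nat_lit 933), (nat_lit 1686), (nat_lit 716), (nat_lit 3084), (nat_lit 3083)])))) (.node (.node (.leaf .df) (.leaf (.cyc (nat_lit 15) [(nat_lit 2571), (nat_lit 2567), (nat_lit 2539), (nat_lit 2040), (nat_lit 2043), (nat_lit 2053), (nat_lit 1734), (nat_lit 2015), (nat_lit 2017)]))) (.node (.leaf (.cyc (nat_lit 8) [(nat_lit 1466), (nat_lit 1488), (nat_lit 299), (nat_lit 1548), (nat_lit 253), (nat_lit 255)])) (.leaf (.cyc (nat_lit 6) [(nat_lit 1212), (nat_lit 2686)]))))) (.node (.node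 (.node (.leaf .df) (.leaf (.cyc (nat_lit 8) [(nat_lit 794), (nat_lit 1742), (nat_lit 185), (nat_lit 183), (nat_lit 518)]))) (.node (.leaf (.cyc (nat_lit 6) [(nat_lit 26), (nat_lit 1283)])) (.leaf (.cyc (nat_lit 2) [(nat_lit 1145), (nat_lit 1144)])))) (.node (.node (.leaf .df) (.leaf (.cyc (nat_lit 37) [(nat_lit 2828), (nat_lit 828), (nat_lit 1618), (nat_lit 1709), (nat_lit 1406), (nat_lit 1654), (nat_lit 1653), (nat_lit 391), (nat_lit 393), (nat_lit 2610), (nat_lit 2609), (nat_lit 507), (nat_lit 505)]))) (.node (.leaf (.cyc (nat_lit 2) [(nat_lit 523), (nat_lit 522)])) (.leaf .df))))) (.node (.node (.node (.node (.leaf .df) (.leaf (.cyc (nat_lit 21) [(nat_lit 722), (nat_lit 2187)]))) (.node (.leaf .df) (.leaf (.cyc (nat_lit 14) [(nat_lit 3109), (nat_lit 1101)])))) (.node (.node (.leaf .df) (.leaf (.cyc (nat_lit 2) [(nat_lit 925), (nat_lit 2672)]))) (.node (.leaf (.cyc (nat_lit 9) [(nat_lit 1676), (nat_lit 1504), (nat_lit 81), (nat_lit 83),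 (nat_lit 262)])) (.leaf (.cyc (nat_lit 8) [(nat_lit 3520), (nat_lit 3394), (nat_lit 3636), (nat_lit 3635), (nat_lit 1247)]))))) (.node (.node (.node (.leaf .df) (.leaf (.cyc (nat_lit 17) [(nat_lit 825), (nat_lit 1607), (nat_lit 1712), (nat_lit 1449), (nat_lit 1639), (nat_lit 2442), (nat_lit 2444), (nat_lit 750), (nat_lit 302), (nat_lit 1375), (nat_lit 369), (nat_lit 2410), (nat_lit 1840)]))) (.node (.leaf (.cyc (nat_lit 5) [(nat_lit 180), (nat_lit 179)])) (.leaf (.cyc (nat_lit 3) [(nat_lit 3467), (nat_lit 3335), (nat_lit 3333), (nat_lit 3334), (nat_lit 2690)])))) (.node (.node (.leaf .df) (.leaf (.cyc (nat_lit 5) [(nat_lit 1018), (nat_lit 1017)]))) (.node (.leaf (.cyc (nat_lit 5) [(nat_lit 623), (nat_lit 622)])) (.leaf .df)))))) (.node (.node (.node (.node (.node (.leaf .df) (.leaf (.cyc (nat_lit 11) [(nat_lit 293), (nat_lit 93), (nat_lit 26), (nat_lit 24), (nat_lit 87), (nat_lit 272), (nat_lit 702)]))) (.node (.leaf .df) (.leaf (.cyc (nat_lit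 35) [(nat_lit 2128), (nat_lit 2125), (nat_lit 293), (nat_lit 93), (nat_lit 96), (nat_lit 297), (nat_lit 1543), (nat_lit 341), (nat_lit 1886), (nat_lit 1393), (nat_lit 1865), (nat_lit 584), (nat_lit 1080)])))) (.node (.node (.leaf .df) (.leaf (.cyc (nat_lit 1) [(nat_lit 2366), (nat_lit 2636)]))) (.node (.leaf (.cyc (nat_lit 2) [(nat_lit 359), (nat_lit 358)])) (.leaf (.cyc (nat_lit 11) [(nat_lit 943), (nat_lit 1958), (nat_lit 650), (nat_lit 1492), (nat_lit 425), (nat_lit 935), (nat_lit 1231)]))))) (.node (.node (.node (.leaf .df) (.leaf (.cyc (nat_lit 4) [(nat_lit 812), (nat_lit 332), (nat_lit 1525), (nat_lit 278), (nat_lit 1813)]))) (.node (.leaf (.cyc (nat_lit 5) [(nat_lit 103), (nat_lit 102)])) (.leaf (.cyc (nat_lit 10) [(nat_lit 2617), (nat_lit 1899), (nat_lit 1526), (nat_lit 712), (nat_lit 1160)])))) (.node (.node (.leaf .df) (.leaf (.cyc (nat_lit 9) [(nat_lit 626), (nat_lit 1471), (nat_lit 630), (nat_lit 1989), (nat_lit 2892)]))) (.node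 (.leaf (.cyc (nat_lit 6) [(nat_lit 575), (nat_lit 1638)])) (.leaf .df))))) (.node (.node (.node (.node (.leaf .df) (.leaf (.cyc (nat_lit 0) [(nat_lit 2248), (nat_lit 2251)]))) (.node (.leaf .df) (.leaf (.cyc (nat_lit 8) [(nat_lit 3276), (nat_lit 2851), (nat_lit 793), (nat_lit 2853), (nat_lit 1063)])))) (.node (.node (.leaf .df) (.leaf (.cyc (nat_lit 46) [(nat_lit 956), (nat_lit 2384), (nat_lit 2383), (nat_lit 1885), (nat_lit 154), (nat_lit 1310), (nat_lit 157), (nat_lit 448), (nat_lit 2096), (nat_lit 2317), (nat_lit 2700), (nat_lit 2698), (nat_lit 2705)]))) (.node (.leaf (.cyc (nat_lit 22) [(nat_lit 383), (nat_lit 1383), (nat_lit 55), (nat_lit 15), (nat_lit 17), (nat_lit 62), (nat_lit 1414), (nat_lit 477), (nat_lit 1740)])) (.leaf (.cyc (nat_lit 8) [(nat_lit 1135), (nat_lit 660), (nat_lit 1901), (nat_lit 1092), (nat_lit 1264)]))))) (.node (.node (.node (.leaf .df) (.leaf (.cyc (nat_lit 8) [(nat_lit 650), (nat_lit 240), (nat_lit 1399), (nat_lit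 372), (nat_lit 858)]))) (.node (.leaf (.cyc (nat_lit 17) [(nat_lit 153), (nat_lit 1309), (nat_lit 1295), (nat_lit 1352), (nat_lit 1342), (nat_lit 1484), (nat_lit 1482), (nat_lit 1363), (nat_lit 1337), (nat_lit 59), (nat_lit 1287), (nat_lit 65), (nat_lit 204)])) (.leaf (.cyc (nat_lit 43) [(nat_lit 821), (nat_lit 347), (nat_lit 1592), (nat_lit 1368), (nat_lit 1438), (nat_lit 1435), (nat_lit 319), (nat_lit 1742), (nat_lit 1426), (nat_lit 524), (nat_lit 2986), (nat_lit 2987), (nat_lit 1194)])))) (.node (.node (.leaf .df) (.leaf (.cyc (nat_lit 9) [(nat_lit 2815), (nat_lit 1028), (nat_lit 2988), (nat_lit 3013), (nat_lit 1040)]))) (.node (.leaf (.cyc (nat_lit 38) [(nat_lit 1990), (nat_lit 677), (nat_lit 1504), (nat_lit 81), (nat_lit 23), (nat_lit 1280), (nat_lit 26), (nat_lit 93), (nat_lit 292), (nat_lit 1586), (nat_lit 199), (nat_lit 1322), (nat_lit 195), (nat_lit 550)])) (.leaf .df))))))) (.node (.node (.node (.node (.node (.node (.leaf .df)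 (.leaf (.cyc (nat_lit 27) [(nat_lit 353), (nat_lit 2091)]))) (.node (.leaf .df) (.leaf (.cyc (nat_lit 43) [(nat_lit 1037), (nat_lit 2139), (nat_lit 3116), (nat_lit 3114), (nat_lit 2549), (nat_lit 2541), (nat_lit 1693), (nat_lit 302), (nat_lit 1375), (nat_lit 369), (nat_lit 2027), (nat_lit 2028), (nat_lit 1931), (nat_lit 1932)])))) (.node (.node (.leaf .df) (.leaf (.cyc (nat_lit 8) [(nat_lit 1735), (nat_lit 1477), (nat_lit 1475), (nat_lit 388), (nat_lit 890)]))) (.node (.leaf (.cyc (nat_lit 1) [(nat_lit 1475), (nat_lit 331)])) (.leaf (.cyc (nat_lit 3) [(nat_lit 3626), (nat_lit 2716), (nat_lit 2726), (nat_lit 3360), (nat_lit 1222)]))))) (.node (.node (.node (.leaf .df) (.leaf (.cyc (nat_lit 5) [(nat_lit 2348), (nat_lit 2347)]))) (.node (.leaf (.cyc (nat_lit 6) [(nat_lit 67), (nat_lit 66)])) (.leaf (.cyc (nat_lit 18) [(nat_lit 747), (nat_lit 748), (nat_lit 3082), (nat_lit 3081), (nat_lit 1153)])))) (.node (.node (.leaf .df) (.leaf (.cyc (nat_lit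 34) [(nat_lit 2644), (nat_lit 2635), (nat_lit 805), (nat_lit 2352), (nat_lit 2439), (nat_lit 2438), (nat_lit 821), (nat_lit 1628), (nat_lit 1629), (nat_lit 309), (nat_lit 307), (nat_lit 1763), (nat_lit 990)]))) (.node (.leaf (.cyc (nat_lit 11) [(nat_lit 1825), (nat_lit 249), (nat_lit 1465), (nat_lit 1467), (nat_lit 1833), (nat_lit 551), (nat_lit 553)])) (.leaf .df))))) (.node (.node (.node (.node (.leaf .df) (.leaf (.cyc (nat_lit 27) [(nat_lit 666), (nat_lit 2220), (nat_lit 1682)]))) (.node (.leaf .df) (.leaf (.cyc (nat_lit 9) [(nat_lit 3198), (nat_lit 3199), (nat_lit 1010), (nat_lit 2829), (nat_lit 3244)])))) (.node (.node (.leaf .df) (.leaf (.cyc (nat_lit 2) [(nat_lit 943), (nat_lit 2294)]))) (.node (.leaf (.cyc (nat_lit 21) [(nat_lit 1617), (nat_lit 1706)])) (.leaf (.cyc (nat_lit 0) [(nat_lit 3608), (nat_lit 1256)]))))) (.node (.node (.node (.leaf .df) (.leaf (.cyc (nat_lit 46) [(nat_lit 587), (nat_lit 1857), (nat_lit 1856), (nat_lit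 1660), (nat_lit 219), (nat_lit 2025), (nat_lit 1338), (nat_lit 267), (nat_lit 2002), (nat_lit 502), (nat_lit 1727), (nat_lit 1758), (nat_lit 846)]))) (.node (.leaf (.cyc (nat_lit 23) [(nat_lit 113), (nat_lit 1451)])) (.leaf (.cyc (nat_lit 18) [(nat_lit 3030), (nat_lit 2930), (nat_lit 3200), (nat_lit 2913), (nat_lit 3499)])))) (.node (.node (.leaf .df) (.leaf (.cyc (nat_lit 5) [(nat_lit 1029), (nat_lit 1028)]))) (.node (.leaf (.cyc (nat_lit 2) [(nat_lit 655), (nat_lit 654)])) (.leaf .df)))))) (.node (.node (.node (.node (.node (.leaf .df) (.leaf (.cyc (nat_lit 24) [(nat_lit 376), (nat_lit 2154)]))) (.node (.leaf .df) (.leaf (.cyc (nat_lit 2) [(nat_lit 1091), (nat_lit 1090)])))) (.node (.node (.leaf .df) (.leaf (.cyc (nat_lit 3) [(nat_lit 2667), (nat_lit 2666), (nat_lit 2565), (nat_lit 1923), (nat_lit 798)]))) (.node (.leaf (.cyc (nat_lit 21) [(nat_lit 291), (nat_lit 1643)])) (.leaf (.cyc (nat_lit 42) [(nat_lit 1122), (nat_lit 1946), (nat_lit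 2873), (nat_lit 494), (nat_lit 1417), (nat_lit 498), (nat_lit 996), (nat_lit 3423), (nat_lit 2939), (nat_lit 1025), (nat_lit 3689), (nat_lit 1238), (nat_lit 3692)]))))) (.node (.node (.node (.leaf .df) (.leaf (.cyc (nat_lit 11) [(nat_lit 708), (nat_lit 2114), (nat_lit 665), (nat_lit 1654), (nat_lit 1406), (nat_lit 1708), (nat_lit 816)]))) (.node (.leaf (.cyc (nat_lit 6) [(nat_lit 140), (nat_lit 1319)])) (.leaf (.cyc (nat_lit 10) [(nat_lit 3111), (nat_lit 2994), (nat_lit 909), (nat_lit 907), (nat_lit 3436)])))) (.node (.node (.leaf .df) (.leaf (.cyc (nat_lit 5) [(nat_lit 2918), (nat_lit 2760)]))) (.node (.leaf (.cyc (nat_lit 3) [(nat_lit 1893), (nat_lit 583), (nat_lit 214), (nat_lit 216), (nat_lit 591)])) (.leaf .df))))) (.node (.node (.node (.node (.leaf .df) (.leaf (.cyc (nat_lit 5) [(nat_lit 766), (nat_lit 765)]))) (.node (.leaf .df) (.leaf (.cyc (nat_lit 4) [(nat_lit 3290), (nat_lit 3291), (nat_lit 656), (nat_lit 659), (nat_lit 1133)]))))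 (.node (.node (.leaf .df) (.leaf (.cyc (nat_lit 6) [(nat_lit 2795), (nat_lit 2628)]))) (.node (.leaf (.cyc (nat_lit 1) [(nat_lit 1506), (nat_lit 497)])) (.leaf (.cyc (nat_lit 5) [(nat_lit 1271), (nat_lit 3796)]))))) (.node (.node (.node (.leaf .df) (.leaf (.cyc (nat_lit 13) [(nat_lit 1693), (nat_lit 750), (nat_lit 2405), (nat_lit 795), (nat_lit 1634), (nat_lit 377), (nat_lit 868)]))) (.node (.leaf (.cyc (nat_lit 14) [(nat_lit 1364), (nat_lit 270)])) (.leaf (.cyc (nat_lit 1) [(nat_lit 3360), (nat_lit 3564)])))) (.node (.node (.leaf .df) (.leaf (.cyc (nat_lit 13) [(nat_lit 961), (nat_lit 1701), (nat_lit 1499), (nat_lit 2223), (nat_lit 424), (nat_lit 931), (nat_lit 3052)]))) (.node (.leaf (.cyc (nat_lit 19) [(nat_lit 443), (nat_lit 2022), (nat_lit 597)])) (.leaf .df))))))))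
noncomputable def c5P10111 : BT Pf := (.node (.node (.node (.node (.node (.node (.node (.leaf .df) (.leaf (.cyc (nat_lit 23) [(nat_lit 1736), (nat_lit 2076)]))) (.node (.leaf .df) (.leaf (.cyc (nat_lit 6) [(nat_lit 1065), (nat_lit 1064)])))) (.node (.node (.leaf .df) (.leaf (.cyc (nat_lit 9) [(nat_lit 2316), (nat_lit 1743), (nat_lit 1744), (nat_lit 1647), (nat_lit 885)]))) (.node (.leaf (.cyc (nat_lit 11) [(nat_lit 127), (nat_lit 1353), (nat_lit 100), (nat_lit 28), (nat_lit 29), (nat_lit 103), (nat_lit 310)])) (.leaf (.cyc (nat_lit 9) [(nat_lit 983), (nat_lit 2455), (nat_lit 2569), (nat_lit 3096), (nat_lit 3611)]))))) (.node (.node (.node (.leaf .df) (.leaf (.cyc (nat_lit 24) [(nat_lit 1935), (nat_lit 2331)]))) (.node (.leaf (.cyc (nat_lit 6) [(nat_lit 47), (nat_lit 1294)])) (.leaf (.cyc (nat_lit 6) [(nat_lit 1149), (nat_lit 2282)])))) (.node (.node (.leaf .df) (.leaf (.cyc (nat_lit 22) [(nat_lit 548), (nat_lit 195), (nat_lit 1322), (nat_lit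 1359), (nat_lit 106), (nat_lit 1361), (nat_lit 193), (nat_lit 542), (nat_lit 2842), (nat_lit 2844)]))) (.node (.leaf (.cyc (nat_lit 5) [(nat_lit 537), (nat_lit 536)])) (.leaf .df))))) (.node (.node (.node (.node (.leaf .df) (.leaf (.cyc (nat_lit 6) [(nat_lit 2204), (nat_lit 1892)]))) (.node (.leaf .df) (.leaf (.cyc (nat_lit 27) [(nat_lit 3226), (nat_lit 3228)])))) (.node (.node (.leaf .df) (.leaf (.cyc (nat_lit 28) [(nat_lit 934), (nat_lit 1687), (nat_lit 2514), (nat_lit 312), (nat_lit 1357), (nat_lit 306), (nat_lit 2532)]))) (.node (.leaf (.cyc (nat_lit 1) [(nat_lit 1559), (nat_lit 435)])) (.leaf (.cyc (nat_lit 41) [(nat_lit 3275), (nat_lit 1101), (nat_lit 2328), (nat_lit 643), (nat_lit 2648), (nat_lit 902), (nat_lit 1657), (nat_lit 903), (nat_lit 2960), (nat_lit 2963), (nat_lit 1019), (nat_lit 1018), (nat_lit 1251)]))))) (.node (.node (.node (.leaf .df) (.leaf (.cyc (nat_lit 23) [(nat_lit 1746), (nat_lit 2460)]))) (.node (.leaf (.cyc (nat_lit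 13) [(nat_lit 1436), (nat_lit 1435), (nat_lit 106), (nat_lit 30), (nat_lit 28), (nat_lit 99), (nat_lit 1349), (nat_lit 114)])) (.leaf (.cyc (nat_lit 21) [(nat_lit 1173), (nat_lit 3481)])))) (.node (.node (.leaf .df) (.leaf (.cyc (nat_lit 5) [(nat_lit 1022), (nat_lit 1021)]))) (.node (.leaf (.cyc (nat_lit 2) [(nat_lit 640), (nat_lit 639)])) (.leaf .df)))))) (.node (.node (.node (.node (.node (.leaf .df) (.leaf (.cyc (nat_lit 8) [(nat_lit 645), (nat_lit 236), (nat_lit 239), (nat_lit 1528), (nat_lit 714)]))) (.node (.leaf .df) (.leaf (.cyc (nat_lit 25) [(nat_lit 3065), (nat_lit 886), (nat_lit 2595), (nat_lit 1400), (nat_lit 432), (nat_lit 941), (nat_lit 3160)])))) (.node (.node (.leaf .df) (.leaf (.cyc (nat_lit 6) [(nat_lit 905), (nat_lit 2375)]))) (.node (.leaf (.cyc (nat_lit 11) [(nat_lit 309), (nat_lit 102), (nat_lit 1335), (nat_lit 256), (nat_lit 1540), (nat_lit 1377), (nat_lit 373)])) (.leaf (.cyc (nat_lit 8) [(nat_lit 1235), (nat_lit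 3145), (nat_lit 3143), (nat_lit 2771), (nat_lit 2908)]))))) (.node (.node (.node (.leaf .df) (.leaf (.cyc (nat_lit 20) [(nat_lit 2269), (nat_lit 2396)]))) (.node (.leaf (.cyc (nat_lit 13) [(nat_lit 123), (nat_lit 36), (nat_lit 9), (nat_lit 1), (nat_lit 2), (nat_lit 10), (nat_lit 39)])) (.leaf (.cyc (nat_lit 18) [(nat_lit 2889), (nat_lit 3414), (nat_lit 1162), (nat_lit 1161), (nat_lit 3419)])))) (.node (.node (.leaf .df) (.leaf (.cyc (nat_lit 16) [(nat_lit 581), (nat_lit 1460), (nat_lit 1331), (nat_lit 246), (nat_lit 1497), (nat_lit 1539), (nat_lit 135), (nat_lit 134), (nat_lit 385), (nat_lit 2005), (nat_lit 1777), (nat_lit 1003), (nat_lit 2908)]))) (.node (.leaf (.cyc (nat_lit 27) [(nat_lit 1669), (nat_lit 1884)])) (.leaf .df))))) (.node (.node (.node (.node (.leaf .df) (.leaf (.cyc (nat_lit 1) [(nat_lit 1717), (nat_lit 754)]))) (.node (.leaf .df) (.leaf (.cyc (nat_lit 3) [(nat_lit 653), (nat_lit 241), (nat_lit 240), (nat_lit 650), (nat_lit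 1128)])))) (.node (.node (.leaf .df) (.leaf (.cyc (nat_lit 0) [(nat_lit 2101), (nat_lit 963)]))) (.node (.leaf (.cyc (nat_lit 19) [(nat_lit 1619), (nat_lit 1755)])) (.leaf (.cyc (nat_lit 8) [(nat_lit 3724), (nat_lit 3280), (nat_lit 3445), (nat_lit 3318), (nat_lit 1268)]))))) (.node (.node (.node (.leaf .df) (.leaf (.cyc (nat_lit 0) [(nat_lit 2510), (nat_lit 2524)]))) (.node (.leaf (.cyc (nat_lit 6) [(nat_lit 251), (nat_lit 1465)])) (.leaf (.cyc (nat_lit 6) [(nat_lit 1199), (nat_lit 1198)])))) (.node (.node (.leaf .df) (.leaf (.cyc (nat_lit 1) [(nat_lit 2969), (nat_lit 1044)]))) (.node (.leaf (.cyc (nat_lit 39) [(nat_lit 1904), (nat_lit 1737), (nat_lit 1738), (nat_lit 465), (nat_lit 463), (nat_lit 2011), (nat_lit 1677), (nat_lit 262), (nat_lit 260), (nat_lit 1679)])) (.leaf .df))))))) (.node (.node (.node (.node (.node (.node (.leaf .df) (.leaf (.cyc (nat_lit 15) [(nat_lit 695), (nat_lit 269), (nat_lit 85), (nat_lit 1292), (nat_lit 90), (nat_lit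 1346), (nat_lit 1347), (nat_lit 296), (nat_lit 1600)]))) (.node (.leaf .df) (.leaf (.cyc (nat_lit 9) [(nat_lit 2255), (nat_lit 2026), (nat_lit 610), (nat_lit 2191), (nat_lit 3132)])))) (.node (.node (.leaf .df) (.leaf (.cyc (nat_lit 16) [(nat_lit 1976), (nat_lit 434), (nat_lit 1961), (nat_lit 242), (nat_lit 1331), (nat_lit 247), (nat_lit 665), (nat_lit 2114), (nat_lit 707), (nat_lit 2618), (nat_lit 2620), (nat_lit 877), (nat_lit 878)]))) (.node (.leaf (.cyc (nat_lit 11) [(nat_lit 161), (nat_lit 160), (nat_lit 1554), (nat_lit 250), (nat_lit 1332), (nat_lit 117), (nat_lit 339)])) (.leaf (.cyc (nat_lit 3) [(nat_lit 3544), (nat_lit 3540), (nat_lit 3402), (nat_lit 3400), (nat_lit 1226)]))))) (.node (.node (.node (.leaf .df) (.leaf (.cyc (nat_lit 26) [(nat_lit 807), (nat_lit 1799), (nat_lit 396), (nat_lit 139), (nat_lit 1307), (nat_lit 142), (nat_lit 403)]))) (.node (.leaf (.cyc (nat_lit 2) [(nat_lit 88), (nat_lit 87)])) (.leaf (.cyc (nat_lit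 3) [(nat_lit 3386), (nat_lit 1085), (nat_lit 3161), (nat_lit 941), (nat_lit 2226)])))) (.node (.node (.leaf .df) (.leaf (.cyc (nat_lit 36) [(nat_lit 2250), (nat_lit 1946), (nat_lit 2873), (nat_lit 1763), (nat_lit 307), (nat_lit 1357), (nat_lit 311), (nat_lit 774)]))) (.node (.leaf (.cyc (nat_lit 2) [(nat_lit 568), (nat_lit 567)])) (.leaf .df))))) (.node (.node (.node (.node (.leaf .df) (.leaf (.cyc (nat_lit 0) [(nat_lit 2228), (nat_lit 2234)]))) (.node (.leaf .df) (.leaf (.cyc (nat_lit 10) [(nat_lit 3144), (nat_lit 2742), (nat_lit 2743), (nat_lit 2388), (nat_lit 1117)])))) (.node (.node (.leaf .df) (.leaf (.cyc (nat_lit 41) [(nat_lit 2406), (nat_lit 2411), (nat_lit 2041), (nat_lit 1773), (nat_lit 259), (nat_lit 1336), (nat_lit 1334), (nat_lit 80), (nat_lit 1290), (nat_lit 48), (nat_lit 155), (nat_lit 439), (nat_lit 952)]))) (.node (.leaf (.cyc (nat_lit 2) [(nat_lit 458), (nat_lit 457)])) (.leaf (.cyc (nat_lit 34) [(nat_lit 3771), (nat_lit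 3767), (nat_lit 3769), (nat_lit 3621), (nat_lit 2824), (nat_lit 2822), (nat_lit 3114), (nat_lit 3180), (nat_lit 3444), (nat_lit 3449), (nat_lit 1085), (nat_lit 3161), (nat_lit 1233)]))))) (.node (.node (.node (.leaf .df) (.leaf (.cyc (nat_lit 5) [(nat_lit 2492), (nat_lit 2041)]))) (.node (.leaf (.cyc (nat_lit 5) [(nat_lit 226), (nat_lit 225)])) (.leaf (.cyc (nat_lit 28) [(nat_lit 1190), (nat_lit 2616), (nat_lit 918), (nat_lit 3013), (nat_lit 1821), (nat_lit 2133), (nat_lit 1157)])))) (.node (.node (.leaf .df) (.leaf (.cyc (nat_lit 10) [(nat_lit 983), (nat_lit 482), (nat_lit 479), (nat_lit 2674), (nat_lit 3004)]))) (.node (.leaf (.cyc (nat_lit 6) [(nat_lit 668), (nat_lit 667)])) (.leaf .df)))))) (.node (.node (.node (.node (.node (.leaf .df) (.leaf (.cyc (nat_lit 4) [(nat_lit 462), (nat_lit 459), (nat_lit 1750), (nat_lit 1851), (nat_lit 2171)]))) (.node (.leaf .df) (.leaf (.cyc (nat_lit 14) [(nat_lit 2865), (nat_lit 1097)])))) (.node (.node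 (.leaf .df) (.leaf (.cyc (nat_lit 0) [(nat_lit 2339), (nat_lit 920)]))) (.node (.leaf (.cyc (nat_lit 2) [(nat_lit 398), (nat_lit 397)])) (.leaf (.cyc (nat_lit 25) [(nat_lit 1236), (nat_lit 1237), (nat_lit 3684), (nat_lit 3612), (nat_lit 3613), (nat_lit 2832), (nat_lit 1242)]))))) (.node (.node (.node (.leaf .df) (.leaf (.cyc (nat_lit 5) [(nat_lit 829), (nat_lit 2244)]))) (.node (.leaf (.cyc (nat_lit 2) [(nat_lit 156), (nat_lit 155)])) (.leaf (.cyc (nat_lit 5) [(nat_lit 3452), (nat_lit 3145)])))) (.node (.node (.leaf .df) (.leaf (.cyc (nat_lit 5) [(nat_lit 1015), (nat_lit 1014)]))) (.node (.leaf (.cyc (nat_lit 2) [(nat_lit 605), (nat_lit 1833)])) (.leaf .df))))) (.node (.node (.node (.node (.leaf .df) (.leaf (.cyc (nat_lit 25) [(nat_lit 476), (nat_lit 1412), (nat_lit 471), (nat_lit 1951), (nat_lit 1952), (nat_lit 2300), (nat_lit 2299), (nat_lit 1824)]))) (.node (.leaf (.cyc (nat_lit 1) [(nat_lit 0), (nat_lit 2)])) (.leaf (.cyc (nat_lit 14)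 [(nat_lit 3054), (nat_lit 1141)])))) (.node (.node (.leaf .df) (.leaf (.cyc (nat_lit 6) [(nat_lit 2812), (nat_lit 2371)]))) (.node (.leaf (.cyc (nat_lit 6) [(nat_lit 518), (nat_lit 517)])) (.leaf .df)))) (.node (.node (.node (.leaf .df) (.leaf (.cyc (nat_lit 24) [(nat_lit 803), (nat_lit 2555), (nat_lit 1943)]))) (.node (.leaf (.cyc (nat_lit 5) [(nat_lit 288), (nat_lit 287)])) (.leaf (.cyc (nat_lit 41) [(nat_lit 3580), (nat_lit 3393), (nat_lit 3396), (nat_lit 3399), (nat_lit 2682), (nat_lit 892), (nat_lit 389), (nat_lit 1385), (nat_lit 393), (nat_lit 2610), (nat_lit 2609), (nat_lit 1783), (nat_lit 1020)])))) (.node (.node (.leaf .df) (.leaf (.cyc (nat_lit 24) [(nat_lit 2730), (nat_lit 3067)]))) (.node (.leaf (.cyc (nat_lit 2) [(nat_lit 683), (nat_lit 682)])) (.leaf .df))))))))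
noncomputable def c5P1011 : BT Pf := .node c5P10110 c5P10111
noncomputable def c5P101 : BT Pf := .node c5P1010 c5P1011
noncomputable def c5P10 : BT Pf := .node c5P100 c5P101
noncomputable def c5P11000 : BT Pf := (.node (.node (.node (.node (.node (.node (.node (.leaf .df) (.leaf (.cyc (nat_lit 5) [(nat_lit 687), (nat_lit 686)]))) (.node (.leaf .df) (.leaf (.cyc (nat_lit 47) [(nat_lit 634), (nat_lit 1912), (nat_lit 1916), (nat_lit 1798), (nat_lit 1580), (nat_lit 807), (nat_lit 2365), (nat_lit 1666), (nat_lit 1586), (nat_lit 1672), (nat_lit 920), (nat_lit 2971), (nat_lit 3074)])))) (.node (.node (.leaf .df) (.leaf (.cyc (nat_lit 38) [(nat_lit 699), (nat_lit 1519), (nat_lit 703), (nat_lit 2361), (nat_lit 2364), (nat_lit 2366), (nat_lit 2367), (nat_lit 532), (nat_lit 1427), (nat_lit 1718), (nat_lit 1704), (nat_lit 1638), (nat_lit 872)]))) (.node (.leaf (.cyc (nat_lit 28) [(nat_lit 1537), (nat_lit 294), (nat_lit 94), (nat_lit 95), (nat_lit 1496),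 (nat_lit 1498), (nat_lit 1497)])) (.leaf (.cyc (nat_lit 16) [(nat_lit 1125), (nat_lit 2233), (nat_lit 877), (nat_lit 2956), (nat_lit 1018), (nat_lit 2212), (nat_lit 713), (nat_lit 279), (nat_lit 280), (nat_lit 716), (nat_lit 1162), (nat_lit 3412), (nat_lit 1209)]))))) (.node (.node (.node (.leaf .df) (.leaf (.cyc (nat_lit 9) [(nat_lit 1580), (nat_lit 1798), (nat_lit 315), (nat_lit 316), (nat_lit 786)]))) (.node (.leaf (.cyc (nat_lit 4) [(nat_lit 6), (nat_lit 0), (nat_lit 1275), (nat_lit 1277), (nat_lit 10)])) (.leaf (.cyc (nat_lit 4) [(nat_lit 721), (nat_lit 1683), (nat_lit 2222), (nat_lit 668), (nat_lit 1143)])))) (.node (.node (.leaf .df) (.leaf (.cyc (nat_lit 35) [(nat_lit 895), (nat_lit 893), (nat_lit 2618), (nat_lit 2134), (nat_lit 2413), (nat_lit 2818), (nat_lit 974), (nat_lit 2696), (nat_lit 2694), (nat_lit 1970), (nat_lit 1692), (nat_lit 1976), (nat_lit 661), (nat_lit 660)]))) (.node (.leaf (.cyc (nat_lit 23) [(nat_lit 454), (nat_lit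 1793)])) (.leaf .df))))) (.node (.node (.node (.node (.leaf .df) (.leaf (.cyc (nat_lit 40) [(nat_lit 1681), (nat_lit 2177), (nat_lit 721), (nat_lit 1530), (nat_lit 1546), (nat_lit 1592), (nat_lit 346)]))) (.node (.leaf .df) (.leaf (.cyc (nat_lit 2) [(nat_lit 3202), (nat_lit 3033)])))) (.node (.node (.leaf .df) (.leaf (.cyc (nat_lit 43) [(nat_lit 2478), (nat_lit 2602), (nat_lit 2458), (nat_lit 1829), (nat_lit 2275), (nat_lit 2273), (nat_lit 436), (nat_lit 152), (nat_lit 47), (nat_lit 45), (nat_lit 146), (nat_lit 417), (nat_lit 923)]))) (.node (.leaf (.cyc (nat_lit 13) [(nat_lit 1430), (nat_lit 1407), (nat_lit 1556), (nat_lit 1583), (nat_lit 1584), (nat_lit 1392), (nat_lit 404)])) (.leaf (.cyc (nat_lit 26) [(nat_lit 1244), (nat_lit 995), (nat_lit 2546), (nat_lit 2929), (nat_lit 2926), (nat_lit 2925), (nat_lit 1061)]))))) (.node (.node (.node (.leaf .df) (.leaf (.cyc (nat_lit 10) [(nat_lit 367), (nat_lit 125), (nat_lit 122), (nat_lit 357),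 (nat_lit 832)]))) (.node (.leaf (.cyc (nat_lit 2) [(nat_lit 165), (nat_lit 164)])) (.leaf (.cyc (nat_lit 11) [(nat_lit 782), (nat_lit 313), (nat_lit 104), (nat_lit 102), (nat_lit 308), (nat_lit 766), (nat_lit 1176)])))) (.node (.node (.leaf .df) (.leaf (.cyc (nat_lit 6) [(nat_lit 2945), (nat_lit 2940)]))) (.node (.leaf (.cyc (nat_lit 6) [(nat_lit 610), (nat_lit 1577)])) (.leaf .df)))))) (.node (.node (.node (.node (.node (.leaf .df) (.leaf (.cyc (nat_lit 8) [(nat_lit 448), (nat_lit 1654), (nat_lit 665), (nat_lit 2114), (nat_lit 1520)]))) (.node (.leaf .df) (.leaf (.cyc (nat_lit 8) [(nat_lit 3138), (nat_lit 619), (nat_lit 227), (nat_lit 225), (nat_lit 612)])))) (.node (.node (.leaf .df) (.leaf (.cyc (nat_lit 34) [(nat_lit 2625), (nat_lit 808), (nat_lit 1581), (nat_lit 136), (nat_lit 1317), (nat_lit 1318), (nat_lit 1310), (nat_lit 1319), (nat_lit 1320), (nat_lit 1321), (nat_lit 1362), (nat_lit 1507), (nat_lit 682)]))) (.node (.leaf (.cyc (nat_lit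 3) [(nat_lit 126), (nat_lit 37), (nat_lit 35), (nat_lit 119), (nat_lit 346)])) (.leaf (.cyc (nat_lit 25) [(nat_lit 3600), (nat_lit 1030), (nat_lit 1028), (nat_lit 3514), (nat_lit 2890), (nat_lit 2738), (nat_lit 1228)]))))) (.node (.node (.node (.leaf .df) (.leaf (.cyc (nat_lit 46) [(nat_lit 534), (nat_lit 1642), (nat_lit 384), (nat_lit 1383), (nat_lit 55), (nat_lit 15), (nat_lit 1278), (nat_lit 21), (nat_lit 76), (nat_lit 243), (nat_lit 657), (nat_lit 2336), (nat_lit 2370)]))) (.node (.leaf (.cyc (nat_lit 4) [(nat_lit 96), (nat_lit 26), (nat_lit 25), (nat_lit 90), (nat_lit 1346)])) (.leaf (.cyc (nat_lit 0) [(nat_lit 2618), (nat_lit 1157)])))) (.node (.node (.leaf .df) (.leaf (.cyc (nat_lit 13) [(nat_lit 776), (nat_lit 2881), (nat_lit 1572), (nat_lit 1742), (nat_lit 1426), (nat_lit 524), (nat_lit 2681)]))) (.node (.leaf (.cyc (nat_lit 5) [(nat_lit 1858), (nat_lit 1857)])) (.leaf .df))))) (.node (.node (.node (.node (.leaf .df) (.leaf (.cyc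 (nat_lit 2) [(nat_lit 740), (nat_lit 739)]))) (.node (.leaf .df) (.leaf (.cyc (nat_lit 4) [(nat_lit 3265), (nat_lit 2420), (nat_lit 2638), (nat_lit 2636), (nat_lit 2368)])))) (.node (.node (.leaf .df) (.leaf (.cyc (nat_lit 4) [(nat_lit 2268), (nat_lit 2398), (nat_lit 438), (nat_lit 441), (nat_lit 953)]))) (.node (.leaf (.cyc (nat_lit 6) [(nat_lit 466), (nat_lit 465)])) (.leaf (.cyc (nat_lit 14) [(nat_lit 3759), (nat_lit 1262)]))))) (.node (.node (.node (.leaf .df) (.leaf (.cyc (nat_lit 28) [(nat_lit 853), (nat_lit 368), (nat_lit 365), (nat_lit 2483), (nat_lit 733), (nat_lit 1534), (nat_lit 735)]))) (.node (.leaf (.cyc (nat_lit 3) [(nat_lit 1474), (nat_lit 233), (nat_lit 1329), (nat_lit 1306), (nat_lit 136)])) (.leaf (.cyc (nat_lit 7) [(nat_lit 3495), (nat_lit 3213), (nat_lit 3107), (nat_lit 2165), (nat_lit 2049), (nat_lit 811), (nat_lit 1192)])))) (.node (.node (.leaf .df) (.leaf (.cyc (nat_lit 0) [(nat_lit 2946), (nat_lit 1034)]))) (.node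 (.leaf (.cyc (nat_lit 10) [(nat_lit 1636), (nat_lit 1610), (nat_lit 1552), (nat_lit 253), (nat_lit 675)])) (.leaf .df))))))) (.node (.node (.node (.node (.node (.node (.leaf .df) (.leaf (.cyc (nat_lit 20) [(nat_lit 1984), (nat_lit 2080)]))) (.node (.leaf .df) (.leaf (.cyc (nat_lit 9) [(nat_lit 2163), (nat_lit 2051), (nat_lit 2057), (nat_lit 1855), (nat_lit 1066)])))) (.node (.node (.leaf .df) (.leaf (.cyc (nat_lit 27) [(nat_lit 428), (nat_lit 2592)]))) (.node (.leaf (.cyc (nat_lit 2) [(nat_lit 317), (nat_lit 316)])) (.leaf (.cyc (nat_lit 9) [(nat_lit 3382), (nat_lit 3383), (nat_lit 3385), (nat_lit 2634), (nat_lit 1219)]))))) (.node (.node (.node (.leaf .df) (.leaf (.cyc (nat_lit 11) [(nat_lit 412), (nat_lit 1866), (nat_lit 215), (nat_lit 1859), (nat_lit 1517), (nat_lit 326), (nat_lit 799)]))) (.node (.leaf (.cyc (nat_lit 6) [(nat_lit 56), (nat_lit 55)])) (.leaf (.cyc (nat_lit 28) [(nat_lit 1150), (nat_lit 2706), (nat_lit 2705), (nat_lit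 2698), (nat_lit 2699), (nat_lit 2598), (nat_lit 3065)])))) (.node (.node (.leaf .df) (.leaf (.cyc (nat_lit 19) [(nat_lit 791), (nat_lit 2849)]))) (.node (.leaf (.cyc (nat_lit 8) [(nat_lit 542), (nat_lit 193), (nat_lit 1362), (nat_lit 1507), (nat_lit 1773)])) (.leaf .df))))) (.node (.node (.node (.node (.leaf .df) (.leaf (.cyc (nat_lit 24) [(nat_lit 543), (nat_lit 2209)]))) (.node (.leaf .df) (.leaf (.cyc (nat_lit 8) [(nat_lit 2836), (nat_lit 3234), (nat_lit 1109), (nat_lit 3230), (nat_lit 2976)])))) (.node (.node (.leaf .df) (.leaf (.cyc (nat_lit 8) [(nat_lit 937), (nat_lit 427), (nat_lit 430), (nat_lit 2501), (nat_lit 2504)]))) (.node (.leaf (.cyc (nat_lit 6) [(nat_lit 445), (nat_lit 444)])) (.leaf (.cyc (nat_lit 7) [(nat_lit 1240), (nat_lit 980), (nat_lit 2674), (nat_lit 1152), (nat_lit 3371), (nat_lit 3105), (nat_lit 1252)]))))) (.node (.node (.node (.leaf .df) (.leaf (.cyc (nat_lit 2) [(nat_lit 2466), (nat_lit 1758)]))) (.node (.leaf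 (.cyc (nat_lit 5) [(nat_lit 202), (nat_lit 201)])) (.leaf (.cyc (nat_lit 4) [(nat_lit 1183), (nat_lit 2292), (nat_lit 1184), (nat_lit 3489), (nat_lit 2718)])))) (.node (.node (.leaf .df) (.leaf (.cyc (nat_lit 25) [(nat_lit 2639), (nat_lit 2330), (nat_lit 349), (nat_lit 1371), (nat_lit 2093), (nat_lit 517), (nat_lit 1026)]))) (.node (.leaf (.cyc (nat_lit 6) [(nat_lit 645), (nat_lit 644)])) (.leaf .df)))))) (.node (.node (.node (.node (.node (.leaf .df) (.leaf (.cyc (nat_lit 6) [(nat_lit 714), (nat_lit 713)]))) (.node (.leaf .df) (.leaf (.cyc (nat_lit 4) [(nat_lit 705), (nat_lit 702), (nat_lit 2217), (nat_lit 3169), (nat_lit 1088)])))) (.node (.node (.leaf .df) (.leaf (.cyc (nat_lit 1) [(nat_lit 1882), (nat_lit 910)]))) (.node (.leaf (.cyc (nat_lit 7) [(nat_lit 378), (nat_lit 1379), (nat_lit 1390), (nat_lit 140), (nat_lit 1320), (nat_lit 1321), (nat_lit 194)])) (.leaf (.cyc (nat_lit 9) [(nat_lit 3583), (nat_lit 1172), (nat_lit 2293), (nat_lit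 2733), (nat_lit 1237)]))))) (.node (.node (.node (.leaf .df) (.leaf (.cyc (nat_lit 47) [(nat_lit 437), (nat_lit 152), (nat_lit 1355), (nat_lit 1353), (nat_lit 100), (nat_lit 101), (nat_lit 304), (nat_lit 2398), (nat_lit 1695), (nat_lit 2399), (nat_lit 2401), (nat_lit 1762), (nat_lit 2106)]))) (.node (.leaf (.cyc (nat_lit 2) [(nat_lit 131), (nat_lit 130)])) (.leaf (.cyc (nat_lit 2) [(nat_lit 3426), (nat_lit 2748)])))) (.node (.node (.leaf .df) (.leaf (.cyc (nat_lit 26) [(nat_lit 1006), (nat_lit 503), (nat_lit 176), (nat_lit 173), (nat_lit 1764), (nat_lit 1443), (nat_lit 562)]))) (.node (.leaf (.cyc (nat_lit 5) [(nat_lit 582), (nat_lit 581)])) (.leaf .df))))) (.node (.node (.node (.node (.leaf .df) (.leaf (.cyc (nat_lit 0) [(nat_lit 2053), (nat_lit 2271)]))) (.node (.leaf .df) (.leaf (.cyc (nat_lit 11) [(nat_lit 2634), (nat_lit 2840), (nat_lit 2838), (nat_lit 1130), (nat_lit 3298), (nat_lit 2910), (nat_lit 2923)])))) (.node (.node (.leaf .df)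 (.leaf (.cyc (nat_lit 28) [(nat_lit 965), (nat_lit 1724), (nat_lit 1756), (nat_lit 1374), (nat_lit 366), (nat_lit 849), (nat_lit 2485)]))) (.node (.leaf (.cyc (nat_lit 15) [(nat_lit 494), (nat_lit 1417), (nat_lit 1506), (nat_lit 259), (nat_lit 1336), (nat_lit 1334), (nat_lit 1335), (nat_lit 102), (nat_lit 307)])) (.leaf (.cyc (nat_lit 11) [(nat_lit 1267), (nat_lit 1125), (nat_lit 2233), (nat_lit 877), (nat_lit 2620), (nat_lit 3395), (nat_lit 1269)]))))) (.node (.node (.node (.leaf .df) (.leaf (.cyc (nat_lit 27) [(nat_lit 2279), (nat_lit 2529), (nat_lit 1926)]))) (.node (.leaf (.cyc (nat_lit 5) [(nat_lit 259), (nat_lit 1363)])) (.leaf (.cyc (nat_lit 37) [(nat_lit 2885), (nat_lit 1982), (nat_lit 2623), (nat_lit 2990), (nat_lit 3096), (nat_lit 863), (nat_lit 865), (nat_lit 2525), (nat_lit 2515), (nat_lit 2508), (nat_lit 2901), (nat_lit 1011), (nat_lit 3554)])))) (.node (.node (.leaf .df) (.leaf (.cyc (nat_lit 3) [(nat_lit 3042), (nat_lit 2753),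 (nat_lit 2751), (nat_lit 689), (nat_lit 2004)]))) (.node (.leaf (.cyc (nat_lit 27) [(nat_lit 260), (nat_lit 2016), (nat_lit 1463)])) (.leaf .df))))))))
noncomputable def c5P11001 : BT Pf := (.node (.node (.node (.node (.node (.node (.node (.leaf .df) (.leaf (.cyc (nat_lit 8) [(nat_lit 1940), (nat_lit 2066), (nat_lit 1839), (nat_lit 1837), (nat_lit 1826)]))) (.node (.leaf .df) (.leaf (.cyc (nat_lit 6) [(nat_lit 1063), (nat_lit 2416)])))) (.node (.node (.leaf .df) (.leaf (.cyc (nat_lit 1) [(nat_lit 2233), (nat_lit 878)]))) (.node (.leaf (.cyc (nat_lit 30) [(nat_lit 1500), (nat_lit 1554), (nat_lit 160), (nat_lit 1311), (nat_lit 1291), (nat_lit 82), (nat_lit 1363), (nat_lit 107), (nat_lit 105)])) (.leaf (.cyc (nat_lit 2) [(nat_lit 1215), (nat_lit 1214)]))))) (.node (.node (.node (.leaf .df) (.leaf (.cyc (nat_lit 34) [(nat_lit 720), (nat_lit 1530), (nat_lit 1546), (nat_lit 1368), (nat_lit 1438), (nat_lit 1435), (nat_lit 106), (nat_lit 1361),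 (nat_lit 193), (nat_lit 2211), (nat_lit 2320), (nat_lit 2322), (nat_lit 1805)]))) (.node (.leaf (.cyc (nat_lit 8) [(nat_lit 21), (nat_lit 19), (nat_lit 1297), (nat_lit 32), (nat_lit 34)])) (.leaf (.cyc (nat_lit 8) [(nat_lit 1147), (nat_lit 2882), (nat_lit 775), (nat_lit 2881), (nat_lit 793)])))) (.node (.node (.leaf .df) (.leaf (.cyc (nat_lit 1) [(nat_lit 2712), (nat_lit 986)]))) (.node (.leaf (.cyc (nat_lit 8) [(nat_lit 530), (nat_lit 1427), (nat_lit 1645), (nat_lit 1344), (nat_lit 294)])) (.leaf .df))))) (.node (.node (.node (.node (.leaf .df) (.leaf (.cyc (nat_lit 0) [(nat_lit 2140), (nat_lit 727)]))) (.node (.leaf .df) (.leaf (.cyc (nat_lit 5) [(nat_lit 1105), (nat_lit 2906)])))) (.node (.node (.leaf .df) (.leaf (.cyc (nat_lit 3) [(nat_lit 2403), (nat_lit 2404), (nat_lit 419), (nat_lit 421), (nat_lit 927)]))) (.node (.leaf (.cyc (nat_lit 7) [(nat_lit 423), (nat_lit 148), (nat_lit 45), (nat_lit 1294), (nat_lit 1295), (nat_lit 1352), (nat_lit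 282)])) (.leaf (.cyc (nat_lit 3) [(nat_lit 3715), (nat_lit 1061), (nat_lit 2925), (nat_lit 2920), (nat_lit 1248)]))))) (.node (.node (.node (.leaf .df) (.leaf (.cyc (nat_lit 23) [(nat_lit 824), (nat_lit 2448)]))) (.node (.leaf (.cyc (nat_lit 5) [(nat_lit 188), (nat_lit 187)])) (.leaf (.cyc (nat_lit 8) [(nat_lit 1181), (nat_lit 2902), (nat_lit 507), (nat_lit 505), (nat_lit 1011)])))) (.node (.node (.leaf .df) (.leaf (.cyc (nat_lit 41) [(nat_lit 2960), (nat_lit 903), (nat_lit 1657), (nat_lit 902), (nat_lit 2649), (nat_lit 471), (nat_lit 1412), (nat_lit 475), (nat_lit 2697), (nat_lit 2725), (nat_lit 2954), (nat_lit 1017), (nat_lit 1019)]))) (.node (.leaf (.cyc (nat_lit 2) [(nat_lit 628), (nat_lit 627)])) (.leaf .df)))))) (.node (.node (.node (.node (.node (.leaf .df) (.leaf (.cyc (nat_lit 25) [(nat_lit 1618), (nat_lit 1709), (nat_lit 1707), (nat_lit 344), (nat_lit 2110), (nat_lit 1520), (nat_lit 706)]))) (.node (.leaf .df) (.leaf (.cyc (nat_lit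 28) [(nat_lit 3154), (nat_lit 3151), (nat_lit 2565), (nat_lit 2191), (nat_lit 2469), (nat_lit 2584), (nat_lit 3136)])))) (.node (.node (.leaf .df) (.leaf (.cyc (nat_lit 41) [(nat_lit 1807), (nat_lit 2077), (nat_lit 1528), (nat_lit 239), (nat_lit 236), (nat_lit 645), (nat_lit 2074), (nat_lit 516), (nat_lit 514), (nat_lit 1785), (nat_lit 2075), (nat_lit 1890), (nat_lit 900)]))) (.node (.leaf (.cyc (nat_lit 5) [(nat_lit 362), (nat_lit 361)])) (.leaf (.cyc (nat_lit 5) [(nat_lit 1232), (nat_lit 3644)]))))) (.node (.node (.node (.leaf .df) (.leaf (.cyc (nat_lit 4) [(nat_lit 628), (nat_lit 626), (nat_lit 2276), (nat_lit 2277), (nat_lit 2386)]))) (.node (.leaf (.cyc (nat_lit 9) [(nat_lit 1336), (nat_lit 1334), (nat_lit 1335), (nat_lit 1296), (nat_lit 107)])) (.leaf (.cyc (nat_lit 2) [(nat_lit 1162), (nat_lit 3391)])))) (.node (.node (.leaf .df) (.leaf (.cyc (nat_lit 15) [(nat_lit 999), (nat_lit 1776), (nat_lit 1728), (nat_lit 1726), (nat_lit 171),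 (nat_lit 169), (nat_lit 480), (nat_lit 2452), (nat_lit 2702)]))) (.node (.leaf (.cyc (nat_lit 23) [(nat_lit 1870), (nat_lit 1871), (nat_lit 1576)])) (.leaf .df))))) (.node (.node (.node (.node (.leaf .df) (.leaf (.cyc (nat_lit 4) [(nat_lit 570), (nat_lit 1485), (nat_lit 1401), (nat_lit 1559), (nat_lit 750)]))) (.node (.leaf .df) (.leaf (.cyc (nat_lit 8) [(nat_lit 1124), (nat_lit 1946), (nat_lit 2250), (nat_lit 2880), (nat_lit 776)])))) (.node (.node (.leaf .df) (.leaf (.cyc (nat_lit 5) [(nat_lit 959), (nat_lit 958)]))) (.node (.leaf (.cyc (nat_lit 11) [(nat_lit 197), (nat_lit 62), (nat_lit 17), (nat_lit 14), (nat_lit 53), (nat_lit 170), (nat_lit 483)])) (.leaf (.cyc (nat_lit 3) [(nat_lit 3305), (nat_lit 3087), (nat_lit 3307), (nat_lit 3294), (nat_lit 1265)]))))) (.node (.node (.node (.leaf .df) (.leaf (.cyc (nat_lit 6) [(nat_lit 858), (nat_lit 857)]))) (.node (.leaf (.cyc (nat_lit 21) [(nat_lit 238), (nat_lit 1489)])) (.leaf (.cyc (nat_lit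 29) [(nat_lit 3537), (nat_lit 3000), (nat_lit 2985), (nat_lit 2700), (nat_lit 2782), (nat_lit 2781), (nat_lit 2102), (nat_lit 2099), (nat_lit 493), (nat_lit 1416), (nat_lit 487), (nat_lit 1787), (nat_lit 2464)])))) (.node (.node (.leaf .df) (.leaf (.cyc (nat_lit 1) [(nat_lit 2944), (nat_lit 3026)]))) (.node (.leaf (.cyc (nat_lit 4) [(nat_lit 453), (nat_lit 1993), (nat_lit 264), (nat_lit 267), (nat_lit 2002)])) (.leaf .df))))))) (.node (.node (.node (.node (.node (.node (.leaf .df) (.leaf (.cyc (nat_lit 11) [(nat_lit 493), (nat_lit 2035), (nat_lit 220), (nat_lit 2025), (nat_lit 1338), (nat_lit 265), (nat_lit 689)]))) (.node (.leaf .df) (.leaf (.cyc (nat_lit 1) [(nat_lit 2599), (nat_lit 1071)])))) (.node (.node (.leaf .df) (.leaf (.cyc (nat_lit 3) [(nat_lit 2610), (nat_lit 1655), (nat_lit 1890), (nat_lit 2227), (nat_lit 2243)]))) (.node (.leaf (.cyc (nat_lit 18) [(nat_lit 153), (nat_lit 1309), (nat_lit 97), (nat_lit 1546), (nat_lit 335)]))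 (.leaf (.cyc (nat_lit 34) [(nat_lit 1223), (nat_lit 2660), (nat_lit 2345), (nat_lit 2341), (nat_lit 3047), (nat_lit 1047), (nat_lit 1840), (nat_lit 483), (nat_lit 170), (nat_lit 1313), (nat_lit 176), (nat_lit 503), (nat_lit 1005)]))))) (.node (.node (.node (.leaf .df) (.leaf (.cyc (nat_lit 19) [(nat_lit 788), (nat_lit 2353)]))) (.node (.leaf (.cyc (nat_lit 5) [(nat_lit 77), (nat_lit 76)])) (.leaf (.cyc (nat_lit 14) [(nat_lit 2979), (nat_lit 3378)])))) (.node (.node (.leaf .df) (.leaf (.cyc (nat_lit 25) [(nat_lit 2281), (nat_lit 1771), (nat_lit 992), (nat_lit 2865), (nat_lit 1928), (nat_lit 1929), (nat_lit 1891)]))) (.node (.leaf (.cyc (nat_lit 5) [(nat_lit 559), (nat_lit 558)])) (.leaf .df))))) (.node (.node (.node (.node (.leaf .df) (.leaf (.cyc (nat_lit 3) [(nat_lit 1890), (nat_lit 392), (nat_lit 390), (nat_lit 1652), (nat_lit 739)]))) (.node (.leaf .df) (.leaf (.cyc (nat_lit 48) [(nat_lit 1113), (nat_lit 1933), (nat_lit 3249), (nat_lit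 3250), (nat_lit 3118), (nat_lit 3173), (nat_lit 3191), (nat_lit 1095), (nat_lit 2839)])))) (.node (.node (.leaf .df) (.leaf (.cyc (nat_lit 10) [(nat_lit 948), (nat_lit 437), (nat_lit 435), (nat_lit 2149), (nat_lit 2543)]))) (.node (.leaf (.cyc (nat_lit 24) [(nat_lit 407), (nat_lit 1713)])) (.leaf (.cyc (nat_lit 5) [(nat_lit 3760), (nat_lit 3305)]))))) (.node (.node (.node (.leaf .df) (.leaf (.cyc (nat_lit 24) [(nat_lit 847), (nat_lit 2481)]))) (.node (.leaf (.cyc (nat_lit 2) [(nat_lit 212), (nat_lit 211)])) (.leaf (.cyc (nat_lit 1) [(nat_lit 3460), (nat_lit 1188)])))) (.node (.node (.leaf .df) (.leaf (.cyc (nat_lit 0) [(nat_lit 2322), (nat_lit 1031)]))) (.node (.leaf (.cyc (nat_lit 0) [(nat_lit 1958), (nat_lit 1970)])) (.leaf .df)))))) (.node (.node (.node (.node (.node (.leaf .df) (.leaf (.cyc (nat_lit 33) [(nat_lit 2051), (nat_lit 2057), (nat_lit 2062), (nat_lit 1839), (nat_lit 1837), (nat_lit 2144), (nat_lit 1533), (nat_lit 2161), (nat_lit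 2162)]))) (.node (.leaf .df) (.leaf (.cyc (nat_lit 5) [(nat_lit 1094), (nat_lit 3099)])))) (.node (.node (.leaf .df) (.leaf (.cyc (nat_lit 7) [(nat_lit 790), (nat_lit 2355), (nat_lit 2178), (nat_lit 2177), (nat_lit 421), (nat_lit 418), (nat_lit 2672), (nat_lit 2671)]))) (.node (.leaf (.cyc (nat_lit 9) [(nat_lit 1473), (nat_lit 1474), (nat_lit 1475), (nat_lit 1385), (nat_lit 392)])) (.leaf (.cyc (nat_lit 7) [(nat_lit 3156), (nat_lit 628), (nat_lit 229), (nat_lit 231), (nat_lit 633), (nat_lit 3008), (nat_lit 1240)]))))) (.node (.node (.node (.leaf .df) (.leaf (.cyc (nat_lit 5) [(nat_lit 821), (nat_lit 820)]))) (.node (.leaf (.cyc (nat_lit 6) [(nat_lit 146), (nat_lit 145)])) (.leaf (.cyc (nat_lit 16) [(nat_lit 810), (nat_lit 332), (nat_lit 1524), (nat_lit 1522), (nat_lit 139), (nat_lit 1307), (nat_lit 144), (nat_lit 1865), (nat_lit 585), (nat_lit 2388), (nat_lit 1939), (nat_lit 2754), (nat_lit 3442)])))) (.node (.node (.leaf .df) (.leaf (.cyc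 (nat_lit 11) [(nat_lit 535), (nat_lit 1642), (nat_lit 384), (nat_lit 1383), (nat_lit 177), (nat_lit 506), (nat_lit 1012)]))) (.node (.leaf (.cyc (nat_lit 2) [(nat_lit 596), (nat_lit 595)])) (.leaf .df))))) (.node (.node (.node (.node (.leaf .df) (.leaf (.cyc (nat_lit 6) [(nat_lit 776), (nat_lit 775)]))) (.node (.leaf .df) (.leaf (.cyc (nat_lit 6) [(nat_lit 1135), (nat_lit 1134)])))) (.node (.node (.leaf .df) (.leaf (.cyc (nat_lit 10) [(nat_lit 2255), (nat_lit 596), (nat_lit 593), (nat_lit 2174), (nat_lit 971)]))) (.node (.leaf (.cyc (nat_lit 5) [(nat_lit 506), (nat_lit 505)])) (.leaf (.cyc (nat_lit 41) [(nat_lit 3777), (nat_lit 3775), (nat_lit 1187), (nat_lit 1188), (nat_lit 3509), (nat_lit 1076), (nat_lit 1891), (nat_lit 2867), (nat_lit 2282), (nat_lit 2629), (nat_lit 2721), (nat_lit 3563), (nat_lit 1273)]))))) (.node (.node (.node (.leaf .df) (.leaf (.cyc (nat_lit 7) [(nat_lit 2545), (nat_lit 674), (nat_lit 252), (nat_lit 1553), (nat_lit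 249), (nat_lit 1774), (nat_lit 2492)]))) (.node (.leaf (.cyc (nat_lit 15) [(nat_lit 1521), (nat_lit 1522), (nat_lit 139), (nat_lit 140), (nat_lit 1390), (nat_lit 1382), (nat_lit 1456), (nat_lit 1325), (nat_lit 206), (nat_lit 1447)])) (.leaf (.cyc (nat_lit 6) [(nat_lit 1205), (nat_lit 2927)])))) (.node (.node (.leaf .df) (.leaf (.cyc (nat_lit 3) [(nat_lit 3058), (nat_lit 1049), (nat_lit 557), (nat_lit 1666), (nat_lit 911)]))) (.node (.leaf (.cyc (nat_lit 19) [(nat_lit 600), (nat_lit 2031)])) (.leaf .df))))))))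
noncomputable def c5P1100 : BT Pf := .node c5P11000 c5P11001
noncomputable def c5P11010 : BT Pf := (.node (.node (.node (.node (.node (.node (.node (.leaf .df) (.leaf (.cyc (nat_lit 20) [(nat_lit 1948), (nat_lit 2058)]))) (.node (.leaf .df) (.leaf (.cyc (nat_lit 5) [(nat_lit 1058), (nat_lit 1057)])))) (.node (.node (.leaf .df) (.leaf (.cyc (nat_lit 6) [(nat_lit 876), (nat_lit 875)]))) (.node (.leaf (.cyc (nat_lit 5) [(nat_lit 299), (nat_lit 298)])) (.leaf (.cyc (nat_lit 4) [(nat_lit 3594), (nat_lit 2944), (nat_lit 2861), (nat_lit 2645), (nat_lit 1035)]))))) (.node (.node (.node (.leaf .df) (.leaf (.cyc (nat_lit 6) [(nat_lit 793), (nat_lit 1830)]))) (.node (.leaf (.cyc (nat_lit 5) [(nat_lit 23), (nat_lit 22)])) (.leaf (.cyc (nat_lit 46) [(nat_lit 1144), (nat_lit 3336), (nat_lit 3337), (nat_lit 3223), (nat_lit 3246), (nat_lit 3247), (nat_lit 730), (nat_lit 2145), (nat_lit 1432), (nat_lit 545), (nat_lit 2275), (nat_lit 2272), (nat_lit 2859)]))))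 (.node (.node (.leaf .df) (.leaf (.cyc (nat_lit 2) [(nat_lit 980), (nat_lit 979)]))) (.node (.leaf (.cyc (nat_lit 24) [(nat_lit 1662), (nat_lit 1801)])) (.leaf .df))))) (.node (.node (.node (.node (.leaf .df) (.leaf (.cyc (nat_lit 30) [(nat_lit 722), (nat_lit 1531), (nat_lit 726), (nat_lit 2184), (nat_lit 1681), (nat_lit 2179), (nat_lit 1623), (nat_lit 2027), (nat_lit 2028), (nat_lit 1931)]))) (.node (.leaf .df) (.leaf (.cyc (nat_lit 8) [(nat_lit 1100), (nat_lit 606), (nat_lit 608), (nat_lit 2327), (nat_lit 1968)])))) (.node (.node (.leaf .df) (.leaf (.cyc (nat_lit 26) [(nat_lit 924), (nat_lit 417), (nat_lit 146), (nat_lit 1308), (nat_lit 150), (nat_lit 2595), (nat_lit 885)]))) (.node (.leaf (.cyc (nat_lit 2) [(nat_lit 416), (nat_lit 415)])) (.leaf (.cyc (nat_lit 4) [(nat_lit 3115), (nat_lit 1198), (nat_lit 3592), (nat_lit 3593), (nat_lit 1246)]))))) (.node (.node (.node (.leaf .df) (.leaf (.cyc (nat_lit 28) [(nat_lit 2442), (nat_lit 1639),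 (nat_lit 576), (nat_lit 2232), (nat_lit 1612), (nat_lit 1636), (nat_lit 795)]))) (.node (.leaf (.cyc (nat_lit 2) [(nat_lit 178), (nat_lit 177)])) (.leaf (.cyc (nat_lit 41) [(nat_lit 2507), (nat_lit 2178), (nat_lit 2355), (nat_lit 1800), (nat_lit 1579), (nat_lit 805), (nat_lit 2635), (nat_lit 2644), (nat_lit 2645), (nat_lit 1035), (nat_lit 3259), (nat_lit 3260), (nat_lit 1179)])))) (.node (.node (.leaf .df) (.leaf (.cyc (nat_lit 3) [(nat_lit 2261), (nat_lit 429), (nat_lit 427), (nat_lit 937), (nat_lit 2954)]))) (.node (.leaf (.cyc (nat_lit 13) [(nat_lit 1922), (nat_lit 609), (nat_lit 224), (nat_lit 222), (nat_lit 603), (nat_lit 1911), (nat_lit 620)])) (.leaf .df)))))) (.node (.node (.node (.node (.node (.leaf .df) (.leaf (.cyc (nat_lit 6) [(nat_lit 699), (nat_lit 698)]))) (.node (.leaf .df) (.leaf (.cyc (nat_lit 14) [(nat_lit 2112), (nat_lit 1079)])))) (.node (.node (.leaf .df) (.leaf (.cyc (nat_lit 13) [(nat_lit 805), (nat_lit 328), (nat_lit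 1366), (nat_lit 1474), (nat_lit 1473), (nat_lit 1651), (nat_lit 899)]))) (.node (.leaf (.cyc (nat_lit 28) [(nat_lit 356), (nat_lit 1372), (nat_lit 1373), (nat_lit 1303), (nat_lit 1314), (nat_lit 1315), (nat_lit 179)])) (.leaf (.cyc (nat_lit 25) [(nat_lit 2921), (nat_lit 2913), (nat_lit 3573), (nat_lit 3575), (nat_lit 3574), (nat_lit 3424), (nat_lit 1230)]))))) (.node (.node (.node (.leaf .df) (.leaf (.cyc (nat_lit 3) [(nat_lit 710), (nat_lit 277), (nat_lit 1525), (nat_lit 332), (nat_lit 811)]))) (.node (.leaf (.cyc (nat_lit 16) [(nat_lit 1353), (nat_lit 100), (nat_lit 28), (nat_lit 7), (nat_lit 1276), (nat_lit 5), (nat_lit 1281), (nat_lit 27), (nat_lit 97), (nat_lit 1346), (nat_lit 1352), (nat_lit 1295), (nat_lit 1309)])) (.leaf (.cyc (nat_lit 8) [(nat_lit 3020), (nat_lit 1034), (nat_lit 2613), (nat_lit 2646), (nat_lit 3401)])))) (.node (.node (.leaf .df) (.leaf (.cyc (nat_lit 10) [(nat_lit 2277), (nat_lit 1694), (nat_lit 948), (nat_lit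 2739), (nat_lit 998)]))) (.node (.leaf (.cyc (nat_lit 2) [(nat_lit 574), (nat_lit 1860)])) (.leaf .df))))) (.node (.node (.node (.node (.leaf .df) (.leaf (.cyc (nat_lit 38) [(nat_lit 2247), (nat_lit 1944), (nat_lit 1915), (nat_lit 1911), (nat_lit 620), (nat_lit 2189), (nat_lit 1531), (nat_lit 2156), (nat_lit 256), (nat_lit 1333), (nat_lit 253), (nat_lit 1548), (nat_lit 746)]))) (.node (.leaf .df) (.leaf (.cyc (nat_lit 1) [(nat_lit 3214), (nat_lit 1121)])))) (.node (.node (.leaf .df) (.leaf (.cyc (nat_lit 2) [(nat_lit 2762), (nat_lit 2119)]))) (.node (.leaf (.cyc (nat_lit 2) [(nat_lit 476), (nat_lit 475)])) (.leaf (.cyc (nat_lit 46) [(nat_lit 1263), (nat_lit 3179), (nat_lit 3018), (nat_lit 1256), (nat_lit 3758), (nat_lit 3623), (nat_lit 3698), (nat_lit 1059), (nat_lit 1057), (nat_lit 3392), (nat_lit 3396), (nat_lit 3783), (nat_lit 3785)]))))) (.node (.node (.node (.leaf .df) (.leaf (.cyc (nat_lit 3) [(nat_lit 2177), (nat_lit 1681), (nat_lit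 2179), (nat_lit 1623), (nat_lit 856)]))) (.node (.leaf (.cyc (nat_lit 6) [(nat_lit 239), (nat_lit 238)])) (.leaf (.cyc (nat_lit 14) [(nat_lit 2818), (nat_lit 1194)])))) (.node (.node (.leaf .df) (.leaf (.cyc (nat_lit 8) [(nat_lit 1039), (nat_lit 2367), (nat_lit 2637), (nat_lit 2638), (nat_lit 2420)]))) (.node (.leaf (.cyc (nat_lit 6) [(nat_lit 677), (nat_lit 1676)])) (.leaf .df))))))) (.node (.node (.node (.node (.node (.node (.leaf .df) (.leaf (.cyc (nat_lit 27) [(nat_lit 1425), (nat_lit 2089), (nat_lit 353)]))) (.node (.leaf .df) (.leaf (.cyc (nat_lit 25) [(nat_lit 2429), (nat_lit 2611), (nat_lit 2646), (nat_lit 3028), (nat_lit 2824), (nat_lit 2822), (nat_lit 3114)])))) (.node (.node (.leaf .df) (.leaf (.cyc (nat_lit 24) [(nat_lit 2566), (nat_lit 2601)]))) (.node (.leaf (.cyc (nat_lit 5) [(nat_lit 328), (nat_lit 327)])) (.leaf (.cyc (nat_lit 25) [(nat_lit 3128), (nat_lit 2722), (nat_lit 2724), (nat_lit 2604), (nat_lit 2726), (nat_lit 2716),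 (nat_lit 3626)]))))) (.node (.node (.node (.leaf .df) (.leaf (.cyc (nat_lit 11) [(nat_lit 338), (nat_lit 116), (nat_lit 34), (nat_lit 31), (nat_lit 110), (nat_lit 328), (nat_lit 804)]))) (.node (.leaf (.cyc (nat_lit 3) [(nat_lit 1314), (nat_lit 55), (nat_lit 15), (nat_lit 17), (nat_lit 64)])) (.leaf (.cyc (nat_lit 42) [(nat_lit 731), (nat_lit 288), (nat_lit 92), (nat_lit 90), (nat_lit 1346), (nat_lit 1348), (nat_lit 299), (nat_lit 746), (nat_lit 2251), (nat_lit 2247), (nat_lit 3009), (nat_lit 2674), (nat_lit 1152)])))) (.node (.node (.leaf .df) (.leaf (.cyc (nat_lit 0) [(nat_lit 2401), (nat_lit 989)]))) (.node (.leaf (.cyc (nat_lit 29) [(nat_lit 379), (nat_lit 1380), (nat_lit 39), (nat_lit 10), (nat_lit 1277), (nat_lit 1275), (nat_lit 0), (nat_lit 1275), (nat_lit 3), (nat_lit 17), (nat_lit 62), (nat_lit 196), (nat_lit 552)])) (.leaf .df))))) (.node (.node (.node (.node (.leaf .df) (.leaf (.cyc (nat_lit 10) [(nat_lit 667), (nat_lit 248),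 (nat_lit 245), (nat_lit 1542), (nat_lit 738)]))) (.node (.leaf .df) (.leaf (.cyc (nat_lit 10) [(nat_lit 2553), (nat_lit 3008), (nat_lit 3220), (nat_lit 3219), (nat_lit 3242)])))) (.node (.node (.leaf .df) (.leaf (.cyc (nat_lit 1) [(nat_lit 1979), (nat_lit 941)]))) (.node (.leaf (.cyc (nat_lit 27) [(nat_lit 343), (nat_lit 1706)])) (.leaf (.cyc (nat_lit 34) [(nat_lit 3649), (nat_lit 3648), (nat_lit 3618), (nat_lit 1114), (nat_lit 622), (nat_lit 228), (nat_lit 225), (nat_lit 612), (nat_lit 2906), (nat_lit 2907), (nat_lit 3520), (nat_lit 3015), (nat_lit 1254)]))))) (.node (.node (.node (.leaf .df) (.leaf (.cyc (nat_lit 13) [(nat_lit 2471), (nat_lit 2470), (nat_lit 359), (nat_lit 357), (nat_lit 831), (nat_lit 2431), (nat_lit 843)]))) (.node (.leaf (.cyc (nat_lit 22) [(nat_lit 94), (nat_lit 1293), (nat_lit 1284), (nat_lit 42), (nat_lit 1305), (nat_lit 20), (nat_lit 18), (nat_lit 67), (nat_lit 210), (nat_lit 1450)])) (.leaf (.cyc (nat_lit 34) [(nat_lit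 2801), (nat_lit 2419), (nat_lit 2720), (nat_lit 2721), (nat_lit 2629), (nat_lit 2282), (nat_lit 763), (nat_lit 1562), (nat_lit 2532), (nat_lit 2717), (nat_lit 3497), (nat_lit 3498), (nat_lit 2887)])))) (.node (.node (.leaf .df) (.leaf (.cyc (nat_lit 10) [(nat_lit 816), (nat_lit 817), (nat_lit 2505), (nat_lit 1806), (nat_lit 2986)]))) (.node (.leaf (.cyc (nat_lit 2) [(nat_lit 652), (nat_lit 651)])) (.leaf .df)))))) (.node (.node (.node (.node (.node (.leaf .df) (.leaf (.cyc (nat_lit 20) [(nat_lit 1673), (nat_lit 2154)]))) (.node (.leaf .df) (.leaf (.cyc (nat_lit 9) [(nat_lit 1038), (nat_lit 2684), (nat_lit 2683), (nat_lit 3028), (nat_lit 3178)])))) (.node (.node (.leaf .df) (.leaf (.cyc (nat_lit 11) [(nat_lit 2061), (nat_lit 2152), (nat_lit 286), (nat_lit 283), (nat_lit 2192), (nat_lit 2565), (nat_lit 2666)]))) (.node (.leaf (.cyc (nat_lit 32) [(nat_lit 291), (nat_lit 1344), (nat_lit 294), (nat_lit 1537), (nat_lit 135), (nat_lit 134), (nat_lit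 384), (nat_lit 1642), (nat_lit 189), (nat_lit 187)])) (.leaf (.cyc (nat_lit 43) [(nat_lit 3280), (nat_lit 3181), (nat_lit 3353), (nat_lit 2690), (nat_lit 2689), (nat_lit 1979), (nat_lit 942), (nat_lit 3145), (nat_lit 3144), (nat_lit 3652), (nat_lit 3657), (nat_lit 3296), (nat_lit 3688)]))))) (.node (.node (.node (.leaf .df) (.leaf (.cyc (nat_lit 28) [(nat_lit 1680), (nat_lit 2408), (nat_lit 170), (nat_lit 1313), (nat_lit 174), (nat_lit 497), (nat_lit 2041)]))) (.node (.leaf (.cyc (nat_lit 3) [(nat_lit 93), (nat_lit 1293), (nat_lit 1284), (nat_lit 42), (nat_lit 138)])) (.leaf (.cyc (nat_lit 2) [(nat_lit 1169), (nat_lit 2418)])))) (.node (.node (.leaf .df) (.leaf (.cyc (nat_lit 1) [(nat_lit 2916), (nat_lit 2922)]))) (.node (.leaf (.cyc (nat_lit 16) [(nat_lit 589), (nat_lit 216), (nat_lit 1866), (nat_lit 1393), (nat_lit 1886), (nat_lit 341), (nat_lit 1543), (nat_lit 297), (nat_lit 96), (nat_lit 94), (nat_lit 1454), (nat_lit 1525), (nat_lit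 277)])) (.leaf .df))))) (.node (.node (.node (.node (.leaf .df) (.leaf (.cyc (nat_lit 2) [(nat_lit 764), (nat_lit 2012)]))) (.node (.leaf .df) (.leaf (.cyc (nat_lit 40) [(nat_lit 3087), (nat_lit 3305), (nat_lit 1132), (nat_lit 656), (nat_lit 658), (nat_lit 1971), (nat_lit 1128)])))) (.node (.node (.leaf .df) (.leaf (.cyc (nat_lit 4) [(nat_lit 967), (nat_lit 1724), (nat_lit 1757), (nat_lit 841), (nat_lit 2626)]))) (.node (.leaf (.cyc (nat_lit 6) [(nat_lit 495), (nat_lit 494)])) (.leaf (.cyc (nat_lit 7) [(nat_lit 1232), (nat_lit 3069), (nat_lit 3137), (nat_lit 3135), (nat_lit 2528), (nat_lit 1178), (nat_lit 1271)]))))) (.node (.node (.node (.leaf .df) (.leaf (.cyc (nat_lit 6) [(nat_lit 867), (nat_lit 2042)]))) (.node (.leaf (.cyc (nat_lit 4) [(nat_lit 101), (nat_lit 99), (nat_lit 1350), (nat_lit 1340), (nat_lit 268)])) (.leaf (.cyc (nat_lit 0) [(nat_lit 2719), (nat_lit 1203)])))) (.node (.node (.leaf .df) (.leaf (.cyc (nat_lit 6) [(nat_lit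 1047), (nat_lit 2445)]))) (.node (.leaf (.cyc (nat_lit 19) [(nat_lit 1920), (nat_lit 2021)])) (.leaf .df))))))))
noncomputable def c5P11011 : BT Pf := (.node (.node (.node (.node (.node (.node (.node (.leaf .df) (.leaf (.cyc (nat_lit 29) [(nat_lit 1785), (nat_lit 514), (nat_lit 516), (nat_lit 2074), (nat_lit 645), (nat_lit 1481), (nat_lit 1632), (nat_lit 378), (nat_lit 1379), (nat_lit 1382), (nat_lit 1456), (nat_lit 211), (nat_lit 580)]))) (.node (.leaf .df) (.leaf (.cyc (nat_lit 9) [(nat_lit 2176), (nat_lit 2415), (nat_lit 2416), (nat_lit 1853), (nat_lit 1064)])))) (.node (.node (.leaf .df) (.leaf (.cyc (nat_lit 5) [(nat_lit 884), (nat_lit 883)]))) (.node (.leaf (.cyc (nat_lit 2) [(nat_lit 309), (nat_lit 308)])) (.leaf (.cyc (nat_lit 6) [(nat_lit 1217), (nat_lit 2990)]))))) (.node (.node (.node (.leaf .df) (.leaf (.cyc (nat_lit 38) [(nat_lit 1606), (nat_lit 1954), (nat_lit 2328), (nat_lit 1919), (nat_lit 1575), (nat_lit 1795), (nat_lit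 1568), (nat_lit 314), (nat_lit 1541), (nat_lit 1497), (nat_lit 1930), (nat_lit 619), (nat_lit 1470), (nat_lit 625)]))) (.node (.leaf (.cyc (nat_lit 2) [(nat_lit 44), (nat_lit 43)])) (.leaf (.cyc (nat_lit 8) [(nat_lit 790), (nat_lit 2356), (nat_lit 2628), (nat_lit 2627), (nat_lit 1149)])))) (.node (.node (.leaf .df) (.leaf (.cyc (nat_lit 0) [(nat_lit 1837), (nat_lit 2842)]))) (.node (.leaf (.cyc (nat_lit 4) [(nat_lit 293), (nat_lit 1645), (nat_lit 187), (nat_lit 190), (nat_lit 536)])) (.leaf .df))))) (.node (.node (.node (.node (.leaf .df) (.leaf (.cyc (nat_lit 2) [(nat_lit 730), (nat_lit 2146)]))) (.node (.leaf .df) (.leaf (.cyc (nat_lit 7) [(nat_lit 1108), (nat_lit 614), (nat_lit 225), (nat_lit 227), (nat_lit 619), (nat_lit 1930), (nat_lit 1964)])))) (.node (.node (.leaf .df) (.leaf (.cyc (nat_lit 2) [(nat_lit 933), (nat_lit 932)]))) (.node (.leaf (.cyc (nat_lit 5) [(nat_lit 432), (nat_lit 431)])) (.leaf (.cyc (nat_lit 43) [(nat_lit 3380),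 (nat_lit 3277), (nat_lit 3693), (nat_lit 1072), (nat_lit 1888), (nat_lit 2472), (nat_lit 2594), (nat_lit 427), (nat_lit 429), (nat_lit 2261), (nat_lit 2955), (nat_lit 2957), (nat_lit 1250)]))))) (.node (.node (.node (.leaf .df) (.leaf (.cyc (nat_lit 13) [(nat_lit 2456), (nat_lit 836), (nat_lit 2457), (nat_lit 546), (nat_lit 1432), (nat_lit 2145), (nat_lit 1533), (nat_lit 732)]))) (.node (.leaf (.cyc (nat_lit 1) [(nat_lit 1359), (nat_lit 198)])) (.leaf (.cyc (nat_lit 19) [(nat_lit 3453), (nat_lit 3481)])))) (.node (.node (.leaf .df) (.leaf (.cyc (nat_lit 37) [(nat_lit 1021), (nat_lit 515), (nat_lit 1421), (nat_lit 1488), (nat_lit 1348), (nat_lit 1346), (nat_lit 90), (nat_lit 25), (nat_lit 26), (nat_lit 93), (nat_lit 292), (nat_lit 1672), (nat_lit 920)]))) (.node (.leaf (.cyc (nat_lit 2) [(nat_lit 638), (nat_lit 637)])) (.leaf .df)))))) (.node (.node (.node (.node (.node (.leaf .df) (.leaf (.cyc (nat_lit 5) [(nat_lit 712), (nat_lit 1813)])))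 (.node (.leaf .df) (.leaf (.cyc (nat_lit 23) [(nat_lit 2735), (nat_lit 3162)])))) (.node (.node (.leaf .df) (.leaf (.cyc (nat_lit 2) [(nat_lit 2650), (nat_lit 2181)]))) (.node (.leaf (.cyc (nat_lit 0) [(nat_lit 1565), (nat_lit 372)])) (.leaf (.cyc (nat_lit 47) [(nat_lit 3603), (nat_lit 3602), (nat_lit 2994), (nat_lit 755), (nat_lit 305), (nat_lit 1356), (nat_lit 282), (nat_lit 1683), (nat_lit 423), (nat_lit 1685), (nat_lit 715), (nat_lit 2732), (nat_lit 1235)]))))) (.node (.node (.node (.leaf .df) (.leaf (.cyc (nat_lit 10) [(nat_lit 1696), (nat_lit 2393), (nat_lit 1734), (nat_lit 2053), (nat_lit 2194)]))) (.node (.leaf (.cyc (nat_lit 2) [(nat_lit 121), (nat_lit 120)])) (.leaf (.cyc (nat_lit 0) [(nat_lit 3408), (nat_lit 1164)])))) (.node (.node (.leaf .df) (.leaf (.cyc (nat_lit 2) [(nat_lit 1001), (nat_lit 1000)]))) (.node (.leaf (.cyc (nat_lit 0) [(nat_lit 1616), (nat_lit 1881)])) (.leaf .df))))) (.node (.node (.node (.node (.leaf .df) (.leaf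 (.cyc (nat_lit 8) [(nat_lit 396), (nat_lit 1388), (nat_lit 1409), (nat_lit 455), (nat_lit 2265)]))) (.node (.leaf .df) (.leaf (.cyc (nat_lit 4) [(nat_lit 1127), (nat_lit 1962), (nat_lit 1971), (nat_lit 658), (nat_lit 656)])))) (.node (.node (.leaf .df) (.leaf (.cyc (nat_lit 26) [(nat_lit 962), (nat_lit 446), (nat_lit 1874), (nat_lit 2297), (nat_lit 783), (nat_lit 1569), (nat_lit 780)]))) (.node (.leaf (.cyc (nat_lit 36) [(nat_lit 1422), (nat_lit 1410), (nat_lit 1754), (nat_lit 1591), (nat_lit 119), (nat_lit 1301), (nat_lit 124), (nat_lit 362)])) (.leaf (.cyc (nat_lit 45) [(nat_lit 1255), (nat_lit 3014), (nat_lit 712), (nat_lit 1803), (nat_lit 1797), (nat_lit 1790), (nat_lit 1029), (nat_lit 3611), (nat_lit 3612), (nat_lit 3684), (nat_lit 3682), (nat_lit 3796), (nat_lit 3802)]))))) (.node (.node (.node (.leaf .df) (.leaf (.cyc (nat_lit 1) [(nat_lit 2522), (nat_lit 865)]))) (.node (.leaf (.cyc (nat_lit 2) [(nat_lit 248), (nat_lit 247)])) (.leaf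 (.cyc (nat_lit 8) [(nat_lit 3401), (nat_lit 2646), (nat_lit 2611), (nat_lit 2429), (nat_lit 1199)])))) (.node (.node (.leaf .df) (.leaf (.cyc (nat_lit 27) [(nat_lit 944), (nat_lit 3034)]))) (.node (.leaf (.cyc (nat_lit 21) [(nat_lit 1995), (nat_lit 2008)])) (.leaf .df))))))) (.node (.node (.node (.node (.node (.node (.leaf .df) (.leaf (.cyc (nat_lit 2) [(nat_lit 694), (nat_lit 693)]))) (.node (.leaf .df) (.leaf (.cyc (nat_lit 10) [(nat_lit 2804), (nat_lit 2262), (nat_lit 2593), (nat_lit 2475), (nat_lit 1074)])))) (.node (.node (.leaf .df) (.leaf (.cyc (nat_lit 6) [(nat_lit 893), (nat_lit 892)]))) (.node (.leaf (.cyc (nat_lit 2) [(nat_lit 338), (nat_lit 337)])) (.leaf (.cyc (nat_lit 8) [(nat_lit 1225), (nat_lit 3304), (nat_lit 1131), (nat_lit 1969), (nat_lit 3287)]))))) (.node (.node (.node (.leaf .df) (.leaf (.cyc (nat_lit 6) [(nat_lit 2362), (nat_lit 2360)]))) (.node (.leaf (.cyc (nat_lit 8) [(nat_lit 42), (nat_lit 1284), (nat_lit 1283),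 (nat_lit 24), (nat_lit 86)])) (.leaf (.cyc (nat_lit 14) [(nat_lit 3332), (nat_lit 3384)])))) (.node (.node (.leaf .df) (.leaf (.cyc (nat_lit 46) [(nat_lit 711), (nat_lit 2117), (nat_lit 696), (nat_lit 269), (nat_lit 85), (nat_lit 1292), (nat_lit 91), (nat_lit 286), (nat_lit 2152), (nat_lit 2060), (nat_lit 636), (nat_lit 2874), (nat_lit 2861)]))) (.node (.leaf (.cyc (nat_lit 1) [(nat_lit 1751), (nat_lit 566)])) (.leaf .df))))) (.node (.node (.node (.node (.leaf .df) (.leaf (.cyc (nat_lit 4) [(nat_lit 640), (nat_lit 1473), (nat_lit 580), (nat_lit 2227), (nat_lit 2234)]))) (.node (.leaf .df) (.leaf (.cyc (nat_lit 29) [(nat_lit 1035), (nat_lit 2645), (nat_lit 2644), (nat_lit 2635), (nat_lit 805), (nat_lit 328), (nat_lit 330), (nat_lit 2307), (nat_lit 3257), (nat_lit 1115), (nat_lit 623), (nat_lit 624), (nat_lit 1116)])))) (.node (.node (.leaf .df) (.leaf (.cyc (nat_lit 11) [(nat_lit 453), (nat_lit 159), (nat_lit 50), (nat_lit 48), (nat_lit 155),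 (nat_lit 439), (nat_lit 951)]))) (.node (.leaf (.cyc (nat_lit 18) [(nat_lit 1722), (nat_lit 339), (nat_lit 340), (nat_lit 1717), (nat_lit 1560)])) (.leaf (.cyc (nat_lit 2) [(nat_lit 1260), (nat_lit 3766)]))))) (.node (.node (.node (.leaf .df) (.leaf (.cyc (nat_lit 5) [(nat_lit 2490), (nat_lit 2095)]))) (.node (.leaf (.cyc (nat_lit 5) [(nat_lit 222), (nat_lit 221)])) (.leaf (.cyc (nat_lit 2) [(nat_lit 3513), (nat_lit 3404)])))) (.node (.node (.leaf .df) (.leaf (.cyc (nat_lit 2) [(nat_lit 1033), (nat_lit 2681)]))) (.node (.leaf (.cyc (nat_lit 3) [(nat_lit 1960), (nat_lit 242), (nat_lit 1331), (nat_lit 246), (nat_lit 664)])) (.leaf .df)))))) (.node (.node (.node (.node (.node (.leaf .df) (.leaf (.cyc (nat_lit 27) [(nat_lit 2168), (nat_lit 2170)]))) (.node (.leaf .df) (.leaf (.cyc (nat_lit 16) [(nat_lit 2970), (nat_lit 2969), (nat_lit 2458), (nat_lit 380), (nat_lit 1381), (nat_lit 360), (nat_lit 2412), (nat_lit 2413), (nat_lit 708), (nat_lit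 2114), (nat_lit 3054), (nat_lit 2425), (nat_lit 1096)])))) (.node (.node (.leaf .df) (.leaf (.cyc (nat_lit 18) [(nat_lit 901), (nat_lit 1655), (nat_lit 899), (nat_lit 2637), (nat_lit 919)]))) (.node (.leaf (.cyc (nat_lit 3) [(nat_lit 1448), (nat_lit 1447), (nat_lit 1524), (nat_lit 1522), (nat_lit 397)])) (.leaf (.cyc (nat_lit 0) [(nat_lit 3695), (nat_lit 1242)]))))) (.node (.node (.node (.leaf .df) (.leaf (.cyc (nat_lit 2) [(nat_lit 827), (nat_lit 826)]))) (.node (.leaf (.cyc (nat_lit 9) [(nat_lit 154), (nat_lit 1310), (nat_lit 1319), (nat_lit 1307), (nat_lit 143)])) (.leaf (.cyc (nat_lit 5) [(nat_lit 1172), (nat_lit 3343)])))) (.node (.node (.leaf .df) (.leaf (.cyc (nat_lit 5) [(nat_lit 2937), (nat_lit 2074)]))) (.node (.leaf (.cyc (nat_lit 6) [(nat_lit 604), (nat_lit 603)])) (.leaf .df))))) (.node (.node (.node (.node (.leaf .df) (.leaf (.cyc (nat_lit 4) [(nat_lit 783), (nat_lit 1568), (nat_lit 1407), (nat_lit 1430), (nat_lit 1667)])))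 (.node (.leaf (.pin (nat_lit 0) [(nat_lit 0)] [])) (.leaf (.cyc (nat_lit 6) [(nat_lit 1139), (nat_lit 1138)])))) (.node (.node (.leaf .df) (.leaf (.cyc (nat_lit 14) [(nat_lit 2605), (nat_lit 973)]))) (.node (.leaf (.cyc (nat_lit 8) [(nat_lit 514), (nat_lit 1421), (nat_lit 1420), (nat_lit 203), (nat_lit 1751)])) (.leaf (.cyc (nat_lit 43) [(nat_lit 3755), (nat_lit 3756), (nat_lit 3803), (nat_lit 3801), (nat_lit 3585), (nat_lit 1147), (nat_lit 1982), (nat_lit 2623), (nat_lit 2990), (nat_lit 1029), (nat_lit 1030), (nat_lit 3600), (nat_lit 1274)]))))) (.node (.node (.node (.leaf .df) (.leaf (.cyc (nat_lit 13) [(nat_lit 2554), (nat_lit 2552), (nat_lit 2251), (nat_lit 746), (nat_lit 1547), (nat_lit 1913), (nat_lit 1471), (nat_lit 631)]))) (.node (.leaf (.cyc (nat_lit 5) [(nat_lit 284), (nat_lit 283)])) (.leaf (.cyc (nat_lit 14) [(nat_lit 3555), (nat_lit 1207)])))) (.node (.node (.leaf .df) (.leaf (.cyc (nat_lit 8) [(nat_lit 940), (nat_lit 430),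 (nat_lit 2595), (nat_lit 886), (nat_lit 3065), (nat_lit 2286)]))) (.node (.leaf (.cyc (nat_lit 3) [(nat_lit 2040), (nat_lit 2042), (nat_lit 1633), (nat_lit 1635), (nat_lit 545)])) (.leaf .df))))))))
noncomputable def c5P1101 : BT Pf := .node c5P11010 c5P11011
noncomputable def c5P110 : BT Pf := .node c5P1100 c5P1101
noncomputable def c5P11100 : BT Pf := (.node (.node (.node (.node (.node (.node (.node (.leaf .df) (.leaf (.cyc (nat_lit 24) [(nat_lit 684), (nat_lit 2052)]))) (.node (.leaf .df) (.leaf (.cyc (nat_lit 0) [(nat_lit 2974), (nat_lit 1056)])))) (.node (.node (.leaf .df) (.leaf (.cyc (nat_lit 11) [(nat_lit 2538), (nat_lit 2485), (nat_lit 2487), (nat_lit 2489), (nat_lit 2414), (nat_lit 2491), (nat_lit 875)]))) (.node (.leaf (.cyc (nat_lit 7) [(nat_lit 117), (nat_lit 1299), (nat_lit 77), (nat_lit 245), (nat_lit 1496), (nat_lit 1345), (nat_lit 297)])) (.leaf (.cyc (nat_lit 8) [(nat_lit 3583), (nat_lit 3588), (nat_lit 3589), (nat_lit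 3586), (nat_lit 3303)]))))) (.node (.node (.node (.leaf .df) (.leaf (.cyc (nat_lit 6) [(nat_lit 787), (nat_lit 786)]))) (.node (.leaf (.cyc (nat_lit 6) [(nat_lit 17), (nat_lit 16)])) (.leaf (.cyc (nat_lit 46) [(nat_lit 856), (nat_lit 1624), (nat_lit 1577), (nat_lit 1578), (nat_lit 1625), (nat_lit 1880), (nat_lit 1702), (nat_lit 1655), (nat_lit 1890), (nat_lit 2948), (nat_lit 2949), (nat_lit 2280), (nat_lit 3333)])))) (.node (.node (.leaf .df) (.leaf (.cyc (nat_lit 18) [(nat_lit 590), (nat_lit 1462), (nat_lit 587), (nat_lit 2697), (nat_lit 975)]))) (.node (.leaf (.cyc (nat_lit 15) [(nat_lit 1580), (nat_lit 1798), (nat_lit 315), (nat_lit 1360), (nat_lit 1435), (nat_lit 1438), (nat_lit 1440), (nat_lit 1388), (nat_lit 396)])) (.leaf .df))))) (.node (.node (.node (.node (.leaf .df) (.leaf (.cyc (nat_lit 6) [(nat_lit 726), (nat_lit 2155)]))) (.node (.leaf .df) (.leaf (.cyc (nat_lit 8) [(nat_lit 1099), (nat_lit 2068), (nat_lit 2083), (nat_lit 1621),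 (nat_lit 850)])))) (.node (.node (.leaf .df) (.leaf (.cyc (nat_lit 24) [(nat_lit 873), (nat_lit 2693)]))) (.node (.leaf (.cyc (nat_lit 2) [(nat_lit 412), (nat_lit 411)])) (.leaf (.cyc (nat_lit 11) [(nat_lit 3197), (nat_lit 992), (nat_lit 495), (nat_lit 1417), (nat_lit 498), (nat_lit 996), (nat_lit 1245)]))))) (.node (.node (.node (.leaf .df) (.leaf (.cyc (nat_lit 34) [(nat_lit 833), (nat_lit 1612), (nat_lit 1636), (nat_lit 320), (nat_lit 1363), (nat_lit 82), (nat_lit 23), (nat_lit 1281), (nat_lit 27), (nat_lit 97), (nat_lit 1347), (nat_lit 296), (nat_lit 741)]))) (.node (.leaf (.cyc (nat_lit 5) [(nat_lit 170), (nat_lit 169)])) (.leaf (.cyc (nat_lit 6) [(nat_lit 1177), (nat_lit 1176)])))) (.node (.node (.leaf .df) (.leaf (.cyc (nat_lit 22) [(nat_lit 2800), (nat_lit 2869), (nat_lit 1771), (nat_lit 2281), (nat_lit 2282), (nat_lit 2629), (nat_lit 2631), (nat_lit 2949), (nat_lit 2950)]))) (.node (.leaf (.cyc (nat_lit 6) [(nat_lit 616), (nat_lit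 615)])) (.leaf .df)))))) (.node (.node (.node (.node (.node (.leaf .df) (.leaf (.cyc (nat_lit 8) [(nat_lit 696), (nat_lit 1516), (nat_lit 1515), (nat_lit 303), (nat_lit 1723)]))) (.node (.leaf .df) (.leaf (.cyc (nat_lit 43) [(nat_lit 2771), (nat_lit 3140), (nat_lit 3141), (nat_lit 2773), (nat_lit 547), (nat_lit 1433), (nat_lit 1413), (nat_lit 1885), (nat_lit 815), (nat_lit 2391), (nat_lit 440), (nat_lit 438), (nat_lit 949)])))) (.node (.node (.leaf .df) (.leaf (.cyc (nat_lit 20) [(nat_lit 2473), (nat_lit 2630)]))) (.node (.leaf (.cyc (nat_lit 6) [(nat_lit 351), (nat_lit 350)])) (.leaf (.cyc (nat_lit 10) [(nat_lit 3262), (nat_lit 2841), (nat_lit 3046), (nat_lit 3055), (nat_lit 3654)]))))) (.node (.node (.node (.leaf .df) (.leaf (.cyc (nat_lit 4) [(nat_lit 398), (nat_lit 1522), (nat_lit 1524), (nat_lit 332), (nat_lit 810)]))) (.node (.leaf (.cyc (nat_lit 5) [(nat_lit 1350), (nat_lit 1349)])) (.leaf (.cyc (nat_lit 4) [(nat_lit 3398), (nat_lit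 1089), (nat_lit 1900), (nat_lit 1898), (nat_lit 918)])))) (.node (.node (.leaf .df) (.leaf (.cyc (nat_lit 2) [(nat_lit 994), (nat_lit 993)]))) (.node (.leaf (.cyc (nat_lit 19) [(nat_lit 1461), (nat_lit 1862), (nat_lit 409)])) (.leaf .df))))) (.node (.node (.node (.node (.leaf .df) (.leaf (.cyc (nat_lit 3) [(nat_lit 633), (nat_lit 231), (nat_lit 229), (nat_lit 1913), (nat_lit 743)]))) (.node (.leaf .df) (.leaf (.cyc (nat_lit 42) [(nat_lit 2291), (nat_lit 2882), (nat_lit 670), (nat_lit 1554), (nat_lit 160), (nat_lit 1391), (nat_lit 1455), (nat_lit 579), (nat_lit 1926), (nat_lit 1927), (nat_lit 1112), (nat_lit 3245), (nat_lit 1119)])))) (.node (.node (.leaf .df) (.leaf (.cyc (nat_lit 43) [(nat_lit 2005), (nat_lit 1647), (nat_lit 2596), (nat_lit 2262), (nat_lit 2171), (nat_lit 1851), (nat_lit 1938), (nat_lit 2276), (nat_lit 2274), (nat_lit 2275), (nat_lit 2194), (nat_lit 2395), (nat_lit 954)]))) (.node (.leaf (.cyc (nat_lit 1) [(nat_lit 1424),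 (nat_lit 471)])) (.leaf (.cyc (nat_lit 14) [(nat_lit 3398), (nat_lit 1263)]))))) (.node (.node (.node (.leaf .df) (.leaf (.cyc (nat_lit 4) [(nat_lit 855), (nat_lit 368), (nat_lit 366), (nat_lit 850), (nat_lit 2489)]))) (.node (.leaf (.cyc (nat_lit 2) [(nat_lit 235), (nat_lit 234)])) (.leaf (.cyc (nat_lit 0) [(nat_lit 3250), (nat_lit 1193)])))) (.node (.node (.leaf .df) (.leaf (.cyc (nat_lit 5) [(nat_lit 1036), (nat_lit 1035)]))) (.node (.leaf (.cyc (nat_lit 32) [(nat_lit 451), (nat_lit 1407), (nat_lit 1568), (nat_lit 314), (nat_lit 1358), (nat_lit 256), (nat_lit 677), (nat_lit 1990), (nat_lit 266), (nat_lit 264)])) (.leaf .df))))))) (.node (.node (.node (.node (.node (.node (.leaf .df) (.leaf (.cyc (nat_lit 5) [(nat_lit 1804), (nat_lit 2085), (nat_lit 1618)]))) (.node (.leaf .df) (.leaf (.cyc (nat_lit 43) [(nat_lit 2378), (nat_lit 398), (nat_lit 1388), (nat_lit 60), (nat_lit 1304), (nat_lit 1306), (nat_lit 1339), (nat_lit 1351), (nat_lit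 1300), (nat_lit 116), (nat_lit 1518), (nat_lit 1858), (nat_lit 1067)])))) (.node (.node (.leaf .df) (.leaf (.cyc (nat_lit 3) [(nat_lit 1888), (nat_lit 1887), (nat_lit 838), (nat_lit 2468), (nat_lit 887)]))) (.node (.leaf (.cyc (nat_lit 5) [(nat_lit 322), (nat_lit 321)])) (.leaf (.cyc (nat_lit 0) [(nat_lit 3058), (nat_lit 3622)]))))) (.node (.node (.node (.leaf .df) (.leaf (.cyc (nat_lit 35) [(nat_lit 1847), (nat_lit 2342), (nat_lit 801), (nat_lit 1578), (nat_lit 2137), (nat_lit 710), (nat_lit 1526), (nat_lit 1527), (nat_lit 1637), (nat_lit 1869), (nat_lit 1872), (nat_lit 1874), (nat_lit 446)]))) (.node (.leaf (.cyc (nat_lit 3) [(nat_lit 1310), (nat_lit 1318), (nat_lit 1317), (nat_lit 41), (nat_lit 43)])) (.leaf (.cyc (nat_lit 8) [(nat_lit 3365), (nat_lit 2910), (nat_lit 2922), (nat_lit 3302), (nat_lit 1139)])))) (.node (.node (.leaf .df) (.leaf (.cyc (nat_lit 18) [(nat_lit 986), (nat_lit 2854), (nat_lit 2315), (nat_lit 2773), (nat_lit 2775),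 (nat_lit 2816)]))) (.node (.leaf (.cyc (nat_lit 5) [(nat_lit 548), (nat_lit 547)])) (.leaf .df))))) (.node (.node (.node (.node (.leaf .df) (.leaf (.cyc (nat_lit 4) [(nat_lit 544), (nat_lit 2145), (nat_lit 287), (nat_lit 290), (nat_lit 735)]))) (.node (.leaf .df) (.leaf (.cyc (nat_lit 43) [(nat_lit 1093), (nat_lit 1902), (nat_lit 2664), (nat_lit 2774), (nat_lit 2816), (nat_lit 2856), (nat_lit 3094), (nat_lit 2524), (nat_lit 2292), (nat_lit 2527), (nat_lit 866), (nat_lit 2423), (nat_lit 1111)])))) (.node (.node (.leaf .df) (.leaf (.cyc (nat_lit 5) [(nat_lit 938), (nat_lit 2501)]))) (.node (.leaf (.cyc (nat_lit 6) [(nat_lit 448), (nat_lit 447)])) (.leaf (.cyc (nat_lit 4) [(nat_lit 3182), (nat_lit 3227), (nat_lit 3229), (nat_lit 2976), (nat_lit 1253)]))))) (.node (.node (.node (.leaf .df) (.leaf (.cyc (nat_lit 3) [(nat_lit 2469), (nat_lit 2468), (nat_lit 1648), (nat_lit 1538), (nat_lit 578)]))) (.node (.leaf (.cyc (nat_lit 3) [(nat_lit 206),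 (nat_lit 66), (nat_lit 1288), (nat_lit 1297), (nat_lit 112)])) (.leaf (.cyc (nat_lit 13) [(nat_lit 3494), (nat_lit 1116), (nat_lit 2333), (nat_lit 1606), (nat_lit 1954), (nat_lit 2328), (nat_lit 1101)])))) (.node (.node (.leaf .df) (.leaf (.cyc (nat_lit 6) [(nat_lit 2982), (nat_lit 2978)]))) (.node (.leaf (.cyc (nat_lit 32) [(nat_lit 242), (nat_lit 1331), (nat_lit 246), (nat_lit 1497), (nat_lit 241), (nat_lit 240), (nat_lit 650), (nat_lit 1958), (nat_lit 433), (nat_lit 431)])) (.leaf .df)))))) (.node (.node (.node (.node (.node (.leaf .df) (.leaf (.cyc (nat_lit 4) [(nat_lit 1532), (nat_lit 2150), (nat_lit 2017), (nat_lit 2015), (nat_lit 469), (nat_lit 467)]))) (.node (.leaf .df) (.leaf (.cyc (nat_lit 1) [(nat_lit 2235), (nat_lit 3171)])))) (.node (.node (.leaf .df) (.leaf (.cyc (nat_lit 1) [(nat_lit 2299), (nat_lit 913)]))) (.node (.leaf (.cyc (nat_lit 1) [(nat_lit 1457), (nat_lit 380)])) (.leaf (.cyc (nat_lit 0) [(nat_lit 3024), (nat_lit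 1238)]))))) (.node (.node (.node (.leaf .df) (.leaf (.cyc (nat_lit 18) [(nat_lit 1748), (nat_lit 1747), (nat_lit 1761), (nat_lit 1762), (nat_lit 2406), (nat_lit 1680)]))) (.node (.leaf (.cyc (nat_lit 0) [(nat_lit 1314), (nat_lit 134)])) (.leaf (.cyc (nat_lit 35) [(nat_lit 2585), (nat_lit 478), (nat_lit 168), (nat_lit 167), (nat_lit 476), (nat_lit 2303), (nat_lit 913), (nat_lit 2774), (nat_lit 2816), (nat_lit 2856), (nat_lit 3212), (nat_lit 3210), (nat_lit 3430)])))) (.node (.node (.leaf .df) (.leaf (.cyc (nat_lit 48) [(nat_lit 1004), (nat_lit 1778), (nat_lit 1008), (nat_lit 2918), (nat_lit 2759), (nat_lit 2005), (nat_lit 882), (nat_lit 2768), (nat_lit 2770)]))) (.node (.leaf (.cyc (nat_lit 6) [(nat_lit 584), (nat_lit 583)])) (.leaf .df))))) (.node (.node (.node (.node (.leaf .df) (.leaf (.cyc (nat_lit 5) [(nat_lit 760), (nat_lit 759)]))) (.node (.leaf .df) (.leaf (.cyc (nat_lit 1) [(nat_lit 3291), (nat_lit 1131)])))) (.node (.node (.leaf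 .df) (.leaf (.cyc (nat_lit 3) [(nat_lit 2789), (nat_lit 2785), (nat_lit 1781), (nat_lit 2320), (nat_lit 2252)]))) (.node (.leaf (.cyc (nat_lit 24) [(nat_lit 488), (nat_lit 1765)])) (.leaf (.cyc (nat_lit 2) [(nat_lit 1270), (nat_lit 3517)]))))) (.node (.node (.node (.leaf .df) (.leaf (.cyc (nat_lit 23) [(nat_lit 1772), (nat_lit 2533), (nat_lit 618)]))) (.node (.leaf (.cyc (nat_lit 5) [(nat_lit 261), (nat_lit 260)])) (.leaf (.cyc (nat_lit 43) [(nat_lit 3499), (nat_lit 994), (nat_lit 2869), (nat_lit 2871), (nat_lit 2935), (nat_lit 2947), (nat_lit 2652), (nat_lit 2959), (nat_lit 2958), (nat_lit 1018), (nat_lit 1782), (nat_lit 2465), (nat_lit 1201)])))) (.node (.node (.leaf .df) (.leaf (.cyc (nat_lit 10) [(nat_lit 2857), (nat_lit 486), (nat_lit 483), (nat_lit 1840), (nat_lit 1047)]))) (.node (.leaf (.cyc (nat_lit 20) [(nat_lit 1770), (nat_lit 2018), (nat_lit 220)])) (.leaf .df))))))))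
noncomputable def c5P11101 : BT Pf := (.node (.node (.node (.node (.node (.node (.node (.leaf .df) (.leaf (.cyc (nat_lit 23) [(nat_lit 646), (nat_lit 2070), (nat_lit 458)]))) (.node (.leaf .df) (.leaf (.cyc (nat_lit 24) [(nat_lit 929), (nat_lit 3093)])))) (.node (.node (.leaf .df) (.leaf (.cyc (nat_lit 3) [(nat_lit 387), (nat_lit 135), (nat_lit 134), (nat_lit 384), (nat_lit 881)]))) (.node (.leaf (.cyc (nat_lit 3) [(nat_lit 152), (nat_lit 1309), (nat_lit 1295), (nat_lit 100), (nat_lit 302)])) (.leaf (.cyc (nat_lit 6) [(nat_lit 3606), (nat_lit 3127)]))))) (.node (.node (.node (.leaf .df) (.leaf (.cyc (nat_lit 27) [(nat_lit 1950), (nat_lit 2326)]))) (.node (.leaf (.cyc (nat_lit 2) [(nat_lit 40), (nat_lit 39)])) (.leaf (.cyc (nat_lit 4) [(nat_lit 1091), (nat_lit 2823), (nat_lit 2824), (nat_lit 2817), (nat_lit 3350)])))) (.node (.node (.leaf .df) (.leaf (.cyc (nat_lit 6) [(nat_lit 2838), (nat_lit 2242)]))) (.node (.leaf (.cyc (nat_lit 0) [(nat_lit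 1642), (nat_lit 533)])) (.leaf .df))))) (.node (.node (.node (.node (.leaf .df) (.leaf (.cyc (nat_lit 2) [(nat_lit 728), (nat_lit 2150)]))) (.node (.leaf .df) (.leaf (.cyc (nat_lit 41) [(nat_lit 2736), (nat_lit 921), (nat_lit 413), (nat_lit 1395), (nat_lit 417), (nat_lit 1676), (nat_lit 1504), (nat_lit 1510), (nat_lit 1418), (nat_lit 500), (nat_lit 1000), (nat_lit 2906), (nat_lit 1106)])))) (.node (.node (.leaf .df) (.leaf (.cyc (nat_lit 2) [(nat_lit 930), (nat_lit 929)]))) (.node (.leaf (.cyc (nat_lit 3) [(nat_lit 1629), (nat_lit 373), (nat_lit 1377), (nat_lit 1397), (nat_lit 425)])) (.leaf (.cyc (nat_lit 3) [(nat_lit 3236), (nat_lit 2875), (nat_lit 2861), (nat_lit 2944), (nat_lit 1249)]))))) (.node (.node (.node (.leaf .df) (.leaf (.cyc (nat_lit 27) [(nat_lit 2441), (nat_lit 2454)]))) (.node (.leaf (.cyc (nat_lit 1) [(nat_lit 1409), (nat_lit 192)])) (.leaf (.cyc (nat_lit 0) [(nat_lit 2768), (nat_lit 3476)])))) (.node (.node (.leaf .df)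 (.leaf (.cyc (nat_lit 6) [(nat_lit 2965), (nat_lit 2728)]))) (.node (.leaf (.cyc (nat_lit 2) [(nat_lit 632), (nat_lit 631)])) (.leaf .df)))))) (.node (.node (.node (.node (.node (.leaf .df) (.leaf (.cyc (nat_lit 14) [(nat_lit 1861), (nat_lit 709)]))) (.node (.leaf .df) (.leaf (.cyc (nat_lit 42) [(nat_lit 3157), (nat_lit 3158), (nat_lit 907), (nat_lit 1665), (nat_lit 1882), (nat_lit 2551), (nat_lit 869), (nat_lit 377), (nat_lit 130), (nat_lit 129), (nat_lit 1378), (nat_lit 151), (nat_lit 432), (nat_lit 941)])))) (.node (.node (.leaf .df) (.leaf (.cyc (nat_lit 1) [(nat_lit 2196), (nat_lit 902)]))) (.node (.leaf (.cyc (nat_lit 1) [(nat_lit 1603), (nat_lit 369)])) (.leaf (.cyc (nat_lit 9) [(nat_lit 3166), (nat_lit 3386), (nat_lit 3389), (nat_lit 2732), (nat_lit 1234)]))))) (.node (.node (.node (.leaf .df) (.leaf (.cyc (nat_lit 9) [(nat_lit 815), (nat_lit 1885), (nat_lit 154), (nat_lit 155), (nat_lit 440)]))) (.node (.leaf (.cyc (nat_lit 2) [(nat_lit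 113), (nat_lit 112)])) (.leaf (.cyc (nat_lit 14) [(nat_lit 2997), (nat_lit 1163)])))) (.node (.node (.leaf .df) (.leaf (.cyc (nat_lit 0) [(nat_lit 1783), (nat_lit 2902)]))) (.node (.leaf (.cyc (nat_lit 21) [(nat_lit 1816), (nat_lit 1875)])) (.leaf .df))))) (.node (.node (.node (.node (.leaf .df) (.leaf (.cyc (nat_lit 18) [(nat_lit 2166), (nat_lit 1534), (nat_lit 2148), (nat_lit 1693), (nat_lit 751)]))) (.node (.leaf .df) (.leaf (.cyc (nat_lit 1) [(nat_lit 1968), (nat_lit 1126)])))) (.node (.node (.leaf .df) (.leaf (.cyc (nat_lit 6) [(nat_lit 961), (nat_lit 960)]))) (.node (.leaf (.cyc (nat_lit 12) [(nat_lit 1750), (nat_lit 459), (nat_lit 163), (nat_lit 51), (nat_lit 1286), (nat_lit 56), (nat_lit 179), (nat_lit 1420), (nat_lit 203)])) (.leaf (.cyc (nat_lit 43) [(nat_lit 1140), (nat_lit 1978), (nat_lit 619), (nat_lit 621), (nat_lit 3174), (nat_lit 3175), (nat_lit 1949), (nat_lit 3240), (nat_lit 3238), (nat_lit 3215), (nat_lit 3193), (nat_lit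 3233), (nat_lit 1266)]))))) (.node (.node (.node (.leaf .df) (.leaf (.cyc (nat_lit 6) [(nat_lit 2518), (nat_lit 2345)]))) (.node (.leaf (.cyc (nat_lit 2) [(nat_lit 244), (nat_lit 243)])) (.leaf (.cyc (nat_lit 29) [(nat_lit 947), (nat_lit 948), (nat_lit 3086), (nat_lit 3083), (nat_lit 3084), (nat_lit 716), (nat_lit 1686), (nat_lit 931), (nat_lit 3052), (nat_lit 3051), (nat_lit 825), (nat_lit 826), (nat_lit 1197)])))) (.node (.node (.leaf .df) (.leaf (.cyc (nat_lit 45) [(nat_lit 860), (nat_lit 858), (nat_lit 2510), (nat_lit 2898), (nat_lit 2899), (nat_lit 2701), (nat_lit 2676), (nat_lit 790), (nat_lit 1571), (nat_lit 785), (nat_lit 2357), (nat_lit 2358), (nat_lit 1043)]))) (.node (.leaf (.cyc (nat_lit 27) [(nat_lit 464), (nat_lit 2006)])) (.leaf .df))))))) (.node (.node (.node (.node (.node (.node (.leaf .df) (.leaf (.cyc (nat_lit 8) [(nat_lit 690), (nat_lit 1513), (nat_lit 1993), (nat_lit 1407), (nat_lit 1568)]))) (.node (.leaf .df) (.leaf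 (.cyc (nat_lit 7) [(nat_lit 3061), (nat_lit 572), (nat_lit 206), (nat_lit 1325), (nat_lit 210), (nat_lit 578), (nat_lit 1073)])))) (.node (.node (.leaf .df) (.leaf (.cyc (nat_lit 11) [(nat_lit 408), (nat_lit 1403), (nat_lit 1402), (nat_lit 1317), (nat_lit 136), (nat_lit 389), (nat_lit 892)]))) (.node (.leaf (.cyc (nat_lit 27) [(nat_lit 1589), (nat_lit 1590)])) (.leaf (.cyc (nat_lit 28) [(nat_lit 1224), (nat_lit 3059), (nat_lit 3622), (nat_lit 1220), (nat_lit 2646), (nat_lit 2613), (nat_lit 1034)]))))) (.node (.node (.node (.leaf .df) (.leaf (.cyc (nat_lit 6) [(nat_lit 805), (nat_lit 804)]))) (.node (.leaf (.cyc (nat_lit 3) [(nat_lit 1334), (nat_lit 81), (nat_lit 23), (nat_lit 1281), (nat_lit 29)])) (.leaf (.cyc (nat_lit 11) [(nat_lit 1104), (nat_lit 3122), (nat_lit 3121), (nat_lit 2425), (nat_lit 3054), (nat_lit 2130), (nat_lit 1156)])))) (.node (.node (.leaf .df) (.leaf (.cyc (nat_lit 2) [(nat_lit 2870), (nat_lit 2790)]))) (.node (.leaf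 (.cyc (nat_lit 6) [(nat_lit 561), (nat_lit 560)])) (.leaf .df))))) (.node (.node (.node (.node (.leaf .df) (.leaf (.cyc (nat_lit 41) [(nat_lit 2229), (nat_lit 739), (nat_lit 295), (nat_lit 1490), (nat_lit 1528), (nat_lit 714), (nat_lit 2142), (nat_lit 2148), (nat_lit 435), (nat_lit 1401), (nat_lit 1593), (nat_lit 1381), (nat_lit 382)]))) (.node (.leaf .df) (.leaf (.cyc (nat_lit 9) [(nat_lit 2998), (nat_lit 2995), (nat_lit 2321), (nat_lit 2334), (nat_lit 1115)])))) (.node (.node (.leaf .df) (.leaf (.cyc (nat_lit 4) [(nat_lit 950), (nat_lit 2397), (nat_lit 814), (nat_lit 2387), (nat_lit 2388)]))) (.node (.leaf (.cyc (nat_lit 1) [(nat_lit 1430), (nat_lit 451)])) (.leaf (.cyc (nat_lit 0) [(nat_lit 3765), (nat_lit 1259)]))))) (.node (.node (.node (.leaf .df) (.leaf (.cyc (nat_lit 6) [(nat_lit 850), (nat_lit 849)]))) (.node (.leaf (.cyc (nat_lit 5) [(nat_lit 218), (nat_lit 217)])) (.leaf (.cyc (nat_lit 18) [(nat_lit 997), (nat_lit 998), (nat_lit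 2894), (nat_lit 2311), (nat_lit 1189)])))) (.node (.node (.leaf .df) (.leaf (.cyc (nat_lit 1) [(nat_lit 2996), (nat_lit 2998)]))) (.node (.leaf (.cyc (nat_lit 1) [(nat_lit 1901), (nat_lit 661)])) (.leaf .df)))))) (.node (.node (.node (.node (.node (.leaf .df) (.leaf (.cyc (nat_lit 5) [(nat_lit 716), (nat_lit 715)]))) (.node (.leaf .df) (.leaf (.cyc (nat_lit 7) [(nat_lit 1088), (nat_lit 588), (nat_lit 1857), (nat_lit 1856), (nat_lit 1660), (nat_lit 598), (nat_lit 1095)])))) (.node (.node (.leaf .df) (.leaf (.cyc (nat_lit 16) [(nat_lit 2677), (nat_lit 916), (nat_lit 2678), (nat_lit 629), (nat_lit 230), (nat_lit 72), (nat_lit 1297), (nat_lit 32), (nat_lit 1282), (nat_lit 36), (nat_lit 125), (nat_lit 366), (nat_lit 849)]))) (.node (.leaf (.cyc (nat_lit 6) [(nat_lit 393), (nat_lit 392)])) (.leaf (.cyc (nat_lit 8) [(nat_lit 1117), (nat_lit 3156), (nat_lit 3699), (nat_lit 1240), (nat_lit 1241)]))))) (.node (.node (.node (.leaf .df) (.leaf (.cyc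 (nat_lit 0) [(nat_lit 2421), (nat_lit 2422)]))) (.node (.leaf (.cyc (nat_lit 3) [(nat_lit 1398), (nat_lit 149), (nat_lit 46), (nat_lit 47), (nat_lit 1376)])) (.leaf (.cyc (nat_lit 23) [(nat_lit 1168), (nat_lit 3446)])))) (.node (.node (.leaf .df) (.leaf (.cyc (nat_lit 5) [(nat_lit 2933), (nat_lit 2931)]))) (.node (.leaf (.cyc (nat_lit 9) [(nat_lit 603), (nat_lit 222), (nat_lit 70), (nat_lit 71), (nat_lit 227)])) (.leaf .df))))) (.node (.node (.node (.node (.leaf .df) (.leaf (.cyc (nat_lit 13) [(nat_lit 723), (nat_lit 1531), (nat_lit 2156), (nat_lit 256), (nat_lit 1358), (nat_lit 313), (nat_lit 781)]))) (.node (.leaf .df) (.leaf (.cyc (nat_lit 9) [(nat_lit 3294), (nat_lit 1108), (nat_lit 3231), (nat_lit 1977), (nat_lit 1138)])))) (.node (.node (.leaf .df) (.leaf (.cyc (nat_lit 4) [(nat_lit 2698), (nat_lit 2782), (nat_lit 963), (nat_lit 2039), (nat_lit 972)]))) (.node (.leaf (.cyc (nat_lit 9) [(nat_lit 513), (nat_lit 180), (nat_lit 1315),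 (nat_lit 177), (nat_lit 507)])) (.leaf (.cyc (nat_lit 6) [(nat_lit 3829), (nat_lit 3772)]))))) (.node (.node (.node (.leaf .df) (.leaf (.cyc (nat_lit 13) [(nat_lit 1882), (nat_lit 1883), (nat_lit 1614), (nat_lit 1401), (nat_lit 435), (nat_lit 2541), (nat_lit 2549)]))) (.node (.leaf (.cyc (nat_lit 8) [(nat_lit 278), (nat_lit 276), (nat_lit 1522), (nat_lit 139), (nat_lit 140)])) (.leaf (.cyc (nat_lit 2) [(nat_lit 1206), (nat_lit 3572)])))) (.node (.node (.leaf .df) (.leaf (.cyc (nat_lit 2) [(nat_lit 1051), (nat_lit 1050)]))) (.node (.leaf (.cyc (nat_lit 21) [(nat_lit 1731), (nat_lit 2037)])) (.leaf .df))))))))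
noncomputable def c5P1110 : BT Pf := .node c5P11100 c5P11101
noncomputable def c5P11110 : BT Pf := (.node (.node (.node (.node (.node (.node (.node (.leaf .df) (.leaf (.cyc (nat_lit 8) [(nat_lit 685), (nat_lit 1512), (nat_lit 687), (nat_lit 2057), (nat_lit 2062), (nat_lit 1839)]))) (.node (.leaf .df) (.leaf (.cyc (nat_lit 6) [(nat_lit 1060), (nat_lit 1059)])))) (.node (.node (.leaf .df) (.leaf (.cyc (nat_lit 27) [(nat_lit 2567), (nat_lit 2574)]))) (.node (.leaf (.cyc (nat_lit 20) [(nat_lit 1503), (nat_lit 1549), (nat_lit 1465)])) (.leaf (.cyc (nat_lit 13) [(nat_lit 1100), (nat_lit 1918), (nat_lit 3044), (nat_lit 1888), (nat_lit 2472), (nat_lit 1203), (nat_lit 3598)]))))) (.node (.node (.node (.leaf .df) (.leaf (.cyc (nat_lit 12) [(nat_lit 2318), (nat_lit 1988), (nat_lit 299), (nat_lit 1488), (nat_lit 1421), (nat_lit 514), (nat_lit 1785), (nat_lit 511), (nat_lit 509)]))) (.node (.leaf (.cyc (nat_lit 5) [(nat_lit 28), (nat_lit 27)])) (.leaf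 (.cyc (nat_lit 9) [(nat_lit 2293), (nat_lit 2779), (nat_lit 2780), (nat_lit 1982), (nat_lit 1146)])))) (.node (.node (.leaf .df) (.leaf (.cyc (nat_lit 4) [(nat_lit 982), (nat_lit 480), (nat_lit 169), (nat_lit 172), (nat_lit 490)]))) (.node (.leaf (.cyc (nat_lit 3) [(nat_lit 1804), (nat_lit 521), (nat_lit 184), (nat_lit 186), (nat_lit 526)])) (.leaf .df))))) (.node (.node (.node (.node (.leaf .df) (.leaf (.cyc (nat_lit 23) [(nat_lit 2182), (nat_lit 2190)]))) (.node (.leaf .df) (.leaf (.cyc (nat_lit 0) [(nat_lit 3122), (nat_lit 1102)])))) (.node (.node (.leaf .df) (.leaf (.cyc (nat_lit 14) [(nat_lit 2411), (nat_lit 926)]))) (.node (.leaf (.cyc (nat_lit 4) [(nat_lit 416), (nat_lit 1395), (nat_lit 1678), (nat_lit 262), (nat_lit 260)])) (.leaf (.cyc (nat_lit 6) [(nat_lit 1247), (nat_lit 3478)]))))) (.node (.node (.node (.leaf .df) (.leaf (.cyc (nat_lit 24) [(nat_lit 1749), (nat_lit 2446), (nat_lit 823)]))) (.node (.leaf (.cyc (nat_lit 2) [(nat_lit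 182), (nat_lit 181)])) (.leaf (.cyc (nat_lit 5) [(nat_lit 1180), (nat_lit 3299)])))) (.node (.node (.leaf .df) (.leaf (.cyc (nat_lit 13) [(nat_lit 2958), (nat_lit 1018), (nat_lit 2212), (nat_lit 2195), (nat_lit 2196), (nat_lit 1657), (nat_lit 903)]))) (.node (.leaf (.cyc (nat_lit 2) [(nat_lit 625), (nat_lit 624)])) (.leaf .df)))))) (.node (.node (.node (.node (.node (.leaf .df) (.leaf (.cyc (nat_lit 14) [(nat_lit 1972), (nat_lit 2126)]))) (.node (.leaf .df) (.leaf (.cyc (nat_lit 3) [(nat_lit 2563), (nat_lit 2239), (nat_lit 2095), (nat_lit 876), (nat_lit 3150)])))) (.node (.node (.leaf .df) (.leaf (.cyc (nat_lit 0) [(nat_lit 2635), (nat_lit 2638)]))) (.node (.leaf (.cyc (nat_lit 3) [(nat_lit 342), (nat_lit 118), (nat_lit 1301), (nat_lit 123), (nat_lit 360)])) (.leaf (.cyc (nat_lit 3) [(nat_lit 3661), (nat_lit 1231), (nat_lit 935), (nat_lit 2288), (nat_lit 1178)]))))) (.node (.node (.node (.leaf .df) (.leaf (.cyc (nat_lit 3) [(nat_lit 1886),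 (nat_lit 143), (nat_lit 141), (nat_lit 1584), (nat_lit 813)]))) (.node (.leaf (.cyc (nat_lit 17) [(nat_lit 63), (nat_lit 1287), (nat_lit 59), (nat_lit 1337), (nat_lit 1336), (nat_lit 1334), (nat_lit 80), (nat_lit 22), (nat_lit 5), (nat_lit 1276), (nat_lit 7), (nat_lit 30), (nat_lit 106)])) (.leaf (.cyc (nat_lit 1) [(nat_lit 3084), (nat_lit 1161)])))) (.node (.node (.leaf .df) (.leaf (.cyc (nat_lit 29) [(nat_lit 784), (nat_lit 786), (nat_lit 2894), (nat_lit 2893), (nat_lit 1936), (nat_lit 1547), (nat_lit 1548), (nat_lit 253), (nat_lit 1333), (nat_lit 1335), (nat_lit 102), (nat_lit 308), (nat_lit 766)]))) (.node (.leaf (.cyc (nat_lit 38) [(nat_lit 1868), (nat_lit 575), (nat_lit 1704), (nat_lit 450), (nat_lit 1707), (nat_lit 344), (nat_lit 1846), (nat_lit 1843), (nat_lit 1861), (nat_lit 1524), (nat_lit 112), (nat_lit 1298), (nat_lit 108), (nat_lit 324)])) (.leaf .df))))) (.node (.node (.node (.node (.leaf .df) (.leaf (.cyc (nat_lit 6) [(nat_lit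 748), (nat_lit 2028)]))) (.node (.leaf .df) (.leaf (.cyc (nat_lit 2) [(nat_lit 1123), (nat_lit 3006)])))) (.node (.node (.leaf .df) (.leaf (.cyc (nat_lit 11) [(nat_lit 922), (nat_lit 413), (nat_lit 1395), (nat_lit 417), (nat_lit 923), (nat_lit 2705), (nat_lit 2765)]))) (.node (.leaf (.cyc (nat_lit 5) [(nat_lit 478), (nat_lit 477)])) (.leaf (.cyc (nat_lit 29) [(nat_lit 3588), (nat_lit 1210), (nat_lit 2516), (nat_lit 3036), (nat_lit 1975), (nat_lit 1092), (nat_lit 1264), (nat_lit 3790), (nat_lit 3496), (nat_lit 3500), (nat_lit 1184), (nat_lit 1185), (nat_lit 3790)]))))) (.node (.node (.node (.leaf .df) (.leaf (.cyc (nat_lit 32) [(nat_lit 373), (nat_lit 1377), (nat_lit 1397), (nat_lit 1398), (nat_lit 1399), (nat_lit 372), (nat_lit 858), (nat_lit 2510), (nat_lit 778), (nat_lit 777)]))) (.node (.leaf (.cyc (nat_lit 20) [(nat_lit 205), (nat_lit 1486)])) (.leaf (.cyc (nat_lit 15) [(nat_lit 3533), (nat_lit 821), (nat_lit 1628), (nat_lit 1629), (nat_lit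 1687), (nat_lit 934), (nat_lit 3497), (nat_lit 3498), (nat_lit 2897)])))) (.node (.node (.leaf .df) (.leaf (.cyc (nat_lit 14) [(nat_lit 3013), (nat_lit 1041)]))) (.node (.leaf (.cyc (nat_lit 24) [(nat_lit 1832), (nat_lit 1997)])) (.leaf .df))))))) (.node (.node (.node (.node (.node (.node (.leaf .df) (.leaf (.cyc (nat_lit 34) [(nat_lit 1626), (nat_lit 2094), (nat_lit 518), (nat_lit 520), (nat_lit 1791), (nat_lit 1570), (nat_lit 1500), (nat_lit 1554), (nat_lit 160), (nat_lit 1391), (nat_lit 133), (nat_lit 132), (nat_lit 381)]))) (.node (.leaf .df) (.leaf (.cyc (nat_lit 21) [(nat_lit 1037), (nat_lit 3117)])))) (.node (.node (.leaf .df) (.leaf (.cyc (nat_lit 6) [(nat_lit 890), (nat_lit 889)]))) (.node (.leaf (.cyc (nat_lit 0) [(nat_lit 1438), (nat_lit 333)])) (.leaf (.cyc (nat_lit 34) [(nat_lit 1222), (nat_lit 906), (nat_lit 908), (nat_lit 2896), (nat_lit 2285), (nat_lit 3485), (nat_lit 3482), (nat_lit 3143), (nat_lit 2771), (nat_lit 3140),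 (nat_lit 3326), (nat_lit 3327), (nat_lit 3167)]))))) (.node (.node (.node (.leaf .df) (.leaf (.cyc (nat_lit 23) [(nat_lit 742), (nat_lit 2350)]))) (.node (.leaf (.cyc (nat_lit 1) [(nat_lit 1297), (nat_lit 70)])) (.leaf (.cyc (nat_lit 5) [(nat_lit 1153), (nat_lit 2726)])))) (.node (.node (.leaf .df) (.leaf (.cyc (nat_lit 2) [(nat_lit 991), (nat_lit 990)]))) (.node (.leaf (.cyc (nat_lit 6) [(nat_lit 554), (nat_lit 553)])) (.leaf .df))))) (.node (.node (.node (.node (.leaf .df) (.leaf (.cyc (nat_lit 19) [(nat_lit 422), (nat_lit 2221)]))) (.node (.leaf .df) (.leaf (.cyc (nat_lit 11) [(nat_lit 730), (nat_lit 287), (nat_lit 289), (nat_lit 733), (nat_lit 2334), (nat_lit 1933), (nat_lit 1113)])))) (.node (.node (.leaf .df) (.leaf (.cyc (nat_lit 2) [(nat_lit 946), (nat_lit 945)]))) (.node (.leaf (.cyc (nat_lit 10) [(nat_lit 350), (nat_lit 1371), (nat_lit 354), (nat_lit 1618), (nat_lit 1710)])) (.leaf (.cyc (nat_lit 25) [(nat_lit 1082), (nat_lit 2745),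 (nat_lit 1158), (nat_lit 3398), (nat_lit 3179), (nat_lit 3018), (nat_lit 1256)]))))) (.node (.node (.node (.leaf .df) (.leaf (.cyc (nat_lit 2) [(nat_lit 848), (nat_lit 847)]))) (.node (.leaf (.cyc (nat_lit 9) [(nat_lit 1452), (nat_lit 94), (nat_lit 1293), (nat_lit 39), (nat_lit 133)])) (.leaf (.cyc (nat_lit 3) [(nat_lit 1187), (nat_lit 3460), (nat_lit 3366), (nat_lit 3364), (nat_lit 3140)])))) (.node (.node (.leaf .df) (.leaf (.cyc (nat_lit 6) [(nat_lit 1030), (nat_lit 2815)]))) (.node (.leaf (.cyc (nat_lit 6) [(nat_lit 1966), (nat_lit 1834)])) (.leaf .df)))))) (.node (.node (.node (.node (.node (.leaf .df) (.leaf (.cyc (nat_lit 27) [(nat_lit 414), (nat_lit 2158)]))) (.node (.leaf .df) (.leaf (.cyc (nat_lit 28) [(nat_lit 1092), (nat_lit 1901), (nat_lit 660), (nat_lit 2820), (nat_lit 1649), (nat_lit 889), (nat_lit 2933)])))) (.node (.node (.leaf .df) (.leaf (.cyc (nat_lit 5) [(nat_lit 915), (nat_lit 914)]))) (.node (.leaf (.cyc (nat_lit 2)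 [(nat_lit 386), (nat_lit 385)])) (.leaf (.cyc (nat_lit 10) [(nat_lit 2832), (nat_lit 3279), (nat_lit 3691), (nat_lit 1238), (nat_lit 1239)]))))) (.node (.node (.node (.leaf .df) (.leaf (.cyc (nat_lit 5) [(nat_lit 819), (nat_lit 2169)]))) (.node (.leaf (.cyc (nat_lit 8) [(nat_lit 1382), (nat_lit 1390), (nat_lit 1389), (nat_lit 49), (nat_lit 50)])) (.leaf (.cyc (nat_lit 5) [(nat_lit 1170), (nat_lit 3103)])))) (.node (.node (.leaf .df) (.leaf (.cyc (nat_lit 46) [(nat_lit 1009), (nat_lit 1778), (nat_lit 1004), (nat_lit 2921), (nat_lit 1007), (nat_lit 504), (nat_lit 1509), (nat_lit 681), (nat_lit 2494), (nat_lit 844), (nat_lit 2431), (nat_lit 2486), (nat_lit 854)]))) (.node (.leaf (.cyc (nat_lit 6) [(nat_lit 594), (nat_lit 593)])) (.leaf .df))))) (.node (.node (.node (.node (.leaf .df) (.leaf (.cyc (nat_lit 0) [(nat_lit 1629), (nat_lit 769)]))) (.node (.leaf .df) (.leaf (.cyc (nat_lit 28) [(nat_lit 1133), (nat_lit 659), (nat_lit 656), (nat_lit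 2633), (nat_lit 2682), (nat_lit 2988), (nat_lit 2989)])))) (.node (.node (.leaf .df) (.leaf (.cyc (nat_lit 7) [(nat_lit 2798), (nat_lit 2198), (nat_lit 727), (nat_lit 1532), (nat_lit 2152), (nat_lit 2060), (nat_lit 636)]))) (.node (.leaf (.cyc (nat_lit 2) [(nat_lit 499), (nat_lit 498)])) (.leaf (.cyc (nat_lit 8) [(nat_lit 3549), (nat_lit 3551), (nat_lit 3385), (nat_lit 3471), (nat_lit 1272)]))))) (.node (.node (.node (.leaf .df) (.leaf (.cyc (nat_lit 4) [(nat_lit 499), (nat_lit 497), (nat_lit 2492), (nat_lit 2540), (nat_lit 2542)]))) (.node (.leaf (.cyc (nat_lit 5) [(nat_lit 272), (nat_lit 271)])) (.leaf (.cyc (nat_lit 3) [(nat_lit 2767), (nat_lit 2765), (nat_lit 2705), (nat_lit 2691), (nat_lit 1204)])))) (.node (.node (.leaf .df) (.leaf (.cyc (nat_lit 0) [(nat_lit 3045), (nat_lit 1048)]))) (.node (.leaf (.cyc (nat_lit 19) [(nat_lit 491), (nat_lit 2023), (nat_lit 600)])) (.leaf .df))))))))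
noncomputable def c5P11111 : BT Pf := (.node (.node (.node (.node (.node (.node (.node (.leaf .df) (.leaf (.cyc (nat_lit 29) [(nat_lit 673), (nat_lit 252), (nat_lit 1553), (nat_lit 78), (nat_lit 77), (nat_lit 245), (nat_lit 1496), (nat_lit 1491), (nat_lit 236), (nat_lit 2072), (nat_lit 1422), (nat_lit 1756), (nat_lit 1374), (nat_lit 366)]))) (.node (.leaf .df) (.leaf (.cyc (nat_lit 10) [(nat_lit 3101), (nat_lit 3100), (nat_lit 2193), (nat_lit 2754), (nat_lit 2755)])))) (.node (.node (.leaf .df) (.leaf (.cyc (nat_lit 19) [(nat_lit 2587), (nat_lit 2590), (nat_lit 427)]))) (.node (.leaf (.cyc (nat_lit 18) [(nat_lit 250), (nat_lit 1553), (nat_lit 1333), (nat_lit 1358), (nat_lit 314)])) (.leaf (.cyc (nat_lit 6) [(nat_lit 1218), (nat_lit 3385)]))))) (.node (.node (.node (.leaf .df) (.leaf (.cyc (nat_lit 25) [(nat_lit 1844), (nat_lit 1663), (nat_lit 1583), (nat_lit 1796), (nat_lit 1575), (nat_lit 1919), (nat_lit 2327)]))) (.node (.leaf (.cyc (nat_lit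 6) [(nat_lit 50), (nat_lit 1290)])) (.leaf (.cyc (nat_lit 13) [(nat_lit 3225), (nat_lit 1933), (nat_lit 2484), (nat_lit 365), (nat_lit 367), (nat_lit 2480), (nat_lit 3358)])))) (.node (.node (.leaf .df) (.leaf (.cyc (nat_lit 23) [(nat_lit 648), (nat_lit 2845)]))) (.node (.leaf (.cyc (nat_lit 4) [(nat_lit 539), (nat_lit 190), (nat_lit 188), (nat_lit 530), (nat_lit 1812)])) (.leaf .df))))) (.node (.node (.node (.node (.leaf .df) (.leaf (.cyc (nat_lit 0) [(nat_lit 2142), (nat_lit 733)]))) (.node (.leaf .df) (.leaf (.cyc (nat_lit 3) [(nat_lit 1108), (nat_lit 3227), (nat_lit 1964), (nat_lit 1498), (nat_lit 662)])))) (.node (.node (.leaf .df) (.leaf (.cyc (nat_lit 10) [(nat_lit 2472), (nat_lit 2232), (nat_lit 831), (nat_lit 2432), (nat_lit 936)]))) (.node (.leaf (.cyc (nat_lit 5) [(nat_lit 439), (nat_lit 438)])) (.leaf (.cyc (nat_lit 4) [(nat_lit 1251), (nat_lit 2956), (nat_lit 877), (nat_lit 2233), (nat_lit 1125)]))))) (.node (.node (.node (.leaf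 .df) (.leaf (.cyc (nat_lit 6) [(nat_lit 837), (nat_lit 836)]))) (.node (.leaf (.cyc (nat_lit 20) [(nat_lit 1431), (nat_lit 1437)])) (.leaf (.cyc (nat_lit 5) [(nat_lit 1184), (nat_lit 2527)])))) (.node (.node (.leaf .df) (.leaf (.cyc (nat_lit 6) [(nat_lit 1024), (nat_lit 1023)]))) (.node (.leaf (.cyc (nat_lit 9) [(nat_lit 471), (nat_lit 1412), (nat_lit 1478), (nat_lit 1479), (nat_lit 643)])) (.leaf .df)))))) (.node (.node (.node (.node (.node (.leaf .df) (.leaf (.cyc (nat_lit 32) [(nat_lit 541), (nat_lit 1432), (nat_lit 1480), (nat_lit 237), (nat_lit 239), (nat_lit 1528), (nat_lit 714), (nat_lit 2142), (nat_lit 289), (nat_lit 287)]))) (.node (.leaf .df) (.leaf (.cyc (nat_lit 8) [(nat_lit 1086), (nat_lit 1084), (nat_lit 3158), (nat_lit 907), (nat_lit 909)])))) (.node (.node (.leaf .df) (.leaf (.cyc (nat_lit 5) [(nat_lit 907), (nat_lit 906)]))) (.node (.leaf (.cyc (nat_lit 14) [(nat_lit 1540), (nat_lit 376)])) (.leaf (.cyc (nat_lit 1) [(nat_lit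 3458), (nat_lit 3678)]))))) (.node (.node (.node (.leaf .df) (.leaf (.cyc (nat_lit 3) [(nat_lit 1695), (nat_lit 2398), (nat_lit 304), (nat_lit 305), (nat_lit 757)]))) (.node (.leaf (.cyc (nat_lit 0) [(nat_lit 1353), (nat_lit 126)])) (.leaf (.cyc (nat_lit 28) [(nat_lit 2889), (nat_lit 3421), (nat_lit 3419), (nat_lit 3410), (nat_lit 3229), (nat_lit 2562), (nat_lit 2939)])))) (.node (.node (.leaf .df) (.leaf (.cyc (nat_lit 4) [(nat_lit 957), (nat_lit 1699), (nat_lit 959), (nat_lit 2908), (nat_lit 1003)]))) (.node (.leaf (.cyc (nat_lit 4) [(nat_lit 359), (nat_lit 1372), (nat_lit 1381), (nat_lit 1457), (nat_lit 576)])) (.leaf .df))))) (.node (.node (.node (.node (.leaf .df) (.leaf (.cyc (nat_lit 38) [(nat_lit 470), (nat_lit 2153), (nat_lit 1532), (nat_lit 727), (nat_lit 2197), (nat_lit 1538), (nat_lit 1455), (nat_lit 1408), (nat_lit 1597), (nat_lit 2111), (nat_lit 1516), (nat_lit 1561), (nat_lit 758)]))) (.node (.leaf .df) (.leaf (.cyc (nat_lit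 6) [(nat_lit 1129), (nat_lit 2263)])))) (.node (.node (.leaf .df) (.leaf (.cyc (nat_lit 1) [(nat_lit 2729), (nat_lit 2782)]))) (.node (.leaf (.cyc (nat_lit 2) [(nat_lit 489), (nat_lit 488)])) (.leaf (.cyc (nat_lit 6) [(nat_lit 1268), (nat_lit 3781)]))))) (.node (.node (.node (.leaf .df) (.leaf (.cyc (nat_lit 9) [(nat_lit 2292), (nat_lit 2524), (nat_lit 865), (nat_lit 1630), (nat_lit 866)]))) (.node (.leaf (.cyc (nat_lit 6) [(nat_lit 255), (nat_lit 254)])) (.leaf (.cyc (nat_lit 34) [(nat_lit 3218), (nat_lit 3386), (nat_lit 3166), (nat_lit 3167), (nat_lit 3327), (nat_lit 3326), (nat_lit 3142), (nat_lit 2310), (nat_lit 2306), (nat_lit 2992), (nat_lit 2991), (nat_lit 3021), (nat_lit 3550)])))) (.node (.node (.leaf .df) (.leaf (.cyc (nat_lit 11) [(nat_lit 1910), (nat_lit 2806), (nat_lit 2810), (nat_lit 2478), (nat_lit 2602), (nat_lit 2458), (nat_lit 1044)]))) (.node (.leaf (.cyc (nat_lit 19) [(nat_lit 1905), (nat_lit 2013)])) (.leaf .df)))))))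 (.node (.node (.node (.node (.node (.node (.leaf .df) (.leaf (.cyc (nat_lit 8) [(nat_lit 1596), (nat_lit 1544), (nat_lit 1600), (nat_lit 2109), (nat_lit 695)]))) (.node (.leaf .df) (.leaf (.cyc (nat_lit 1) [(nat_lit 1934), (nat_lit 1075)])))) (.node (.node (.leaf .df) (.leaf (.cyc (nat_lit 0) [(nat_lit 2358), (nat_lit 2622)]))) (.node (.leaf (.cyc (nat_lit 5) [(nat_lit 343), (nat_lit 342)])) (.leaf (.cyc (nat_lit 34) [(nat_lit 1226), (nat_lit 2684), (nat_lit 1038), (nat_lit 3076), (nat_lit 2973), (nat_lit 3078), (nat_lit 607), (nat_lit 608), (nat_lit 2327), (nat_lit 2335), (nat_lit 560), (nat_lit 558), (nat_lit 1052)]))))) (.node (.node (.node (.leaf .df) (.leaf (.cyc (nat_lit 45) [(nat_lit 532), (nat_lit 530), (nat_lit 1812), (nat_lit 2073), (nat_lit 236), (nat_lit 74), (nat_lit 1305), (nat_lit 42), (nat_lit 44), (nat_lit 142), (nat_lit 403), (nat_lit 2365), (nat_lit 2366)]))) (.node (.leaf (.cyc (nat_lit 2) [(nat_lit 92), (nat_lit 91)]))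 (.leaf (.cyc (nat_lit 29) [(nat_lit 2167), (nat_lit 3389), (nat_lit 1103), (nat_lit 3122), (nat_lit 3121), (nat_lit 2425), (nat_lit 2445), (nat_lit 1840), (nat_lit 2410), (nat_lit 369), (nat_lit 1375), (nat_lit 302), (nat_lit 751)])))) (.node (.node (.leaf .df) (.leaf (.cyc (nat_lit 27) [(nat_lit 2290), (nat_lit 2877), (nat_lit 2851)]))) (.node (.leaf (.cyc (nat_lit 2) [(nat_lit 572), (nat_lit 571)])) (.leaf .df))))) (.node (.node (.node (.node (.leaf .df) (.leaf (.cyc (nat_lit 20) [(nat_lit 2123), (nat_lit 2238)]))) (.node (.leaf .df) (.leaf (.cyc (nat_lit 0) [(nat_lit 2678), (nat_lit 1118)])))) (.node (.node (.leaf .df) (.leaf (.cyc (nat_lit 34) [(nat_lit 2750), (nat_lit 2169), (nat_lit 1602), (nat_lit 721), (nat_lit 2177), (nat_lit 421), (nat_lit 418), (nat_lit 2409), (nat_lit 1747), (nat_lit 197), (nat_lit 1414), (nat_lit 477), (nat_lit 2100)]))) (.node (.leaf (.cyc (nat_lit 10) [(nat_lit 175), (nat_lit 54), (nat_lit 51), (nat_lit 163),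 (nat_lit 460)])) (.leaf (.cyc (nat_lit 29) [(nat_lit 1187), (nat_lit 1188), (nat_lit 3566), (nat_lit 3568), (nat_lit 3491), (nat_lit 935), (nat_lit 2288), (nat_lit 3260), (nat_lit 3728), (nat_lit 3727), (nat_lit 3479), (nat_lit 3089), (nat_lit 1261)]))))) (.node (.node (.node (.leaf .df) (.leaf (.cyc (nat_lit 34) [(nat_lit 1917), (nat_lit 551), (nat_lit 553), (nat_lit 2065), (nat_lit 2053), (nat_lit 2043), (nat_lit 679), (nat_lit 681), (nat_lit 2494), (nat_lit 844), (nat_lit 363), (nat_lit 361), (nat_lit 842)]))) (.node (.leaf (.cyc (nat_lit 5) [(nat_lit 230), (nat_lit 229)])) (.leaf (.cyc (nat_lit 25) [(nat_lit 3464), (nat_lit 3110), (nat_lit 2761), (nat_lit 2382), (nat_lit 1081), (nat_lit 3153), (nat_lit 1191)])))) (.node (.node (.leaf .df) (.leaf (.cyc (nat_lit 40) [(nat_lit 633), (nat_lit 1472), (nat_lit 635), (nat_lit 3006), (nat_lit 3005), (nat_lit 3004), (nat_lit 2674), (nat_lit 979)]))) (.node (.leaf (.cyc (nat_lit 8) [(nat_lit 1570),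 (nat_lit 249), (nat_lit 1553), (nat_lit 252), (nat_lit 672)])) (.leaf .df)))))) (.node (.node (.node (.node (.node (.leaf .df) (.leaf (.cyc (nat_lit 3) [(nat_lit 718), (nat_lit 2173), (nat_lit 2174), (nat_lit 593), (nat_lit 595)]))) (.node (.leaf .df) (.leaf (.cyc (nat_lit 31) [(nat_lit 1010), (nat_lit 1779), (nat_lit 1013), (nat_lit 2937), (nat_lit 1955), (nat_lit 2248), (nat_lit 2552), (nat_lit 2556), (nat_lit 3198)])))) (.node (.node (.leaf .df) (.leaf (.cyc (nat_lit 22) [(nat_lit 2519), (nat_lit 2344), (nat_lit 400), (nat_lit 1392), (nat_lit 1585), (nat_lit 1586), (nat_lit 1672), (nat_lit 920), (nat_lit 2686)]))) (.node (.leaf (.cyc (nat_lit 1) [(nat_lit 1584), (nat_lit 400)])) (.leaf (.cyc (nat_lit 14) [(nat_lit 3321), (nat_lit 1243)]))))) (.node (.node (.node (.leaf .df) (.leaf (.cyc (nat_lit 9) [(nat_lit 831), (nat_lit 357), (nat_lit 122), (nat_lit 124), (nat_lit 363)]))) (.node (.leaf (.cyc (nat_lit 5) [(nat_lit 160), (nat_lit 159)]))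 (.leaf (.cyc (nat_lit 6) [(nat_lit 1174), (nat_lit 1173)])))) (.node (.node (.leaf .df) (.leaf (.cyc (nat_lit 8) [(nat_lit 1955), (nat_lit 2937), (nat_lit 2938), (nat_lit 2931), (nat_lit 2940)]))) (.node (.leaf (.cyc (nat_lit 6) [(nat_lit 608), (nat_lit 1574)])) (.leaf .df))))) (.node (.node (.node (.node (.leaf .df) (.leaf (.cyc (nat_lit 19) [(nat_lit 1824), (nat_lit 2301)]))) (.node (.leaf (.cyc (nat_lit 3) [(nat_lit 1), (nat_lit 0), (nat_lit 1275), (nat_lit 0), (nat_lit 5)])) (.leaf (.cyc (nat_lit 13) [(nat_lit 3326), (nat_lit 3142), (nat_lit 697), (nat_lit 1516), (nat_lit 1561), (nat_lit 755), (nat_lit 2994)])))) (.node (.node (.leaf .df) (.leaf (.cyc (nat_lit 4) [(nat_lit 1790), (nat_lit 2329), (nat_lit 2370), (nat_lit 2812), (nat_lit 2814)]))) (.node (.leaf (.cyc (nat_lit 26) [(nat_lit 520), (nat_lit 183), (nat_lit 185), (nat_lit 1742), (nat_lit 319), (nat_lit 1360), (nat_lit 315)])) (.leaf .df)))) (.node (.node (.node (.leaf .df)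 (.leaf (.cyc (nat_lit 24) [(nat_lit 1943), (nat_lit 2557)]))) (.node (.leaf (.cyc (nat_lit 1) [(nat_lit 1387), (nat_lit 291)])) (.leaf (.cyc (nat_lit 6) [(nat_lit 1208), (nat_lit 3450)])))) (.node (.node (.leaf .df) (.leaf (.cyc (nat_lit 3) [(nat_lit 706), (nat_lit 1520), (nat_lit 2110), (nat_lit 1846), (nat_lit 1052)]))) (.node (.leaf (.cyc (nat_lit 2) [(nat_lit 685), (nat_lit 684)])) (.leaf .df))))))))
noncomputable def c5P1111 : BT Pf := .node c5P11110 c5P11111
noncomputable def c5P111 : BT Pf := .node c5P1110 c5P1111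
noncomputable def c5P11 : BT Pf := .node c5P110 c5P111
noncomputable def c5P1 : BT Pf := .node c5P10 c5P11
noncomputable def c5P : BT Pf := .node c5P0 c5P1
noncomputable def c5R : BT (List ℕ × ℕ × ℕ) := (.node (.node (.node (.node (.node (.node (.leaf ([(nat_lit 32), (nat_lit 32), (nat_lit 32)], (nat_lit 0), (nat_lit 1))) (.leaf ([(nat_lit 37), (nat_lit 32), (nat_lit 37), (nat_lit 32), (nat_lit 37), (nat_lit 32), (nat_lit 37), (nat_lit 32), (nat_lit 37), (nat_lit 32)], (nat_lit 5), (nat_lit 4)))) (.node (.leaf ([(nat_lit 49), (nat_lit 33), (nat_lit 36), (nat_lit 32), (nat_lit 37), (nat_lit 32), (nat_lit 48), (nat_lit 37), (nat_lit 32), (nat_lit 48), (nat_lit 33), (nat_lit 49), (nat_lit 33), (nat_lit 36)], (nat_lit 6), (nat_lit 11))) (.leaf ([(nat_lit 32), (nat_lit 37), (nat_lit 32), (nat_lit 37), (nat_lit 32), (nat_lit 37), (nat_lit 32), (nat_lit 37), (nat_lit 32), (nat_lit 37)], (nat_lit 5), (nat_lit 7))))) (.node (.node (.leaf ([(nat_lit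 48), (nat_lit 36), (nat_lit 33), (nat_lit 37), (nat_lit 32), (nat_lit 37)], (nat_lit 3), (nat_lit 2))) (.leaf ([(nat_lit 33), (nat_lit 36), (nat_lit 32), (nat_lit 48), (nat_lit 33), (nat_lit 36), (nat_lit 32), (nat_lit 48)], (nat_lit 4), (nat_lit 5)))) (.node (.leaf ([(nat_lit 49), (nat_lit 48)], (nat_lit 1000), (nat_lit 0))) (.leaf ([], (nat_lit 1000), (nat_lit 0)))))) (.node (.node (.node (.leaf ([(nat_lit 37), (nat_lit 48), (nat_lit 36), (nat_lit 33), (nat_lit 37), (nat_lit 32)], (nat_lit 3), (nat_lit 1))) (.leaf ([(nat_lit 36), (nat_lit 32), (nat_lit 48), (nat_lit 33), (nat_lit 36), (nat_lit 32), (nat_lit 48), (nat_lit 33)], (nat_lit 4), (nat_lit 6)))) (.node (.leaf ([(nat_lit 36), (nat_lit 37)], (nat_lit 1000), (nat_lit 0))) (.leaf ([], (nat_lit 1000), (nat_lit 0))))) (.node (.node (.leaf ([(nat_lit 37), (nat_lit 32), (nat_lit 37), (nat_lit 32), (nat_lit 37), (nat_lit 32), (nat_lit 37), (nat_lit 32), (nat_lit 37), (nat_lit 32)], (nat_lit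 5), (nat_lit 0))) (.leaf ([(nat_lit 37), (nat_lit 32), (nat_lit 48), (nat_lit 37), (nat_lit 32), (nat_lit 48), (nat_lit 33), (nat_lit 49), (nat_lit 33), (nat_lit 36), (nat_lit 49), (nat_lit 33), (nat_lit 36), (nat_lit 32)], (nat_lit 6), (nat_lit 1)))) (.node (.leaf ([(nat_lit 48), (nat_lit 33), (nat_lit 36), (nat_lit 32), (nat_lit 48), (nat_lit 33), (nat_lit 36), (nat_lit 32)], (nat_lit 4), (nat_lit 0))) (.leaf ([], (nat_lit 1000), (nat_lit 0))))))) (.node (.node (.node (.node (.leaf ([(nat_lit 48), (nat_lit 48), (nat_lit 48)], (nat_lit 2), (nat_lit 2))) (.leaf ([(nat_lit 33), (nat_lit 49), (nat_lit 33), (nat_lit 36), (nat_lit 49), (nat_lit 33), (nat_lit 36), (nat_lit 32), (nat_lit 37), (nat_lit 32), (nat_lit 48), (nat_lit 37), (nat_lit 32), (nat_lit 48)], (nat_lit 6), (nat_lit 7)))) (.node (.leaf ([(nat_lit 37), (nat_lit 32), (nat_lit 37), (nat_lit 48), (nat_lit 36), (nat_lit 33)], (nat_lit 3), (nat_lit 5))) (.leaf ([], (nat_lit 1000),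 (nat_lit 0))))) (.node (.node (.leaf ([(nat_lit 32), (nat_lit 37), (nat_lit 48), (nat_lit 36), (nat_lit 33), (nat_lit 37)], (nat_lit 3), (nat_lit 0))) (.leaf ([(nat_lit 32), (nat_lit 37), (nat_lit 32), (nat_lit 48), (nat_lit 37), (nat_lit 32), (nat_lit 48), (nat_lit 33), (nat_lit 49), (nat_lit 33), (nat_lit 36), (nat_lit 49), (nat_lit 33), (nat_lit 36)], (nat_lit 6), (nat_lit 0)))) (.node (.leaf ([(nat_lit 32), (nat_lit 48), (nat_lit 33), (nat_lit 36), (nat_lit 32), (nat_lit 48), (nat_lit 33), (nat_lit 36)], (nat_lit 4), (nat_lit 7))) (.leaf ([], (nat_lit 1000), (nat_lit 0)))))) (.node (.node (.node (.leaf ([(nat_lit 36), (nat_lit 36), (nat_lit 36)], (nat_lit 1), (nat_lit 2))) (.leaf ([(nat_lit 33), (nat_lit 36), (nat_lit 32), (nat_lit 37), (nat_lit 32), (nat_lit 48), (nat_lit 37), (nat_lit 32), (nat_lit 48), (nat_lit 33), (nat_lit 49), (nat_lit 33), (nat_lit 36), (nat_lit 49)], (nat_lit 6), (nat_lit 12)))) (.node (.leaf ([(nat_lit 32),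 (nat_lit 37), (nat_lit 32), (nat_lit 37), (nat_lit 32), (nat_lit 37), (nat_lit 32), (nat_lit 37), (nat_lit 32), (nat_lit 37)], (nat_lit 5), (nat_lit 3))) (.leaf ([], (nat_lit 1000), (nat_lit 0))))) (.node (.node (.leaf ([(nat_lit 48), (nat_lit 48), (nat_lit 48)], (nat_lit 2), (nat_lit 1))) (.leaf ([(nat_lit 36), (nat_lit 49), (nat_lit 33), (nat_lit 36), (nat_lit 32), (nat_lit 37), (nat_lit 32), (nat_lit 48), (nat_lit 37), (nat_lit 32), (nat_lit 48), (nat_lit 33), (nat_lit 49), (nat_lit 33)], (nat_lit 6), (nat_lit 10)))) (.node (.leaf ([(nat_lit 37), (nat_lit 32), (nat_lit 37), (nat_lit 32), (nat_lit 37), (nat_lit 32), (nat_lit 37), (nat_lit 32), (nat_lit 37), (nat_lit 32)], (nat_lit 5), (nat_lit 8))) (.leaf ([], (nat_lit 1000), (nat_lit 0)))))))) (.node (.node (.node (.node (.node (.leaf ([(nat_lit 36), (nat_lit 36), (nat_lit 36)], (nat_lit 1), (nat_lit 1))) (.leaf ([(nat_lit 37), (nat_lit 32), (nat_lit 37), (nat_lit 32), (nat_lit 37), (nat_lit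 32), (nat_lit 37), (nat_lit 32), (nat_lit 37), (nat_lit 32)], (nat_lit 5), (nat_lit 2)))) (.node (.leaf ([(nat_lit 36), (nat_lit 32), (nat_lit 37), (nat_lit 32), (nat_lit 48), (nat_lit 37), (nat_lit 32), (nat_lit 48), (nat_lit 33), (nat_lit 49), (nat_lit 33), (nat_lit 36), (nat_lit 49), (nat_lit 33)], (nat_lit 6), (nat_lit 13))) (.leaf ([], (nat_lit 1000), (nat_lit 0))))) (.node (.node (.leaf ([(nat_lit 33), (nat_lit 37), (nat_lit 32), (nat_lit 37), (nat_lit 48), (nat_lit 36)], (nat_lit 3), (nat_lit 4))) (.leaf ([(nat_lit 33), (nat_lit 36), (nat_lit 49), (nat_lit 33), (nat_lit 36), (nat_lit 32), (nat_lit 37), (nat_lit 32), (nat_lit 48), (nat_lit 37), (nat_lit 32), (nat_lit 48), (nat_lit 33), (nat_lit 49)], (nat_lit 6), (nat_lit 9)))) (.node (.leaf ([(nat_lit 48), (nat_lit 33), (nat_lit 36), (nat_lit 32), (nat_lit 48), (nat_lit 33), (nat_lit 36), (nat_lit 32)], (nat_lit 4), (nat_lit 4))) (.leaf ([], (nat_lit 1000), (nat_lit 0)))))) (.node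 (.node (.node (.leaf ([(nat_lit 32), (nat_lit 32), (nat_lit 32)], (nat_lit 0), (nat_lit 2))) (.leaf ([(nat_lit 48), (nat_lit 33), (nat_lit 49), (nat_lit 33), (nat_lit 36), (nat_lit 49), (nat_lit 33), (nat_lit 36), (nat_lit 32), (nat_lit 37), (nat_lit 32), (nat_lit 48), (nat_lit 37), (nat_lit 32)], (nat_lit 6), (nat_lit 6)))) (.node (.leaf ([(nat_lit 37), (nat_lit 36)], (nat_lit 1000), (nat_lit 0))) (.leaf ([], (nat_lit 1000), (nat_lit 0))))) (.node (.node (.leaf ([(nat_lit 33), (nat_lit 36), (nat_lit 32), (nat_lit 48), (nat_lit 33), (nat_lit 36), (nat_lit 32), (nat_lit 48)], (nat_lit 4), (nat_lit 1))) (.leaf ([(nat_lit 32), (nat_lit 48), (nat_lit 37), (nat_lit 32), (nat_lit 48), (nat_lit 33), (nat_lit 49), (nat_lit 33), (nat_lit 36), (nat_lit 49), (nat_lit 33), (nat_lit 36), (nat_lit 32), (nat_lit 37)], (nat_lit 6), (nat_lit 2)))) (.node (.leaf ([(nat_lit 49), (nat_lit 33), (nat_lit 36), (nat_lit 49), (nat_lit 33), (nat_lit 36), (nat_lit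 32), (nat_lit 37), (nat_lit 32), (nat_lit 48), (nat_lit 37), (nat_lit 32), (nat_lit 48), (nat_lit 33)], (nat_lit 6), (nat_lit 8))) (.leaf ([], (nat_lit 1000), (nat_lit 0))))))) (.node (.node (.node (.node (.leaf ([(nat_lit 36), (nat_lit 33), (nat_lit 37), (nat_lit 32), (nat_lit 37), (nat_lit 48)], (nat_lit 3), (nat_lit 3))) (.leaf ([(nat_lit 48), (nat_lit 37), (nat_lit 32), (nat_lit 48), (nat_lit 33), (nat_lit 49), (nat_lit 33), (nat_lit 36), (nat_lit 49), (nat_lit 33), (nat_lit 36), (nat_lit 32), (nat_lit 37), (nat_lit 32)], (nat_lit 6), (nat_lit 3)))) (.node (.leaf ([(nat_lit 33), (nat_lit 32)], (nat_lit 1000), (nat_lit 0))) (.leaf ([], (nat_lit 1000), (nat_lit 0))))) (.node (.node (.leaf ([(nat_lit 32), (nat_lit 48), (nat_lit 33), (nat_lit 36), (nat_lit 32), (nat_lit 48), (nat_lit 33), (nat_lit 36)], (nat_lit 4), (nat_lit 3))) (.leaf ([(nat_lit 37), (nat_lit 32), (nat_lit 48), (nat_lit 33), (nat_lit 49), (nat_lit 33), (nat_lit 36), (nat_lit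 49), (nat_lit 33), (nat_lit 36), (nat_lit 32), (nat_lit 37), (nat_lit 32), (nat_lit 48)], (nat_lit 6), (nat_lit 4)))) (.node (.leaf ([(nat_lit 32), (nat_lit 33)], (nat_lit 1000), (nat_lit 0))) (.leaf ([], (nat_lit 1000), (nat_lit 0)))))) (.node (.node (.node (.leaf ([(nat_lit 36), (nat_lit 32), (nat_lit 48), (nat_lit 33), (nat_lit 36), (nat_lit 32), (nat_lit 48), (nat_lit 33)], (nat_lit 4), (nat_lit 2))) (.leaf ([(nat_lit 32), (nat_lit 37), (nat_lit 32), (nat_lit 37), (nat_lit 32), (nat_lit 37), (nat_lit 32), (nat_lit 37), (nat_lit 32), (nat_lit 37)], (nat_lit 5), (nat_lit 5)))) (.node (.leaf ([(nat_lit 48), (nat_lit 49)], (nat_lit 1000), (nat_lit 0))) (.leaf ([], (nat_lit 1000), (nat_lit 0))))) (.node (.node (.leaf ([(nat_lit 32), (nat_lit 37), (nat_lit 32), (nat_lit 37), (nat_lit 32), (nat_lit 37), (nat_lit 32), (nat_lit 37), (nat_lit 32), (nat_lit 37)], (nat_lit 5), (nat_lit 9))) (.leaf ([(nat_lit 32), (nat_lit 48), (nat_lit 33), (nat_lit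 49), (nat_lit 33), (nat_lit 36), (nat_lit 49), (nat_lit 33), (nat_lit 36), (nat_lit 32), (nat_lit 37), (nat_lit 32), (nat_lit 48), (nat_lit 37)], (nat_lit 6), (nat_lit 5)))) (.node (.leaf ([(nat_lit 32), (nat_lit 37), (nat_lit 32), (nat_lit 37), (nat_lit 32), (nat_lit 37), (nat_lit 32), (nat_lit 37), (nat_lit 32), (nat_lit 37)], (nat_lit 5), (nat_lit 1))) (.leaf ([], (nat_lit 1000), (nat_lit 0)))))))))
noncomputable def c5Tt : BT Nat := (.node (.node (.node (.node (.node (.node (.leaf (nat_lit 0x51001e01e00855103e06b06c06a06b06906a01f01d00851001f06806953705106706806606701e06506654805b06406506306450f01c01c00801d06206306106250e00d51d03001b00850f01d01c06006105f06050d00b01a00705e05f05d05e01b05c05d05b05c05a05b05905a50c01901900701a05805905705805605705505601800750c01a01905405505305405205305105250b01701700601805005104f05050a00e51f03301600650b01801751302304e04f50901501500504d04e04c04d01604b04c04a04b01400550901651902b04904a01504804904704851102104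604750801301300501404504604404504304404204301200550801401304104204004150701101100403f04003e03f01203d03e03c03d01000450701251802a03b03c01103a03b03903a03803903703850600f00f00401003603703503603403503303400e00450601000f50500d00d00303203350a01703103203003100e00c00350500e02f03050e01c02e02f02d02e00d02c02d02b02c02a02b02902a50400b00b00300c02802902702850300750d01b00a00350400c00b50200900900202602702502602402502302400a00800250200a02202302102202002101f02000901e01f01d01e00700250100601c01d01b01c00850000600600101a01b50300b01901a0180190070050015000075010084ff0020170180160170064fe0040040000150160140150130140120130050030004fe00501101201001100f01000e00f00400d00e00c00d0020004fd00100b00c00a00b00300900a0080094ff0060070080010004fc0010020060070050064fd0030000004fc0024fb0000010040050030040000010020034fb001001002000)) (.leaf (nat_lit 0x49a2add8c420e6245ae4f3414f747ced447649bdbf42cd8534ed8741d4992aad883b5d8641749ad8a31ed892d14982aad8741edae428d832b6499d814184972a9d8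23a8e5e443d8038cea5469498de9437d7e2e4d9c3624962a9d98379e3144c497e073f2e88462d7a2f6dff43dd7b4014942a8495d732ccd793c6d723494932a1d743cad713ea494d702a9d8141ce2844ae2e44bd6f3b34922a1493d6b2d649129bd6e3c5d6c320d8641ed6d3b549248f292d783f8dd6432e3e44fd8e420d692f3490d683b0d6730ad643ced65354d663a048e29148fd63347d6229d48d28fd60337d613f0df643b48ed5c36fe81461d5d36fdfa43b48c28fd5b41048d48b288d57393d59408d5829be42451d5a33348cd5329f48a281e85462d56370d542f7d5539e48bed2476d523db489281d4f3abd5b413d5028f48adb942ad4c3cfd4e39848827ddbc42bd4d2cb489ddb434d4b39bd4832bd4931ad4a3dd48727c488ec7474d463c9d45390d4732a48627ad443f54874f647bdbd42be3844d4f547a485278d43313486d383fed3b2fd484277d363a7ddc434d373d8485d413f5d353abdfc43ce9b467483272d343b1484d322c7d3338e482271d30327dd2430d31394483d2e353e6545ad2d29bd59412d2f30e48126c482d2a392d2c2b9480269d28395d29334d2b28d481d273fae20447d2434fd25377d2640547f266480d232acd223c5db3429d842b647e266d2640647fd1e2ecd1b2bcd1d2a747d262d1f3dad1c34247ee54455dc942ed173cbd15343d162e947c26147dd132bdd11328d1240147b259d143eee0143e47ce3944ed103ed47a259d12402d0f2a8d7b41a47bd0d3ff479257d3e3d7d0e280e7845ee9a46747a)))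 (.node (.leaf (nat_lit 0x77421e2570d6c313b84483d077514f9792d92582560d677421fb17275b1624a4473cfb1831725777321c2540d57ec11e8cf29c7eb15e7ea0db2552530d577321d88028387f10c4463cec1b3b225486611089728a2510d57e118687e1a9a0d30425276e2192500d4a6a303c4c3c2a68326a6b23d25124f0d476e21a7b725176d0ee4453cd4443cc2504433cb4423ca4413c9b0735f76c21724e0d424f85a27c76b10876a181a392cb24d0d476c21824e76921524c0d3c63276c6723f4403c8c6622f24d24b0d37692169ad2eba891b2a2830daa533c24c76821324a0d243e3c743d3c643c3c5c5933f24b2490d2768214ab7346ab927a95423543a3c424a94e2cf76613f7672112480d24393c34383c224984026d4373c12470d27672127b62507650ee2484363c0b332a77641f189d28c76320f2460d12474353bfb5d34f78922d4343be2450d176321024681b1cfb843848b32948b61e87621742440d024576120c2430cf78e2324333bd78622b9e21242442420cf76120d4323bc9a72874313bb9ab2e8243be42254303baa2730d42f3b976020a2410ce2429852e08b815375f1559a82e52400ce76020b2417a024142e3b874d16723f0cd8fc2b775013624074b11b23e0cca6332375a17d42d3b79f730023f42c3b642b3b523d0cc7401797421027410d323e73f20523c0cbb9c38a42a3b4bf53a5b2a20223d23b0cb73f20680b1ac80926579623780e1f423c73e20323a0cab8b3858d329e8d51918d424523b2390ca73e2049f32ee9f02ffb7037d9f125b23a73d2012380c94293b34283b2b2a206bf43a52392370c973d2024273b19702d5b252bd9911ba23873c1b7b0e3652360c973b1bb87c10c87b282237))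 (.leaf (nat_lit 0)))) (.node (.node (.leaf (nat_lit 0x61511e12d06489928b2ed29d87018486f09112e12c06461511f2ec29c7ec21d2eb29b78b22e12d2ea29a2e929960c0f67c425c60b11c12b06312c2e82982e72977902337790e012a06360b11d12b7440cc74b20863c14460707560811a12906112a92f13a2e52966401487351f812806160811b1292e42952e32942e22936741721270606060ef1288952897131e16020cf12605f67016f60108712760011612505e85427871b1e684d2732e129212612405e6001176881837571356320c57321f71258742642e02915fe11412205d8762472df2901232de28f86419612105d5fe11585e27f2dd28e12299e0a999d1b88712442db28d5fd11212005d1212da28c8622368610bf8601ea11f05d5fd11312088a18a2d928b5fc11011e05c8690a58681ac11f2d828a86621b11d05c5fc11185c27e2d728911e86d08186c0f72d628886b1845fb10e11c05c11d2d52878902272d328688d22e11b05c5fb10f11c2d12852d028464214969318c5fa06211a05b11b5f910b11905a87f21c2cf2832ce28287c20011a11805a5f910c69618d6950942cc2812cb28011981e0a681d1b02ca27f2c927e5f80e911705a1185f708c70b13b5f61081160592c827d7151e211776b2172c727c1150595f610984526e2c627b1167451f92c527a5f208b67a1785f40711140591152c42792c32785f01051120588422552c22771138441758431a01110585f010683c26d83e1481122c12762c02752bf2742be2735ef1031100581112bd2722bc2712bb2708c016010f0585ef10411010e0565ed06e63a1415ee0747430d374220710f2b926f83f1442b826e2b726d5ec10010d05610e2b626c2b526b5eb06661912310c0565ec10110d))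 (.leaf (nat_lit 0))) (.node (.leaf (nat_lit 0xd213ae4c644bded438d2030e38a17ca5f32038ba5e2d1d8a41da5d2cc38917a4c544aa9a33838aa5c31c388177b831e5b81383bc3396b821de389387177a5c31db90384b92356b8f248b91310388a5b286a5a265386176a57289a58241a591af3874c4449bd435fd4940ea7b32ba56311385175386a54318384174a551dfb3b27ca531ddb2d36b385383174a54319a4c2c9a4d182a4b2c7a4e2c0384a4a316382173cb53e14c3448b1821ec783cf383381173a4a3174c2447d393d8ce32aed8f421382a412ca380172aeb357a441daa422e6a4326238137e171b052504c1446bae391a3e1eba3f25837fa3c305b761caa3b31237d171d4340ca3a27837ea4924ccea3f337c171a3b313a7a32aa3718137d37b170a311cba33295a351dea32175a5631a37cafb35da2d1afa2f30f37a170b9131ca2e24837bae633db37359379170a2f310b771e5b7538037aa2c30d37816fd2031fdec438aa626cd2f40837937716fa2c30ec333b9a2720baa433ca28215378c353b94c0445a2630b37616ebfa3a6bf92ac3774bf4444be44337516ea2630ca1d2bea8b330376d67415c113b0a191b537216dd97423ad034d37337116ca161fda182e4a1716fbf82abc403bd372a1430737016bbf13a4a151f74bd442bb139237136f16ba143084bc441a7e32ca80321a7f2f9370a3d251c7b3d036e16aa1323eb9a388dfe43c36fb781caa3c313b8c386a3024836d16aa121e836ea0c274c4e3c2a1022036c169a0d21ba0a1a936da041f2368167c4f3c2a6a21aa03270a05227369a01301367166ba038da021d4c9e22ac9d3db368366166a013029f92399f8297cab3df9fc2383679f52ff365165b0635e9f62e99f7208c2a3b7366))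 (.leaf (nat_lit 0))))) (.node (.node (.node (.leaf (nat_lit 0x1c51a31c41a25960be7c90fc09f03357f0a00a057e09d09e0326ad1421c21a16ac1476ab07609f09d03257e09e1c01a07521366760f11be19f09e57d09b09c0311bd19e1bc19d7f10d67f217909d09b03157d09c1b919c1b819b1b719a1b619909c57c0355850a809a03157a03c75d14657b08f09b64e15663907b5cd0ca63314057909809903009a1b51981b41976171201b319609803057909909957809609702f1b21951b11941b01937a90ec09809602f5780971ae1921ad191a2316e1ab1900971aa18f1a918e09502f5750815d40ea57604c09657409309402e69510b1a818d1a718c8af0f209509302e5740941a518b1a418a1a31891a218809461612057206557309109202e68e0fa1a11870931a018619f18509102e57309286f11f19d18409219c18319b18257108f09002d74a0457490d20911981816b314108f02d57109057b09a75e14609019518019417f6310c519317e57008d08e02d08f19217d19117c63013f19017b08d02d57008e08e70a13b5f710956d03208c02c66516756e08308d18e17a18d17918c1785f210756c03d08b02c08c08a02b56a05766c0ba56b05e18b17718a17608b56908808902a18917518817418717318617208a08802a56908962d13d5c30701851711841700896030eb5a406908702956804160111818316f08818216e18116d18016c17f16b08602956703808756f0335800a10850285660835af0cf5b004408617e16a17d1695b10ce17c16808402856507b08556308208302756608556402856e08c17b16708408202756308366213264915217a1661791650836040f786d10f57509556202f56108008102708217716417616364514b175162080027561081081))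 (.leaf (nat_lit 0))) (.node (.leaf (nat_lit 0xd3f281d534118d7247cdf3f08d829e2ef1202f098c2e29652bf8d3204b883852ee1208d829f2efd62414abc3472ed11f8d028b8d114a8d218a2eeab4344c0a3ac8cf21d2ec11eaf335bc3d3bc2ed4914179722d6d58412d2d4088ce22e2eb11e2ec8cc2992ea11db3236cae72638cb2978cd2422eb2e911d8cc29a91128e9101cebb33939121d92ea8c92972e811cccc3e98ca23bb23130b401292e92e711c8c92989f83018c72398c82428cb29a2e82e511a93013a9d62f99292c59872e0a643232e68c32942e41198c51dea333118c415197d2dc2e52e31198c32958b51e88b320e8b41e08ba2762e48b12438aa27f8b01722e2119ba42dd8ab2562e3d773f848f416c613c8c763cf2e11178a92732e22e01158a8264ac1348a9633448e415be23a02e1cc83e69c32f08a71ebbd839e2df1158a62472e08a51962de114d5133748d414d5041048c4132df9b315a91e2318a01ce9112992dd11489f27f2dec203b3c2138c2db11389e244d2b407a943342dc89b2362da11289d21089c1f1caf3e08bc2752db2d911189818a8d029d89911fa9933689a18d2da89721b2d81108e51978e22a4b4b3728e42332d98961e1895118a5731b8941762d711089327e2d8bb539348b4128871842d610f88928588818b2d788f2272d510e9a720cc3c3bc9a52e49a61552d6885265a5b31b88c22e2d310ecb83e28f72b52d48822842d110d9cb2f3d033fe88118b8892882d22d010d882285ba738eba62dd93312f9131da2d196019aabe3482cf10c88021c87914996f2d52d0a252e58d619087d1a9af435b87b2002ce10c2cf48a411d3f29fc0c3ab4894108772802cc10b2cd8b2193aac340d0e400d3d3d72cb10b8772812cc))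 (.leaf (nat_lit 0)))) (.node (.node (.leaf (nat_lit 0x3c23529271fb3c13513c03501be09d6a50f11bf6a40fb6e80ab6a319d1bd09c3bf34f3be34e1be3bd34d3bc34c1bc09c6a319e9502cf3bb34b1bd9621f63ba34a6a019b1b909b95b2343b93491ba95a2619591ad1b809b6a019c9572d19582a01b93b834896028395f2a33b734769f1991b709b1b83b63463b534595e12295d1451b609b69f19a1b769e1971b5098a933333b434496326a3b33431b61b409869e1988e12a48e528a6b41459522d01b58641148a528f1b309869d12086525d9ed2ff1b43b2342c5c32069c1941b2097bdb2f67b82511b33af3418f62b41b109769c1957a62467b224e1b23ae3408b22807bb2543ad33f7a80ec1b00971b1bfc2ab3ab33e69a1911ae0963aa33d9c52f21af9aa2e79821571ad09669a1927a52458d52041ae8d6282a222e53a933ca212e81ab096a2416e1ac69818e1aa0953a833b9712d69811589802de1ab1a909569818f8f02ad6971273a733a3a63391aa3a53383a43371a809469610b89a28b3a33361a93a2335c172fc69310d6941498ae0f21a70941a83a033439f33369118a1a50938882888812851a689828b88a1111a409369118b8d229d88314a1a596b26039e3329661be96426a6901881a30931a439d331a703279691b99680aa1a20936901891a339c33039b32f68c0f77db1aa1a109268d0fa1a268b1851a00917e121b7e40d57df1ad7de0e51a119f09168b18687526b8002649462cc80113e1a039a32e39932d86b10f88728819d09187011f19e68718219c0907561356881169232c339832c19d19b090687183a4d31893e2c939732b93f1e319c6b214119808fa382cb76a217a3731239632a19968417f19508e395329394328393327a752bc196))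 (.leaf (nat_lit 0))) (.node (.leaf (nat_lit 0xc953d9be02d54141edbdd388bde2febdf220415bd92bbc833d2bd82904131ebd55411bd72f7414d90422bd537fbd236bbd33824121e9bd13564134111e7bcf32a4e946ee11442e6745bbd0361412d4b40edde4344101e7bcc396bcd325bce35d411bcb2d8cc23e5bca39940f1e3e184454e846d410c0438ac3e3bc40e1e3bca39abc923fc6b3c940f4e746c4e646bbc627dd4e40fbc739740c1df40de8d464cbb3e3e0b440dc037540b1dfbc739840cc683c8e3744dbcc39bbc41e740a1debc331d40bbbb3294091dbd28407bbc269e1a446bbd36640abb91fabba2404081dbbb838fd31409dd1430409d57412bb5288bb42e7bb62b54071d9bb3299408bb02b9d2a407baf3254061d7bb1308e10442407c182facef3f4bae314e1b446bad3904051d7406e7645ddba371bac32ad4540d4041d7bad391405ba92be4031d6bb8394baa1dbba8279bab2d2404d33409ba32c7ba22ddba72844021d5ba11e4403e6945bca33684011d4ba0302d914224e546a402c2128dc1e3b3b9f38b4001d34e4469d8041c401e483e4e7a45e3ff1d3b9f38cc073aab9e1fd400c3a3bcc04399c223b4b9c206b9d3893fe1d33ffb9b32cc753cec023a9c062253fd1d3b9d38a3feb983673fc1d1bdd39fb991eddfd43cb9a3063fdb9427e3fb1d0b9733db951d9b93384b962a63fc4e34684e2467b8e248b8c305b8d3853fa1d03fbb8a33cb891dcb8829eb8b2043f91d0b8d3863fab8420e3f81cfb86356b9031cb852a6b933873f9b7e1ccb7f242b8131db7c1e5b7d3823f71cc3f8e0a4404e1466bd339db8036b3f61ccb7d3833f7bc22e1d5f370b7a3803f51cab7b1d4b792433f6b74249c6f3cc3f41cab7a381b7530fb731e53f5))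 (.leaf (nat_lit 0)))))) (.node (.node (.node (.node (.leaf (nat_lit 0x5ae0715ad0211261185ac0cf54005e05e01b05f12511712411656b08a66d0ba05d01b54005f05e53f05c05c01a12211512111412011311f11205d05b01a53f05d11e11111d11011c10f11b10e05c54801d54c06653e05a05a01a11a10d54206205b11910c11810b05901a53e05b11710a5cc0e905a53d0580580191161091151081141075f507105905701953d05911210611110511010410f10305856a08a53b02b53c05605601954702254606405755406e10e10205501953c05710d10110c10005653a05405401810b0ff10a0fe1090fd1080fc05505301853a0551070fb1060fa7e90467e80d505453903c5950be5380520520181030f955306c0531020f85e60b00510185380535e00f753605105253505005001753701e54e0695360521000f705104f0175350516100d861104f0fd0f60fc0f505004e0165340236110505b90d80fa0f40f90f304f0f80f20f70f10f60f00f50ef53304d04d01604e0f40ee0f30ed5b40d10f20ec04c01653304e04d53204b04b01557707f0f10eb5760950f00ea04c04a01553204c0ef0e95d30600ed0e80ec0e704b0eb0e60ea0e55b20d00e90e404901553102b04a5300480480140e80e30e70e20e60e10e50e00490470145300490e40df0e30de0e20dd0e10dc0480e00db0df0da04601452f0210de0d90dd0d804752e0450450130dc0d70db0d60da0d57e905404604401352e0460d80d40d70d30d60d274a0900450d40d10d30d052d0430430135b00850d20cf0440d10ce0d00cd04201352d0440cf0cc0ce0cb04352c0410410125cf06358c0b30cc0ca0cb0c904204001252c04256808752b0290ca0c80c90c70410c80c60c70c554f06b0c60c452a03f03f012040))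 (.leaf (nat_lit 0xea846ae7d459e7c3f4e7e3e74da367e7b45c4dbe7a38be773e4e793d94d9363e9c467e784004dae74371e76390ea3469e733c4e754474d83634d9e713ade6e3a4e703ba4d7361e7b45fe6f3674d8e68368e6938de6b3eae6a3f74d6361e6739c4d7e65408e663534d5341e6241fe6343de6443f4d6e7d45fea946ae613ecea14684d4341e604544d5e5d377e5a3f1e5c4574d3340ede479e5b4434d4ed5477e593dc4d2340e5c458e573c7e5844b4d34d133fe55448ebe472e80460ebd471e564374d2e5242ee54403eeb47ce51451e5344e4d033e4d1e4e376e504314cf33ae4c424e60459e4d3414d0e92465e4b37be82461e954654ce337e4a3ff4cfe453a24cd336e493f1e463a3e443b6e473e44ceef847fe43442e51455eea47c4cc333e424124cde4144f4cb32becc46cefb47feca474eab46b4cc4ca32be41450e3e416e3d432e40448e3f3a74cbe3b3ede39401e3a3604c9324e3c33ee534554cae37396e363c8ee247ae3840c4c8324e353f24c94c7323e30349e3242ce343c1e3141be333794c84c631fe2c3aee2e418e2d44ae58457e2f3c74c7e29354e2b3bbe2d44be28418e2a3384c531e4c6e2535f4c431aeb9470eae46de26360e273a44c5e55456e2433f4c3317e223e1e233a7e4044f4c4e20406e1e3fae1f3d84c2316e21363e7545d4c3e1c43fe193f0e1b3914c1314e1d366e1a3954c24c030ce153b9e173a5e163bbead46de1839a4c1e134434bf30bef547eebc471e12322e143fc4c04be30be13444e5e41ce5f3a8e5b458ee14794bfe434514fa47fe1139ceb146ee103924bd3084bee0e438ef447ee0d32c4bc307e0f3d4e0c3354bde96466e0a382e09375e0b3974bb2f8e084334bc)))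 (.node (.leaf (nat_lit 0xc1c3b2cf53f77fb1ec8912347f825e2a70f82a8a082fbaf535b7fa1659eb2fe2a60f87f825f2a77c52372a40f69ef1c3b4c3729ee2ff8651962a5c843d39b82ed7c411d2a30f690e2bf7c31322a482115b2a20f59f21c29c22f09f1203b7137d2a37c12227bf12d82315a2a00f59c02e78142232a17be25829e0f447b40247a401b422b0b452f429f29d0f47be2599352b9adc352a3f3149361eb29e4794004783ff7bd25629c0f2d082a54773fe29d4763fdcb03e029b0f27bd2578ab293ba52dd29cbee2d94753fc7bc1732990f185227784210629a2980f07ba22daab33f7bb1934743fba8132d2997b92522970ef4733fa4723f9ce637ace51fc2982960ef7b9253ca03dcc9f22a4713f84703f7297c7c3d0a3d3062950ee7b72197b8195bdc2f6296b05314b0417146f3f646e3f52940ee7b621129584f2737b414c7b524e2930edc343b946d3f4294a87168a862eb2920ed7b524f7b21947b32462939202c1c8b3d4cd73ed7b02407b124c2910ed29246c3f3a49312cdb3ee46b3f22900ed7b124d2917ad24a28f0ec9001b37ae1f2a8432fa9033229028e0ec7ad24bb1621e8c2275b1536846a3f128fc6e3ccb74380cdd3efc9b3db28d0eb7ac0f028e7ab24728c0eaa30305b8e386a2e310b8f31c28d28b0ea7ab2484693f08d729f8a629087611528c9cd2f54683ef7aa24528a0ea7b324e7a619428b4673eecca3e72890ea7aa2468d42047a519128a2870e8b201ef89e28d871113c243b487226b28885d27f8b12937a32422850e7b7938181a1d4286b7f383b581cc2840e77a32438cd29a8c8297285c303b87a02092830e67a114c79f1afa5831b284bba39491f1fa7b024d4663ed9172262820e6283))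 (.leaf (nat_lit 0)))) (.node (.node (.leaf (nat_lit 0x17207e65a1609222c365913882e1d67581a017396a1b93582f317107e65714a6580db7eb21d1723572f29b62de65615c17007d3562f13552f01713542ef3532ee16f07d65615d9832df9b02ec1708220f582125b3522ed3512ec65515a16e07d16f9b42319b328e8240f582325a16d07d65515b16e9a21cd6de1a865415816c07c34e2eb34d2ea16d34c2e934b2e816b07c65415997f2de98118f16c98219134a2e73492e6a482a616907c6dd0b516a16807b64e09996c2d264f14775b17d65014116964d15416707a3472e575f20a9a62873462e416816607a64d1553452e33442e23432e19981b81678b820a3412e03402df33f2de64c15216507a16664b0b364a0d864908266413216407a64c1531659242c333e2dd64815016307933d2dc8c429516485327733c2db1620796481516521428281b0163a512c633a2da64714e15f0783392d977521f1609930aa9921ba15e07864714f6af1a16b00cd15f91d23291c0df91a2c03362d864614c15d07815e7b424f84e2737a12417a20e615c07864614d15d64414a15b07765c1626450803352d73342d615c15a07764414b65715e64307e88318a8d129d15b64114815907669418c64210d3332d587928315a1580766411497361f864011a83e10583d26d1593322d43312d364f1563302d21560766ac09e15763e14515507594f2cf32f2d175e08f75d09a15615407563e14695d1996b512232e2d06b419715583f10184826f15307563c11b6ba1a463d0a115463b1421520749382c893b27992b2c692d1fb15315107463b1436ae1a16ad09e8251b06521501526b308f6b218115007463a10265015675917d1516da0a36d91a96330996340ca63707714f073150))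 (.leaf (nat_lit 0))) (.node (.leaf (nat_lit 0xbd431ae25449b07218c6a3c9b0835e3cf1b23d0dcb42fb022d2b012e9b063003ce1b2b0835f3cf3cd1afafb310afd1e4afc2cabce39bafe3253ceaf933baf82e6af732fafa2ea3cc1abaf61b13cdaf525eaf22fbaf42823cb1a9c3b3bcaf329c3ccaf12d73ca1a7dad2efde7436df243adab36e3cbb3730fb3633d3c91a6af01e9b3436cb351c03cada233ac703cdaef23ccd23eb3c81a6aee1e13c9aea3563c71a5aed1daaeb315ae92d3aec2ed3c83c61a5aea357b9231cb86384bd139db871e93c7ae32dfae22feae11cdae42bf3c51a5ae52633c6c393bbe2944ad65415c723ce3c41a3ae03473c5e6645ad2e408ade330adf33e3c31a2add2683c4ad91fb3c219fadc258ada2b9adb2b4c883d33c3ad81d5ad6326ad73503c119fb002c4bed3a23c2ad51eebe13a03c019fad7351ad426fc453bf3c1b5d20fc443bfb5c377d24406ad334e3bf19e3c0d8541edc142cc293b6c473453be19ead334f3bfad134c3bd19dad21f0b5f1c5ad030ad944233be3bc19dad134dacd332ace266d183cbacf32e3bdacb26eaca1a4c263b5acc2a23bb19dac92cf3bc3ba19cac51f6ac71c6ac61a3b6637cac81ff3bbe3044cac4323ac32a1d724193b919cac22343baabe2833b819aac0334ac1291abd1beabf2673b9abc29dd634143b719aaba2a3ae0354abb1a33b8ab63453b6199ab827aab7213ab52bbdb842a3b73b5199ab6346c4734ec483b6d9a362c493403b6c0e3acab429c3b4198ab2333ab31c3b4a3713b5db2421dd7432d15403d1a3cb3b3198ab126a3b4c5b3203b2195d092a5ab032dd1c404c973da3b3aad2b43af194e4f41f4d545ae4d4544d44593b0aac2803ae1934d34584d2457c49345d9b3623af))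 (.leaf (nat_lit 0))))) (.node (.node (.node (.leaf (nat_lit 0x91c14d2702325be0de0e404826f23126e2300e526d22f26c22e0e30485be0df77722126b22d0e49e90c89e80ad26822c26722b5bd0dc0e20480e326622abea1f52642292632280e10485bd0dd0e25bc0da0e00472622276291377ea21d65815e0e10df0475bc0db26022662613325f22525e2240e025d2237291f125c22225b2215bb0d80de0470df64a1525ba0b35b904f6100500dd0475bb0d90de7721b125a2205b80d60dc0467f41bc7f30ac0dd25721f25621e0db0465b80d767c1797f109c0dc25421d25321c7e418625121b7e80540da0460db25021a24f2195b60d30d804524e21824d2170d924c21624b2150d70455b60d47412077431020d824a2142492132482122472117490900d60450d75b30d00d40445d60ec5b404d24621024520f0d50d30445b30d15c10e45b204a24420e6731740d424320d24220c5ac05f6021180d20445af0850d35a90cd0d10436671685b108424120b24020a0d20d00435a90ce23f2096661676b014e6a81a10d123e20874411b67b17923d2075a80cb0cf0430d023c20623b2055a707162e13e0ce0435a80cc0cf23a2042392036341405cd0995a50c90cc0420cd2382022372016d71bb2362000cb0425a50ca0cc6e40ad9e90dd61c1285a20685a30c70ca0410cb2351ff2341fe2331fd2321fc0c90415a30c80ca5a10c50c80402311fb2301fa22f1f922e1f80c90c70405a10c668217e63108e22d1f76321160c86140a07041340c604059b06b62f13f59e0720c759a0c20c503f6e11bd22c1f66d31b922b1f50c60c403f59a0c322a1f42291f32281f22271f10c57ce0fe2251f00c303f5990a82241ef2231ee0c42221ed2211ec5c80e86631665980bf0c203e0c3))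 (.leaf (nat_lit 0))) (.node (.leaf (nat_lit 0x9ea2feae33559842de3401539b52ec98315c3419b615d9c62f233f1539842df98018f97f15834033e15197e2c3ba6284ba238eba5256ba429333fc2b3b7a3627d4af4344ae43397d29533d15133e33c15097c277a8e331c192f89941b7b0c36433d33a14fa522c69de2fd97a1644ad4324ac43133bcfd3fcbee25598d1f5beb3a297921f33914f33acc13e5bcb39a33614d9742c097522c9761643379881a7af135a9862e0dcd42f9732d633514b33697229bd6b41797118faa033b33414b9732d7335be039fc963d9970201c133b196f28333314933496e2d33321479d82fb4ab4309bb1699ba16033333114796e2d49c72f29c91dc9b92edae9357332b0235e4aa42f33014796c156bab38f96d279331d8941da5e31e32f1469552cf9562a095719b3309511bcb19369953235cbe3e495219732e14532f32d13f94e2129552d194f146ac934b95019d32e94c2cd32c13ec2e22f94d1e2cb23c04a942e32d32b13e94c2cec513c394b27b4a842d4a742c32ccf23c6d7341994717aa5d31e32a13e94618532b32913d9451e6a39217a38181d4d40f4a642b32aa34172a41315afc35d9431e432813d9422c132993c2c832713c93e182a4c31893d17e9402c232832613c93c2c993a279938143939274cd83ed327ba338ed324099372c632513aa4f2c0a4b318326a522daa5114f32413a9372c792c1fb92b1433259252c43211389292969d72f99261fa92817b3223201389252c5b291bab28335be73a2b0035132197e2dd92415131f13892215fa7d32c92318332031e13792127bcc33e5a6d23d9402c994117e31fc893d492024d9191d831d1349422ca91513d31e91417631c1339742d891a14da4e318a4f2c731d))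 (.leaf (nat_lit 0)))) (.node (.node (.leaf (nat_lit 0x2100ba7111a1b3c27ca5531940c39840b3972117101dd20f0b9a353118c5295b8231d40a39621020e0b97101de83117770f1b0b2e36ba5331920fb89385aa333c9c92d39c82f270e1db20d0b920e409395a79329baa38f40839420c0b970e1dc20d70d1d920b0b8a44315aed35791328493412f20c20a0b870d1dab95387aa833d91229940739320b6fe1d72080b77021349192c16ff12d70513b2092070b76fe1d8406392aff32540539140439020840338f90d2be6fd1d52060b78301a082e15f207a69326ad83512050b76fd1d69441e440238e2066fc1d32040b4a0230240138d81a243b7b3812052030b46fc1d440038c3ff38b3fe38a3fd3892046fb1bb7912336fa1d12020b49a02e36f91cf2033fc388b113672010b46fa1d2b572af6f71cb2023fb3878a427e6f61cf2000b23fa3863f93852013f838481b20e1ff0b26f61d06f91d29a12e32008a30bf8a21eb9102998a028e6f51cd1fe0b21ff9a31a89a215990f2bfae13551fd0b26f51ce1feb58242b7e3836f41cb1fc0b13f73833f63821fda313116f81701fb0b16f41cc6f71d1b562af1fcb76313b783053f53813f43806f31c91fa0b11fbb552b0b0d3643f337f3f237e1f90b16f31ca1fab6c37c3f137d3f037c3ef37b6f21c71f80b01f93ee37a3ed379b4836e3ec3781f70b06f21c81f86f11c51f60af7d31a3ac734a7d20ff7d516d1f71f50af6f11c6b5f34db601f03eb3773ea3761f63e93753e8374b4636d3e73731f40af6f01a81f56ef1c21f30ae3e63729ef25d3e5371ab33441f41f20ae6ef1c39f42f09f225b3e43703e336f1f36ee0f37231ea1f10ae6ed0f99bc2ee7f92601f23e236e3e136d6eb1bf1ef0adb353593e036c1f0))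 (.leaf (nat_lit 0))) (.node (.leaf (nat_lit 0xca93de45822ccac364caa374cad238cab30145945722cca93dfca73cdca63d6cd63ecca823e458ca533945622be97466dd4431ca427cd4a40e457e594574f247745522aca0252ca13d0ca2365456d524104f1476c9b249cde3efc9d30245422a455c983be452229cae3e0c99230c97342d1f404453c962d5c9539fc94363e7945ec93374451229452c923d7450228d39316e1f447d3740bddf43445144f228c923d8d3d280d3e400d3a3c6d3c3f6450dc642dc903aaca63dec913cd44e228c8f3b844f44d226c8d3b4ccb3e8c8e23ada7426ed147544ec8b24dc892c1c8a3a044c224c8c335e0f44144dc872edc8425cc863d244b223c88352c852b444cc8339ec822bb44a223c863d3c813bedb442944b449221c7d36ccc43e6c7e238e87462c7f37e44ac7b306c7c25144821fc793b8c7a365ca13dc449d4c40fdbb42ac76292c773c8c7831744721e448c75389c7432cc72354d64415c733b244621c447c70358da533ac913d6ca73dec713cc445219446c6f380c6e2494f0475ea746a444219c713cd445c6d3ca443218d1a343d17403d1932ed1834c444442218c6d3cbe8c463c6c3b7cd03ead74419443d4640d4ef474c6a35f441218c6b399c6923f442e3644dc68396c773cfc61292c6522f440216441c5f322c602a2c5e3c643e214e2f44be5745743fd79419cf22cc43d214c5e3c7cf13f6d3a3d743ed22405c5d2acc56320d6e417c5833f43c21443deaf46d4ee473e7345dea246943a213c5423543bc533bdcd43e8c5027bc512cdc523c243921243ac4e304c4d274c4c21ac4f303438212c523c3439437211c4b26de3444cdbe42ce8a463d42375438c4a2a7436210cb63e2cb1231dc742ecb22ce437))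 (.leaf (nat_lit 0))))))) (.node (.node (.node (.node (.node (.leaf (nat_lit 0xc50c30c40c25860a80c30c103e01252a04003f52903d03d01155206c55101f0c20c00c10bf03e03c01152903e5810a15a007252802c56c08b03d0bf0be53905357a09a52603103b01152502a03c52403a03a0100be0bd0bd0bc0bc0bb0bb0ba03b03901052403b0ba0b90b90b882c0790b70b703a0b60b60b50b55230380380100b40b40b30b30390b20b20b10b103701052303956708652202903852103603600f0b00b00af0af0ae0ae0ad0ad03703500f5210370ac0ac0ab0ab0aa0aa0a90a90360a80a857c09a52003403400f0a70a70a60a60350a50a50a40a403300f5200350a30a30a20a20340a10a156f08551f01703200e0a00a009f09f03309e09e09d09d52702c56d08c51e03103100e03209c09c09b09b52603c09a09a03000e51e03203154b02656007f51d01c02f00d09909909809803009709709609656208109509551c02e02e00d02f09409409309309209209109102d00d51c02f02e51b02c02c00c09009008f08f08e08e08d08d02d02b00c51b02d08c08c52703208b08b52803d02c53b05708a08a51a02a02a00c53104a51901502b08908908808802900c51a02b52503c51801102a51702802800b52b04108708752203808608602902700b51702956408308508555d07b08408402808308308208251602602600a08108108008002707f07f54b03002500a51602754906507e07e02607d07d07c07c07b07b07a07a51502402400a02507907907807807707707607602300a51502502453404f5130165140220220090750750740740230730730720720210095140235450645470570225ad05f07007152f04751101451202002000902106f07006e06f06d06e06c06d01f009512021020))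 (.leaf (nat_lit 0xe063f0e1c446e0543e4ba2f7e6445ae0443d4bbe033eced94784b92f7e0543fe01402e023ee4bae003f6ecf475dff41a4b82f6e0443fe6345a4b94b72f4dfb435e99467dfc40adfe306dfd3884b8df743a4b62f1dfa413df836fdf6414df93f04b7df42f1df743bdf337d4b52f1df536edf235a4b64b42eadee429df1420def32edf0424ee647b4b54f947ee0e441dec30eded31f4b32e5deb33b4b44b22e4de941beb446fdea3a6e56456eba4714b34b12e3de4430de735ade52efde636dde84274b2dfb43cde32f44b02e1de02fade237fde12ef4b1dde39bddb40eddd4334af2dcddf3d8ddc40b4b0eef47dea44694ae2dcddd434e08440dda2f84afdd7343dd9421e3d44fdd6416dd84314ad2da4aee50454dd5376dd43dde984664ac2dadd84324adde4436dd32e34ab2d4dd02fbdd1394dd24094ac4aa2d2dcb35edcd2d7dcc2e0dcf373dce3314abdc9403e52455dc842adca3714a92cedc73c04aadc43aadc63d6dc23e3dc3426dc542c4a82cd4a9dc134edbf41edbe3c1e3244c4a72cddc542d4a8dbd40cee747bec8474eaa46b4a62cbdbc40f4a7dbb3cfdb940fdb7371dc842edb83464a52bb4a6dee439db62ea4a42b6db3405db43d2db53be4a5db03fbebf472daf3bfdb13fc4a32b6dae41d4a4da84264a22b3dac425da9339de8436daa36d4a34a12b3da8427dc342dda63e3ece475da73d54a2da4378da037eda1339dac427d9f2fd4a02b34a1d9e37349f2b2e4c454da333aee947bdf04394a0d953eb49e2b1d96379e8f464d9434dd9730a49fd9337fd9039dd923aa49d2afea646ad9138d49edd9432db23434f847dee847bd8f31649c2ae49dd8c41f49b2add8d32edf1439d8b2f3d8e41649c)))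 (.node (.leaf (nat_lit 0x79d23e2800e4c672168bb276c693c9bc939928127f0e479d23fa133068b916aca83de4653ec28027d0e380d1aca6d2c2cc03e5a6b21aa6c32627eb3a36bb391bf4643ebaef35879a23b27c0e327d4633eabbe3668ca2984623e927b0e379a23c27c7991e027a0e2c8e3d54613e8c033a94603e727bbc11b6bc03638c72979f93012790e279822227a2770e19ff139c7e3d145f3e69fc301cad3df2787950f67c525d7942362760e18121f479620527786211289b28c2750e1794237a7632845e3e52767932342740e045d3e49532d0c543c49542132752730e079323589125f8921ecac234995b19c2747911d27921bb2720e079011c8e428ab4d3722732700df91d14dc3f3bd78e20d45c3e39e02ad27191e28e9b415acb13c045b3e278d23026f0df270bf03a345a3e1c993da4593e026e0df78d23126f78c22e26d0dec2f1e2c2e2cec66216c653c826e26c0de78c22f88d10e88c28678b11e8ce29b26d7ba25478a0f0c423be78920f26b0de78822126c4583df4573de78722b2680dd9771649752d82694563dda9d3392670dd78722c9e412478620d268be91f52660dcc9f2524553dc4543dbc9e3022674523dac433be7842282640dc4513d9b5a3742654503d844f3d72630dc784229c323b844e3d626489010e88f2877831372620dba053038c1270263c253b444d3d577f1332600da9180e6917240261c363babe420bc06389c053a977e22425f0da2607d40fd83826944c3d4be33a025e0da77e22525f77d1f125d0d944b3d344a3d281425a9bf2e725e77c12d7c125a77b22125c0d97982397780e225db3136c4493d125b0d977b22278822d7770de25c25a0d77761b1a11169a10304bdf39fa0f2fe25b))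 (.leaf (nat_lit 0)))) (.node (.node (.leaf (nat_lit 0x76621232d2cf67f17b63008d14d07262f0c414e32c2ce32b2cd62e0cb14c07180118532a2cc14d71c1e63292cb14b07062d0889152c13282ca14c3272c93262c862c13b14a06f7071789032ba14b70b10970a08c14906f62c13c7051d870612d14a93029692f11a3252c73242c662b13914806f1499ff238a000e170812f9092bc14706f62b13a1483212c53202c465915f31f2c362a13714606e14785927b31e2c26290db78322714506e62a13814662813514406d75209d7511a07502098f92b714514306d6281367571167561837550bc75416c1447040c47030a031d2c17021d862713314206d14331c2c06781766260da77f22614106d62713414214006c6250e96641526620827c325c31b2bf14162413013f06b31a2be6cc1b46ce0b86cd16b14013e06b6241313192bd7261eeb41129b2329813f62312e13d06a3162bc7081399341da93328413e13c06a62312f3132bb3122ba3112b93102b813d7bf25a77c22213b06a6220f370613b6ff1d813c30f2b783726861f0f46200a062112b13a06913b30e2b630d2b58ec2a830c2b413906962112c13a61e12913806830b2b330a2b29d21279d116213913706861e12a3082b13072b0b40298b411301383042af3032ae13606861c0c865b16161d07f13761b12613506769718e3022ad65d1629d212a13613406761b1273002ac2ff2ab2fe2aa2fd2a91352fc2a87dc1aa61a1241330672fb2a76e31bf1342fa2a62f92a513206761a1259e220d9e422b1332f62a42f52a361910013106694917a2f32a21328dc2a18411216b514595e1996181211300661318411222f12a16bb1a42f02a012f06661812213012e06561609269d1966170982ef29f2ee29e12f))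 (.leaf (nat_lit 0))) (.node (.leaf (nat_lit 0xe244484d14563ad193aab254c59214c583c53ae3ab192bfd2abadf353aa93304d0455e3c44e3acb36359ae630faa81d9b97387aa72f23aa1923abaa31dcb8a385aa22e83a9190aa5215aa430d3aaaa12e6af935caa02d63a818fdeb438a9f2e53a9da53cdda2358da34244cf454a9e3393a718e3a8a9d22bca53ddda9427da14253a618ea9e33a3a7a9b3373a518da9c26cc0d3aca9a31ee2a44a3a63a418da9b338d60414d5128fd0c3ff4ce4533a54cd452bec3a2d0a3ffb2c36a3a318da9928b3a4c162fc3a218cb282c4a981bae0c441c8c3d43a3a953333a018ba96291ac0348a9428dd294073a139f18ba95334ab2344a93198d5a4124cc4513a039e189a8f260a92266acd34ca9024ba9132f39fa8d32739d188c1a2f8a8e2dbdce42fb5337339ea8a32f39c187aa933eade353a8b30ba8c2be39d39b187a8a330a832eaaf735ca91332a8424b39ca8232d39a184def439d8d420acf34cd193cb39b399184a8232eab0342d062a5a81254cfc3fb39ac743ceb9b389a7e307e0d441398183a7d2c33994cb4504ca44fa7b31ad4840ea7c1e3397182398bcf39cbc51e7d4740dbac390396181a7a312397a791dbbbb395a78328395180b432b1cc53e6396d11402b442bd394180a78329cbf3e5a76236395a70188a8d331d30409a6e271a742bc393180394ad6351a691d539117fa672b7a6c23da6821a392a6632439017eaff1d7baf392afe35dbcd39b39138f17ea663254c944ebf3360ce83f24c844d390ac43494c744c38e17da63208a64296a652e038fbb22a2c5f3c7a6232138d17ccff3fce1244438eb502aaa612b838c17ca62322a602f9a8030738dc5c195c5b342d6c417c563c5a5f31f38b17c38c))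 (.leaf (nat_lit 0))))) (.node (.node (.node (.leaf (nat_lit 0x2201eb8a31ce21e1ea8611120c103e5980c00c25950530bf03c7c80fc59609f8fe1b368317f0c021b1e921a1e85940bc0be03b2191e72181e60bf2171e52161e40bd03b5940bd66a16c7551350be2141e32131e22121e12111e05930ba0bc03b0bd6b61a12101df66d05e66c08a0bb03b5930bb0bc20f1de20e1dd5920b80ba03a20d1dc20c1db0bb20b1da20a1d90b903a5920b966916b6ce1310ba2081d82071d72061d62051d50b703a82d0790b858f0b50b60396c71af5900a65c50705c40e40b70b503958f0b66bc1a558e0a26dd1576dc07c0b62041d42031d32021d22011d158d0b30b40390b55ba0d864b15258c0425d00630b303958d0b40b458b0b10b20382001d01ff1cf1fe1ce1fd1cd0b30b103858b0b21fc1cc1fb1cb1fa1ca1f91c90b25e60525e50f858a0af0b00371f81c81f71c70b11f61c61f51c50af03758a0b06bf1a81f41c40b01f31c31f21c25e20f91f11c15890ad0ae0370af9e80dd6e40c81ef1c01ee1bf0ad0375890ae0ae1ed1be1ec1bd5880ab0ac0367f30d71ea1bc0ad6e819e6e70fb0ab0365880ac6be1a71e71bb0ac1e61ba99314e9681881e31b95870a90aa0360ab1e21b899e1131e01b71df1b60a90365870aa0aa58509a0a80355990c158603f1de1b51dd1b40a91dc1b31db1b25c60e51da1b15840a60a70350a81d91b081e10a5900b61d71af0a60355840a70a75830a40a50341d61ae1d51ad1d41ac8691110a60a40345830a57f61a21d11ab7d70fe1cf1aa0a51ce1a96da1401cc1a81cb1a75820a20a30340a48180e71c91a658e0b51c81a50a20345820a30a35800850a103359f07258103d63d1441c71a40a27031346140c462012c6120f457f09f0a00330a1))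 (.leaf (nat_lit 0))) (.node (.leaf (nat_lit 0x96529e98b2e2ae435590f1cd31b13290e25c31c90d1d6ba938f90c1b431a131a8c330a1d30b31bb44328d1340290b1ee319130b261bab2520131ad1b404a772ec90913931612fa75180a74327317c823d2bd939e9072ba31312e4a542aab5346314b4e372cb93e231212e9072bb90313c904178313d2c407bb0392ada3529352589022b831112e312a61321b4f2aa9051f990626f31012e9022b93118fa26830f12ca673268fb17f8f91368fc2093108f82b530e12bd844054a4429d8341d4a342830f30d12b8f82b6bb6393bb72e78f7286cb73e230e8f6194aad34130c12b8f52a8c853d3adb35230d4a24274a14268f42b230b12a4a04259df2fd30c49f424b5237330a12a8f42b39ce2f59dc2fc30b49e423cd33eb8f32b0308129cc73e6b43329309b54364b551c93071298f32b19cc2f4b422593088f12ae30412849d422c083aab561cbb571d13053031288f12afb6b376b6437a49c421ce331630449b42049a41f3021278f018e9e0232cbc3e3303c5d3c5d234058ee2ab300126bf930cbf63a6301bfd33ebfc1922ff1268ee2acc413bdbf8309300b4f2b8b5032149941e49841d8ed2a92fe1262ff49741cd7041849641bd9d3622fd1268ed2aa2fe8eb1aa2fc1258f52b48ec12b49441ad0f4012fdb33210c4a3c08ea262d1d4048e91bf2fb1252fc8e82a52fa124a48157a472e6b96387b853842fb2f91248e82a6d0632dd09342d053fed082572fa8e02a32f61238e228a8e11978df1ae8e31ec2f72f51238e02a4aba34795f19ab2b36a9611bd2f6c603c7bb2322acc34bc273b52f312394a17a2f42f11218dc122493419ac3349492418c1f3b32f28da17b8db1782f01218d91a495819b9562d12f1))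 (.leaf (nat_lit 0)))) (.node (.node (.leaf (nat_lit 0xb3923c3de36b1ee0ad6eb1c06e31258e92a71ef6e21bd1ed0ac83a26a966189833267abd3481ee1ec0ac6e21be7311f66e10c39612a33dd36a1ed3dc3699512d0b0f3653db3681ea0ac7f40d71eb7922336fb1d273b2006d70c91e70ab6d61a71e899214e1e60aaa98335b292c4991201b262bd1e79ca2f396a15e1e30aa9691887301f56d30c31e499d1131e20a93d83673d73669981549972e11e33d636573c2006d11b61e00a93d53649942db1e13d4363bc12391df0a96d11b7a722699952711e03d23623d13616d016da1930a6cf1b41de0a81df3d03608342676cc13190c2be1dd0a86cf1b51de6cb1b21dc0a79011f290024b8ff17f8fe0be1dd1db0a76cb1b3a89215a882eb3cf35f3ce35e1dc7762207720d71da0a76c90e5af635c6ca1ab1db81d10a1d90a670f1dd8261778281508251421daa2d3103cd35d1d70a66c70b6a5931b79f2411d88070fa8111f36c61ad1d60a58051ec8df2a41d795919b8082611d50a56c61ae6c50e57df1861d680d23d80c0e380226580b2058681111d40a51d583926a7d10ff1d10a47f71a26ca1b13cc35c1d27dc1258eb2a87db1877da0f71cf0a47d90fe1d06d91401ce0a33cb35b87d282a0a30487e21b1cf6de1599a31cd6c01a71cc0a36f01c46bf0af1cd3ca35a9882d71cb0a36c01a86d61bb6be0ab1cc1c90a28190e771f1e93c93597141e13c83581ca3c73573c63561c80a26bc0b5ae82633c53551c9aca34b84726e8d92a06bb1211c70a16ba1441c86b81a21c509fac634a7d31c6abb3473c43541c61c409f6b81a37f71ab7f60a48352683c33531c57111df6b60ba1c209e6ae1426a80cd6af14e1c38431056a61757511361c009d75815f8301d61c1))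 (.leaf (nat_lit 0))) (.node (.leaf (nat_lit 0xc4434f43520fcfe3fcdaf428c45350c4626f436c43229c983da43420fc4222ddb5429c813d2435cd53e8c533c343320dc3f232c40309c412ab434c3e399c3a38ac3c28743220cc3d29cc3b35b433e2b44ac39354e16445c373a5c382e843120c43243020bc36225e6c361e7045ce8e464e6d3e9431e15445c3530c42f20bc3330dcec3f4c3424f43042e209c30241c793d0c3121fc8f3d6c3222842fc2c27dc2b2dcc6c3cae8b463c2a30042d20842ec283b542c207c48345c2934ecbd3e4e4445242d42b207c283b6c272a2c2634bd6d417d8841e42cc8d3d5c2522642a206c2238ac2326bc2424442bc1e38cc2028dc1d3b2429202c1f2a1d6f41842acf43f7c1c25f428202c1d3b3c1b21cc733ce429c143a1ccd3e9c132d5427201d3440ac12272428c1130ad68415c103af4261ff4ed472e944654274ec471eb646f4251ffc103b0cfa3fae83461426e2c44bd2131fc0f3ad4241feeb046ece93f3425e723a4e7145c4231fec0f3aecf83f9ceb3ef424c0a29cc0e344c0d338c0926cc0b3ab4221fe423d3540ad403f5d4f410c0c2814211fec0b3ac422c903d6dc442dc082afd924224201fdc0738b421c013a841f1fcc05225c02389cc93e7c0323a42041e1fcc013a9e5f443d8241ceb546f4eb47041f41c1f8bfe270d3640bbff277e3f44fe2344841dbf73a541b1f7dea4374ea46fbf62acbfa30c41c41a1f7bf73a6c373bbe17445bf4202bf520641be6e45ce723ad4191f7bf1308e27449bf236041acb43e1bf0230e46452ce13f14181f6bef3a1419bec336e45452beb2d94171f5bed351be72c4418cce3e9c143b1be63694161efbef3a3be51f6417be13504151eebe3224c8a3d4be2291d66415416))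 (.leaf (nat_lit 0)))))) (.node (.node (.node (.node (.leaf (nat_lit 0x56003007f0265d50eb57704c61d12817416108017316017215f64314a17115e07e02655f06507f55e07c07d02517015d16f15c16e15b16d15a07e07c02555e07d16c15916b1586dc0b516915707d63909916815655c07a07b02556508455d02807c16715516615407a02555c07b16515316415207b55b07807902416315116215082d0b782c03a07a07802455b07915f14f15e14e15d14d15c14c07915b14b15a14a55a07607702463807363714007815914915814807602455a0776ab09e15614707715514615414560711b1531445590740750230761521431511425ee10215014107402355907507555807207302260a06260906114f1406380770740720225580735a003d59f0a159e0c414d13f0730700215ae05f14c13e5a70cb5f50595f410707155606f06f0205c308814b13d5c20e45c50b607006e02055607014a13c14913b14813a14713906f5ed10255405655506d06d02014613814513706e14413614313506c02055506e14213414113306d5ca0e914013206b01f55203e5530535e30f906c13f13113e13059b0c454f04055006a06a01f06b13d12f13c12e6130f313b12d06901f55006b06a5a40876050eb54e05106801e13a12c13912b06913812a1371295a20c813612854d06706701e06813512713412613312513212406601e54d06806754c05b06501d1311235eb10013012212f12106657209212e12054a06406401d55f07e54902606512d11f12c11e06301d54a06554605754502206454406206201c5d00b35cf04212b11d12a11c06306101c54406354306160a07354205b5fa10d06254106006001b60907354306212911b12811a06105f01b5410615d304b5d20e95d80ef127119060))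 (.leaf (nat_lit 0x4fa442ef8451efb450ef946cefa466efc47d4fbef44414f9438ef7471ef5444ef3460ef64774faef2469eef433ef147b4f8421efc47fef04664f9eec470eee47aeea451eeb455eed4764f741f4f8ee742b4f640cee8421ef147dee6439ee94244f7eee47cee54704f540cee244dee446cee34784f6ee046eedd463edf4734f43f8ee1443ede4584f5ed943e4f33ecedc3f3eda476ee347aedb46c4f44f23dced5457ed73fbed63fdef647eed84604f34f13dbed2410eda478ed33f3ed441feed47c4f2ecf43decd3f6ed046a4f03cced13d5ece4264f14ef3c9ec740decb46bec842bec946beca4504f04ee3c4ec346dec53f8edf479ec43e1ec63fd4efebf428ec23fbec1460ebe456ec04654ed3b04eeebb46f4ec3afebc444ef747eeba437ebd4564edee547aeec47ceb846deb94494eb3a8eb746f4eceb63afebb4714ea3a6eb4437eb7470eb53a84ebeb2463ee0479eb14424e939ceb33f3eb03ae4eaec3473eaf3c4eae449eb84704e839aead4454e9eac46b4e7398ef947fecc450edb478ee447a4e84e6398eac46ceaa42becb474eab450ec94744e7ea9459ea845fea73cced04754e538dea64224e6ea4433ef247dea23c4ea345dea541c4e438c4e5e9e4674e3386ea1459e9f3ece9d3e8ea03eb4e44e2386e9e468e9b40ae9943ce9a400e9c45e4e34e1382e96440e98431e973ddef047defa47f4e24e037be92453e95453e93461e943b0ec04724e1e903e3e8d397e8f4234df379e913e9e8e3ba4e0edd479eb246ee8b3b7e8c3ca4de375e8a3c14dfe8841ae893f24dd370e85411e8637ee873d14dee814134dc36fe93465e82453e833afe843fa4dd4db36ae7f3f9e80456ec1472ed8477ef347e4dc)))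 (.node (.leaf (nat_lit 0x8aa29385d24386327e2ca10a89f28e85e1142cb8a41d0b943872c910a86327f89328985c1102caa362dcc2c3b748840fbc639885b1e22c81092c92c710885a217b3b319b3c1df48740eca43dd2c89212c285913794b2cdc503c32c610885826e2c72c51078571f9ab9213ab8346cf03f548640d2c68562782c410693b14393a2c896d2d2ba838f2c52c31068562798551e6854117a3a31348540c2c497c2db853150bff3a748440b2c21068522552c38512752c11048bb23fc632168ba2948bd1e02c22c01048512768c224ab1721e8bc28ccb33e02c1c4d3c2a0c3048502732bf104cd93ed9392c82c084e14c84f24f2be1048502748a929284d1172bf84c2712bd1039db2fc9da163c123b148340a2be2bc10384c272a6e3274824099951b6a712692bdbfe3a784a1f88bf1602bb1038c1227a033032bc8481442b91019062b88491f9c463bfad43502ba8471a4acb34b84626d2b810185827b8451082b9c4b3c18402112b710184626e83d14883c1052b883b26b2b6100c093aca9c338481408aa630e2b72b510083b26c873264875185872244c233b42b62b40ff8391ab96418983a1beab13439631982b58382242b30fdbbc395480407a71271a721b62b483712c8fa2b78362672b20fdadd3538351a22b38341b4b093602b10fd836268abf3488331be2b22b00fc8321f4ace34ca9233247f40647e4052b1a5a31b8852868092058021ac8032642af0fb2b08a829187411580018587326b2ae0fb8032652af7fd2622ab0f9ae729ab3036cae5355ae81a52ac2aa0f97fd26347d4048ea2a7a43315a452e62ab8081ad95a19b7fc2602a90f847c4039be2e92aaa8f33296b1892a80f87fc2617f91c19bd2ee2a9))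 (.leaf (nat_lit 0)))) (.node (.node (.leaf (nat_lit 0x19408e6841808fb2b73913266830be8ff1b319539032538f32419308e6820c59412c293d2c919468117c19208d75a20838e32375914175b15619319108d68117d38d32238c32138b32038a31f1926801788da2a019008d67f13f9282c57341fa19167d17918e08b38931e9472cc94a2a294912318f18d08b67d17a74020767b0cc7f209c67c0d618e8db2a068017b67a10718c08b9042ba70713c18d38831d38731c8261b08311dd67917618b08a18c6781339142c089428938631b18a08a67917718b6a61a084410567717418908938531aa3231118a3843193833181880896771756730d076220e1893823173813166750f17bc255672172187089188380315a342ca6741198b0293186089672173187b0425037e31437d31337c3126711701850881866f81cb37b31137a31037930f18408867117118537830e37730da173099a42e418308767011818466f16d18208637630c37530ba24190a2309618318108666f16e37230a6d01b57d51c67d00ff1827381fd37130966e16b18008675413566a0bc18137030836f30717f08666e16c6cd1316690b818066816917e0848b923e36e3068b71e836d30517f17d08466816a36c304a1122082f1609bb2d417ea2a2eba8724e17c0846670ce99a1ed98a2e217d36830372b1f26660cd74d20917b08366508c17c3673023663016630c06600e866116517a08217b3653003642ff3632fe7fa25e17908266116617a65e16317708097a2da3622fd9762d897722c17817608065e1649da2723612fc3602fb35f2fa17735e2f935d2f817508065c14b9d112a65d12717635c2f735b2f635a2f53592f417407f65b12817565a15f17307e8c01038bf2709ba2d482f169174))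 (.leaf (nat_lit 0))) (.node (.leaf (nat_lit 0xbd539dd93422b7237e3f31c9bd62efde24353f4da0425c803783f21c9b7237fc7f3d1e864623f33f11c8b6e37cb6f2f1df343ab7125bb702033f2b6e37db6c1c8b6837b3f01c8b6d1ffb6634a3f1e4b4534e04653ef1c8b6837cb69378b651f03f0b623793ee1c7b642aeb6a376b631fcce62533ef3ed1c7b6237a4df464d96423e3344cd9841b3eec8037eda44253ec1c7b6136eb671f0b6937b3edce23f1e5d458d25406b5c34fb5e3763eb1c53ecdd5431e4e454b6a37ab6b2ae3ea1c5b5e3773ebb5b3743e91c4dc0397e09440d423c14de4633ea3e81c4b5b375caa3dfb59364b5a229c933d93e9b522b2d9e4243e71c4b5136db53331dcf42f3e8cba3e2b4e2bab4c25d3e61c3b4d233b4b28a3e7dba390e7445ddca42edb742ab4a3443e51c33e6d5f381d5e2e1d564114dd462b4936f3e41c23e54dc461d5c413df843bd5d4133e31c2b493703e4b4736d3e21c0b61378b481c7dab35adf543a3e33e11c0b4736eb51373b461c4daa427de64363e2c7d3d1b31221b30263b3229a3e01c0b343593e13de1bfb3a23cb80382bd239db2d319b2e1dd3dfcf93f94db460b2c336d0b3ff3dd1bdb2b2a33deb192d03dc1bcb1e1efbe63a1b1a1eab1b1f33ddca338de6845b3db1bcb14365ce03f1b1524a3dcb111d1b98388b103663d81b8e6f45c4da45f3d9bbe23bccf3ea3d71b8b10367bbd395e1d4463d8b0e2003d61b7b14368b0f1bcca23dcc7a3d03d7b0d1c9b542b0b59374cac3dfb0c2db3d51b73d6bc02393d41b64d945ec943d94d845de214473d5b0a3613d21b5d9d2a9d9c41bd9b340d9a3453d33d11b5b0a3624d745ce6c3babd039c4d645b3d2b092673d01b4bf3324e3a44ebf23a4e264493d1))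 (.leaf (nat_lit 0))))) (.node (.node (.node (.leaf (nat_lit 0x7d11ab2b426a5ea0fe10b0557d016d7d21c610c7cf1f07ce0c110a0555ea0ff7d91aa7d70a410b2b32697d42242b22682b12675e90fc10905510a7ca1f42b02667c909f7c80be1080555e90fd1096e70ab6a419e5e80fa1070542af2652ae2641088101f38071ae1060545e80fb68d18768e0921072ab2632aa2626ed1c15e20ae5e306c1030531045e50b01020522a92612a82602a725f2a625e10386c10f6040817da1aa68c1871000515e00521012a425d7952372a325c60c11d5de0f50fd0500fe2a225b82215b2a025a82415a0fc0505de0f60fd29e25929d2586120a061f12c5dc0f30fa04f0fb7211ea6ee1c162212d61306a0f904f5dc0f40fa5db0f10f804e29c25729b2568af0948ae18c0f90f704e5db0f22992556751736a519f67609d0f878a22d2982545da0ef0f604e7ac2495d90eb0f72972532962520f504e5da0f06061195d80600f65d70ed0f404d76d2192952517652112942500f50f304d5d70ee29324f29224e29124d29024c0f428f24b28e24a0f204d5d60d17a90977a81930f36050696030870f104c5d507f5d90f028d2490f228c24828b24728a2462892450f004c5d40950f16251325ca06c5d20600ef04b5cc05a5f810a0f0b1f1ef2872446601665c80c05c90e70ed04b0ee8191a68180a22852432842420ec04b5c90e80ed5c70e50eb04a7a214c2832412822409182260ec0ea04a5c70e66c91b15c60a77de1866c51ad0eb28023f27f23e0e904a5c10d05c40b65c20700ea80c1ac27d23d5c00e20e804927c23c27b23b0e927a23a77a1e00e70495c00e37782222792390e8a001392772382762372752365bf0e00e60490e727423527323477911c2722330e50495bf0e10e6))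 (.leaf (nat_lit 0))) (.node (.leaf (nat_lit 0x3641659f53009f02039ec2ee9ed1969ee25d365ae23559ea2df9eb25e363165a0f220bde39f364d3b40bd043fe3621649de2da9df2b3d9f425363c1718cc163353611639db2729dc2b29dd2f5362af235ba0825edd04309d82d49d92fa360163361cee3f4c18391de0435a092e135f1639d92fb3609d52f835e1629d72c59d6296a7f307a6032135f35d1629d52f9c192dbc1a331dda4334bb44035e9d42f635c1614ba43f4b943ebd739ed5441135d35b1619d42f74b843dd7a41abdc251bdb19535ccdc3ef9cd2469d32f435a1619dd2fc9ce2b235bde34354b743c3591619d32f5b452599cc2b035a35815e9ca1b9d073fe9cb285d69416d8b4203599c62de35715d9c81dc9c72d39c5192aa733d3584b643bdf443a4b543ab6f37d9c42f035615d3579c3290cc63e69c225b9f41c235515d9c42f13569c12ee35415cde5436dad35ade1435bd637f35535315c9c12ef9ec2ff9f32039bd2609bc1c13549b825cc873d39b72ec35215baec3579b92d3353a772bcd1e40435115b9b72ed9b015c9b52df352a8624ea2a168a881b29ad2159ae2ea34e15934fdb64294b4439afa35ca8332f34d1599ae2eb34e9ac2e834c1589f6300b0135e9be261d1640334d34b1589ac2e9a21190aa233c9ab20cc383bb34c34a1579aa191bb72b5bb43939bf2239c025a34baf835caa133ba472a6349157a45262a4231534aa22190a252829a820a347155a9f33b4b3438348d7e41b4b24379a416fa183093461559a5287347dd34304b143699f2e23451549a11cf9a01d234698b2bf98c29e34415499f2e398a1689991ed345d5e370bc2381a092fa4b04359971b834315434434115398520adcc42f9862d7a65323987296342))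 (.leaf (nat_lit 0)))) (.node (.node (.leaf (nat_lit 0x73a1fe2350c74263b04253afac834ab6d37c2362340c773a1ff4243ae4233ad4223ac4213ab235a1630973816c7391fc2330c7b9e38b4203aa23441f3a941e3a82320c77391fdce5253b6337a23392719fad93527371fa2310c692d14392c2c623291f240bb93942300c67371fb73417b9262c523185727a74510784926f9052b87331f822f0c623084a27041c3a773511a73614822e0c67331f922f41b3a641a3a5a153084193a473211622d0c522eac534a96219c22c0c37311bdbe53a14183a322dbea0dcbe922a4173a298d2d922b0c37301b922c8322667ca0fc72f1f322a0c280e20581223722b8111ae8100fa2290c272f1f4b1b36972d1ea22a72b167a043037ae24b9011b372c1f12280c22297290d977d22389c28c7642102270c272c1f22282250c17cf0feb601c5ad234db6537bb67378226b20244b1f0e84163a1b1e3697271ee2240c12254153a0ad535072613090b2bd2230c17271ef2247251ec2220c0b9938841439f9992e299a1682232210c07251ed8922347fb25f8e32a48051ae2228a21ce2200bf41339e8a7290936258a3e3142217231c17210f386011221e0bf72d1f3b1a36921f71e1e821b0bdaf035971f1a6b8735641239d21c21a0bd71e1e98b620e8b5294a123058b716a21bbc532a41139cbc439641039b71d1e62190bd21a9452cb71c13d71b1178552782180bd71d1e721971a1e42170bcb7c383b8331db73380b7730f2182160bc71a1e59432caafd35dba138e9441d52177161e22140bb40f39a40e39993f182a7c32b2152130bb7161e394d2cec2f22f71510985b27d2147131188962897121e02120bbaee3587141a621377a0e279923a2110bb7121e18bd2768b4294212))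 (.leaf (nat_lit 0))) (.node (.leaf (nat_lit 0x478257d0d400d0b36ad0a336e4a453d0c337479d042fdd3840bd03285d072f3477257d052a5478d003e0476256ed6477d013fbec6473d023e1477475255cfd2d9db1428cfe3bfe14444cff322476ec2472db0428d013fded7477cfc32d474254475e1e447d27406cfb3f9473253e84461cfa3af474e7f460cf936a472253cfb3facf73efcf83ad473d78416d772924f4479ec5473cf63f7471252472cf525fcf43b2e6a45bd753ea470252cf63f8471ecd475e0043dcf33f546f250d3c3d7cf13c6470d403abd4140a46e250cf33f6d4440dcf027a46fcef391cee2faced3e7e7c45f46d24fcec3b946ecea31246c24ced3476edc478ce93aeeb346e46de89462e0741a46b24cce73eee3544dce832446ce5a458ce2377ce13a3e4945246a24ace036846be19446e0643fcdf29f469247df943bd6141446a468246cdc2f5cde3dbcdd249ceb3adcf73f9469cda3e7467245ce73f2cdb24ce0243ed14402468d10401e3b44e466240cd724dcd82c8cd92744674f3478e0343ee9f468e6145946523ecd63de466cd32b1d95423cd235846423cea0468cd13e8465ccf36646323bd753f7e6b45bd71419cd03ca464ccd3b1cce3a146223bccc298e6d3bae91464463cd43c3cd53bd46123accb3d5cd13ebe9d468462cca245cda3eee7e45fced3f446023acc93a9461cc62f0cc829045f238cc43d1cc5329cc72b1460cc239acc12d8cc023dcc32c245e236cbf32845fe7745ee4838bcbe2d045d235e47452cbd3b645ecbb397e90464da6426dc242dcbc2ad45c23245dcb92bacba37245b231cb63c0cb72b5cb828645c45a230cb43a3e22448cb5317d023fdec447345bcb0256d003fd459230cae3dacb3275caf28c45a))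 (.leaf (nat_lit 0))))))))
noncomputable def c5T (p : Nat) : Nat := row c5Tt (nat_lit 5) (nat_lit 31) (nat_lit 156) (nat_lit 91343852333181432387730302044767688728495783935) p
noncomputable def c5C : Cert := ⟨(nat_lit 3837), c5F, c5P, c5R, (nat_lit 1152), [32, 33, 36, 37, 48, 49], fun c => Nat.land (c5T c) (nat_lit 4095),
  fun k c => fld (c5T c) (Nat.add (nat_lit 12) (Nat.mul (nat_lit 24) k)) (nat_lit 4095), fun k c => fld (c5T c) (Nat.add (nat_lit 24) (Nat.mul (nat_lit 24) k)) (nat_lit 4095)⟩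
theorem c5k : c5C.full 6 5 (rl3 ++ [rex]) [[37, 32]] = true := by decide +kernel
theorem realizeEqns_J4p_D1 : True := by
  have := @CA.J4p.sK0000.eq_1
  have := @CA.J4p.sK0000.eq_def
  have := @CA.J4p.sK0000.congr_simp
  have := @CA.J4p.c5P01011.eq_1
  have := @CA.J4p.c5P01011.eq_def
  have := @CA.J4p.c5P01011.congr_simp
  have := @CA.J4p.c5P01101.eq_1
  have := @CA.J4p.c5P01101.eq_def
  have := @CA.J4p.c5P01101.congr_simp
  have := @CA.J4p.c5P01.eq_1
  have := @CA.J4p.c5P01.eq_def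
  have := @CA.J4p.c5P01.congr_simp
  have := @CA.J4p.sK010.eq_1
  have := @CA.J4p.sK010.eq_def
  have := @CA.J4p.sK010.congr_simp
  have := @CA.J4p.c1F.eq_1
  have := @CA.J4p.c1F.eq_def
  have := @CA.J4p.c1F.congr_simp
  have := @CA.J4p.c5P0111.eq_1
  have := @CA.J4p.c5P0111.eq_def
  have := @CA.J4p.c5P0111.congr_simp
  have := @CA.J4p.c1P.eq_1
  have := @CA.J4p.c1P.eq_def
  have := @CA.J4p.c1P.congr_simp
  have := @CA.J4p.c3R.eq_1
  have := @CA.J4p.c3R.eq_def
  have := @CA.J4p.c3R.congr_simp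
  have := @CA.J4p.c5P00010.eq_1
  have := @CA.J4p.c5P00010.eq_def
  have := @CA.J4p.c5P00010.congr_simp
  have := @CA.J4p.c2P0.eq_1
  have := @CA.J4p.c2P0.eq_def
  have := @CA.J4p.c2P0.congr_simp
  have := @CA.J4p.c3P00.eq_1
  have := @CA.J4p.c3P00.eq_def
  have := @CA.J4p.c3P00.congr_simp
  have := @CA.J4p.c5P00101.eq_1
  have := @CA.J4p.c5P00101.eq_def
  have := @CA.J4p.c5P00101.congr_simp
  have := @CA.J4p.c3P0.eq_1
  have := @CA.J4p.c3P0.eq_def
  have := @CA.J4p.c3P0.congr_simp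
  have := @CA.J4p.rl2.eq_1
  have := @CA.J4p.rl2.eq_def
  have := @CA.J4p.rl2.congr_simp
  have := @CA.J4p.c5P11111.eq_1
  have := @CA.J4p.c5P11111.eq_def
  have := @CA.J4p.c5P11111.congr_simp
  have := @CA.J4p.c2P.eq_1
  have := @CA.J4p.c2P.eq_def
  have := @CA.J4p.c2P.congr_simp
  have := @CA.J4p.wq.eq_1
  have := @CA.J4p.wq.eq_def
  have := @CA.J4p.wq.congr_simp
  have := @CA.J4p.c5P11110.eq_1
  have := @CA.J4p.c5P11110.eq_def
  have := @CA.J4p.c5P11110.congr_simp
  have := @CA.J4p.sK1101.eq_1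
  have := @CA.J4p.sK1101.eq_def
  have := @CA.J4p.sK1101.congr_simp
  have := @CA.J4p.sK11.eq_1
  have := @CA.J4p.sK11.eq_def
  have := @CA.J4p.sK11.congr_simp
  have := @CA.J4p.c3P1.eq_1
  have := @CA.J4p.c3P1.eq_def
  have := @CA.J4p.c3P1.congr_simp
  have := @CA.J4p.c5P011.eq_1
  have := @CA.J4p.c5P011.eq_def
  have := @CA.J4p.c5P011.congr_simp
  have := @CA.J4p.c3P01.eq_1
  have := @CA.J4p.c3P01.eq_def
  have := @CA.J4p.c3P01.congr_simp
  have := @CA.J4p.c5P111.eq_1
  have := @CA.J4p.c5P111.eq_def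
  have := @CA.J4p.c5P111.congr_simp
  have := @CA.J4p.c5P10010.eq_1
  have := @CA.J4p.c5P10010.eq_def
  have := @CA.J4p.c5P10010.congr_simp
  have := @CA.J4p.c5C.eq_1
  have := @CA.J4p.c5C.eq_def
  have := @CA.J4p.c5C.congr_simp
  have := @CA.J4p.c5P11.eq_1
  have := @CA.J4p.c5P11.eq_def
  have := @CA.J4p.c5P11.congr_simp
  have := @CA.J4p.sK0001.eq_1
  have := @CA.J4p.sK0001.eq_def
  have := @CA.J4p.sK0001.congr_simp
  have := @CA.J4p.c5P11101.eq_1
  have := @CA.J4p.c5P11101.eq_def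
  have := @CA.J4p.c5P11101.congr_simp
  have := @CA.J4p.sK110.eq_1
  have := @CA.J4p.sK110.eq_def
  have := @CA.J4p.sK110.congr_simp
  have := @CA.J4p.c5P01001.eq_1
  have := @CA.J4p.c5P01001.eq_def
  have := @CA.J4p.c5P01001.congr_simp
  have := @CA.J4p.c5Tt.eq_1
  have := @CA.J4p.c5Tt.eq_def
  have := @CA.J4p.c5Tt.congr_simp
  have := @CA.J4p.c5P1.eq_1
  have := @CA.J4p.c5P1.eq_def
  have := @CA.J4p.c5P1.congr_simp
  have := @CA.J4p.c1Tt.eq_1
  have := @CA.J4p.c1Tt.eq_def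
  have := @CA.J4p.c1Tt.congr_simp
  have := @CA.J4p.c5P000.eq_1
  have := @CA.J4p.c5P000.eq_def
  have := @CA.J4p.c5P000.congr_simp
  have := @CA.J4p.c5P10111.eq_1
  have := @CA.J4p.c5P10111.eq_def
  have := @CA.J4p.c5P10111.congr_simp
  have := @CA.J4p.c1Ft.eq_1
  have := @CA.J4p.c1Ft.eq_def
  have := @CA.J4p.c1Ft.congr_simp
  have := @CA.J4p.c2P1.eq_1
  have := @CA.J4p.c2P1.eq_def
  have := @CA.J4p.c2P1.congr_simp
  have := @CA.J4p.c5P00100.eq_1
  have := @CA.J4p.c5P00100.eq_def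
  have := @CA.J4p.c5P00100.congr_simp
  have := @CA.J4p.sK0101.eq_1
  have := @CA.J4p.sK0101.eq_def
  have := @CA.J4p.sK0101.congr_simp
  have := @CA.J4p.sK1100.eq_1
  have := @CA.J4p.sK1100.eq_def
  have := @CA.J4p.sK1100.congr_simp
  have := @CA.J4p.c5P001.eq_1
  have := @CA.J4p.c5P001.eq_def
  have := @CA.J4p.c5P001.congr_simp
  have := @CA.J4p.c3F.eq_1
  have := @CA.J4p.c3F.eq_def
  have := @CA.J4p.c3F.congr_simp
  have := @CA.J4p.rl3.eq_1
  have := @CA.J4p.rl3.eq_def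
  have := @CA.J4p.rl3.congr_simp
  have := @CA.J4p.axs.eq_1
  have := @CA.J4p.axs.eq_def
  have := @CA.J4p.axs.congr_simp
  have := @CA.J4p.c2Ft.eq_1
  have := @CA.J4p.c2Ft.eq_def
  have := @CA.J4p.c2Ft.congr_simp
  have := @CA.J4p.sK1010.eq_1
  have := @CA.J4p.sK1010.eq_def
  have := @CA.J4p.sK1010.congr_simp
  have := @CA.J4p.c5P00.eq_1
  have := @CA.J4p.c5P00.eq_def
  have := @CA.J4p.c5P00.congr_simp
  have := @CA.J4p.c5P11100.eq_1
  have := @CA.J4p.c5P11100.eq_def
  have := @CA.J4p.c5P11100.congr_simp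
  have := @CA.J4p.sK00.eq_1
  have := @CA.J4p.sK00.eq_def
  have := @CA.J4p.sK00.congr_simp
  have := @CA.J4p.c5P101.eq_1
  have := @CA.J4p.c5P101.eq_def
  have := @CA.J4p.c5P101.congr_simp
  have := @CA.J4p.sK011.eq_1
  have := @CA.J4p.sK011.eq_def
  have := @CA.J4p.sK011.congr_simp
  have := @CA.J4p.sK0100.eq_1
  have := @CA.J4p.sK0100.eq_def
  have := @CA.J4p.sK0100.congr_simp
  have := @CA.J4p.c2Tt.eq_1
  have := @CA.J4p.c2Tt.eq_def
  have := @CA.J4p.c2Tt.congr_simp
  have := @CA.J4p.sK100.eq_1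
  have := @CA.J4p.sK100.eq_def
  have := @CA.J4p.sK100.congr_simp
  have := @CA.J4p.c5P0001.eq_1
  have := @CA.J4p.c5P0001.eq_def
  have := @CA.J4p.c5P0001.congr_simp
  have := @CA.J4p.c3C.eq_1
  have := @CA.J4p.c3C.eq_def
  have := @CA.J4p.c3C.congr_simp
  have := @CA.J4p.c5P1101.eq_1
  have := @CA.J4p.c5P1101.eq_def
  have := @CA.J4p.c5P1101.congr_simp
  have := @CA.J4p.c5P1000.eq_1
  have := @CA.J4p.c5P1000.eq_def
  have := @CA.J4p.c5P1000.congr_simp
  have := @CA.J4p.c5P01000.eq_1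
  have := @CA.J4p.c5P01000.eq_def
  have := @CA.J4p.c5P01000.congr_simp
  have := @CA.J4p.dE.eq_1
  have := @CA.J4p.dE.eq_def
  have := @CA.J4p.dE.congr_simp
  have := @CA.J4p.c5P0010.eq_1
  have := @CA.J4p.c5P0010.eq_def
  have := @CA.J4p.c5P0010.congr_simp
  have := @CA.J4p.c2F.eq_1
  have := @CA.J4p.c2F.eq_def
  have := @CA.J4p.c2F.congr_simp
  have := @CA.J4p.c5P0011.eq_1
  have := @CA.J4p.c5P0011.eq_def
  have := @CA.J4p.c5P0011.congr_simp
  have := @CA.J4p.c5P11000.eq_1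
  have := @CA.J4p.c5P11000.eq_def
  have := @CA.J4p.c5P11000.congr_simp
  have := @CA.J4p.c5P1110.eq_1
  have := @CA.J4p.c5P1110.eq_def
  have := @CA.J4p.c5P1110.congr_simp
  have := @CA.J4p.c5P1001.eq_1
  have := @CA.J4p.c5P1001.eq_def
  have := @CA.J4p.c5P1001.congr_simp
  have := @CA.J4p.c3Ft.eq_1
  have := @CA.J4p.c3Ft.eq_def
  have := @CA.J4p.c3Ft.congr_simp
  have := @CA.J4p.sK0010.eq_1
  have := @CA.J4p.sK0010.eq_def
  have := @CA.J4p.sK0010.congr_simp
  have := @CA.J4p.c5P00111.eq_1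
  have := @CA.J4p.c5P00111.eq_def
  have := @CA.J4p.c5P00111.congr_simp
  have := @CA.J4p.c3P11.eq_1
  have := @CA.J4p.c3P11.eq_def
  have := @CA.J4p.c3P11.congr_simp
  have := @CA.J4p.c2R.eq_1
  have := @CA.J4p.c2R.eq_def
  have := @CA.J4p.c2R.congr_simp
  have := @CA.J4p.sK01.eq_1
  have := @CA.J4p.sK01.eq_def
  have := @CA.J4p.sK01.congr_simp
  have := @CA.J4p.rex.eq_1
  have := @CA.J4p.rex.eq_def
  have := @CA.J4p.rex.congr_simp
  have := @CA.J4p.c5P10000.eq_1
  have := @CA.J4p.c5P10000.eq_def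
  have := @CA.J4p.c5P10000.congr_simp
  have := @CA.J4p.c5P10011.eq_1
  have := @CA.J4p.c5P10011.eq_def
  have := @CA.J4p.c5P10011.congr_simp
  have := @CA.J4p.c5R.eq_1
  have := @CA.J4p.c5R.eq_def
  have := @CA.J4p.c5R.congr_simp
  have := @CA.J4p.c5F.eq_1
  have := @CA.J4p.c5F.eq_def
  have := @CA.J4p.c5F.congr_simp
  have := @CA.J4p.c5P01100.eq_1
  have := @CA.J4p.c5P01100.eq_def
  have := @CA.J4p.c5P01100.congr_simp
  have := @CA.J4p.c5P10101.eq_1
  have := @CA.J4p.c5P10101.eq_def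
  have := @CA.J4p.c5P10101.congr_simp
  have := @CA.J4p.sK1000.eq_1
  have := @CA.J4p.sK1000.eq_def
  have := @CA.J4p.sK1000.congr_simp
  have := @CA.J4p.c5P1010.eq_1
  have := @CA.J4p.c5P1010.eq_def
  have := @CA.J4p.c5P1010.congr_simp
  have := @CA.J4p.c1C.eq_1
  have := @CA.J4p.c1C.eq_def
  have := @CA.J4p.c1C.congr_simp
  have := @CA.J4p.sK0.eq_1
  have := @CA.J4p.sK0.eq_def
  have := @CA.J4p.sK0.congr_simp
  have := @CA.J4p.sK000.eq_1
  have := @CA.J4p.sK000.eq_def
  have := @CA.J4p.sK000.congr_simp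
  have := @CA.J4p.c5P11010.eq_1
  have := @CA.J4p.c5P11010.eq_def
  have := @CA.J4p.c5P11010.congr_simp
  have := @CA.J4p.c1R.eq_1
  have := @CA.J4p.c1R.eq_def
  have := @CA.J4p.c1R.congr_simp
  have := @CA.J4p.sK1001.eq_1
  have := @CA.J4p.sK1001.eq_def
  have := @CA.J4p.sK1001.congr_simp
  have := @CA.J4p.sK111.eq_1
  have := @CA.J4p.sK111.eq_def
  have := @CA.J4p.sK111.congr_simp
  have := @CA.J4p.sK0111.eq_1
  have := @CA.J4p.sK0111.eq_def
  have := @CA.J4p.sK0111.congr_simp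
  have := @CA.J4p.c5P01010.eq_1
  have := @CA.J4p.c5P01010.eq_def
  have := @CA.J4p.c5P01010.congr_simp
  have := @CA.J4p.c5P0101.eq_1
  have := @CA.J4p.c5P0101.eq_def
  have := @CA.J4p.c5P0101.congr_simp
  have := @CA.J4p.sK001.eq_1
  have := @CA.J4p.sK001.eq_def
  have := @CA.J4p.sK001.congr_simp
  have := @CA.J4p.c3P.eq_1
  have := @CA.J4p.c3P.eq_def
  have := @CA.J4p.c3P.congr_simp
  have := @CA.J4p.c5P10100.eq_1
  have := @CA.J4p.c5P10100.eq_def
  have := @CA.J4p.c5P10100.congr_simp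
  have := @CA.J4p.sK.eq_1
  have := @CA.J4p.sK.eq_def
  have := @CA.J4p.sK.congr_simp
  have := @CA.J4p.c3Tt.eq_1
  have := @CA.J4p.c3Tt.eq_def
  have := @CA.J4p.c3Tt.congr_simp
  have := @CA.J4p.c5P110.eq_1
  have := @CA.J4p.c5P110.eq_def
  have := @CA.J4p.c5P110.congr_simp
  have := @CA.J4p.c5P11001.eq_1
  have := @CA.J4p.c5P11001.eq_def
  have := @CA.J4p.c5P11001.congr_simp
  have := @CA.J4p.sK1110.eq_1
  have := @CA.J4p.sK1110.eq_def
  have := @CA.J4p.sK1110.congr_simp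
  have := @CA.J4p.c5P0100.eq_1
  have := @CA.J4p.c5P0100.eq_def
  have := @CA.J4p.c5P0100.congr_simp
  have := @CA.J4p.c5T.eq_1
  have := @CA.J4p.c5T.eq_def
  have := @CA.J4p.c5T.congr_simp
  have := @CA.J4p.c5P10001.eq_1
  have := @CA.J4p.c5P10001.eq_def
  have := @CA.J4p.c5P10001.congr_simp
  have := @CA.J4p.c5P1111.eq_1
  have := @CA.J4p.c5P1111.eq_def
  have := @CA.J4p.c5P1111.congr_simp
  have := @CA.J4p.sK1011.eq_1
  have := @CA.J4p.sK1011.eq_def
  have := @CA.J4p.sK1011.congr_simp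
  have := @CA.J4p.c2T.eq_1
  have := @CA.J4p.c2T.eq_def
  have := @CA.J4p.c2T.congr_simp
  have := @CA.J4p.c5P00001.eq_1
  have := @CA.J4p.c5P00001.eq_def
  have := @CA.J4p.c5P00001.congr_simp
  have := @CA.J4p.c5P01111.eq_1
  have := @CA.J4p.c5P01111.eq_def
  have := @CA.J4p.c5P01111.congr_simp
  have := @CA.J4p.c5P0110.eq_1
  have := @CA.J4p.c5P0110.eq_def
  have := @CA.J4p.c5P0110.congr_simp
  have := @CA.J4p.c5P.eq_1
  have := @CA.J4p.c5P.eq_def
  have := @CA.J4p.c5P.congr_simp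
  have := @CA.J4p.sK1.eq_1
  have := @CA.J4p.sK1.eq_def
  have := @CA.J4p.sK1.congr_simp
  have := @CA.J4p.c5P00011.eq_1
  have := @CA.J4p.c5P00011.eq_def
  have := @CA.J4p.c5P00011.congr_simp
  have := @CA.J4p.c5P010.eq_1
  have := @CA.J4p.c5P010.eq_def
  have := @CA.J4p.c5P010.congr_simp
  have := @CA.J4p.sK10.eq_1
  have := @CA.J4p.sK10.eq_def
  have := @CA.J4p.sK10.congr_simp
  have := @CA.J4p.rl1.eq_1
  have := @CA.J4p.rl1.eq_def
  have := @CA.J4p.rl1.congr_simp
  have := @CA.J4p.c1T.eq_1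
  have := @CA.J4p.c1T.eq_def
  have := @CA.J4p.c1T.congr_simp
  have := @CA.J4p.c2C.eq_1
  have := @CA.J4p.c2C.eq_def
  have := @CA.J4p.c2C.congr_simp
  have := @CA.J4p.sK1111.eq_1
  have := @CA.J4p.sK1111.eq_def
  have := @CA.J4p.sK1111.congr_simp
  have := @CA.J4p.c5P00110.eq_1
  have := @CA.J4p.c5P00110.eq_def
  have := @CA.J4p.c5P00110.congr_simp
  have := @CA.J4p.c5P1011.eq_1
  have := @CA.J4p.c5P1011.eq_def
  have := @CA.J4p.c5P1011.congr_simp
  have := @CA.J4p.c5P01110.eq_1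
  have := @CA.J4p.c5P01110.eq_def
  have := @CA.J4p.c5P01110.congr_simp
  have := @CA.J4p.c5Ft.eq_1
  have := @CA.J4p.c5Ft.eq_def
  have := @CA.J4p.c5Ft.congr_simp
  have := @CA.J4p.c5P100.eq_1
  have := @CA.J4p.c5P100.eq_def
  have := @CA.J4p.c5P100.congr_simp
  have := @CA.J4p.c5P0000.eq_1
  have := @CA.J4p.c5P0000.eq_def
  have := @CA.J4p.c5P0000.congr_simp
  have := @CA.J4p.c5P11011.eq_1
  have := @CA.J4p.c5P11011.eq_def
  have := @CA.J4p.c5P11011.congr_simp
  have := @CA.J4p.sK101.eq_1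
  have := @CA.J4p.sK101.eq_def
  have := @CA.J4p.sK101.congr_simp
  have := @CA.J4p.c5P0.eq_1
  have := @CA.J4p.c5P0.eq_def
  have := @CA.J4p.c5P0.congr_simp
  have := @CA.J4p.c3P10.eq_1
  have := @CA.J4p.c3P10.eq_def
  have := @CA.J4p.c3P10.congr_simp
  have := @CA.J4p.c5P10110.eq_1
  have := @CA.J4p.c5P10110.eq_def
  have := @CA.J4p.c5P10110.congr_simp
  have := @CA.J4p.c5P00000.eq_1
  have := @CA.J4p.c5P00000.eq_def
  have := @CA.J4p.c5P00000.congr_simp
  have := @CA.J4p.sK0110.eq_1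
  have := @CA.J4p.sK0110.eq_def
  have := @CA.J4p.sK0110.congr_simp
  have := @CA.J4p.c5P1100.eq_1
  have := @CA.J4p.c5P1100.eq_def
  have := @CA.J4p.c5P1100.congr_simp
  have := @CA.J4p.c3T.eq_1
  have := @CA.J4p.c3T.eq_def
  have := @CA.J4p.c3T.congr_simp
  have := @CA.J4p.sK0011.eq_1
  have := @CA.J4p.sK0011.eq_def
  have := @CA.J4p.sK0011.congr_simp
  have := @CA.J4p.c5P10.eq_1
  have := @CA.J4p.c5P10.eq_def
  have := @CA.J4p.c5P10.congr_simp
  trivial

end CA.J4p
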