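import Cfsg.Agent.J4p.D1
set_option autoImplicit false
set_option maxRecDepth 100000
namespace CA.J4p
open CA.TC
noncomputable def c4Ft00 : BT Nat := (.node (.node (.node (.node (.node (.node (.node (.leaf (nat_lit 0x80000800002710001f00008c0000780002210001d0000880000700002250001b0000784000680001e0000190000784000600001a0000170000694000580001640001500005840005000016000013000059400048000124000110000484000400001200000f00004c4000380000f00000d0000384000300000e00000b00003c4000280000b0000090000290000200000b10000700001c0000180000710000500000c000010000024000030000080000080000250000100000)) (.leaf (nat_lit 0xc00060800f8ff00ce300be8fc014ac02f9ff00ae40046efc02b14011b3f003f70046bc0011c002b3a400bd800ace8402e7002b3a00045200acec4011c000fe7f00bd5001559400fa8011de4006d100477fc00f8c011cbf00aa000471fc02b1800607f00ace00b9dfc00fe402f93000bc0006d1fc011dc02aae10046f006d1fc02a7c0060bf00acf004708400980011bff00be1006d1fc011bc01b43f0026000be280014c802c1e5004d50052c9000c10014b310040e00730)))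 (.node (.leaf (nat_lit 0x90040800240250101f008ff8404078023e710101d008f48004070023bb10101b008ea8404068023a3001019008e6c40406002383001017008df94040580237f001015008d9840405002307101013008bfc004048022ff001011008bd8004040022cb00100f008b0c404038022b210100d008aa90040300229e50100b008a690040280229b001009008a28404020022861010070089f8404018022771010050089a90040100226b0010030089984040080226600100100899)) (.leaf (nat_lit 0x90036b803fbf000dd400b6dc003a64036bb000b6e00baa94036b80374e500b6d00dafc402c9c036c70008e900db18403c84036c60007f400db1c402710036c30008ea00db0fc03ebc036c610103300db08003fb0036c3f00db00101b80039f00370b10083c00dc1c001e9803707100db900dc0c003ff003702500fec00dc090021ec03703f00f8f00dc1fc03fb40370200101b0103390040cc036a2100fec010339003ca0040ce40096101032c003fa803112500eb300f4c)))) (.node (.node (.leaf (nat_lit 0x840208000b7e00081f002df840207800b7600081d002dd940207000b7210081b002db800206800b6f100819002dac00206000b6a500817002da900205800b6b100815002d9c00205000b66400813002d9940204800b62400811002d8840204000b6200080f002d8900203800b5f10080d002d3c00203000b4e00080b002d3c40202800b4b000809002d2900202000b46100807002d1800201800b46500805002d0900201000b42100803002d0800200800b43100801002cf))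 (.leaf (nat_lit 0x84038bc038f3000e3b0077a80038ec035a64008e700e3b900176c0239e100920008e78000cfc0239ff00921008e7c00305801ed6400d2b00d6980034ac03066100c18006e59003058031f61006ea00e3ac0038e80305e400e3a00d488002394038eb00083100e3a90036d801cd240073400da7840286401cd310068a007d0c00151801f43f00d5b007d080038e40248a400e39007d08003624038e700093200e399402a34038e2000c7b00e3880038e0031df000e3800cf3))) (.node (.leaf (nat_lit 0x9401ea001e730007a8007a79001e6001e9e0007a6007a59400ad801e970007a4007a3800104c01e8a4007a1007a08001e7c01e7a00079d0079cc001e6c01e6a00079900798c001e5c01e5a4002c7007958001e500170700079400793c001e4800b3e4002d600792c001e4000be2400790004e1c0003b0003531000ec00290fc0035000b57f00290002d4fc00a3c003b3f002d2007549401c2c01e3a1004ea0078f9000b6c01e3e0002d20078e9001e3400dd700077b0078d)) (.leaf (nat_lit 0))))) (.node (.node (.node (.leaf (nat_lit 0x80010800059310041f00163c0010780058f10041d00162c0010700058a50041b0016290010680058b10041900161c001060005865004170016190010580058710041500160c0010500058240041300160c4010480057f0004110015f94010400057a10040f0015e80010380057a50040d0015d90010300057610040b0015d8001028005771004090015c9401020005724004070015cc4010180056e1004050015a80010100056a5004030015984010080056600040100159))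 (.leaf (nat_lit 0xc002d3c020e25002ed00838fc0213402042100790008388400b9801e43f008380084cfc020dc01e420002f5008398400bd402103f0085f00839fc021000217a000860007e89001fa003056400855007e8c001c64020f700083d0075dc001d7401c660005cc0075cc00219001d86000bf3007fe8001ff80257a400803007de94011a002016100be3008058002f20020165002d000468c002db00200a500467008029002f300200bf00bcd00805fc011a002013f00bcb00802))) (.node (.leaf (nat_lit 0xc000e7400d3e4001780039dc000e7000e6e4001b20039bc000e1800e6b00038100234c00053c00e065003810015790004a80055ff00157003829400e680056200039a00399c000e6000e5e4003960039580006c800e57000394003939000e4800e47000367003928000d4800e4250038f00348c000e3c00e3a00038d0038cc000e2c00e2a00036700389c000e2000e1e100386003489000e1800e17000384003839000e0800e070003800037f90004f400dff00037c0037b)) (.leaf (nat_lit 0)))) (.node (.node (.leaf (nat_lit 0xc00308001242400c1f00490c4030780123f000c1d0048f94030700123a400c1b0048e900306801236500c190048a90030600122a100c170048a80030580122a100c1500489800305001226400c130048784030480121e000c110048794030400121a400c0f0048680030380121b100c0d00483c0030300120f100c0b00482c0030280120a400c0900482c40302001207000c0700481840301801206000c0500481c40301001203000c0300480c403008011ff000c010047f))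 (.leaf (nat_lit 0x84022ac03b93000c8d0088ec001a84012f31006a100c89fc012f003beff00c8900efafc01a8403222000c8700f399003c4003ce7000d6e00f399401228021b2400c190086c8403ce0021b20006e50086cfc021b003063000f380092c940217003ce2000c1800f389003cdc01bca500f3700f12c003cdc03b9f000f3600f35c0027c803cd3000ee7006de9403b9c03cb2000f2c00f349003c4403cd210080c00f33c003ccc03906400f3300f32c00256403ccf0007dc00f32))) (.node (.leaf (nat_lit 0xc002cc402cc24008ae00b2f9002ca402ca2000b2700b269002c9402c92500b2100b16c002c8402c82400b1200b208002c7c01417000b1e00b1d9001f9c02c72400b1b00b1a8002c6402c62000b1700b16c002c5402c52000b1300b129002c4402c42000b0b00b0a90010c402c2600042b00b08c002c1c01b36400b0700b06c002bb002c1e400b05006cb8002c1402c12400aeb00b0584025840290a40093f009619402c04024fa00095f00b018402c000107b000aff00afe)) (.leaf (nat_lit 0)))))) (.node (.node (.node (.node (.leaf (nat_lit 0x8000880002bf10021f000aec000878002ba40021d000aec400870002b700021b000ad9000868002b6500219000ac9000860002b2100217000ac8000858002b2500215000ab9000850002ae100213000ab8000848002af100211000aac000840002aa50020f000aa9000838002ab10020d000a9c000830002a640020b000a98400828002a2000209000a894008200029e100207000a780008180029f100205000a690008100029b100203000a5c00080800296400201000a5))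 (.leaf (nat_lit 0xfc031c001c2bf00c6f00709fc012c401c23f00198007079401318006c7f00ce000c9ffc0139c0327a500273004c6fc01c4001317f004b200272fc03274006c7f004c6004f6c400f5c01c2f000a870070b940329401c2ff00c7100273fc01c2c02a1b1006c10081b9402a2c0206e5003d70081a90013100206b100bbe00827c0011880209e10019d002d3800118800b4f00017e002dbfc02f140206ff00a850081ac4005f8003bbf0082700bbffc00b4c01303f002db00465))) (.node (.leaf (nat_lit 0x9000568005aa0001530016990005a00036200016700166900022c00596400164001638000588005860001600015f94003a80057f00015e0015d80005700056e40015b000e99400568001d300015a0015980005600055f00012100156c0005540055210015300074900054c0054b00015100150900053c0053b00014d0014c90002080053250014b000a6800052c0052b00014900148900051c0051a00008200146c000514005124001430014290005040045a0001400013f)) (.leaf (nat_lit 0x9404294037070010a500da890041d8042930010a400eafc00344c04292000d10010a480040c8033e6000cf9010a3900428c034da101032010a3c0041940428f000dc200dedc003dc00370a5010a200b9a80037080428a4010a200e1c84039f00428b000c85010a28004280035630010a000f268404280042861010a100d58c00428403c9e4010a1010a0c002d0c04286000e3f00fcf9003f3c0419e00109f00e3f8003f3c0427e40109f00c0b940427c0332b00109f00e23))))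 (.node (.node (.leaf (nat_lit 0xc00288000eba400a1f003ae800287800eb6500a1d003ac900287000eb2100a1b003ac800286800eb3100a19003abc00286000eae100a17003aa800285800ea6500a15003a8900285000ea2100a13003a8800284800ea2500a11003a7900284000e9e100a0f003a7800283800e9f100a0d003a6c40283000e97000a0b003a5840282800e96100a09003a4800282000e92000a07003a3940281800e8a400a05003a2800281000e8a500a03003a1840280800e86000a01003a1)) (.leaf (nat_lit 0x900349001caa000d2400eaa840351c03aaa400a2d00eaac0027c003aa6000ea800ea7940221403aa2400cde00ea7c003a9c01932500ca300ea7c00253003a9b000ea600a1594031940222e1004000088b8002b400222ff0088b00ad8800224802b6e500d230089390034a80224e1006250089380027b80224ff0089300e8dc4014400220f000d2300883fc034880220e10064100303840220001907f00ea000303fc0190402207f0088000ea18003a980205640092b00ea6))) (.node (.leaf (nat_lit 0xc401fe4015df0002cd005779402038015de4002d700577fc015dc01fea10037100548800266801523f005480099984015980266e4004a20099b9000dc40128a40099a0045b800266802666400998009978000e480265e10056500997800265802656100994007d3900116402653000993007e1c400b0c011370007e30044dfc0113401f8b000992003a6c001f8400db2000992007c69000eac0264b00099100990900263c0263a40038b0056b8000e2c0263b00098d0098c))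 (.leaf (nat_lit 0))))) (.node (.node (.node (.leaf (nat_lit 0x84018800088a00061f00222c4018780088700061d00221c4018700088300061b002209001868008825006190021f90018600087e1006170021f80018580087e5006150021e90018500087a1006130021e80018480087b0006110021ac4018400086700060f0021984018380086600060d00219c4018300085f00060b0021794018280085e40060900217c401820008570006070021584018180085600060500215c4018100085200060300214c4018080084f00060100213)) (.leaf (nat_lit 0x9400ccc021be4009020086f8402dd8021bff0086f0090184021a8023fb0006ec00d7fc0035fc021b70006e900d829403608026ca400560009b2fc026c80360f0005fc00d848001f380360a000d85007ce900361403612000d8200d85c00294003616100d8400d7f900360c0360a000d8100d8090023f8035fe400d7b00d7a80035e4035e2400a6900d77c0035d801736500a690055980035d8035d6400d3700d76c401278020bb000c430082efc020b80310a4006b700828))) (.node (.leaf (nat_lit 0x9000f000164f0005920059180016400163e50058e00549c0016380163600058c0030ac00162c0162b000589005889000c340161f0005860058590015540161600058400583c4015e800db70001e00036dfc015ec00db64003b5002fec0007ac01602500580003b48000bf00160300057f0057e90015f4015f20005550057cc0015ec015ea4005790057880015dc015db00057500574c0015cc0157a400573003cc80015c4015ce4005720057180015c0015be00056e0056d))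 (.leaf (nat_lit 0)))) (.node (.node (.leaf (nat_lit 0x900388001717100e1f005c2940387801702400e1d005c0c403870016ff000e1b005bf9003868016fe400e19005bd8403860016f6000e17005bd9403858016ee400e15005bb8403850016ee000e13005bb9403848016ea400e11005ba8403840016ea000e0f005ba8403838016e2000e0d005b8c403830016de100e0b005b58003828016d6100e09005b48003820016d2500e07005b39403818016c6400e05005b18403810016c6000e03005b18003808016b2500e01005ab)) (.leaf (nat_lit 0x9003dc003efe500a8900fbec003ef403ef24008a700fbcc003eec03eeb10063e0093fc003a7c024fff0093f00e9ec403af40220300066200880fc03af802202000fb900d27800209803ee6400fb900880900205403ee7000d8100fb99003ee0022a2500fb8009a9c003ee002db250036a007fd900262c01ff7f007fd0098afc0262c03ed200098b00fb790020d403ede000d5500d958402d2003657000a6b00f889403e2003eda000f8500fb6840353803edb000c2300fb6))) (.node (.leaf (nat_lit 0x90033d001d26000cf400cf3c001e24033ca000cf100cf080033bc0148f000cef00cee8001868033b7000ceb00ceac0033a001faa4004ef006bb8400ac401aee0004f2006bbfc01ec401aee000ce9006b1c002fe4013be400ce900ce88001ae4033a7000ce70074f8003398016fa000ce50078f8401b6801876400ce4006da80033900338e400aa000ce39402a80014ae00052b006d28001b60014ae50052b00ce390033880151a0004e800522c0025e00148a100ce100522))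 (.leaf (nat_lit 0))))))) (.node (.node (.node (.node (.node (.leaf (nat_lit 0x94004800016640011f0005984004780016600011d0005994004700016240011b0005884004680016200011900058c0004600015a1001170005680004580015a50011500055900045000156100113000558000448001565001110005490004400015210010f0005480004380015210010d00053c4004300014b00010b0005280004280014650010900050900042000142100107000508000418001425001050004f84004100013e0001030004fc4004080013b0001010004e)) (.leaf (nat_lit 0x8000fb401b8bf006e200aafc4025ec02117000362008458002ad802117f0097c008458400ad800baa0006e1002eafc00ba801efbf006e10084494030d401c7e1004930071f80030a001c7ff00c270071f8001c88032de400722005538401244024be000c230092ffc03088024bf00077800638840218801dea0002f60077a9401f100218a40043000862fc01de80218ff00b5500862c000d04021721008460055f8000bac0157f10034100846fc024a40217240055300846))) (.node (.leaf (nat_lit 0xc0000b4000b240002b0002a8000054000ae10002a00011c0000a4000a24000270002680000940009240002300022c0000580008e0000210002090000500008700001f0001e80000740007250000d0001c900006c0002e00001a0001980000600005e50000e00017900005800056000014000139000048000460000100000fc0000380003600000c0000b940001c0002f00000a000099000018000230000070000690000080001b0000050000490000040000e00000100002))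 (.leaf (nat_lit 0xc003e3403812500f8d0106ec003f44041ba000f450106e80041b40414610106c00e8c90041b003946400df00106cc002b50041b2000aed0106b84037ec041ae40104d0106bc0038b8041ae000ffc0106a84037c4041aa400e900106a8003a88040c25010300102b8002854040ae00102b010699003d74041a7000f8801069c0041a4029ae500ebf01069c00397c041a200102601068800396c0419e00106700f8cc00419c0392b000d1d01066c00419803d66000da601066)))) (.node (.node (.leaf (nat_lit 0x800248000cff10091f0033dc00247800cf610091d0033d800247000cf650091b0033c840246800cf20009190033c940246000cee1009170033b800245800cef1009150033ac00245000cea5009130033a900244800ceb10091100339940244000ce240090f00338840243800ce200090d00338900243000cde00090b00337940242800cd640090900335840242000cd600090700335c40241800cd300090500334840241000cd200090300334940240800cce40090100333)) (.leaf (nat_lit 0xfc023d4028ce000bb500a2c80023d802ed650091500a9c8001a1c02a72000a9c00da4c002c240292a5005e1007f98402a6001fe7f00e46007f990017840289ff00e4700a27800185402a66100e7200a9994032480366e1005e100d9b80039140366ff00d9b00e449003248039cb000e7200ba1940366c039cb000e71007018402478039bf000e6e00dda90039b80212f000e6d00d19c002cf40342710053b00b3fc00353002cfff00b3f00d4bc003418038d30005d4002fa)))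 (.node (.leaf (nat_lit 0x900126c0230a4008c1008c080022fc022fa4008bd008bc80022e4010df0008b8008b7c0022d801e564008b6008b590022d001fa60008b4008b390022c8022c60008b0008af9001080022bb000417008ae80022b4022b2500409008ac94022ac016230008ab008aa80022a4022a30008a7008a68001400022970008a4008a390021b80228b0008a1008a0c0010e80227e4004410089fc002278022764007940089d80022700226e5005090089b80022680152640089900898)) (.leaf (nat_lit 0))))) (.node (.node (.node (.leaf (nat_lit 0x80014800070f10051f001c2c0014780070a10051d001c194014700070200051b001c0c401468006fe500519001bf9001460006ff100517001be9401458006f6400515001bd8001450006f6500513001bc9001448006f2100511001bc8001440006f310050f001bb8401438006ee00050d001bbc401430006eb00050b001ba9001428006e7000509001b88401420006e2000507001b8c401418006df000505001b7c401410006db000503001b6c401408006d7000501001b5)) (.leaf (nat_lit 0x900345c0345a000d160073890034500344f00089900d1480016740344b000d11008b19402c540344600069600d1190034400343e000d0e00d0d90034300342f00087500d0c8001a000342a000d0900b40c0034200341e10050c00d0690021940341a4009aa00cf3c0033cc0175a50099c00cf3940300c01cd6100cf00073580013c401cd7f0073500cf19002a1c033c2400cf100c03c0033a403396500ce500cf084033c802efa400cf20075e94033c801e33000c7a00848)))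 (.node (.leaf (nat_lit 0x94012ec00e7b0004bb004bac0012e4012e200019f004b7c0012d8012d64004b4004b384005240066e0003d70019bfc0066c00f5a0003d8004b484012cc00f520004b2004b1c0012c0012be5001ab004af8401158012bf00012700084c40049c00687f0008400379fc0068400de3f00127001a094012b800eca00019e004aec0012b4012b30004ab004aa900129c0129a1002cd004a68001294012930004a3004a294012840114f0004a1004a0800127c0127b00049d0049c)) (.leaf (nat_lit 0)))) (.node (.node (.leaf (nat_lit 0x840348001432100d1f0050b80034780142e500d1d00509840347001427100d1b00508c00346801422500d1900508900346001422500d1700504900345801412000d150050494034500140e400d130050380034480140e000d11005029403440013fe400d0f004ff8403438013fe000d0d004ff9403430013fa400d0b004fe8003428013fa100d09004fdc403420013f3000d07004fc9003418013ee100d05004fac403410013e7000d03004f98403408013e6000d01004f9)) (.leaf (nat_lit 0xc003df4039631003c700a36c002968028dbf00a3600a59c401d780298bf00f7a00a62c001d7802ad7f00f7b00ab5c0027700389b0007a200f7cc003df001fce4009db00f7c9003df00399e000f7800f7cc003dec03dea500d8000f798003de403d93000f7900cc2c003de00396a400f7800e268001d8003de2400f7700a88900308c03ddf000e5500f77c002888038bb10048a003afc00062c00ebff003af0048bfc0062c02892000a2200f769003dd803ce2100a1c00f76)))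 (.node (.leaf (nat_lit 0x8003018030165004f300c05c0030100300e500c02008eec0030080300640049d00c01c002ff802ff6100bfc008ee9002ff002fee00049d00bfb8402eb402fe610078d008ed8400cbc0123a0008f40048efc01238023ce4008d40049c8400cb8012720002340049cfc019540127250049f008d3800196402fe2500bf8008cac002fe001ae6000bf700bf6c002fd402fd300097e00bf39002fcc02fca5004750095a9002f680256bf00bef0095a800257802fce100bf200bed)) (.leaf (nat_lit 0)))))) (.node (.node (.node (.node (.leaf (nat_lit 0x9400c800041a40031f00106c400c780041700031d001058400c700041600031b00105c400c6800413000319001049400c600041240031700104c400c580040f000315001039400c500040e400313001039400c480040a400311001028400c400040a00030f001029400c380040700030d00100c400c30003ff00030b000ff9000c28003fa000309000fe9400c20003f6400307000fd8400c18003f6000305000fdc400c10003f3000303000fcc400c08003ef000301000fb)) (.leaf (nat_lit 0xfc01050018e7f004a20062ffc00648018bbf00c50000b1fc0313c0089ff00b0b00726fc0128c0089bf00c4e0027ffc003380313640064900a2d94026c001923000726009b094022a8026c24008a9009a6c001a54022a610043b009b28400e00010eff00b69009b2fc010ec026c7f0038000b6ac402c58026a7000441009a990022a0026a7f009a900b7dc4024ec0228a10037f008a280026c00228b0004ae00310fc026bc0228b1004ae008a494026680229240045b008a4)))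 (.node (.leaf (nat_lit 0x90008a800a470002900028f9000a3800a36400273001b180009cc00a3700028c0028b9000a2800a270001ad0028a9000a2000a1e1001c1002878000a1800a160002840012f90009dc00a0f00025200283c000a0800a0640022f002808000898009fe40027e0027dc000804009fa00027c0027b900099c009f300027a0027980009e0009df0000f90027680009d4009d3000273002728000340009c70002700026f90003dc009bb00026d0026c90009ac009ab00026900268)) (.leaf (nat_lit 0x900435803f4a400fdf00f1d9003c7403cba000fdf00f1d8003c7404356000f1e00ff680040ec03c7a500f1e010d58403f7c043570010d5010bd800401403d2e101005010319004014041ce4010d40100580041ec043520010d400f6c9404350041cf0010d400d518003f700434e400f93010d380035180434a4010d20104d84036b40434a40106b010d2c0038d00434a5010d100decc0042d404346500e5f010d18003e0004346400fdc00d07900434003f72101090010d0)))) (.node (.node (.leaf (nat_lit 0xc002c800106e100b1f0041bc402c780106b000b1d0041a9002c7001066500b1b004189002c6801062100b19004188002c6001062100b17004178002c580105f100b1500416c002c500105a100b13004168002c480105a500b11004159002c4001056100b0f004158002c3801056500b0d004149002c3001052100b0b004148002c2801052400b09004128002c200104a500b07004119002c1801046100b05004118002c1001047100b0300410c002c0801042000b0100410))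 (.leaf (nat_lit 0x8400ee001d86000a3600761fc028d401d86000eeb00eea9401ea403baf000eea00a3f9401d1403bab00068c00b93c002e4c03ba6100ee400ee9c400dc801ecf00099f007b3fc01ecc0267a000ee8007b58001ee403ba2400ee80079e9002ef803ba300078d00ee88003b9c03b9b000ee600d5cc001e3803b9b00082c00849800210403b96000ee50083c9403b9402123000ee500ee49003b9003236400c7200ee4c003b3803b8e000ee300ee290035d403b8f00071c00ee2))) (.node (.leaf (nat_lit 0xc001ae4011e25007ea006b090015500123e400490006e694024d80123f000489006b4c001b800122650018a003c4900121400f1310093600485fc00f1001212100330004858001ad401217f008f7004858001ae8023570008f90049bc00126c00fb60008d5006b4900142c029465006d1003ea800095000faa10025400151fc00fa801acff00151006b2fc00fac009521008f7006b58000cc001ad7f008f8006b59401b8002946400a5000a4f84023e40293e000a4e00a4d)) (.leaf (nat_lit 0))))) (.node (.node (.node (.leaf (nat_lit 0xc401c80009ef00071f0027b9001c78009ee50071d0027a9401c70009e610071b002798001c68009e650071900278c401c60009df000717002779001c58009de500715002768401c50009da00071300276c401c48009d7000711002759401c40009d640070f00275c401c38009d300070d002749001c30009d200070b002739401c28009ca400709002728401c20009ca00070700272c401c18009c7000705002719401c10009c2400703002708401c08009c200070100270))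 (.leaf (nat_lit 0x94033ac027ce00077300ceb80033ac037ea10077300dfa9001f38037eb00070200713c001c4c01db3000768006fac0030e401c320006f100769840126401d9e10029500499fc030d801d9ff0049900766fc00a54030de00082b0076880037e4020af000d390076890037e401d8e00076800df980037e001db3000df700df690037d4037d3000df4009f8840171c016820001fc005a0fc0168001723f001fc00df384025ec037d2400df200df180037c0037be400dee00897))) (.node (.leaf (nat_lit 0x9001a10017b600068400695c001a5001a4e4005f6006929001a4401a4200068f0068e9001a3401a3200068b0068ac001a24018b650068800253c001a2001a1e00068600685c001a1001a0f00062d0024490018ac01a0a00024500682c001a0401a0210067f00253c0019fc00a6240067f0067ec0019f4019f30004ca0067bc0019ec011e64004d10067bc0019e8019e64002610067980019e0019de00024400676c0019d4019d2400673006728000984019cb00067100670)) (.leaf (nat_lit 0)))) (.node (.node (.leaf (nat_lit 0xc403c8001b0f000f1f006c3c403c7801b0b000f1d006c29003c7001b0b100f1b006c19003c6801b07100f19006c0c003c6001b03100f17006bfc003c5801aff100f15006bec003c5001afa400f13006be8403c4801af2000f11006bc8003c4001ae3000f0f006b6c003c3801ad7000f0d006b1c003c3001abf100f0b006adc003c2801ab7000f09006a9c403c2001a9f000f07006a79403c1801a9e400f05006a79003c1001a9b100f03006a4c003c0801a92000f01006a4))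 (.leaf (nat_lit 0x94040080363e001002010019403db40400a400f6e01000c00400003e9b000fff00ffe9003ff4033ba000ffd00f57c003c8c03ff7000e2100ffcc003ff003fb7000df00095ac003f68037cb000f2b00df094037c003946000cbe00df284016780287e000df000a1ffc0287c037be100ffc00df1900287803ff30004be0030fc4012f802286500ef3008a19002af802286000f03008a1fc00c3c03233f008a100c8bfc012f8022831004c1008a8c003244022a3f008a800c90))) (.node (.leaf (nat_lit 0x8402cbc02d16000b07008da800221802bf2500a3a00b34900138c02cd2400a0800b33c402d20014f300042b0053cfc02d0802cd3f00b4100b3394005980108640042800421fc014f002d2640041f0042b940107c0059e500b3e006c8800107c01b2210041f0025dfc010840109f0001a600163c4006980107ff0042b00b2efc0059c02cb7f006c800b2cfc0097402caff00b3200428c0010400115b10041000177fc0058c01363f0041f0042cfc02ca80135ff0045600b03)) (.leaf (nat_lit 0)))))))) (.node (.node (.node (.node (.node (.node (.leaf (nat_lit 0x9000280000c710009f00030c000278000c210009d000308000270000c310009b0002fc000268000be5000990002f9000260000bf1000970002ec000258000ba5000950002e9000250000ba5000930002d9000248000b61000910002d8000240000b650008f0002c8400238000b300008d0002bc400230000ab00008b0002a9000228000a6000089000299000220000a200008700028c4002180009f0000850002784002100009e00008300027c4002080009b00008100026))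 (.leaf (nat_lit 0xfc0251c01fc2500bd800850c4011540259f0009fe00967fc02e940259e1004520035b84025940114b1003f900965c0011c002596400bd800965fc02e7000d6ff0045200966fc0259402b3a000850009498002e8c0214250085000965840253c0213a0003530084efc025400213a40097b007d19001f480250e500945007d18402e8c0252600094d00ba4840115000d3a0007e60034ec001b7001f9bf0034e00ba2c400d4c01f37f00942007e68400d3c01f02000945007c0))) (.node (.leaf (nat_lit 0x900428002cf710109f00b39940427802cda10109d00b1e800427002bb300109b00ad5840426802b1240109900ab5c00426002a7600109700a9b900425802a6650109500a97900425002a5210109300a94800424802a5300109100a91940424002a3610108f00a8bc40423802a2a00108d00a88800423002a1210108b00a839404228029ea40108900a7ac404220029d650108700a72c404218029c700108500a719404210029be40108300a6f9004208029b610108100a6c)) (.leaf (nat_lit 0xc0037e80414a40105100a29840289404146400e6201051c0026f80414600105000a89c00414003b824010500104fc002a4004143000e6300a6fc002f440398e000ffb0104f8403ee00413e500d620104e80033680413a00104e00f20940413803e3300104e00b37800403804136100db80104dc0028580413700104c00ef9800357404132400f3d0104cc00412c0287b000e080104bc00374c03fd640104b00ff5c403ee80263b0008070098efc0263803eeff008070104a))))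 (.node (.node (.leaf (nat_lit 0xc00228000c3e40089f0030fc40227800c3b00089d0030e840227000c3a00089b0030e840226800c365008990030c900226000c321008970030c800225800c321008950030b800225000c2f1008930030ac00224800c2b10089100309c00224000c2650088f00309900223800c2610088d00308800223000c2310088b00307c00222800c1f10088900305c00222000c1640088700305940221800c1210088500304800221000c1250088300303900220800c0e10088100303)) (.leaf (nat_lit 0x8000c64013fa10031900680fc013f8022eff00680008bafc00c640342b000c100087e80030d4022f2100c3500e5ec0039780325a400e5e0087e80022f00397a000e5d00b6f840397402b4e400e5d009f390033ac03977000d8400e5dc0039700396f000e2c00c65800191802b6a100646008eb9001918038b24005f90064684018f00396a400e5a00a2c80019100396b0008b000c32c40366c032c700057000cb1fc03670032c7100b9e00612c0011480184a500cb100612))) (.node (.leaf (nat_lit 0x8001fc8020ee40083a00839c002048020ea000838008379002040020e3000836008359002000020d600080d0041980020d002036400419007e78001064020d240076e0083480020c4020c240082f0082e80020b4020b240081d0082bc000c70020ae00082800827c00202c0209e5002ea00827900209802096000824008239002088020860008200081f80020780207640081c0080b800206c0206b00081900818900205c0205a0008110081784020580203b00081500814))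 (.leaf (nat_lit 0))))) (.node (.node (.node (.leaf (nat_lit 0xc0012800064610049f0019180012780064710049d00190c0012700064200049b00190c4012680063f0004990018f94012600063e4004970018fc4012580063b0004950018e94012500063a4004930018ec401248006370004910018d84012400063600048f0018dc4012380063300048d0018c80012300063310048b0018bc0012280062e5004890018b90012200062f1004870018ac0012180062a5004850018a90012100062a1004830018980012080062650048100188)) (.leaf (nat_lit 0xfc018d402c77000c630099a9402dcc02b461004a900ad1800275802b47f00ad100c59c001f4c0196a000c46009d2800275c0311b00086200b91900326c024be40075600c9bc400a3401ccb00075100732fc01cc801d4250078e00ca5800329401e5a00075700ca58400a4001c320007560070cfc01d5401c3250070d00796940215401c3a4007e80070e840305001c3a0004890070efc01c3803057000780006c8c40294c01c7b0003c50071efc01c7802952500b3000a53))) (.node (.leaf (nat_lit 0x9001048010c60004300042fc0010b8010b610042c0025d90010b0010ae0004120042bc0010a8010a640042800427c000a78010a3000426004258001020010930004230042290005c40108a00042100420c00107c0107b00041d0041c900106c0106a0001710041ac0010640106240041700416c000c4c0105f00041500414940057400ab240040d002acfc00ab0010320002ac00413900064c0104f00041200411900104000d5a00040f0040e90010340103200040b0040a))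 (.leaf (nat_lit 0)))) (.node (.node (.leaf (nat_lit 0xc0032800131f100c9f004c6c0032780131a400c9d004c6c40327001317000c9b004c5940326801316400c99004c5840326001312500c97004c390032580130e100c95004c380032500130e100c93004c280032480130b100c91004c1c00324001306500c8f004c08403238012fe000c8d004bfc403230012fb000c8b004bec003228012f7100c89004bcc003220012f2400c87004bc8403218012ee000c85004bb9403210012ea400c83004ba8403208012ea000c81004ba)) (.leaf (nat_lit 0x9403ca403d5a000a1900f5690034d003d57000e7a00f558001e2c03a0610078b00f54c003d50025c6400f5400bb28003a0403d530007d100f548003d2803d4e500f5200e0fc003d48030bb000e0f00a6ec00387803d47000f5100dca8003d440255a400f5000f51840383003d4240072900f50c0026c003d43000b4500dc8c0037200351e500d6b0072a8400b7c01caa0008200072afc01ca80207f00082000ec3c0027dc02082400d6b00d248002cd0035ae40081f00d6b))) (.node (.leaf (nat_lit 0x900128402e8600049800ba09402e7c02807000b9f00b9e9001e2002e7a000b9d00b9c9402e6c02e0f000b9a00b999002ba002e63000b9700b968402ba002e0e40044f00ae88002e5402322000ae700b959001df4016ae00077d00b93900283002e4e100b6800b92900179802e4b00070800a3d9402e4001ba240044c005e69002e44028f6000b9100b908002e3c02aef000b8e00b8d9002e3001a6e000b8c00b88c002e3002e2e10041d007818002c9c01e07f0078100b26))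 (.leaf (nat_lit 0)))))) (.node (.node (.node (.node (.leaf (nat_lit 0x8000a800036b10029f000d99400a780036640029d000d9c400a700036300029b000d8c400a680035f000299000d78400a600035e000297000d7c400a580035b000295000d69000a500035b100293000d5c000a4800356400291000d5c400a400035300028f000d49400a380035240028d000d4c400a300034f00028b000d39400a280034e400289000d39400a200034a400287000d28400a180034a000285000d28400a1000347000283000d0c400a080033f000281000cf)) (.leaf (nat_lit 0x90022fc0284bf00a1200a689401474029aa1004e800a6a8001488029abf00a6a00ce18001660015a2100a66005689400d44015d2400568005748402e90015d3f0094d00574c40168000d3b0001ee0034efc00d3801687f00943001ee8401f440167e0002be0059ffc0167c01f4b0005ad0054b9002914015ab1006290092bc001334024ae4006430092bfc024ac032d2000338006438400ce000c5a5007e900338900236000ce3f006430090efc00c580243710092d007e9))) (.node (.leaf (nat_lit 0x90007e0007de4001f60010f80007d8007d64001f4001f380007c8007c64001f0001dd80007bc007ba0001ed001ec90007ac005ea00013a001ebc0007a8007a640013e001e8900079c0079a0001e5001e4900078c0078a0001e1001e0900073c0077f00010a001df8000778007770001dd001be940027c007770001dc001db900048c0076a4000970012390005e4007664001d9001258000764007624001d7001d68000754007525001d20010e8000254004421001d300110))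 (.leaf (nat_lit 0x90042980403e5010a6010be8003f00042fa0010be00f7794042f80403f0010be00f41c0042f403462000c55010bd8403710042f640109d010bd9402a64040aa40107e0102a84042f0040aa000d2c0102afc040a80425a500fb1010bc8004258042f20010bc00d2c94042f00367b0010bc00d379404024042ee000eb2010bb80042ec041be5010bb00d5dc0042ec037e64010b200c989003ae0042cb0010ba00f96c0042ac042ea500d12010ba8003ae0042ea0010ad00db3)))) (.node (.node (.leaf (nat_lit 0xc402a8000f8f000a9f003e38402a7800f8a000a9d003e2c402a7000f87000a9b003e1c402a6800f83000a99003e09002a6000f83100a97003dfc002a5800f7e500a95003dfc402a5000f7b000a93003de9402a4800f7a400a91003de9002a4000f72000a8f003dcc402a3800f6b000a8d003dac402a3000f67000a8b003d98402a2800f67100a89003d8c002a2000f63100a87003d7c002a1800f5e400a85003d7c402a1000f57000a83003d58402a0800f56000a81003d5)) (.leaf (nat_lit 0x90019c401cca400ed0007528003b4003b3e400ece0082c80019c001a96500559006a590029a401a96100ecd006a5fc01a94035de400d6e00ecd8403b34035df000a1000924940249003b3600069000ecc9003b3001d1e40067600eccc001b7c03b3240082c0067080019b8020be100ecb0082f800310402ffa500bfe00ecb9003b2803b2640071b00ec7c00234c03b1e400eb300ec6c00363c03b1a000a7700ec594020fc039e3000ce60084180020f401fd6000ec40083d)))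 (.node (.leaf (nat_lit 0x800280802807000a010058fc002800027fe400483003a1c001154027fa5009fe0048280027f8027f64005a8009fdc0027a4027f65003a3009fdc0027f0026624009fc009fb90027e80265a0009fa009f990012ec027e200047a009f7c0027d80100e4009f6009e990027d40100a0009f5009f480027cc027ca4009f1009f090027b8027b60009ec009eb80027a8027a650039c009e9c0027a00279e5009e600995c002798027960009e4009e3940159c0278f0009e2009e1)) (.leaf (nat_lit 0))))) (.node (.node (.node (.leaf (nat_lit 0x8001a800093310069f0024b8401a780092e00069d0024bc401a700092b00069b0024a8401a680092a0006990024ac401a6000927000697002499401a580092640069500249c401a5000923000693002489001a4800922500691002479001a400091e10068f002478001a380091e50068d002469001a300091a10068b002468001a280091b10068900244c401a200090f000687002438401a180090e00068500243c401a100090b000683002428001a080090b10068100241)) (.leaf (nat_lit 0xc0037400223e400dd000dcf800373803742000ca400dcf90029b00373a000d9700dcdc002c040372e5004f40058a90032900162bf00cf60058a80037300372e400dba00dcc84016240187a000dc80061efc018780371e000cee00dca900372803726000d3300dc98401ec003726000dc800dc7800223c0371a1007af00dc690022ac0371a00086e00dc5940371002053000dc400dc39003708036d2000dc100dc0c002e44033d300099d006e9c0036080267700059500749)))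 (.node (.leaf (nat_lit 0x80008e4018024002b900600c0017fc017fa400213002b990017f4017f20002b7005fd90017ec017ea100291005fa80017e4017e20005f70026894017d8009230005f6005f590017ac017d70005f4005f3c0017c800d9e4005f2005f1c000e48017ca400265005f08000970017bf0005ee005ed80017b0017af0005ea005e990014d4017a30005e7005e6c00179400f8b000538005e4c001724015cf00055e005c99401724016964001fd005a5fc016940172a5005e4005a6)) (.leaf (nat_lit 0)))) (.node (.node (.leaf (nat_lit 0x8003a8001907100e9f0063ec003a78018fa400e9d0063e9003a70018f7000e9b0063cc403a68018ea100e990063ac003a60018de100e97006368003a58018da100e950062d8003a50018b7100e930062cc003a48018b3100e9100628c003a40018a2000e8f006288403a3801896000e8d00625c403a3001893000e8b006249003a2801892500e89006229003a200188a100e87006228003a180188a500e85006219003a1001886100e83006218003a0801887100e8100620)) (.leaf (nat_lit 0x9403f8403a63000fe100fe08003e6002b2e500acb00fe0840298403f82400f2e00fdfc003cc403f7f0009b600fdec003f780368a400fd200d1b8003f4803f7a400fc500fde94016ec0336240085200cd8fc038540336200085200fdd9003f6403f77000fdc00c7ac003e6c03f6f000fdb00fd68003f6c02a36400ee500fdb840218403f6a400edd00fda900212403f67000fbe00fd9c003cc003aea50082000d289003f2c034a2100fd800d2880020fc034a3f00fca00d28)))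 (.node (.leaf (nat_lit 0xfc019cc02ff70006670066e90014300340a1007e4007038000b1001c0ff00703007e5800312001c57000b81008559001be801f92500c1400713900124801c4ff00c2600713c4021180217210045a0085c8400bd00116a50018b002f4900122400bd3f00ba90085cfc011680216ff002f400488fc0122402176400c15008559001934019de4006780050c9401b7c019df1006df0066f8401274019be000bfb0066ffc030fc019bf1004cd00629c0032d0018a7f0062900cb3)) (.leaf (nat_lit 0))))))) (.node (.node (.node (.node (.node (.leaf (nat_lit 0xc0006800021250019f0008490006780021310019d00083c0006700020e40019b0008390006680020a000199000829400660002064001970008184006580020600019500081c40065000203000193000809000648002025001910007f9000640001fe10018f0007f8000638001fe50018d0007e9000630001fa10018b0007e8000628001fb0001890007dc400620001f30001870007c8400618001f20001850007c9400610001ee4001830007b8400608001ee0001810007b)) (.leaf (nat_lit 0xc40227401c9700030e00725fc0227801c97000637008288001c980170a100639005c29002aa401cf3100288005c4c4007e400a23f00741005c4fc00a200170e5004040073b90028d001cef100277005c1c001c6001707f00742001f984017a401707f00ae60073b9000f9800a1a5003e6005e98401e50017a7f005c100717fc00a1802a9bf005e900aa5fc00f9801cea50052b00aa790011c402a9e1004e900aa7800339002a9ff00be800aa79002f9802b57000a8100bd8)))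 (.node (.leaf (nat_lit 0x80003500034f0000d2000d190003400033e0000ca000d0840033c0031f0000ce000cd90002bc003324000cb000ca8000324003224000a8000c79400318002970000c6000539000314003120000c3000c29000304003020000bf000be94002f4002b70000bd000bc90002a4002f20000bb000ba9400108002eb0000b9000b890002dc002da0000b5000b490002cc002ca0000b1000b094002bc000ff0000af000a080002b8002b70000ac000ab80002a8002a65000a80003d)) (.leaf (nat_lit 0xc0040800422a0010880100f900422003ea2000c73010889404220029ff00108800e4f8402e080421f00108700e53900421c0409e000be001087c003eb80421e40108600d9580037700421a00108600f0cc00421804216000a8d01085900421403efa100fdb010859002a240421700108400fd090042100420f000bf201084c0034240420f00108300b3d8002a240420e10105001083c0042080396710066100d97c003af00365ff00d9700ebb8003660040f240103c00ddd)))) (.node (.node (.leaf (nat_lit 0x800268000dcf10099f00372c00267800dca10099d00372800267000dca40099b00371840266800dc600099900371940266000dc240099700370840265800dc200099500370900265000db71009930036c900264800db31009910036bc00264000dae50098f0036b900263800daf10098d0036ac00263000daa50098b0036a900262800dab10098900366c00262000d9b10098700365c00261800d9650098500365900261000d9710098300364c00260800d9240098100364))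 (.leaf (nat_lit 0xfc0192c02b2a400abc00e81840244402af2400aff0064b90024440192a40064b00e809403a3c0192b000e8f00c63c00266803a3e50091100e8f80039fc03a3e400e8e007278003a3803a36400d2a00e8d940348c03a37000e8c00e8b8403a2803a1240065f00e8a9003a2403a23000e880075c8003a200197e000e8700e869003a1403a12000e8300e82c003a0403a02400e8000aff840337003a030008bd00e7f84039fc018a2400d4500e7f8401f6c0229a000384008a6))) (.node (.leaf (nat_lit 0x8001990024ca1009310092cc0024c0024be00066a0092e90024b4024b30009100092d80024ac024aa40090e0092bc0024a4024a25008fe0055f84024a00157e40055300928900249c0249a00092500924900248c0248b0005dc009238002484024824005db00921c00247c0247a00091d0091cc00240c024725003460091c900246c023ca00091a0091990024600240e00091700916c0024540245240091300912800243c0244e1009120090cc002444021ce4009100090f)) (.leaf (nat_lit 0))))) (.node (.node (.node (.leaf (nat_lit 0xc001680007ba40059f001eec401678007b700059d001ed9401670007b640059b001edc401668007b3000599001ec9401660007b2400597001ecc001658007ae400595001ea8001650007aa400593001e9c401648007a3000591001e88401640007a200058f001e8c4016380079f00058d001e784016300079f10058b001e6c0016280079b100589001e5c00162000796400587001e5c4016180078f000585001e384016100078e000583001e3c4016080078b000581001e2))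 (.leaf (nat_lit 0x800299403547000b1900d50c003540016cf000d4700b4580035400353e400c5c00d509002d580353b000b9200d4e800150403537000d4c00d4bc00237c0343a400a4300b549002d50014fe000b5400d109402d14014fa4004290053efc02d18014fa500d4900b4390014ec02d0e5004ff00b44900344002d13f00d4a00b43fc02d100343e400d4a00d4984013fc014f6000d0e0053dfc014f403436000d0f00d4a84035240342f000c1700831c0030640347b0006d200c19))) (.node (.leaf (nat_lit 0x8001438014365001c00050dc0014300142f00050a0037390014180096600050600257900095c006ea40039400258840093c00e5240039300264840096c00e4e1001340020d8000e6800837f0020d003999400db800af6400124002bdfc00dbc00af7100128002bbc000df000aee100459002bbfc00aec00dee000129000ac84004a40085ff000ac0037efc0085c00df7f001290021684005c00093b000122000adc400488008724001ba0021cfc0111c0093a0001700021c)) (.leaf (nat_lit 0)))) (.node (.node (.leaf (nat_lit 0x8003680015d3000d9f005728003678015ca000d9d00571c403670015c3000d9b00570c403668015bb000d990056e9403660015ba400d970056ec403658015b7000d950056d9403650015b6400d930056d9003648015b2000d910056c8403640015ae000d8f0056bc403638015ab000d8d0056a94036300159f000d8b00566c40362801596500d890056484036200158e000d8700563c0036180158a500d850056290036100158a500d8300560900360801582100d8100560))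 (.leaf (nat_lit 0x8003e7803abe400f9e00f9d80034a803e7a000f9400f9d8003e7001fdb000f9c00dd09003e7003e6f00088f00f9c8403a8c03e6f0009ec00c4c9003a8803e6b000f9a00f1094023c003e6a000f9a00a388403e6403e3a400f9600f99c0025c803e66400f9800f5e9003e4403e6300095b00f98840335803e5f000f0100f97800261403e5a400f9400892900224803b5b000c6500ed69403e5003b5b000ed600e2c9002fc403b560007b600bf18002fc403e56400a9b00f95))) (.node (.leaf (nat_lit 0x94031c803237000a2800c8ac00322403222400c7300c87800321803216400c8400c83c00313c0320e100baf00c838003208032070006e700c80c003200025b2100a9500c80900134c032020004cd00c7fc002870031af000c6b008e180031f8031f6400c6900c7e9003168031f2400c7b00c7a8402afc031ea000c7900c7890031dc0295a000c7600c75c0031d40293e500a8e00c7590031d00304a4004b700c74c002a48031d2500c73004bcc0031cc031cb00070900c6a)) (.leaf (nat_lit 0)))))) (.node (.node (.node (.node (.leaf (nat_lit 0x9000e80004db10039f00135c000e78004d640039d00135c400e70004d300039b001348400e68004d200039900134c400e60004cf000397001339400e58004ce40039500133c400e50004cb000393001329400e48004ca400391001328000e40004c310038f0012dc000e38004b610038d0012d8000e30004b710038b0012cc000e28004b20003890012cc400e20004af0003870012b9400e18004ae4003850012bc400e10004ab0003830012a9400e08004aa4003810012a))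 (.leaf (nat_lit 0xc40106c02527000b2100949fc02c480252bf0094900b20c00125c0105b10049700b15fc01058030d3f00b1500c33fc0125c02c5250050200ac890017b802b22100b1600ac8800105c02b23f00ac800b17840114c017ba000498005eefc017b802e83100ca000acdc00131c02b37f00ca100acd900298c02b32400acd00a61c002a740324e500c9300acc940298c0324e50048700a60900130802982100c4900a60800128402983f00c1300a60c003124017c2400ac700a52))) (.node (.leaf (nat_lit 0xfc00a5c00b7a50031c002988000c7000c6f00031a003199000c6000c5e00030200317c000c5800c5640031400313c000b1800c52400312003118000c4000c3e40030e001b6900079400c370002d60030dc000c3000c2e1001e70030a9000ad400c2a0002ad003099000c2000c1f0002f1003088000bf400c1e1001e6003078000c1800c164002ef00306c000c1000c0f00030200301800040000c030002ff002fe9000bf400bf210009b000fc8000794003f3f000fc001e4)) (.leaf (nat_lit 0x8004298043ca401059010f2c0043c403bae4010f10103c8003b6c043c7000f05010f19003744043c30010f00104cc003be4043c2500fe8010f08003740043c2100f94010efc003fa0043bf0010ef00ff690043bc043ba000eb1010efc003b5c043ba0010e0010ee84041d4043bb0010e900f5794042dc03aa60010b800ea98003aa4043b650105e010ed80043b4042e25010ed01038c0043b404326000f06010ec90043b003dd2100f04010ec900418c043b3000fe3010ec))))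 (.node (.node (.leaf (nat_lit 0x8002e800114f100b9f00452c002e780114a100b9d004528002e700114b100b9b00451c402e6801143000b99004509002e600113f100b970044ec002e580113a500b950044e9002e500113a400b930044d9002e4801132100b910044c8002e4001132100b8f0044bc402e380112b000b8d0044ac402e3001127000b8b004499402e2801126400b8900449c402e2001123000b87004488402e180111a000b85004469402e1001117000b83004449402e080110e100b8100443)) (.leaf (nat_lit 0xc003c5403c53000f1300b859003bf003c4e4006dd00f11c0021a803c4b000f1200a528003c4803c464006f200f128003be403c42400e3e00b3580035a403c3e400f0f00e3e84038ec03c3e400b3500f0fc002ae403c3f00095f008e08003c380257200096000f0e9003c3802fc2400bf600f0ec001b4c03c3a000cfe00f0d8403bc403c3700086000f0dc0027ec03c33000f0b00f0a940267c03c2a1009cb00f0ac00232803c27000f0800f078403c1c02a8e4006c200f07))) (.node (.leaf (nat_lit 0xc002ab402ab24006d100aab8002aa802aa7000aa800aa7c40297400f9b0003c8003e6fc0297800f9a000aa5007948402a940170700082f008e29402840020b64003a70082dfc020b4028461003a700770800283c01dc3f00a0e007708000f9402842100aa400a10c0023980282a500a0a00aa4c002a8c02a8a40040500aa29001b4002a7e0005dc006d39000b90005465002e4003edfc00544020cff003ed00832fc00b9000fb24003e40083190020c402a870003e80081d))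 (.leaf (nat_lit 0))))) (.node (.node (.node (.leaf (nat_lit 0x9001e8000aae10079f002ab8001e7800aae10079d002aa8001e7000aab10079b002a9c001e6800aa6100799002a98001e6000aa7100797002a8c001e5800aa2400795002a8c401e5000a9f000793002a79001e4800a9f000791002a69401e4000a9a40078f002a58001e3800a9650078d002a48401e3000a9310078b002a3c001e2800a8e400789002a3c401e2000a8b000787002a2c001e1800a86100785002a18001e1000a87100783002a0c001e0800a825007810029f)) (.leaf (nat_lit 0x8001d700389b000e2500d6c90038900388f000e2300b3984037d40388e000e2200e21c00388003026100bb20073e800117801cfbf0073e00bb3c40118c01cb3000bc30072c9002ec801cb3f0072c00bc2c0025c401f4600097b00e2084037d00388240096f00e20c0037d402296000dfb00aed9002bb40171e400e1f00aed8002c840387e000e1f00af6940387c0171f000e1f006e18003878029c6400e1e00e1d8001c700387b000dca00e1e94016fc03722400e0c00dc8))) (.node (.leaf (nat_lit 0xc001c8001c7e0005e00071e9001bb801c7a40071d004eb9001c70016fa00071b0071a9001c6401bbe00028000719c001c6001c5e400283007169001c540145e00071400713c001c4801c464007100070f80013d801c4210070f00709c001c3801c364006f10070c8000a3401c2e40070a00709c001ba801c2a4006e900708c001c1801c1640050e007059001c1001c0e000702007019001c0001bfe0006fe006fdc001bf001bee0006fa005179001be401be20006f7006f6))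 (.leaf (nat_lit 0)))) (.node (.node (.leaf (nat_lit 0xc403e8001ef7000f9f007bd9403e7801ef6400f9d007bd9403e7001ef2400f9b007bc8403e6801eeb000f99007b9c003e6001ee3000f97007b78003e5801ede000f95007b6c403e5001ed7100f93007b4c403e4801ec3100f91007a9c003e4001ea7100f8f007a6c403e3801e7e100f8d00797c003e3001e3f100f8b0078c9403e2801e2e500f890078a8003e2001e0e400f8700782c003e1801e06400f8500780c403e1001deb100f8300777c003e0801ddf000f8100775)) (.leaf (nat_lit 0x800407403f8300101d00b589003a680407300101c00b6f94039f404072000bfc0101cc003fb0039ee000fec0101b940406c03ebf00101b009c4c00406803de3000e5a0101a800406802db2400ddf0101a94026740406a00101900deb900406403c2a40099f01019c0028280406640101800a4d800389c0406250101800bf7c0040600257e100e3e0101790039c40405f000d0e010178004058026f6100e9f009bd9003a7c02a5e10101600e9f90040580325300090a01016))) (.node (.leaf (nat_lit 0xfc017dc01726400763005a38400a640168a000772005a2fc01dc40168b000772008adc0021fc01dca4008c5008c6940231402b7a1008b100ade800135002b7bf00cc400adec0023140329e500ca7008af8401350022c6000cc4008b1fc022c40330e40064300cb48400c580190e0008b400643fc0190c022cf10079500627c0023680189e5008b5006279000c580189ff00627008b684032d4022d60004ce008b5fc022d4032db10087f008ad94032d4022b64004d4008ad))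 (.leaf (nat_lit 0)))))))))
noncomputable def c4Ft01 : BT Nat := (.node (.node (.node (.node (.node (.node (.node (.leaf (nat_lit 0xc0001800006e10005f0001b80001780006f10005d0001ac0001700006a50005b0001a90001680006b10005900019c000160000665000570001990001580006710005500018c000150000625000530001890001480006310005100017c0001400005f00004f0001684001380005a00004d00016c4001300005700004b0001580001280005710004900014c0001200005240004700014c4001180004f0000450001394001100004e40004300013c4001080004b00004100012)) (.leaf (nat_lit 0xc000aa401017f00b8700ae794027d401e6a4004020079afc02d8800383f0044e0079dfc005d401e73f007a7001698400aa4010cff004050079bfc02b8001e6bf00b98000dffc0113c00aaa1006e3002a9fc01e60010cff002a900ae8fc01e6401b8e00040d003f0c40298802ad6500ac400ab5840103402ad7f003f000af9fc02ad402be3f0040d00ab48002c4002b0e500ac400af89001e8802b0e40098300a9b8402f6c0260e00046d00983fc0260c02f721005e50079a))) (.node (.leaf (nat_lit 0xc404180027aa50105f009e884041780279e50105d009e290041700278a00105b009e2940416802786001059009d4c40416002747001057009d1940415802746401055009d1940415002712001053009c1c004148026cf001051009a894041400269e40104f009a7c4041380269700104d0099590041300264210104b0098fc0041280263a4010490098d9404120026324010470098c9404118026260010450098994041100261f10104300984c0041080261310104100976))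 (.leaf (nat_lit 0x80038900410650104100e74c0041040286f00104000e60c0026f404102501040009cb8004100040fe5009a1010409003778040ff00103f00ddbc0036fc040fe500e020103fc0040f8029d3000f9e0103e80040f80386e400fb00103e8401cac029ea000f4a00a7afc03d4c029eb000d2901021c0040840391600103d0101f9403914040f700103c00f2ec003d78040ef000ff600fe884040ec03fda400f2f0103b800364c040ea100f720103ac002938040ea50103900ed5)))) (.node (.node (.leaf (nat_lit 0x900218000bd610085f002f5800217800bd640085d002f4840217000bd200085b002f4c40216800bce100859002f3800216000bcf100857002f2c00215800bca100855002f2800215000bcb000853002f1c40214800bc3000851002f0c40214000bbf00084f002ef900213800bbe50084d002ed900213000bb610084b002ed800212800bb6100849002ec800212000bb2100847002eb800211800bae500845002ea800211000bab100843002e9c00210800ba6500841002e9)) (.leaf (nat_lit 0x80033f002b5e500ad700e53c0039480394610067900e51c00326003942000e4f00e4e940340c0393a400dbd008e994036f403936000e4d008d19403934023a7000e4d008eb900336803473000a3a00a3c9403368017ab100df600a39c001688028e7f00df700a3980017a8035a2000d6800e4c900281c03933000c0900e4cc00393003882400d2600e4b80019000392a100da600e49c00392401f26400e490096cc0037f40392700077300e48c00392002322400dfd00e48)))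 (.node (.leaf (nat_lit 0x9001fb401fb2100792007ec8001fac01faa0007e9004d5c001fa001f9e000454007e69001f9801f360007e5007e4c001f8c01f8a4007e1007e08001f7001f861007e0007dac001f7c01f7a4007c6007dd9001e1801f724007db007dac001ed801f6e0007d9007d89001ed001f670007d7007d69001e7401f5a0007d5007a89001f1401f564007d4007d38001f4801f460007d0007cf940175c01f424007c1007cec0010c001f3b0007a5007cd9400b1001f36000459007cd)) (.leaf (nat_lit 0))))) (.node (.node (.node (.leaf (nat_lit 0xc001180005f650045f0017d9001178005f610045d0017c8001170005f210045b0017bc401168005eb0004590017a8401160005e710045700177c001158005de50045500177c401150005db000453001769001148005da500451001759001140005d610044f001758001138005d610044d00174c401130005cb00044b001729001128005c6000449001719001120005c200044700170c001118005be1004450016f8001110005bf0004430016e8401108005ba0004410016e)) (.leaf (nat_lit 0xc002a7803096000ac700c2b94030ac0309240049500c24fc030b003093000c2b00b81c002154030ae50049600b3090030c002cc3f00c2f00b30840304002cc2100c0f00c2b8401c7c0121a00049300486fc01218030a3f0049300c0ec0015880303e0008e400c3dc00234801c5210032100693800234001a4e50049a008d090030f402343f00693008cffc02340030f3000b1b00c3ac0030e8019731004e700c3bc001318030eff00c9f00c3b9002e04030ea50071400c3a)))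 (.node (.leaf (nat_lit 0x8000fac00faa4003e9003e88000f9c00f9a400328003e5c000c8000f960003e4003e3940081400f8f0003e2002089000f8800f424003e1002078000f8400f820003df003de9400f740099b0003dd0033ec000f7000f6e4003c6003da9000f6400f620003d7003d69000f5400f520003d1003d0940053400f430003cf003ce900076c00f36400145001db9000f300077a0003cc003cb9000f2800f260003c8003c79400f180052b0003c60032b9000f1400cc20003c500231)) (.leaf (nat_lit 0)))) (.node (.node (.leaf (nat_lit 0x8003180012ae500c5f004aa9003178012aa100c5d004aa8003170012ab100c5b004a98403168012a6000c59004a98003160012a3000c57004a780031580129f100c55004a6c0031500129b100c53004a5c00314801296400c51004a594031400128e400c4f004a384031380128e000c4d004a384031300128a000c4b004a2840312801286000c49004a1940312001282000c47004a0c4031180127f000c450049f94031100127f100c430049ec0031080127a400c410049e)) (.leaf (nat_lit 0x900302c0332a100f4800c0b9003d2002e9b00092c00f489403d1c031fb000f2d00f47c003d1c02572500c6900f47800287403d1f000f4600ea89403b9803d1a0009e600f4690028a40398a000a2900f459003d1402076500f450082bc003d14030e6400f4400f109403d1003ce7000f4400f438003d080321e100f4200f39c003d08037f2400f4200f41c003d0403146100f3700f41c00265003d03000f4000ba48001bfc03d02100c9c00f409001f9003d02400f3f008e4)))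 (.node (.leaf (nat_lit 0x8002da802da6400b6800ab7900110002da300089f00b6894012b001aa650016b0025090010e800943f00b66006a9fc00940010e61004480043afc010e801aae100b6700448c4012b001117000196004459002d9c01117f00445004ad94012b402d9e400b66004acc002d94021a6400b6500ad2c0021f402d96400b64008678002d9002d8e40087c00b6490024f402d8a000b5d00ab9c002d7002d6e000b5a006e38002d6402d62000b5700b569002d5401f1200077a00b55)) (.leaf (nat_lit 0)))))) (.node (.node (.node (.node (.leaf (nat_lit 0xc0009800031200025f000c4c4009780030f00025d000c394009700030e40025b000c3c4009680030b000259000c2c40096000307000257000c1840095800306000255000c1c40095000303000253000c0800094800303100251000bfc000940002fe50024f000bf9000938002ff10024d000bec000930002fa50024b000be9000928002fa100249000bc8000920002f3100247000bbc000918002ee500245000bb9000910002ee500243000b99000908002e6100241000b9)) (.leaf (nat_lit 0xc000e34012dff004b7009d9fc031f000e36100c59009d680012a40275b00077f009cd9402dc80273650038a004a9fc027580316a5001950038afc0316002737f009cf004a9fc00e28012a24004aa0060d94012a800df3f009d000195fc018340317ff0037c00c5e84014d8012aa100c5c00536fc012a8026bbf0053600c5dc003370023630004f50040ec4013d402bfff0040e00cfbfc02bfc033ea50072f004f59000a08013d6100282001abfc013d401cc21004e500282)))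 (.node (.leaf (nat_lit 0x90006b4006b250005e000c290002340030bf0012e000c28000310006b61001ac000c0c0006ac006ab0001a9001a8900036c0069e0001a6001a59400368006964001a400185800068c0068b0001a1001a0900067c0067a00019a0019f84006780065f00019d0019c90005f00066e40014c0019a80005180066640019800197c0005b8006620001960019590005b00065b0001940019390005800064e000192000ea90005ec0064a40019100190800063c0063a40018d0018c)) (.leaf (nat_lit 0x80041b003cda500f3600cfe9403c34042c6000f34010b180042c403cb25010b100f19c0042c403bc30010b0010a7c002f80042c20010b000d2f8003904042c2400bea010b080042bc041261010af00fce90042bc041df000cf0010afc003804042ba4010ae010a380042b80349a400d36010aec0042b4036324010ad010acc00384c042b7000f6e010acc0042b00417a000b9a010ac8403fc4042b3000f96010ab94034ec042ae000ff8010ab90034f0042aa501014010aa)))) (.node (.node (.leaf (nat_lit 0xc00298000f26000a5f003c9c40297800f23000a5d003c8940297000f22400a5b003c8c40296800f1f000a59003c7940296000f1e400a57003c7840295800f1a000a55003c6c40295000f17000a53003c5840294800f12000a51003c4940294000f0e400a4f003c3840293800f0e000a4d003c3c00293000f0a500a4b003c2900292800f0b100a49003c1c00292000f06100a47003c0800291800f02100a45003bf800291000eff100a43003bdc00290800ef6400a41003bd))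 (.leaf (nat_lit 0xc40184c0346e10091e00d1bfc01420039c3f00d1b00e6ffc0184c0346a1004cc009868000e840261bf00a0200986940261803aea0007a300ebac003ae403ae2100eb800c1d900326003ae3000b3e00eb7c003adc0277f00065b00d49c003a1c0196e000eb700b458002cbc03ade400b5800eb7c0019a80363e40066c00eb694019b003116100e5500c4580017d003117f00c4500e56940311403ada000bf800eb6c00395003ad7000eb400de59003ab40350e000ead00eb4))) (.node (.leaf (nat_lit 0x80027100270e4009b4009c2c000e680270b0009c1009c080026fc026fb0009a8009be9400e38026fa4009bd009bc80026ec026ea4009b9009b880026dc026da0009b5009b490026cc026a20009b0009af90026b8018360009ad009acc002370026860003a9009ab94026ac026830009ab009aa9002670026aa0009a9009a89400e00026a30009a7009a69002694026920009a3009a280026840268300099f0099e80026740267300045c0099cc0015c400ec3000795008da)) (.leaf (nat_lit 0))))) (.node (.node (.node (.leaf (nat_lit 0xc401980008df00065f002379001978008de50065d002369001970008da10065b002368001968008da500659002359001960008d6100657002358001958008d6100655002349401950008ce100653002338001948008cf10065100232c001940008ca00064f00232c401938008c700064d002319401930008c210064b002308001928008c21006490022f8001920008bf1006470022ec001918008ba5006450022e9001910008bb1006430022dc001908008b64006410022d))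 (.leaf (nat_lit 0xc0036a8036a6000da800da7c00175c0369f000da600da5c0036900164e400bac00da4c00266c0368e10057500654800368801953f0065400da1840299c0368e400b1e00da39402c78015d6000da200da19002c7c0368b000da00088c8002e900368300069600d9fc0036780324a000d3200d9e90035d8036770006fa00d39c0034dc03122500d3700d9dc0031000367600057300d9dc0036700366f000d9a00d9990036600365e40058b00a6c800162c0365f000d9600d95))) (.node (.leaf (nat_lit 0x80016f8013b70005be005bdc4016e0010130001f500404fc016e4010124003bb002099400ef0016ca40050f003bbc4007c800dbb0005b00036efc016bc00dba500564005b080016c00156e5005ad003bf90007c800efff003bf005ae94007c4005d2500140001f1fc016a4005d3f001f1003bafc00500016ab00051600534c000edc016f30005bc0034b9000ef4016f200051e005bcc0016ec016eb0005b9005b8c400cd40073300010f001ccfc0073000cdbf0010f00542)) (.leaf (nat_lit 0)))) (.node (.node (.leaf (nat_lit 0x8403980017fe000e5f005ff9403978017fb000e5d005fcc403970017e7000e5b005f99403968017e2000e59005f69403960017d2400e57005f48403958017d2000e55005f48403950017ca000e53005f2c403948017c7000e51005f1c003940017be100e4f005ed8003938017b7100e4d005eb8003930017aa400e4b005e780039280179e500e49005e5840392001796500e47005e1900391801786100e45005e1800391001786500e43005e0800390801782500e41005df))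 (.leaf (nat_lit 0xc003f4002fcb00098f0094b9403f3803596100fb200d658001ff403597f00d6500fb3c003d680263e400fb300fce9403d6803ecb00082600fb78003f4403ed6100fd1008359003f4403f43000be500fd18003f400296a0009c000fd0c003f3c03f3a500fcd009c1c003f3403f320009e200fcc9003f30039e240083f00fcc800270403f2f000fcb00a3a9003f2c03f2b000a3c00fcb80020fc03f2a400d6200f8c800358803f26400a8b00fc9c00312c03f23000c4c00fc3))) (.node (.leaf (nat_lit 0x90017b4021da5004e0002ff9001a1800bfff004fa00877fc03414021da500caa00689900136401a26100cd700689800138801a27f002ff00cd2fc0333001a27100579006859400ed001a1640058000685fc021e001a1a1002250047dfc02fe8018b61001870022580011fc0090a10047f00245c400ed00134700047e004d1fc01a14028bff0062a0047dfc00894011f3f0024200c00fc0091402ffff004d100a30fc0330000ed3f0062b00187fc01a08011fff0047e00cbf)) (.leaf (nat_lit 0))))))) (.node (.node (.node (.node (.node (.leaf (nat_lit 0x8400580001be00015f0006fc400578001bb00015d0006e8400570001ba00015b0006ec400568001b70001590006d8400560001b60001570006dc000558001b31001550006bc000550001ae5001530006b9000548001af1001510006ac000540001aa50014f0006a9000538001ab10014d00069c000530001a610014b000698000528001a710014900068c000520001a2500147000689000518001a310014500067c0005100019e5001430006790005080019e50014100066))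 (.leaf (nat_lit 0xc40148802506500361009418401c14025061009760039d8000d8400e77f007ab00360fc00d34025e7f0094100978fc00e74025dff00361009409000e88006f25003a20051384030240144ff001bc00a06fc0144c0281610035c003a2800177800e8bf003a200512fc017780281210035f005a880025bc016a3f005a80096e9401780027aa4009f4005df80027d8025c20005dd009f69401eac016b24002af005acfc01eb0016b3100a0b007aac000e9401eaa500b93007aa))) (.node (.leaf (nat_lit 0xc0001fc001fa10007d0002890001f4001f300007b0007a90001e4001e200007700076c0001d4001d300007300072c0001c4001c240006f0006ec000158001be40006d0006c840014c001b200006b0006a90001a40014600006800067c0001980016e4000650006480000980019700005b0001d800015c0008a0000640005784001900008b0000630006294001840018a10005b00062c0001840018200005f0005ec0001740017240005b0005ac0001640016240005700056)) (.leaf (nat_lit 0xc0041ec02a62400fac00db284036c804186500a5a00db28403af4036ca40107a00ebdc003254041ea50107a0106280041e803a7200107900f9390041e403422000efd0107994041e403dfb00107900fa980041e0035ea500d5700ddc900278403772000f0c00ddcfc041680377210107800dda90029b4041e3000d8501078800349802eba500bae010778003034041de00107700cf5c0041dc031d600107600e89c0041d80364300107500b09c0032f0035ca000f5501074))))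 (.node (.node (.leaf (nat_lit 0x940258000d6640095f00359900257800d6250095d00357900257000d5e10095b00357800256800d5e50095900355900256000d5600095700355940255800d5240095500354840255000d5200095300354c40254800d4f00095100353840254000d4e00094f00353c00253800d4a40094d00351840253000d4600094b00351940252800d4240094900350840252000d4200094700350c40251800d3e1009450034f800251000d3f0009430034e800250800d3a5009410034d)) (.leaf (nat_lit 0xc0025600354a50088a00d5284036ac0354a00057900d52fc03548036b300054000958fc0354c025624005ba0035494016e80255a100e0f009df80016e80277ff0035400e12fc0255803847f009df00e10fc016e802556500e150085290016ec0214bf0085200e16c40155801abb000abe006aefc01ab8035be400e1300d72c0036300384e500e1300d8d840384c01abe0005bb006affc0385001abf0006c40090980039d802b4a400e76006c48002a88039da500e7600851))) (.node (.leaf (nat_lit 0x9000fac023e25003c4008f794023d800cdf0008f6008f580023d0023ce50033c008f280023c801b930008f200630c0023c4023c24003ff008efc0023b8023b61003ff003379000cb400ffe0008ec003fb90023b0023ae0003fe008ec80023a8023a70008e8008e79002398023960008e1008e6840239401bab0008e4008e39000f940238a4004b8008e19000c9c012e24008e0003df80023800237f000527005e890014940237a000535008de900237402372000595008dd))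 (.leaf (nat_lit 0))))) (.node (.node (.node (.leaf (nat_lit 0xc4015800075b00055f001d680015780075b10055d001d5c0015700075650055b001d5900156800757100559001d4c00156000752500557001d4900155800753100555001d3c0015500074e100553001d280015480074a500551001d184015400074600054f001d1c4015380074300054d001d094015300074240054b001d0c4015280073f000549001cf90015200073e100547001ce80015180073a500545001cd840151000736000543001cdc00150800732500541001cc)) (.leaf (nat_lit 0xc0034fc034fa500bb500d3e8002e5c034fa100bea00d3e90034f401872000d3c00d3b80034e8034e70005b200d3880034c0034df000d3600941c0014840325f000c9700d359002698034d65008a900d358402c54034d7000d3400d338001ec0034ce400d2900d3390034c8024e600057200d32c003388034ca400d310069d900151c034c7000bc800d31c001498016cb000d300073790034c0029aa00052600d30c0020c0034c300096f00d2f9402730034ba000d2e00582))) (.node (.leaf (nat_lit 0x84013c800ac64002a3004f290013c4013c20004ef004ee90013b4008860004ec004ebc0013ac0085250027a004eb90013a8012024001b0004eac000a28013aa5004e900284c0013a4013a24004e7004af800139801396000428004e4840135c013924003a4004e48000d300138e4002ec004e290006a400bb24004e1002a68001384013824004df004dec00136c0136a0004d90047ec0010b00069a0004d70042890011580135f0004d6004d59400c10013561002c7004d5))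 (.leaf (nat_lit 0)))) (.node (.node (.leaf (nat_lit 0x90035800153e100d5f0054e80035780153b100d5d0054b900357001527100d5b00546c40356801517000d5900545c40356001513000d5700544940355801512400d5500544c00355001507100d5300540c00354801502000d510053f8403540014fa000d4f0053ec003538014f6000d4d0053cc403530014ef000d4b0053b9403528014ee400d490053bc003520014e6500d4700536c403518014cf000d45005338403510014ce000d43005339403508014c7100d4100530)) (.leaf (nat_lit 0xc003c9003e32400f6a00a36800290c03daa500f6a00f8b8002d4803e2e000f8b00f669403e2c028db000f8b00e678003e2802882400f8a00f238003ca403e2a400f8900e958003bbc03e26000f2600f88c00281c03e1f000f87009f58002f0c03e1e100be900f8790025b403e1f10074700b57c001fec02d5ff00b5700f638003d7403e1a400f8600b56840296003e1a400d4e00f86c0028dc03e1a000d4e00f859001ee803e16500f8400f61c003e10038ee500e3c00f83))) (.node (.leaf (nat_lit 0x9402f5803126400c4800c3194031180195b000c4600c45c0030fc01b7f00066b008d3800194403102000c440065190031100234e000c4000c44c00310c0310b0008dd00c41c003104022ca4008c300c41900300403102000bfb00c3fc0030f8023b2400c3e008d48001970030fb000c1c00c3e90030f4030f2000c3b00c3a90030e4030e2000c3700c36900309c030d70004d200c3580030c8030c7000c31007e4c003050030c65004a000c3190030c0030be000c2e00c2d))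 (.leaf (nat_lit 0)))))) (.node (.node (.node (.node (.leaf (nat_lit 0xc000d800047b10035f0011dc000d780047650035d0011d9000d700047710035b0011cc000d68004721003590011c8000d60004731003570011bc000d580046f1003550011ac000d500046a5003530011a9000d480046b10035100119c000d400046650034f001199000d380046710034d00117c000d300045e50034b001179000d280045f10034900116c000d200045b10034700115c000d1800456100345001158000d100045710034300114c000d080045200034100114)) (.leaf (nat_lit 0x900318c0196bf00c620065a94023d003182100c600064c80012ac01933f00c610064cc0017bc03263100cd800c76c001388031dbf00cd900c7690033a8031d6500cea00a8e840333402a3a0004da00a8efc02a380333a400cce00cea9401da80333650076c006bc9000a5801af3f0076d006bcc401fa801dae5004ee0076b90033a401daff0076b00ce8c400cb0017ef0008ee005fb8401e34017ef100481005fac0013bc017ebf008ed005fbfc017e80301f00045d0020e))) (.node (.leaf (nat_lit 0x9000aa000b1f000100002d69400b5800a9e0002c5002d69000b4c00b4a0002a5002d2c000b4400b424002cf002ce9000b340057e4002cc0013cc00043800b320002cc001929000b2c0056e0002ca002c9c000b2000b1e4002c6002c580003c400b1a1002c5000edc00087400b120002c3002c28000b04006030002c1002c08000a7800aff0002be002bdc000398008760002bc002188400af0003d24002bc002bbc000ae800ae64002b8002b7c000ad800ad64000fe002b5))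 (.leaf (nat_lit 0xc00392c043930010e4010b98003ef404392101070010e49003f3804393000dce010e3c00438c041f2000d67010e38403fbc0438e400d86010e3c00361c043870010e100efe800438803f730010e2010a09004388043860010d3010e2c003c980438a001084010e18404380041d64010e000d9990041a004383000ebf010e0c00437c0355b000e77010df800437c038a6400f27010df94035340437e40106d010dec0038100437b0010de00f8d80039940437a101043010dd)))) (.node (.node (.leaf (nat_lit 0x9002d80010d6100b5f004358002d78010d6100b5d00434c402d70010cf000b5b004338402d68010ce100b59004328002d60010ca100b57004318002d58010c6500b5500430c402d50010bf000b530042f9002d48010be500b510042e9002d40010ba100b4f0042e8002d38010ba500b4d0042d9002d30010b6100b4b0042d8002d28010b7100b490042bc002d20010ae400b470042a9402d18010a6400b45004298402d10010a6000b4300429c402d080109f000b4100427)) (.leaf (nat_lit 0xfc03bd802e17f00ef500972c001be403486000f00009418403c0001c16400f0000dcb9403c0001bdf000f00009268003bfc03bfb000efd00b3880021580394a400e52006bfc003bf0035564006bf00ef19403bf001afa000ef000efcc00249801a8e0006b800ef99001bd803be7000ef800ef79003bd803bd6000d56006c08403bd001b030009f500a0790034bc02b86100e4100d2f94027900356a1005df00d5a8001b780356bf00e4000d5a9003bd00356a100d5600ef4)))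 (.node (.leaf (nat_lit 0xc002a00029ff000a7e00a7d90029f0029ee000a7b0060b8001938029ef000a7a00a79c0029e00297e400a7800a7780029d0029e25003ce0066990029c4019a7f0066900a7080019a4029de400a760044384010f4029db0003ee00a7690029d4029d2000a7300a7290029c4029c2000a6f00a6ec0029b4029b2000a4b00a6bc0029a8029a7000a680059c900299c0299b00059c003cb800299801662500a6500a26c002994029924003dc00a64800298c0298b000a6100a60)) (.leaf (nat_lit 0))))) (.node (.node (.node (.leaf (nat_lit 0x9001d8000a4e10075f002938001d7800a4e50075d002929001d7000a4a10075b002928001d6800a4a100759002919401d6000a42400757002908401d5800a42000755002909001d5000a3f0007530028e8401d4800a3b1007510028dc001d4000a3650074f0028c9001d3800a3210074d0028c8001d3000a3250074b0028b9001d2800a2e1007490028b8001d2000a2e0007470028ac401d1800a27000745002898401d1000a2600074300289c401d0800a2300074100288)) (.leaf (nat_lit 0xc0036440175f10055000a40c00359402903f00a4000d6490028fc0364650055000b9990016e002e66100d9100b9980015b002e67f00d6300b999403834028e640077c00e0e900383802d7e000e0e00e0d94035a003836500e0c005bfc00383002907000e0b00a7cc0032380382f000ab000ca29402ac80183e1007e30060f8000e040183ff009b50060f940382c0270a000e0b00e0a9401f8c0382e1005ab0098c800380002633f00dff0098c800363801df6000b9300d8e)))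 (.node (.leaf (nat_lit 0x800095c01937f006bd0064d940193401b7e4006de003938001b7401b730006db006da9001b6401b620006d5006d98401b6001b4b0006d7006d690019e401b56000672006d49001b4c01b4b0006b5006d39001acc01b470006cf006ce9001a7801b3a4006cd006cc8001b2c01b2a400432006c980010b001b225006c70060bc001b1c01b1a0006c5003938001b1001aba4006c3005068001b0801b064006c0003948001afc01afa0006bd00506c001af001aee4006ba006b9)) (.leaf (nat_lit 0)))) (.node (.node (.leaf (nat_lit 0x9403d8001d16100f5f007458003d7801d17100f5d00743c003d7001d0e400f5b0073e8403d6801cf2000f590073b8403d6001ce2400f57007358003d5801cd3000f55007339403d5001cb2000f530072bc403d4801ca6400f5100729c003d4001c9a000f4f007229003d3801c7f000f4d0071cc403d3001c6f000f4b0071b9003d2801c6f000f49007159403d2001c4a000f47007128003d1801c37100f450070cc403d1001c13000f43007049403d0801c0a400f4100702)) (.leaf (nat_lit 0xc0030c80403e500dd300fef840359c03fbf000f6d00eca940382004007000a1e00e08c4021ec036af000fef00dabfc036ac03fba40100e00d6cc403ff0036e7000fed00db98401718036e6000e2200db9fc03884036e610087d0057e800288c015fbf0057e00ff0fc0288c036de000db80100e94040380247f00100e00a139003b180403600100d00dd79403acc040360008e200a97c0035440345a10099f00a978002a58040321009a60100c9003ef00403200100b00f0a)))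 (.node (.leaf (nat_lit 0xc402d6c0111300043300444fc01144010d61006e300ae880010cc02ba3f0044400b5cfc02e6c005a7f00ae800b5afc010cc02e0f000b7000b29c00340802cea500865004fb84006e0013ee000508004fbfc0141c013ef1004240050294017b80140a400b17005028401a580140b1001b500424fc02cec0140bf0042400501fc006d402cf2400b21008a5c40110402c5b000b7d00b16900229402c5bf00b1600b7c9002db802c9e00041c0016d8401070005ce400ab70041c)) (.leaf (nat_lit 0)))))))) (.node (.node (.node (.node (.node (.node (.leaf (nat_lit 0x8400380001160000df00045c400378001130000dd000448000370001131000db00043c0003680010e1000d90004380003600010e5000d70004284003580010a0000d5000428400350001060000d300041c400348001030000d1000409400340001024000cf00040c400338000ff0000cd0003f9000330000fe5000cb0003e9000328000fa1000c90003e8000320000fa4000c70003dc400318000f25000c50003b9000310000ee1000c30003b8000308000ee5000c10003a)) (.leaf (nat_lit 0xc40084c00332500213004eb9000ae4013aff00665001aefc008e4013b3f0027900602fc0033001807f004eb00600fc009e80084ff002b90071dc400c5c0181b0008b800606fc01818022de4007c8006069002b7c01f1e500adf0060884010dc0182200031800608fc022e40182240087e005fe8400c74017f3100401007ccc002b7c01f321008b1007cc800135001f33100ca7007cbfc02310017f200031d007cb8401f2400c7a0002ba0031e9401dc801f27f00ade007cc)))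 (.node (.leaf (nat_lit 0xc004380035121010df00d3f8004378034f65010dd00d3b9004370034ea5010db00d389004368034e24010d900d25c404360034730010d700d1c94043580346f1010d500d18c4043500345a4010d300d09c0043480341a0010d100d03c004340033f24010cf00cf9c004338033c25010cd00ceec004330033930010cb00ce2c004328032f24010c900cbcc404320032ab1010c700c96c004318032564010c500c898404310032260010c300c89c4043080320b0010c100c82)) (.leaf (nat_lit 0xc00417803dba00105e00a5094040e00417a00105d00ceec00417403cc240105d0105c800372804177000eba0105d94027840355e40105a00d5784040d40355e00094600d57fc040d80355f000f2a0105cc0041700353e000f520103880040e004172100f520105cc003b140416f00105b00a95940416c032f2000fcc0105b9003c30040ea10105a00f0c9004168040da400de001059c00416403fab000c440105980036f004166400eb2010589403fa804162000bfe01058)))) (.node (.node (.leaf (nat_lit 0x840238000c9e0008df00327800237800c9a5008dd00325900237000c960008db00325940236800c924008d900324840236000c920008d700324c40235800c8f0008d500323840235000c8a0008d300322940234800c864008d100321840234000c860008cf00321840233800c820008cd00320c40233000c7f0008cb0031f840232800c7e0008c90031f940232000c7a1008c70031e800231800c7a1008c50031d800231000c771008c30031bc00230800c6e5008c10031a))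 (.leaf (nat_lit 0x9002688038ae0009a500d4880034c402697000b37009a5c00268c01866400e6a009a380039a801a72500e6900ab2c0039a4035ef0007c700e69940183c039a60009b800e69c0039a0026cb0009d200e6880039a00399f000e670078cc401d3c0276f0004ed009db900399c0276ff009db00ce7940339c0399e000dea00e6680039980379b000e660093ac00339403997000e6500ce9c002300034f7000d3d00b358403994034f6400ced00e65c001d8c0398b00092d00803))) (.node (.leaf (nat_lit 0xc0021a4021f600087c0087b900219c021f300087a008799002164021e60008770087690021d400ed600087400873c0021cc00ce65005920087390021c80201e40030000872c001660021ca50087100305c0021c4021c300086f0086e84021b8016224003100086ec0021a001c2640086d0044280021a0021b700086c0086b9002168021aa40086900868800219c0219a50086500507c00219401e42400864006eb800218c0218a40086100860800217c0217a50085a002fa)) (.leaf (nat_lit 0))))) (.node (.node (.node (.leaf (nat_lit 0x8001380006a65004df001a89001378006a21004dd001a88001370006a31004db001a7c0013680069e1004d9001a7c4013600069a4004d7001a6c401358006970004d5001a5c401350006930004d3001a48401348006920004d1001a4c4013400068f0004cf001a394013380068e4004cd001a3c4013300068b0004cb001a294013280068a4004c9001a29401320006864004c7001a18401318006860004c5001a1c0013100067f1004c30019ec0013080067a4004c10019d))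 (.leaf (nat_lit 0xc001ee00256f00047600780c4011d801b23f00bf500780fc01b2002fd30006d80097ec002fcc01b62000bda006d58001b6402f6a500bc300915840117c02456000bb700915fc02ed802456100980008438400d8c0202a00097e0080afc025f40202a400a8a00809940202802f42500bbe0079ec4013d002683000cf9009a0fc02680033e2500cf600ca490013d003293f00cf700ca4940271002b42100ad800ad0800100002b43f00ad000ad9c002710023aa500c6500ad8))) (.node (.leaf (nat_lit 0x8000640011e61004780018cc00104c011de00047600475c000d60011d200045500473c0011c8011c70001840041380011c000d5a1004700019390011c0011bf00046e0046d90011b0011af00046a004699000674011a6000468002c1c00119c0119a4004630046280006740118b00046100460900117c0117b0002a10045f80011740117200045b003b3c001168011661004590037b9000db4011660004580036ec00115c0115a4001a600456c00060c00d62400455002a0)) (.leaf (nat_lit 0)))) (.node (.node (.leaf (nat_lit 0xc0033800139f100cdf004e5c00337801396500cdd004e5900337001397100cdb004e3c0033680138f100cd9004e2c0033600138a000cd7004e2c40335801387000cd5004e1c40335001382500cd3004e0900334801383100cd1004dfc0033400137a400ccf004dc84033380136a000ccd004da940333001367100ccb004d7c0033280135e500cc9004d690033200135a100cc7004d680033180135a500cc5004d4840331001352000cc3004d484033080134e000cc1004d3))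 (.leaf (nat_lit 0x900375803d930007fb00f638003d8803d87000aa400f619003d8003baa000f5f00f5ec0024c40295e000a5800f5d9403d7403aff000f5d00f5c8403820019b60005b40066dfc019b403827f005b400ec8800326c03b27000de000ec98403d7003b2700075800e55940395403d72100c9b00f5c90024b803d73000dbe00f5bc003d6c02956000bba00f5b84038dc03d6e400f0200f5bc00252c03d6a000f5a00f31c00212c03cc7100d3b0080fc001af80203ff00f150080f))) (.node (.leaf (nat_lit 0x8002f4402f4210099300474900264c0252250099300bca9002f3802f36100467007dd8002f2801f77f007dd00bc98002f2c02f3a100bcd00bc89002f3002f2f00094a00bcc8002f2802f2640094800bca90015a402f23000a150094c900284c02f1e000a1800bc78002f1402f12500bc300bb6c002f0c02f0a400bb200bc28002f0402f0250046a00bc0c002efc02efa4004da00bbd8001e2402ef3000bbb007b69002eec02eeb0007db00bbb9002ee401ed2000bb900bb8)) (.leaf (nat_lit 0)))))) (.node (.node (.node (.node (.leaf (nat_lit 0xc400b80003bf0002df000ef9400b78003be4002dd000efc400b70003bb0002db000ee8400b68003ba0002d9000eec400b60003b70002d7000ed8000b58003b71002d5000ecc000b50003b25002d3000ec9000b48003b31002d1000ebc000b40003ae5002cf000eb9000b38003ae5002cd000ea8400b30003aa5002cb000e98400b28003a60002c9000e9c400b20003a30002c7000e89400b18003a24002c5000e8c000b100039a1002c3000e68000b080039b1002c1000e5))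 (.leaf (nat_lit 0xfc01fb80276a1009dc0061b9401fc0026fe400388009939400e2002522000388007dd8400e200119ff00993009cafc0252002727f007dd009c8fc0119c0271ff0038800bca940270801f8e100381007e380026d401f8ff009b4007e3c00244802c1a50081500880c002a3c0226a500816007979000b6801e5e00081100797fc01e5c0205e0008010058e800204c0220a000795008139400c5801a064006270068184032d401a060004ce00681fc022d401a0640059200626))) (.node (.leaf (nat_lit 0x8000908009170001b30023e8400910008fa4002430024280009040090240023f0023e80008f4008f200023b0023ac0008e4008e200020f00237c0008d8008d70002340014f9000434008d30002330014790008c8008c7000147000b480008c40050f0002300022f9000338008be00022e0022dc0008b0008ae4000d60021094008a80035600020e0022ac0008a4008a24002270022680003380089b00022500224900088c0088a00022100220c00087c0087a10021d00214)) (.leaf (nat_lit 0x84040640432a400fe3010cac0035c80432b000dc600fe3c00432403726001024010c984033600432640105b010c994040b0043220010c800ece940432003ba70010c801007800424403f22400fc800e669403f200431e0010c7010b2940431c0399b0010c700e5e8003d900431a4010c6010768403de40431a4010a4010c6c0041e80431b000dcd010c5c00431403bba000f67010c58403d1004316400f62010c5c0043100427b000e96010c48403224041fa0010c40107e))))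 (.node (.node (.leaf (nat_lit 0x9402b800100b100adf00401c002b7801006500add004019002b7001006500adb004009002b6801002100ad9004008002b6001003100ad7003fec002b5800ffa000ad5003fd8002b5000ff3100ad3003fbc002b4800fef100ad1003fac002b4000feb100acf003f9c002b3800fe6100acd003f98002b3000fe7100acb003f8c002b2800fe2000ac9003f8c402b2000fdf000ac7003f79402b1800fde400ac5003f7c402b1000fdb000ac3003f69402b0800fda400ac1003f6)) (.leaf (nat_lit 0x90019f40245ff0091700b7ac00328c02de3000b780090c9002de002b8e400b9700b789402de8019f640043f0067dfc019f402def000b7900c7f9003b7c02de6000edf00edec003b78034470008b100ede9401dc003b7b000edd00c81c0038cc01b56000edd00e51900210c03b76000edc00a699403b7001b07000edc00edb900292403b6e400eda00ed98403b5c02626400ed7009d88003b5803b57000e4e00ed5c003b5402bd6500674009d884034780276200050b009d8))) (.node (.leaf (nat_lit 0xc0028bc015e6100a2f008789001600028be50059100a2e80028b8021d7000a2e00a2dc0028b0028ae40063b00a2bc0028a8012a6000610004c780028a801842100a2a004c790012b8028ab000a290093c9002414012930004bd00a2894023ec01292500a28008fc80028a00289e5007f900a27c002898015c7000a25005489002894024ea400a2300a2280021f40288f0008e100a1c840288802873000a2100a2090028340287e10059d00503900225c01676500a1e00896))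 (.leaf (nat_lit 0))))) (.node (.node (.node (.leaf (nat_lit 0x8401b80009960006df002659401b78009921006dd002648001b70009931006db00263c001b680098e5006d9002639001b600098f1006d700262c001b580098a4006d5002618001b50009865006d3002609001b48009821006d1002608001b40009831006cf0025fc001b380097e5006cd0025e9001b300097a1006cb0025e8001b280097a4006c90025d8001b20009771006c70025bc001b180096e1006c50025b8401b100096a5006c3002598401b08009660006c100259)) (.leaf (nat_lit 0x90028b0017e3f00dd9005f8800377c017ee00078d00ddf90026740377f00074900ddf80023740377b000ddd00ddcc00246002b8e500a4400ab390016d402ace10055700ab380035c802acff00d7100ab3c0035ec01f1e100384007db80026ec01f6ff007db009bac00186001f6b000d78005fdc0033b4035e2500d780060384035e00186200055c00618fc035e401862000ddb00cb1c00376c036fe400ddb00dda90015740329e50055d00d6a840376c035abf00ca700d7e))) (.node (.leaf (nat_lit 0x80008c8017c210064f005f084017d400ff21005eb00331800082c00cc7f005ec003319400cc40193f00064e0064d9001930018c200064b0064a8001924019230006470064690019140191200063f006458401910018f3000643006429001894019064006400063f80018f8018f64006100063c8001828018ee40063a0063980018e0018de4006360063594018cc0188e40061f0063280018c4018c30006300032e94008c0018c240062d0062c80018ac018aa40062900628))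 (.leaf (nat_lit 0)))) (.node (.node (.leaf (nat_lit 0x8003b80019f2100edf0067b8003b78019ee100edd00679c403b70019df000edb006779403b68019d6400ed9006758003b60019d6500ed7006748403b58019d2000ed5006748003b50019cf100ed300672c003b48019ca400ed1006718403b40019c6000ecf006719403b38019c2000ecd00670c003b30019be000ecb0066e9403b28019b6400ec90066d8003b20019b7000ec70066bc003b18019aa000ec5006699403b10019a2100ec300668c003b080199f100ec100666)) (.leaf (nat_lit 0x9002b2c03fcb000ff200ab6c0039b003fca500fe000ff28003cbc03fcb000d5f00dd48003fc402e6a400ff1009199403fc40307b000ff100c10c003fb403886500e2100ff0800288c03fc3000fef00fee8403fb403e3e400fed00fec8003fac03e13000feb00de69003fac03bbb000d1000feb9003fa803aca000fea00a2e8003fa402262500ecb00a319002ff8028c6100dd100a318001be4028c7f00f3e00a318003fa003a62500dd100fe8c003f9c03b3640091600fe7))) (.node (.leaf (nat_lit 0x800137c00ccbf00a2800b77fc0065001377f004a5004dcfc00cc802dd3f008fc0043ec400cd00137b000906004defc01290006a3f008fb004dffc0137802417f0090600cd0c0012400136b100490001a7fc0136803087f001a700c209000ac4012425002b1006e68401ee001b9bf00490004dbfc01b9801eca50048d006bbfc0307c00ac65004ef0048dc40301c013bf000481004effc0306801aeff0048d00cec840301402eb600048100badfc013bc03023f00bad00c06))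 (.leaf (nat_lit 0))))))) (.node (.node (.node (.node (.node (.leaf (nat_lit 0x80007800026b0001df000998400778002660001dd00099c400770002630001db0009890007680025e1001d90009780007600025e5001d70009690007580025a1001d50009680007500025a0001d300095c400748002530001d1000948400740002520001cf00094c4007380024f0001cd0009384007300024e0001cb00093c4007280024b0001c90009280007200024b1001c700091c000718002464001c500091c400710002430001c3000909400708002424001c100090)) (.leaf (nat_lit 0xc000d64011a3f0046800962fc00d6402f3e40074600920900248001a2b0009220093e80033880248e00092300569c002f1c014ca000bcd00be38002f8c02f23100699009fc8401018027f2000545009fcfc027f002baa400370006999400dc001aa3f0099800699840159401aa2000392006a8fc01aa00265e00056900ce2c00147402f2200046a0028884011a801d025008300046afc00a2002f4ff0074000bd29402f00020c3f0046a0073ffc020c002f5300095e00a4e))) (.node (.leaf (nat_lit 0x800045c0045a500066001169000454004520001130011290004440044200010f0010ec400148002df00010c000b7fc002dc0042e00010d0006c90002d40043700010c0010b80001480042a40010900108800041c0041a400105000e780004100040f000102001019000400003fe0000fb0010084003fc003e30000fe000fd9000378003f240009e000fb8000260003ea4000f9000f8c00032c003e60000f7000f69000324003df0000f5000f490002b8003d20000bd00071))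 (.leaf (nat_lit 0x9002b2404263000c930109894041a003e82000a9b00fa08003e800425e400d0301097c00425c02de7000c7f0109794039380425e000d2c0109690041f80425a40109500e9f8003cfc0425700100a01095c003a5004253000fc900df1c0037c403f76000df20109484032f80425240108f01094c0039a80424f000fdd00fc99002a500423e100a9400fd9800424c03f67f00fd90109290041800424e40109300c76800424c0424b00106f010919004240038e300104f01090)))) (.node (.node (.leaf (nat_lit 0x940278000e424009df00390840277800e3e0009dd0038f940277000e3a1009db0038e800276800e3b1009d90038dc00276000e365009d70038d900275800e371009d50038cc00275000e324009d30038c900274800e2e0009d10038b940274000e2a4009cf0038a840273800e2a0009cd0038ac40273000e270009cb00389940272800e224009c900388840272000e220009c700388940271800e1e4009c500387840271000e1e0009c300387c00270800e1b1009c100385)) (.leaf (nat_lit 0x800337003a6e100e8000e9b900328803a6f00070f00e9b9403a68039f7000e9a00e27c001fcc01e8a500e9900ac38003a6401fbe5007a200e9984021c403a6300082800e98c0030b403a5f000e9700a4b8003a5c03a5a400da200e979402c7c03a5e400d6900e9694034ac03a5a10062100d2d8001b1c034b7f00d2d00e82c001d7002b6b000648009f09400e5c01c9e4009ee0072784033f001c9e000ad700727fc01c9c027b6100e8d009ee8001894027bbf00e8e009ee)))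 (.node (.leaf (nat_lit 0x90025c4025c21005dd0097080025bc025ba00096d0096cc0025b001b9e5005e50096c94025ac00d9300096b0096a9000d88025aa50096900937c0025a4025a24009670094f80025980259600096400963c002588025864009600095f80025700258210095f0041090025180257a40095d0095cc001e840257600095b0095a9001e7c0256e4009590095890025580255600095400953940254802513000952009519002508025460009500094fc00253c014370005280094f)) (.leaf (nat_lit 0))))) (.node (.node (.node (.leaf (nat_lit 0xc4017800081b0005df0020694017780081a4005dd002069401770008161005db002058001768008171005d900204c001760008120005d70020380017580080b0005d5002008401750008020005d300200c401748007ff0005d1001ff8001740007ff1005cf001fec001738007fa4005cd001fec401730007f70005cb001fd9401728007f64005c9001fd8401720007f20005c7001fcc401718007ef0005c5001fbc401710007e70005c3001f99401708007e64005c1001f9)) (.leaf (nat_lit 0xfc007a8024d3100a440055bc00240c0156ff003460055a8400cf40156ff0091c0055b8000cf4016c3f005b00091d800249801592500d6e0092480035b8035b710057e00345c00078400d17f003450057ffc00784024ce00091f0092cc0035b00171e0009310091f940247c035b200057c00d6cc0035ac035aa000cb100d6a90035a8022be400ca700d6ac0031f4035a7000d6800d6790015b00359f000bb200d6680018a40359b000d6500d6480015b00358e4005b800d63)))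 (.node (.leaf (nat_lit 0x94013a00151a4005450052890015040150200053c005418401500014e700053f0053e900147c014f64004250053c80013f0014ee40053a00539c000800014ea4001fe00538c0014d8014d65002690032684014d400c9a40020a00535c000860007ce00050f001f380014d00143e100534001f39001478014d24005330053280014c4014c240052f0052e80014b4014b300052b0052a80014a4014a300050d005289400734014a24005270052680014940149240052300522)) (.leaf (nat_lit 0)))) (.node (.node (.leaf (nat_lit 0x84037800165b000ddf00595800377801657100ddd00594c00377001652500ddb00594900376801653100dd90059384037600164a500dd700591840375801646000dd500591940375001636100dd30058dc40374801633000dd10058c940374001632400dcf0058c90037380162e000dcd0058b84037300162a000dcb0058a940372801626400dc900589840372001626000dc700589900371801622000dc500588c4037100161f000dc30058794037080161a100dc100586)) (.leaf (nat_lit 0xc00212803eb65007f700fadc003eb003eae100e7a009c69400e1c020fa4009c60083e8403ea8020fbf009c50083ec003ea802a06400faa009bf800271403eab000bd800faac003ea40295a100eec00c399003bb0031e2400fa900eec8003ea403ea2400c7800fa9c003ea002a2a500a7f00fa8c003e9c03837000f4f00fa78003e9c03e9a400fa400fa794039a003e9e400d9000fa6c00201403607000fa600898940360403e9a400d8e00fa5c0038280345e500e0a00fa5)))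 (.node (.leaf (nat_lit 0x9001dd40330a500cc000685c003300032fe400cbf0062b9001a08032fe400cbe00cbd80032f0032ee400ca600cb7c001364032de000cb600cb5c002874032d7000cb5004e49401350032d7000cb400cb3c0032c802ebe400cb200cb190032c0027de000cac00cabc40132402ddff00ca800b778402dd00137e00043e004dffc0137c02dd7000b67004dc94032a4013730004dc006ba80013280137a100caa004dec001338013665004d900caac0032a4032a2000ca700ca6)) (.leaf (nat_lit 0)))))) (.node (.node (.node (.node (.leaf (nat_lit 0x8000f80005361003df0014c8000f78005331003dd0014bc400f700052b0003db0014a9000f680052a5003d9001499000f60005261003d7001498000f58005265003d5001489000f50005221003d3001488000f48005221003d1001478000f400051f1003cf00146c000f380051a4003cd001458400f30005160003cb001459400f28005124003c9001448400f20005120003c700144c400f180050e1003c500143c400f100050b0003c3001428400f080050a0003c100142)) (.leaf (nat_lit 0x84018dc00a4bf0075a00229fc00a48018e3f006370075bc401db801cc70002970073194020f401cc64002e8007319400b9401bee40076e006fb840203401bee000419006fbfc01cc401dbff006fb008348400bc801dba0008550076efc0215001dbb000abd00b71c402cc0019770004200065dfc02cc4019765009ac00a7d840110c029f6000b8100a7dfc029f402e0300065c00b1bc0016cc02c67000b1800652c0025c002c62500b19009ac800182402c6e4006c700b18)))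 (.node (.leaf (nat_lit 0xc000d5400d524003530035280004c000d4b000351003509000d3c00d3b00034d0034c8400d30006aa4001360034cc00047c00ace40034b0034a800047c00d2e0001780011b8000d28005e210034a0011bc000d2400d22400347003419400d1c0080b000347003468000d1400d1250020300344c000d0c00d0a400341002028000cac00d070003400033f8400cf80080b00033e0014b9000cf800cf700027e0033cc000cec007e200033a00339940074400ce700033800337)) (.leaf (nat_lit 0x80043c8043ff0010d1010ffc0043f8043df0010dd010fe80043f8042464010de010fe94041b4043fa400fbf010fdc0043f40413f001090010fd9403dc0043f60010f6010fd9003c78043f30010fc0109ac004300043f25010d5010fc80043c4043f30010fb0100ac004254043ee0010fb010c89004328043ee500fe3010fbc004030043eb0010fa010328004228043ea100ec6010fa90042dc043ea0010b2010f990043e403f0a1010c7010f9900422c043e7001094010f9)))) (.node (.node (.leaf (nat_lit 0x9402f80011ba400bdf0046e8402f78011ba000bdd0046e8402f70011b6000bdb0046dc402f68011b3000bd90046c8002f60011b3100bd70046bc002f58011ae000bd50046b9402f50011aa100bd30046a8002f48011aa100bd1004698002f40011a7000bcf004689402f38011a2400bcd004689402f300119e400bcb004678402f280119e000bc9004679002f200119a000bc7004669002f1801196100bc5004658002f1001197100bc300463c002f080118e100bc100463))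 (.leaf (nat_lit 0x840258c019d600035a00675fc019d402593f0035a00ed88003b6403caf00095a00f2bc401af8034ef000f1500d3bfc034ec03c53000d5600e7794039dc03cab000d4f00f2a80036d803cab000f2900f288001b34036da500f2800da8800265003ca21007d300f28c003c9c02d0e500f2700d4d800256403c9e00078300f269002cf803c9b000d6600f25c003c9402eca000f2500a8b9003c9403c9300078f00f24c003c8801daa400bbc00f229003c8c01e2e500e9400f22))) (.node (.leaf (nat_lit 0xc002b8802b86400ae0009f5c002b7c02b7a400add00adcc002ac402b77000adb009c69002b6c02b6a1008eb00ada9002b6402712000ad900ad8c002b5c02b5a400a1700ad6800176002b5650098900ad480017d402b53000ad300ad294010e002b4a100aa200ad2c002b4402b42400acf006d09402b3c02a7f000acf00ace8002b3402b33000acb00aca8002ac402b27000ac800ac78402b1802a7e400ac600ac5c002b1002b0e400ac200ac19402b0002a07000ac000abf)) (.leaf (nat_lit 0))))) (.node (.node (.node (.leaf (nat_lit 0x9001f8000b0f1007df002c2c001f7800b0a4007dd002c29001f7000b065007db002c09001f6800b021007d9002c08001f6000b031007d7002bfc001f5800afe4007d5002bf9401f5000afa4007d3002be8401f4800afa0007d1002be8401f4000af60007cf002bdc001f3800af20007cd002bb9401f3000aea4007cb002ba8401f2800aea0007c9002ba8401f2000ae60007c7002b9c401f1800ae30007c5002b88001f1000ae31007c3002b7c001f0800ade0007c1002b7))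 (.leaf (nat_lit 0x94038a4034e7000e2900d76900183002cde5009b600b378001a70018324009b60060cc003688026da5009b8004189000e0c01063100c3a009b8c001970026e2000609009b8fc01060026e7f00b1b009b8c402afc026df0003f5009b79402c4c026de400a81009b7fc02c6800e0ff00ac0009b79401064027564007e7009d58402a04027560003d5009d5fc02a0802756500c3200dbc940126402752400c39009d4fc030e002752100dbc009d49001a8401bdb0006f70072f))) (.node (.leaf (nat_lit 0x8001d8c01d8b0004f8007629400a6401d8b0007610068d9001d8401d8240075f0068b8001d7c01d7a40075d0075c8001d6c01d6a000759005fa9001d6001d5e000756007559001d0c01d4f000676007538001d48013e300075100750c001d3c013b640074f0074e9001d34013b200074d0074c9001d2c01d2a000749007489401d1801a2b00068a005468000a2801a321007470068cc000a38019da50067600747c001d1801d16000744007439401d0801c5f00074200741)) (.leaf (nat_lit 0)))) (.node (.node (.leaf (nat_lit 0xc003f800213b000fdf0084b9003f780212a400fdd00849c403f7002122400fdb008489003f680210f000fd9008408003f60020fe000fd70083e9403f58020ef000fd500839c003f50020b3000fd300826c403f4802092500fd1008249003f4002093100fcf00823c003f380208f100fcd00822c003f300208a500fcb008209003f2802082400fc90081bc003f200206a400fc7008148003f1802053000fc5008129403f100203e400fc30080f8403f0802032500fc10080a))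 (.leaf (nat_lit 0x9403ba4040b200102c00ef8c0040b00284300102b0102a8403bf403e4e400efd00dbe9403bf40247a00102900d1b9003bfc040a6000dee00930c4022640246b000d140091afc024680400e100dee01028c0040a003e9640093000fa380024c0040a2400fa101028c401c10029cb000f4400a72900409c029cbf00f4300a728003cdc0409e40102700f438403d040409f0009ac01027c00285003e6b000f1000a1480028500409a40102600aa490028280409b000b0601026))) (.node (.leaf (nat_lit 0x8401054010d3f0041d00b11fc02ca402c43f00ab900b0ffc010d002c3bf0041500b28940315401a9a0006a600b51c40129802adf000c5500ab7fc02adc0315310044200a3dfc02df8028f700044200708fc02dfc01c22000ccb0086980010b4021a210042d0086dfc02d2c021a3f0086d00b4a9402d3001ba240042d006e8c0014e402d33f006e800b4d840113002d32000b9100b4cfc02d3002e42000b2500b508002d4002e4b00053d00b92800147c02c26100412005e6)) (.leaf (nat_lit 0)))))))))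
noncomputable def c4Ft0 : BT Nat := .node c4Ft00 c4Ft01
noncomputable def c4Ft10 : BT Nat := (.node (.node (.node (.node (.node (.node (.node (.leaf (nat_lit 0x84001000004a00003f00012c4000f80004700003d0001180000f00004710003b00010c0000e8000425000390001090000e0000431000370000fc0000d80003e5000350000f90000d00003e5000330000e84000c80003a0000310000e94000c00003610002f0000d80000b80003710002d0000cc0000b00003250002b0000c90000a8000331000290000bc0000a00002e5000270000a90000980002a1000250000a80000900002a5000230000990000880002610002100009)) (.leaf (nat_lit 0xc402be8025b700040d0096d9002f6c025b7f0096d00afbc002be00298b00040a00a78c4010280297e50040a00a9dfc029e002bd3f00a5f00af39400fd80102a50046e00a9e9002f8002a7a00046e00ae384011b80100e400ba000ac8900312402b1ff00af100a9dfc0102802b0650052b00be884013a402fa2000ce400be894011c4014aff00a9e00bdffc02b8c02f7bf0040300bdd9400fdc011b3f00bd700ac8fc02f5802b1e500181003f7fc02bc800fdb100471003e3))) (.node (.leaf (nat_lit 0x8404100025ae00103f0096b84040f8025aa10103d00969c4040f00258e40103b00963c0040e80257a0010390095dc0040e00254e4010370094b84040d80251a00103500946c4040d0025170010330094590040c8024ff00103100932c0040c0024c640102f00930c4040b8024bb00102d0092ec4040b00249310102b00920c0040a8024821010290091e90040a00246b00102700916c0040980244b0010250090a94040900241240102300904c0040880240250102100900))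 (.leaf (nat_lit 0xc002944040e6500bf1010398004094040e7000bf701038c0031dc03eca500fa9009919003bb0026461004b600991800274c02647f00c78009919403cf40264210076c00990800168c02643f00df800990c0040dc03c46000fb701037840262c040de400de1010378002784029b61009e100d7390040d802786001036010359003d48040d6500e0f010359403e08040d2000d840103480040d0035fe50103400d5ec0040d0040cf000b6d00d5fc003aa0036bf000daf00f46)))) (.node (.node (.leaf (nat_lit 0x900210000ba710083f002e8c0020f800ba240083d002e890020f000b9e00083b002e794020e800b9a400839002e684020e000b9a000837002e6c4020d800b97000835002e590020d000b96500833002e490020c800b92100831002e480020c000b9250082f002e390020b800b8e10082d002e380020b000b8f00082b002e2c4020a800b87000829002e184020a000b86000827002e1940209800b82400825002e0840209000b82000823002e0940208800b7e400821002df)) (.leaf (nat_lit 0x9002b94037f6400e4800ae584037f402b960005a700ae5fc037f802b96400e4800dfe800392001e6a400e4700e46940324803912100a9800e468003914039121009e700a5080033a80263640098d009e780026340390f000bbd009ea84033a80390f000e43006e4900390c027ab00095600e43c00390802e3e5009e800e428001c780390b000e41009599003904027d25009e400e408001b7803902400d2500e3fc001910038ff00092300e3ec0038f4038f2000e3300e3c)))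 (.node (.leaf (nat_lit 0x9001f3001f2e1005fc007cb8001f2801f260007c8007c7940182001f1e5007c6002c2c001f1801f164002bf007c59401f0c01dda0002b8007778401f1001ddf0002bc0043094010c001f130007c3007c280017f401f064007c0007a58001efc01efa0007bd007bcc001eec01eea4007b9007b88001ed401ee61007b8007b2900111801ede4007b6007b58001ed001ecf0004f10078990013bc01ec60004f2007b19001ec001ebe0007ae007ad9001eb001eae0007aa007a9)) (.leaf (nat_lit 0))))) (.node (.node (.node (.leaf (nat_lit 0x8001100005b710043f0016cc0010f8005b240043d0016cc4010f0005af00043b0016b94010e8005ae4004390016bc4010e0005ab0004370016ac4010d8005a70004350016994010d0005a640043300169c4010c8005a30004310016884010c0005a200042f00168c4010b80059f00042d0016794010b00059e40042b00167c4010a80059b0004290016694010a00059a40042700166c401098005970004250016580010900059710042300164c0010880059210042100164)) (.leaf (nat_lit 0x80030f001a4e400c3200693840077001282000570004a0fc01280015bff0057000c4794019e002bde40050c00af784021e402bde0004f900af7fc0340802bde50042400af6900184402bda100b2100af6fc02ce802bdb10080000703c00116001c0ff0070300ba8c400ba401d5f00084300757fc01d5c0210a100757007968001d60021820007e800758c001ac402183000a270084ac40138402187000cd600861fc0218403357100615008109000bb40204310088200838)))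 (.node (.leaf (nat_lit 0xc000f1000f0e0003c2003c194008cc00f065003c0001e9c000f0000efe0003be003bdc000ef000eef0003b9003b884005d0007a6400140001748000edc005aa4003b7003b680005c800edf00034b003b78000ed400ed210017b003b39000dfc00ece000376003b29000ec400b320003b0002d78000ebc00ebb0003ad003ac9400eac00db20001eb003abc000ea800ea70003a8003a79000e9800e965003a4001aac000e9000e8f0003a2003a19000d3000e8300039f0039e)) (.leaf (nat_lit 0)))) (.node (.node (.leaf (nat_lit 0x900310001276000c3f0049d94030f801272500c3d0049a90030f00126a100c3b0049a80030e80126a500c390049990030e001266100c370049980030d801267000c3500498c4030d00125f000c330049784030c80125e000c310049794030c00125a400c2f0049684030b80125a000c2d0049694030b001256400c2b0049584030a801256000c290049584030a00124e000c270049394030980124a100c250049280030900124a100c2300491800308801247100c2100490)) (.leaf (nat_lit 0x900373003cff000d2100f3f8003cf803746400bfe00f3e9403b2c03cfb1003320081ec0023f80207bf008fd0081ec0037e4030aa400df800f3dc003cd003cf7000f3d009f28003ce803cf6400f1800f3c940215803cf2000f3c00cd4c003cf002a7b000f3b009e9c0027f403cee000f3b0072f94030ec03cef10082e006f8c00127801be3f006f800c43c003ce801f12400f3a00c2a8001be003ceb000d8900f3a80022ac03ba610058800a3280021b8028cbf00a3200dc5)))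 (.node (.leaf (nat_lit 0xc002d5002d4e40077e00b529002d4402d42000b4f00b4e9002d3402d32000b4b00b4ac002d2402d2240044b00b479002d1802d16000b4400b439002d08028ea500b42004e3900282002d07000b400089b84013f402d02400afa00b408002bd402cff000b2e0053c8002cf802cf6400b2c00b3ec002cf002cee4005ee00b179002cec017ba10069600b3b9002c5c02cee000b3a00b21900184402cea400b39005058002ce002cde000b3600b35c002cd002cce100b3200b2a)) (.leaf (nat_lit 0)))))) (.node (.node (.node (.node (.leaf (nat_lit 0x8000900002e650023f000b890008f8002e210023d000b880008f0002e210023b000b780008e8002df100239000b6c0008e0002da000237000b6c4008d8002d7000235000b590008d0002d7100233000b494008c8002d2400231000b4c4008c0002cf00022f000b384008b8002ce00022d000b3c4008b0002cb00022b000b280008a8002cb100229000b1c0008a0002c6500227000b19000898002c7100225000b0c000890002c2500223000b09000888002c2100221000af)) (.leaf (nat_lit 0x94014b401397f0072d001abfc00a080139b1002750052dc001c48014b6500cdc0052dfc0139401cbbf0052d007119002e9801c4a500a8700ce5940337001c464004e500711c0012c4028f71004b10044294012c401ba6400c5b006e9c0018f001c3e4004c50070f840139c01c3ff00cdd007119401314009d6000c6a0070a800139c01c27f00a3d00c6efc01108031b7f006e900c6c80009c8012c610027200198c40139c0327f1004c6004e7fc01c3c0326bf0027500c99)))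 (.node (.leaf (nat_lit 0x800062c0062a40017600189c0002740062700018800187800061800617000185000bac00039c006165000850018590006100060e000182001819000600005fe00017e0017d94005f00020f00017c0017b9000200005ee5001790012590004d4005e20000790013784005e8004df00007d0009d9400274005eb0001790017880005dc005db00017500174c0005b4003e24001730017280005b4005ce1001720016ac0005c4005c24001180016f90005b8005b600016c0016b)) (.leaf (nat_lit 0x80038f8042aa101017010aac0042a8042a6000f30010a990042a404246100d34010a98403d9c03d12400f670102bc0036e003bfe400eff00f68840346c03da200091e00f68fc03da0040a7000eff00c869003da403bfa40103000f67c00418403da7000f6900f859403da4042a2001030010a880042a003a8a5010a800efec0042a003c4e100f7f010a7c00429c02f824010a700edf8003b840429f000baa010a69003c2c03706500f0b010a58003984042960010a500d96)))) (.node (.node (.leaf (nat_lit 0x940290000ef2100a3f003bc80028f800ef2100a3d003bb80028f000eee400a3b003b984028e800ee6000a39003b994028e000ee2400a37003b884028d800ee2000a35003b8c0028d000eda100a33003b6c4028c800ed7000a31003b5c0028c000ed2400a2f003b4c4028b800ecf000a2d003b3c4028b000ecb000a2b003b290028a800ecb100a29003b184028a000ec6000a27003b1c40289800ec2500a25003b0c00289000ebe500a23003af900288800ebf100a21003ae))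 (.leaf (nat_lit 0x900379c03ad20009f100eb38003acc01d3b000eb300eb2c003a2803ac700065400e8a8003ac003a22400eb000eaf800197c03ac2100d2a00eafc0030b801ca710072700653c0009fc0194ff0065300728c001b240357b000d5e00eae80027a003abb000eae006c98403ab003aba400c2d00eaec003ab403ab2500d2d0072080025c401c8250072000eac84027a003ab2400d2d00eac9003aac0328a500eab00e9bc003aac03a9f00090200eaac003aa80192a000d4700d24))) (.node (.leaf (nat_lit 0xc002368022db0008b2008dd9002360022d24008b00058f9001658022c2100596008c390023540126e5008d5008c28400c7c0230a0008ca008c2fc023240230a4007e9008d8c000fa401fb31008d5007edc000c8c01fb61005c4007ed8000f6801fb7f008d6007ed8400c8000b221007ea003209400f6c01fabf008cd002c8fc00c8001faff008ce007eac000c7c00b6b10031f00819fc00b6802333f00819008cbfc00c7c02062000816003db840203800f6f00045b0054c)) (.leaf (nat_lit 0))))) (.node (.node (.node (.leaf (nat_lit 0x9401900008b240063f0022c84018f8008b200063d0022c90018f0008ae00063b0022b94018e8008a64006390022984018e0008a60006370022994018d8008a24006350022880018d0008a310063300227c0018c80089e1006310022780018c00089f10062f00226c0018b80089a50062d0022590018b00089610062b0022580018a8008965006290022490018a000892100627002248001898008931006250022384018900088e00062300223c4018880088b00062100222))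 (.leaf (nat_lit 0x90036500364f000a6700d94c0019680364b000d92007d3840263c0364a400d6700d92800358c03646000d9000d8f900360403643000d8e00d8d8401a6c03636400d7200d8d800363001a9a400d8c009e38002d4403632400d8b00a4590015a80362f00098b00d8b840362802052500d8a0089ac0036280204e400d89005b08002488036270007c400d8980036200361f000c0f00d86c00241001bbf0006eb00d6e80021900249a00056400864c0019280240a10089f00902))) (.node (.leaf (nat_lit 0x80016dc014e64005b7005b68001500016df0005b5005b490016d000d12400203005b480016cc016cb0005b100218c0016c0016be4005ae005ad800080c016b70005ac005ab90016a8016a65005a8003a3c0016a00169e0005a6005a5c0016900168e40054d005a2c0016840168300059f0055790015780167f00059e0059d90016700166e4003ad003018000eb40166f00059a0059990016600165f0002fd00598900163c0165b00058000596900158c0165600055a00594)) (.leaf (nat_lit 0)))) (.node (.node (.leaf (nat_lit 0x80039000177f000e3f005ddc0038f801773100e3d005dbc0038f00176e400e3b005db94038e80176a500e39005d7c4038e00175a500e37005d5c4038d801753000e35005d494038d001752400e33005d490038c80174e000e31005d294038c001746400e2f005d184038b801746000e2d005d184038b00173e000e2b005cf80038a80173b100e29005cd80038a001736500e27005cc800389801733100e25005c794038900171a400e23005c684038880171a000e21005c6))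 (.leaf (nat_lit 0xc003f0c027b3000fc6008248003710031570009e300fc78003f1003f1f000fc700f74840220c03f1e400dc400fc79003f18027b2000d8a00fc68003f1402ce6000d1800fc5900212803f1700083a00fc5c4020400349700061500d25fc03494039cf000fc400f1c9003f1003f0e00088300fc4c002aa803f13000de900fc28003f0803ccf000fc100edd9003f0402f43000c8100fc1c00210003efa400fc000a8a8003ddc03f03000f7200fc0c003efc027ce000fbf00fbe))) (.node (.leaf (nat_lit 0x90034100285a500d0400988940334801a1a4004e000686fc0334c01a1b100242002a6c001a1000a9bf002a600683fc01a1001e464005ed00d05900341401a12000d0500cd2c0034100340e000d0200d0194019e00340a500cd400d01c001d8803403000cff00cfe80033f401d2a00074e009f184027c001d2a400cfd00cfc8401d0c00e6200028900398fc00e6001d13f00289009ef80027c0033f6100cfc009edc0033e4033e2400cf700cf6c0033d401d2e400cf500c05)) (.leaf (nat_lit 0))))))) (.node (.node (.node (.node (.node (.leaf (nat_lit 0x84005000019a00013f00066c0004f80019710013d00064c0004f00019250013b0006390004e80018e1001390006380004e00018e5001370006184004d8001860001350006194004d0001821001330006080004c8001825001310005fc4004c00017b00012f0005e90004b80017a50012d0005d90004b00017610012b0005d80004a8001765001290005c90004a0001721001270005c8000498001721001250005bc4004900016b0001230005a84004880016a0001210005a))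 (.leaf (nat_lit 0x900113401eabf00a0c007aa94029a0022fe10031a0059780022fc0165ff00597008be8002300017fb1007f0007c8c000b2401f23f007f1007c89001f7c018120007df0061b900186c01f22000619008e3840186402acb1007cc00616c0010040185a5007c70061690018200185bf00adf006169001a700185e400617008b88002144022e24008b80069c8401b38022e24006060061bc0017f4033b6500ced00605c0020f001e9a40092500aae90020a001b8a100aae006e2))) (.node (.leaf (nat_lit 0xc0000ac0015f00005500054c00014c000f24000530005290001440007a00005100052c000144001430000230004f80001380013700004c0004b80000ac0012b0000490004890000840011f0000460004590001100010f0000420004190000a4001060000400003fc0000f8000f610002c0003d90000c8000b250003c0003180000a8000f300003b0003a90000e4000e200002900038c0000dc000da4000350003490000cc0005e0000320003190000c00007200002f0002e)) (.leaf (nat_lit 0x90041d003b16100a9201074c0041d0041ce100fbc01073c0035340386300107200d4dc003860041ca00107200e9290034e8041ca000a8700d3680034d8041c6000d3800c04900301003802500c040107180041c402a1e50107100e00c0041c403bab000f8900ac9c00380003e27000ff501070c0041c00374e00107000fbd9003644041c3000a910106f8403ac8041be400ff70106fc003390041b700106e00be59002aa8041bb100f0700d3ac001a9c034ebf00d3a00f08))))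 (.node (.node (.leaf (nat_lit 0x900250000d3610093f0034d80024f800d3700093d0034a94024f000d2640093b0034984024e800d260009390034990024e000d220009370034880024d800d1e1009350034680024d000d1b0009330034594024c800d1640093100345c4024c000d1300092f0034480024b800d0e50092d0034290024b000d0a10092b0034280024a800d0b10092900341c0024a000d0650092700340900249800d0210092500340800249000d025009230033f900248800cfe1009210033f)) (.leaf (nat_lit 0xc0039d80268f0007da00e7580030300332a100e7400cca80039d003032500e7400b38c0039d002c4f000e7300810c002dd80367b000c9200b7694030b40194b000a4b00c2d94029ac02d5e500bf600bf08002a5402fc2100c8000bf0c0021d802fa6400bc300a9c940376002fae40068700beb840134c02fae000cc200bebfc0330402fae40064700d3ec401178027d3000bb5009f4fc02ed0027d250064700bb5c00246c01f565007d7008f58401140023d60003b6008f5))) (.node (.leaf (nat_lit 0x8000e980164e1008dc00593840163c00c960001e800325fc00c9401643f001e8008db8400e98023724008da008d98400e94023660008d8008d7900233800f6e0008d6005c48000f680235a5008d6008cdc002358023564008c9008d594008d400c8a40065900322fc00c88019624008d40065580023500234e4008d2008d180023400233e0008ce008cd8002328023270008c8007739002320010de4008c700772800231c0231a0008c5008c4940230c0127b0008c3008c2))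 (.leaf (nat_lit 0))))) (.node (.node (.node (.leaf (nat_lit 0x90015000073310053f001cbc0014f80072e40053d001cb90014f00072a00053b001ca94014e800726400539001c984014e000726000537001c9c4014d800723000535001c890014d000722500533001c790014c80071e100531001c780014c00071e50052f001c690014b80071a10052d001c680014b00071b10052b001c5c0014a800716100529001c580014a000716500527001c4900149800712100525001c4800149000712500523001c390014880070e100521001c3)) (.leaf (nat_lit 0xc0034b8034b6400d2c00701900178c034b30005de00d2cc0034ac034aa400d2300d2a80034a4024ef0007af00d28940349c018f7000d2700d26900179c0349a000c0900d25c00349002e9a00072500d23800348c018d7000d2300d2280016b00348640070500d21940348002cfe000d2000d06900347c019d2000d1f00d1ec00347801b4a5006d400d1e90034740226e5005ea00d1c80034700172f000d1b00d1a800346402926400d1900d188001b0c03466100d1800b39))) (.node (.leaf (nat_lit 0xc0013500134e4004b9004d3940134400903000498004d2c00124c00b1b00031400493940124c00c6e40018e0031bfc00c6c012525004d20031c800134801346500298004d2c0013400133e4004ce004cd80012e4013370004cc004cb900132801327000479004ca90013200131e0004c6004c59000f5c0131300048c004c4c00130c0130a1003d9004c190011a401306000462004c090012fc012fb0004a7004bf80012d0012fa1003d8004be80012f4012f24004a5004bd))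 (.leaf (nat_lit 0)))) (.node (.node (.leaf (nat_lit 0xc003500014c3100d3f0052cc0034f8014b2500d3d0052a84034f0014aa000d3b0052a84034e80149e000d3900527c0034e00149a000d3700526c4034d80148b000d3500521c4034d001483000d330052094034c801483000d310051d94034c001477000d2f0051cc4034b80146f000d2d0051bc0034b001467100d2b00518c0034a801462100d2900516c0034a001457100d2700513c0034980144e000d2500513c40349001447100d2300510c00348801442400d210050e)) (.leaf (nat_lit 0x800306403e0e000f8300d2bc003e0c03e0a000c6300d8694036180357e000c1000f829003e080357a100b3000f82c003b7c038aa100f8000d03c003e00020be400f8000edec00238803e02100ee100f7f9003dfc03d1a400ee600f7fc001fa803dff000c7800df88003df8031ea000abf00f7e9403df803423000f7e00f22900270c03682400de2009c3c401aa403b870008ca00ee1fc03c2403b86100dbd00daa8003df403936400f7d008ca800234403df6500f7d00bf8))) (.node (.leaf (nat_lit 0x90030b0030ae000c2a00c2980030a00309e400c2600c14800309403092000c2300c22840307c0306a4006e600c1f940307802467000c1e00c1d900152803076400c1c00c1bc0023b003072000c1b006e690030200306a400c1900c18800305c0305a000c1500c14c001f900305250049200c1490013080304e400487004c29003048012de000c1200c1190030400303f000c0d00c0cc00302c0302a100c0900a0590027f803026500c080048dc0030200301e4008ed00c07))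 (.leaf (nat_lit 0)))))) (.node (.node (.node (.node (.leaf (nat_lit 0xc400d000044f00033f001139400cf80044e40033d00113c000cf00044b10033b001118400ce80044600033900111c400ce00044300033700110c400cd80043f0003350010f9400cd00043f0003330010e9000cc80043b1003310010dc000cc00043650032f0010c9000cb80043210032d0010c8000cb00043250032b0010ac400ca800426100329001098000ca00042710032700108c000c980042310032500107c000c900041e50032300107c400c880041b00032100106)) (.leaf (nat_lit 0xc401174017d3f0020e00bb1fc017d002ec3f0045d005f3800194002a32000b9e0065e90032040198300060d0064990022a8019224004ba006239401050018ea40041400229c4014c4018ce5004ba00633fc032100188e100b9e00633c40089c014c640061f00531c4012b8018c7000310006319402668018c640045b0063184010500170bf0063a00b0c8401c9801053000226004a2c4008980064bf00b0d00229fc0320c018cff0053100632fc02290018c7f00b0a005c2))) (.node (.leaf (nat_lit 0x8000ad000acf0002b2002b1c000ac000abe4002ae002ad80003f800ab70002ac002ab9000aa800aa700016f002aa8000aa000a9e0002a6001b7c000a9400a920002a3002a2940062000a8a4002a1001a58000368005fe1002a00017f94005dc00a8300029f001739000a7800a760000e50029ec0005cc00366000118000e18000a740046210029d000e1c000a7000a6e50029a00268c000a6800a6600029800297c000a5800a5640021000294c000a4c00a4b00029100223))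 (.leaf (nat_lit 0x9004374042af000eeb00f05c00437003feb000ff4010dc800436004372100f1a010dc90041c804372500d38010d8900436c04362000f1a010d8fc0436804362100d62010dbc00436c038064010db010da8003f240436f0010ae010db8003c680436b001093010d9c004364039aa000f1f010d984039b804366400e3f010d9c0043600435e001060010d7900435c03f3e10109b010d7900419c0435e0010d600fac8003eb003dae400f6b00db5840435803daf0010d6010d3)))) (.node (.node (.leaf (nat_lit 0x9002d000109a000b3f004268402cf801096000b3d00425c402cf001093000b3b004249002ce801092500b39004238402ce00108e000b37004238402cd80108a000b3500422c402cd001087000b33004219002cc801087100b3100420c002cc001082400b2f004209402cb80107e400b2d0041f8402cb00107e000b2b0041f9002ca80107a500b290041d9002ca001076100b270041d8002c9801076500b250041c9002c9001072100b230041c8002c8801073100b210041b)) (.leaf (nat_lit 0x900279003bd3000b5000ef4900322c03bcf0009f800ef3c003bcc037d2000ef300d8d9402af803bcf000ef200ef1940394803bc6100cfe00ef1c002ce001a8a100ef0006a2900279403bc2400eef00e929403bbc02253000eef007e080031d0039c6000e7100c96c401860032530007da00c94fc039d40325240080c00e50c00379001f725007fb00e5080035500394210087a00e5094021e803bba000ecc00eeec003bb403bb31008f000760c000cb401d83f008f100760)))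 (.node (.leaf (nat_lit 0xc001948025c31005e1003c2c00081c00f0bf003c2005e2fc0081c02932500a5f003e080029280297f000a5e00a5d84029700289a400a5c00a5b8000f700296f000a5a00a5990029600295e400a56004b5800295802956100154003d3840052000553f003f2003d3fc0055000f4bf00148003f3800176400f520004b3005d9940176402957000a5400a53800294802947000548006b0c0020740205b0006b000a259000f6c01ac310031f0067ec000b68019fbf0067e00819)) (.leaf (nat_lit 0))))) (.node (.node (.node (.leaf (nat_lit 0x8401d0000a2200073f00288c401cf800a1f00073d00287c401cf000a1b00073b002869001ce800a1b10073900285c001ce000a16500737002859001cd800a1710073500284c001cd000a12400733002848401cc800a0e000731002839401cc000a0a40072f002828401cb800a0a00072d002828401cb000a0710072b00280c001ca800a0200072900280c401ca0009ff0007270027f9401c98009fe4007250027f8401c90009fa0007230027ec401c88009f70007210027d)) (.leaf (nat_lit 0x94036380382a000e0900e08900380c034e600076900e06c003818022121006f100e0694016c403272400e0600c9c840381c03273f00c9c00e05c0022500381f000e07007cf900381c0183a000e0500e07900381803816000e0400e0394037780380a000d2100e028401f1403806400e010077d8003800037fe000dfe00dfdc001f24037f6100dfc007158403120037f24005e400dfc94037ec0174f000dfb00636c0026cc037eb000cfd00ccd90027c8033365009f20076a)))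 (.node (.leaf (nat_lit 0x8001ad001aea1006b9006b1c001ae001ade40069f006b69001ad401ad2400688006b180019fc01ac24006af006ae940101801ab6100251002f18001ab400bc7f002f1006ac840096801aba0006ad006ac840112001aae0006aa006a99001a6401aa3000547006a88001a9c00e530006a6006a59000a0401a924006a3006a28001a8401a8250069f00255c001a7c0186a00069e0069dc00093c0151e5005470069dc001a7001a6e00069a00699c001a6001a5e40069600695)) (.leaf (nat_lit 0)))) (.node (.node (.leaf (nat_lit 0x9003d0001beb000f3f006f98403cf801be6000f3d006f8c403cf001bca100f3b006f09403ce801bb3000f39006eb8003ce001b97100f37006dec403cd801b77000f35006dd9003cd001b76500f33006dc9003cc801b72500f31006db9403cc001b6b000f2f006d98003cb801b5e400f2d006d6c403cb001b56500f2b006d48003ca801b37100f29006ccc003ca001b32000f27006cc9003c9801b22500f25006c69003c9001b1a100f23006c68003c8801b1b000f21006c4)) (.leaf (nat_lit 0x840402c0272f00100b00e0a900402c0402b000d170100bc003980026f6000b150100a84034d40402a40100900d5d840362c0402700093b01009c0040200301600100800f03900321804023100fcc008ffc002088023fe4009c1008fffc03f34023ff00100700caa800401c0240a400c8e010079402af40401f00100600f60c002b300401a00100600f92c00401402a3f001004009ee900370c03dba40100000dc3800400004012400d8a01004c0034500400f00100200dd5)))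 (.node (.leaf (nat_lit 0xfc005b402c8ff0017300b22c4010e802c9700089f00b259402adc02c96000b9200b258402ae402ca200043400b28fc0107001103f00b2500b68c001ad802ae640044900ab9fc02ca002d76500449003f1fc02c9002adff00ab900b8afc00fc402e27f0044900abac002d3c0213300088200b4fc40332402cdb0004df00b36fc0334402cda10042e004a78002d3c0129ff004a700b4efc02d3c0315b10044a00b51c002e3802d47f00b5100b8d9002d3c02cda000b47008ae)) (.leaf (nat_lit 0)))))))) (.node (.node (.node (.node (.node (.node (.leaf (nat_lit 0x9000300000ea1000bf0003a80002f8000eb1000bd00039c0002f0000e61000bb0003980002e8000e71000b900038c0002e0000e25000b70003790002d8000de1000b50003780002d0000de5000b30003690002c8000da1000b10003680002c0000db1000af0003584002b8000d60000ad00035c4002b0000d30000ab0003484002a8000d20000a900034c4002a0000cf0000a7000338400298000ce0000a500033c400290000cb0000a300032c400288000c70000a100031)) (.leaf (nat_lit 0xfc0231401f2ff0031e007cafc0231c01f27f002ba008c6c0028ec02aa6000a3b007d79401f5c028cf000940007abc001b900255a1006de005df940178c01c070005e3006dcc001f980178e100953006ee8000d5001bbbf006ee009549401e940146a4002b60051a8400d3c0146a0009450051afc0146801f021007be006e18000ad801b87f007bf006e18002ad8025f24007be0097cc400bc400d4b00030800352fc00d480214ff003080094e8400d4001fc2000948007f0)))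 (.node (.leaf (nat_lit 0x80043000318e4010bf00c5cc4042f8031464010bd00c4cc4042f0031231010bb00c2a80042e8030765010b900c0dc4042e0030161010b700c0380042d80300e1010b500c0180042d002fb61010b300bd9c4042c802f431010b100bb790042c002ede5010af00bae84042b802eba5010ad00b8f90042b002e3e0010ab00b8ec4042a802e1b0010a900b86c4042a002e165010a700b79c00429802dbb1010a500b64800429002d530010a300b52c00428802d1e5010a100b3d)) (.leaf (nat_lit 0x80041600310700105801057c403bb00321f00068e00c87fc0321c03bb7000eb60105584030e40415b00105601002900415804156000eec01056c0037540415a00105500d5d84041540413300102300cbec0032f8039e30009c600a1f80041500411b000a1f00adb84041500283700105400ba3900415002b43000e5701054c0036d4040f700105300e7c90034cc0414e500d29010538003f2c0414f000d9000a4d80040600414a40105200f79840389c0414a400d8001052)))) (.node (.node (.leaf (nat_lit 0x900230000c6a1008bf0031a80022f800c6a5008bd0031990022f000c661008bb0031980022e800c661008b900318c4022e000c5f0008b70031794022d800c5a4008b50031684022d000c5a0008b30031694022c800c564008b10031584022c000c560008af00315c0022b800c4e1008ad0031380022b000c4f1008ab00312c0022a800c4a1008a90031280022a000c4b1008a700311c00229800c460008a500311c40229000c430008a300310900228800c431008a10030f))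 (.leaf (nat_lit 0xc00200c01fa60009b300e648402f3003993000e6400e06900399001f7f00088400e64900398c03812000e6300e6290038600398e400d9600deb800365803987000e61006959003984037b70008a900e61900398003446000e6000e5f9002c54039820008b200dec94037b00397e000de600deac00342c02ff2000d0c0062c800352402bba000aee00d0b840343003517000b35008c0c401124022f3000b8c008bcfc02e2c022f3000de800b2f80022f402d1e0008ae008bd))) (.node (.leaf (nat_lit 0xc00216801402000859008588400b4401bf2000807006fcfc0201801bf25006fc00858c00215c0215a00085500854900215001bef00073100854c000c200214f00085200851840214401b3a4006c400851c0021400213e4003060084ec0021340185640084d0084c8401e400213240084b00613800212c0212a00084900848800211c0211a5007c20084690021140209f0008430084290021040210200083c008418402100020e700083f0083e9001dbc020f64007f60083c)) (.leaf (nat_lit 0))))) (.node (.node (.node (.leaf (nat_lit 0x8001300006765004bf0019c90012f8006721004bd0019c80012f0006731004bb0019bc0012e80066f1004b90019ac0012e00066a0004b70019ac4012d8006670004b50019994012d0006664004b30019984012c8006620004b100198c4012c00065f0004af0019780012b80065f1004ad00196c0012b00065b1004ab00195c0012a8006565004a90019590012a0006565004a7001949001298006521004a5001948001290006531004a300192c0012880064b1004a100191))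 (.leaf (nat_lit 0xc0026c80274b00069d00b6b800316c02dae000b6b00d0084012b002d96000c6500b65fc02d9403192400ad300d008002dbc02b4e500ad3006aa9401aa4023aa4004ac008eafc023a80319b00070a006aac001aa801baa5006aa00d0080034000316e000c6b00c6a8001c28031af0008e50086784010e00242a000b640090afc02d8c0242b000c7e006e8c403328031a70004d700c6984021a4031a61004b000869fc031a40332ff0086900c68c401068018d7000b1e00635))) (.node (.leaf (nat_lit 0x800060c011570004540045390006240114a400451004508400ed80114200044f0044e8001134007a700044c0044b90010880112a00041a00449900096801122000368004479000acc0111b0002aa0044680011140111250029f00444c0006600110e000442004419400bec0110a00017300440c0010fc010fa4001960043dc0010f0010ee40043a00439c0010e0010de4004370031e8400c60010df0004360043590010d0010cf0003b60043494010c80097700043200431)) (.leaf (nat_lit 0)))) (.node (.node (.leaf (nat_lit 0xc40330001347000cbf004d194032f801342400cbd004d084032f001342000cbb004d090032e80133e100cb9004cf80032e00133f000cb7004ce84032d80133a000cb5004cec4032d001337000cb3004cd94032c801332400cb1004cc84032c001332000caf004cc94032b80132e400cad004cb84032b00132e000cab004cb80032a80132b100ca9004c9c0032a001326100ca7004c9800329801327100ca5004c8c00329001322100ca3004c8800328801323100ca1004c7))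 (.leaf (nat_lit 0x80039b803c7e000f070081290033580388a500cd600e2ec0020e4021f21005d10083a80038b8020ebf0083a00e2d800204802a8e400f2000f59c003d6403476500aa300f59800358003d67000f580079fc0031800344a10062200d148003a1c03453f00d1400e86c003abc0344e400c910089c800344c03246500c91007388003d600345a400bd100f58900300c03d5f000da800b64900288003a42000a2000f299003ca40359a400d6600f56c00358403d5b000f56008d7))) (.node (.leaf (nat_lit 0x9001f6402ee6000bb700bb6c002ed402ed2000bb300bb290011e802ebf00099c00baec0024d802eb7000bad00485900123002eb6000a2c008f6c00153c0204710033a0080ec0024540203bf0080e009148002eb00243200091200bac90015d802eb300054c00bacc002eac012ba400bab0099ac002ea40211a0007c600baa840264802eaa40049100baa800122002ea7000ba800ba78002e98012be400b9c00ba5c0027f802e97000ba4009949002e9002e8e0007e600ba2)) (.leaf (nat_lit 0)))))) (.node (.node (.node (.node (.leaf (nat_lit 0xc000b00003960002bf000e5c400af8003930002bd000e49400af0003924002bb000e4c400ae80038f0002b9000e39400ae00038e4002b7000e3c400ad80038b0002b5000e28400ad00038a0002b3000e2c400ac8003870002b1000e1c400ac0003830002af000e09400ab8003824002ad000e0c400ab00037f0002ab000df9400aa80037e4002a9000df8400aa00037a0002a7000de8400a98003771002a5000dcc000a90003721002a3000db8000a880036e5002a1000da))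 (.leaf (nat_lit 0x9001898021ce00055100629c00286c025db00093e0092ac0024a80248a0004cf0082c840133c00b8e500a10004cf9000e9c0133ff0082c00cb9fc00b8c032e3f004cf0082dfc00e9c032ea400a0f00c7f9002f1c024aa40092a00a13840287401c4a1003ac0092d800286c024b7f00a1a0092d9401f38016921002b7005a480017f401693f005a4007c19401f4c0153a4002be0054efc0153801f53000532008c1c00230402f1f000a13008acc4016700284b0003cb00a12))) (.node (.leaf (nat_lit 0x90003d00087700021c0021b90002f40086a400219002188000860003d20002170021690008540085200021300212c0008440084240020f0020e80002d80083e10020e000b2c000834008324000bc0020b800082800826400208001be800081c0081b00020500153c00054c0029a00014f0010880008100053e10020400108900052c0081300020300202900031800806400200001ff80007f8007f64001fc001fbc0006e0007f20001fa001f990006d8007eb0001f800111)) (.leaf (nat_lit 0xfc041f80430e4010c400e719403d88032260010c4010c3900405c043124010c2010ba8003f040430a5010c200d12c004308043061010c100e9090043040353e400e87010c194043000420700109a010c0940407404302000d86010c0c003a24041ab0010bf00e89c0041a8042fe000e0c010bf8403d40042fe400d50010bfc40366401ef700056e007bd94041a00366610109700d998002a6c03667f007bd00d9afc03e8003667f0056e00f9fc003ec003dcb000fc000fb0))))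 (.node (.node (.leaf (nat_lit 0xc402b0000fd7000abf003f58402af800fd6000abd003f5c402af000fd3000abb003f49402ae800fc6400ab9003f18402ae000fc6000ab7003f19402ad800fc2100ab5003f08002ad000fc3100ab3003efc002ac800fbe500ab1003ef9002ac000fbe100aaf003ed8002ab800fb7100aad003eac002ab000faa400aab003ea8402aa800fa6000aa9003e9c402aa000f9f000aa7003e79402a9800f9a400aa5003e68002a9000f97100aa3003e4c002a8800f92400aa1003e4)) (.leaf (nat_lit 0xfc027600347f000672003dec4019c802a53f003de00ed3fc02a5003b4bf0067200a93940134002886400cbe00a218403b500288600067300a21fc02884032f600067300cbd840134002a46000cbc00a91fc02a44032ee000cbd00ed490031fc03b53000ed400dd894031fc019ea1007700067a8000e9c019ebf00a0f0067ac002fd803b5250067a00ed4c00210403b47000ed100ce68403b4401ade10082e00ed19001cc803b47000ecf006f79003b3c03a6300072f00ecf))) (.node (.leaf (nat_lit 0x800166c0287a400a1d00a1cc00139002876000a1b00a1a90028240286e500a19007cfc002864028625005690046684028600119a400a180094c900116002862000a17005f19001a5c026824009ab00697800262001a120006950098890028580262300099500a1680026ac0285a400a1500a14800284c0284a400a1100a10800283c0283a500a0d003aec0028340264a500a0c0044dc0028300282e000a0a008d980028240282200054d00a078001e200280e400a0300483))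 (.leaf (nat_lit 0))))) (.node (.node (.node (.leaf (nat_lit 0x9401b00009621006bf002588001af8009621006bd00257c401af00095b0006bb002569401ae80095a4006b900256c401ae0009570006b7002559001ad8009565006b5002549001ad0009521006b3002548001ac8009524006b1002538001ac00094e5006af002519001ab8009461006ad002518001ab0009464006ab002508401aa8009420006a900250c001aa00093e1006a70024fc401a980093b0006a50024e9001a90009365006a30024c9001a88009321006a10024c)) (.leaf (nat_lit 0xfc035a8035f61003150055d80022c001577f0055d008affc022c0035f2000d7d00ddbc0035e80190300066400d7a8403768035ea500dd900a2cc00376403692500cc100687900369801dd6400cc200da6c4015d80189b000da600626fc0189803697000dd800bf6800369001a1e50068700dd8940376003306000dd80067ec00375c036021008aa00dd7900375c028bb000cfc00dd680037580375640074800dd6840375001df2400dd4007ae800374c02d6f000dd200dd1))) (.node (.leaf (nat_lit 0x800189c0189a5006250022dc00189400a4600062400623c001888018860006200061fc0018780187700061c0061bc0018680092e10061a004f090009480186a40061900618800185c0185a40061500614800184c0184a40042400611c0013e8018465006100022bc0018400183e00060e0060d94016cc0183a50037c0060dc0018300182e10060a0022bc0018280142a40060a00609c000dcc0182b0006080060790008e40181e00060600605c001810013ae00021d00603))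 (.leaf (nat_lit 0)))) (.node (.node (.leaf (nat_lit 0xc003b000199a000ebf00664c403af80198b000ebd00662c403af001987000ebb006618003ae801983100eb90065ec003ae00197a400eb70065b8003ad801967000eb5006579003ad00195f100eb300656c003ac80195b000eb1006549403ac00194e400eaf006539003ab80194b100ead0064fc003ab00193f100eab0064c9003aa801927000ea9006488403aa00191e000ea7006479003a980190e100ea5006428003a900190b100ea300641c003a8801906100ea100641)) (.leaf (nat_lit 0x9402dc403f9e000b7600fe78003f0c03f9a500fe600f97c003f9803893000e2a00fe5c003f9403b7e500f2c00fe58003f9403f6a400ee700fe5c403bc40388b00069a00e22fc03bc80388a000f1300f97800335803c4f000ef000bb7c401afc02fa7f00f1600be9c001afc021dbf00f1700876c00393c029d6500e4f00fe4800394803f92000fdd00fe3c00372c03f8b000fe200b0180027ec03f8a10096700fe290025d803f8a100ca400fe19003f8403b3e000dcf00fe1))) (.node (.leaf (nat_lit 0xc400a880061b10047a002a2fc02fe401207f0078700186fc00a88011ee500b9e0047a940117402e7a000c8300b9e940120c027de4003a1009f7fc01e20011ebf00baf00b9e94032c402e7e4004cc00b9ffc027dc0280e0004cc003a184013300280bf00b9f00cb2fc00e84032c3f00a0200caf900132c0165a5004cb008b0840132c00c97f00a01004ccfc01658032bbf008b000cad84007a00132ff00cab00325fc0132c0163ff001e800cacc4011f4019cf000bfe00673))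 (.leaf (nat_lit 0))))))) (.node (.node (.node (.node (.node (.leaf (nat_lit 0xc4007000023e1001bf0008f80006f80023f1001bd0008ec0006f00023a5001bb0008e84006e8002360001b90008d94006e0002324001b70008c84006d8002320001b50008c84006d00022e0001b30008bc4006c80022b0001b10008a80006c00022b1001af00089c0006b8002265001ad0008990006b0002271001ab00088c0006a8002231001a900087c0006a00021e4001a70008784006980021a0001a5000869400690002161001a3000858000688002171001a100084)) (.leaf (nat_lit 0x900293801586500bf700a4d90014fc0290e00053f00a6590029940148650052000939940289801487000a5c00b5680029040289a000a5c00a41c00296c0145b00053400a5b9002494015621003ed005588001b8801563f00aae00558c400fa801587f00aac00561c000fa801dd3f00aad00774c001cdc020c25008300073fc0022700188f0005d30089c900227001ce20005cb00509c00188c0174f000636005a584007fc008a200051900228fc008a001743f0051900634))) (.node (.leaf (nat_lit 0x80003cc002f64000710008b80001c4003ce4000dd000f390003c8003c60000f0000ef90003b8003b60000ec000ebc0003a8003a60000e8000e7c0002e80039e50004f000e79000398003960000e4000e39000388003860000e0000df9400378001370000de000dd9000128003765000db000878000110002221000dc00088c4001c80017f0000210005f90003700017ff0005f0007394001cc003730000db000da8000364003624000d800072900035c002ea0000d6000d5))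 (.leaf (nat_lit 0xc00423c031df000fb20108f800423c03c97000dee00bd08003b280423a40108e00ffe84040bc0423b00108e00fa8c00423402e12400b270108d9402db804237000c1b0108d8002fb804236400fff00f1b8003ffc034e2000c0400fff9403ffc02a12000a8400fa3840423003e8f00108a0108cc00423004082500ac90108cc00422c040df000f110108b800422c03c92400fc20108b9403d2c0415e00105701089c003d2803783000ec900f4a900422804226000ec60108a)))) (.node (.node (.leaf (nat_lit 0xc00270000e161009bf0038580026f800e165009bd0038490026f000e121009bb0038480026e800e125009b90038390026e000e0e1009b70038380026d800e0e1009b50038180026d000e065009b30038084026c800e020009b10038084026c000dfe0009af0037f94026b800df21009ad0037c80026b000df31009ab00377c0026a800dde1009a90037780026a000ddf1009a700376c00269800dda5009a500374900269000dd21009a300374800268800dd21009a100373)) (.leaf (nat_lit 0xc002b6803a23000d4900e87900353c03a1e50062100ad68403a2802b5bf00e8400ad690018840285ff00a1700e858403a0801b1e000621006c7fc01b1c03a0f100e9000a3ec0018a0028fbf00e9100a3e940225003a4a000e9200a40c403a48029ef00062c00a7bfc03a4c029ee10078a00a7c9003a5401e2a000e9500e94c002d1001d22000d070074b800342002ef7000bfc00bbcc002ef00342e500bbc00e94c003a4c03a4b000e9100e90c400fe00192f000acb0064b)))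 (.node (.leaf (nat_lit 0x9400d6c0253e4005680094d9000d44015a240094c0045880025300252e40094a0094980025200251e50094600358c00251800e760009450094490025040250210039d0094080024fc024fb00093c003b190024f0024ee1005160093b90024e800ec200093a009398000d74024e2100515009389000e3c024e200038600937c001eb80246600054a0091b9001b940154a400906006e58001550023ca0006e400554c0023dc024da500554009368002418024da40093200931)) (.leaf (nat_lit 0))))) (.node (.node (.node (.leaf (nat_lit 0x8401700007e20005bf001f8c4016f8007df0005bd001f780016f0007df1005bb001f6c0016e8007db1005b9001f5c0016e0007d65005b7001f590016d8007d71005b5001f4c0016d0007d21005b3001f480016c8007d31005b1001f3c4016c0007cb0005af001f294016b8007ca4005ad001f2c4016b0007c70005ab001f194016a8007c64005a9001f1c4016a0007c30005a7001f08401698007c20005a5001f0c401690007bf0005a3001ef9001688007bf1005a1001ee)) (.leaf (nat_lit 0xc0020440358a5005b800550c0035800239700086700d60800358402426100d600073b9003584035820005b600d61c00235c03586000d5f00d5ec003574016b700081a00c4bc00357001e3b0008130056580015980357210099b00d5c900163803573000d5b0068ac0035680356640078300b489401e0c03566100bd900d599002d2003567000d5800d57900355803556000b4800d558403550021ea400d0e00d54c00332003553000d5300d52900354403256500d5100a96)))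 (.node (.leaf (nat_lit 0x80014840148250051f001cbc00147c0147a0001f70051e90007200147a00051d0028790014700143640024d0028180007000093600024d0051b94009c40146f00051a0027c9001464014620001ff00519c0009f0006fe0003dd001fb800146000f76100518001fb94009d80145e0005170026ec00145c00776400516005158400ef4006f6000141001bdfc006f400efbf00141005148400d7401456400513005128400d700144a00051100510940143c0082700050f001c1)) (.leaf (nat_lit 0)))) (.node (.node (.leaf (nat_lit 0x80037000161a100dbf0058580036f801617100dbd00583c0036f00160e400dbb0058384036e80160a500db90057e90036e0015fa000db70057ec0036d8015f6100db50057d80036d0015f7100db30057cc0036c8015f2500db10057a90036c0015ea100daf0057a80036b8015eb100dad0057984036b0015e6000dab00579c4036a8015e3000da90057884036a0015e2000da700578c403698015db000da5005769003690015da400da3005758403688015d6000da100575)) (.leaf (nat_lit 0x8001f8003e971005a200775c0028e401dd7f0077500df6fc028e403e07000e2600fa4c003e9002772000fa400a3b90039a003e93000fa30091b9003e8803b8a100ec700fa2c00329c03e8b000fa100e42c002e3c03e86000fa100e01900246803e87000fa000f9f8003350029fe100f3c00a7fc401b00029cf000f1900a739403cf0029ce40085600a73fc029cc03c62000ea300a758403e6c029d7000a7400f9e9401ef403ac6400f9e00eb18003e5003ac7f00eb100f9d)))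 (.node (.leaf (nat_lit 0x940329402a1b000ca500ca4800328c0328b000ca100ca090031c403277000c9c00c9bc002e98018fe100c7100a869001318031c6000c9a004e7900326803266000c6f00c9ac0018f00326a000c9800a48900325c0325a100a96009a6900325402a5a5008df00c9484031d00325a000c9500c94800324c0324b000c9100c90c002f1401b06500a8b00bc5840119402a16000bc500a85fc02a1402f12000bc600c8f9002af80322f000a7c00c8e940323802af6000c8e00c8d)) (.leaf (nat_lit 0)))))) (.node (.node (.node (.node (.leaf (nat_lit 0xc400f00005070003bf001418400ef8005060003bd00141c400ef0005030003bb001409000ee8005031003b90013fc000ee0004fe5003b70013f9000ed8004fe1003b50013e8000ed0004fa4003b30013d8000ec8004f65003b10013c8400ec0004f21003af0013b8000eb8004ef1003ad0013ac000eb0004ea0003ab0013ac400ea8004e70003a900139c400ea0004e30003a7001389400e98004e24003a500138c400e90004df0003a300137c400e88004db0003a100136)) (.leaf (nat_lit 0x9002c64029f650060b00b188002c6802b03000756007dd90024bc01d5b0007ff00c23940308c02a22100bee00a88c40116002003000ba800800fc0200002e9e400a80007ff9400e20020da400993008368401fc0020da00035000836fc020d80252240080d00a8084011d002a0200099300a80fc02a0002fb2500bec0080d940106402a0a4007e700a82fc02c7002a0a400ac000b13c002c4c0185e400b1300a81c002db002f2e000bcc009b384010580252a000b130094a)))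 (.node (.leaf (nat_lit 0xc000cd800cd6400334001f6c000b3000cce4001d200332c000cc400cc240032f0032e84008d000cba00032d0032cc000cac0050e40032b001d3c4009f80044a5000a50011290003180044bf0020100112800045000cae50032a00156c000ca8004ee00032900328c000c9c00c9b000325003248400c8c0055a40032300139c000c8800c864003200031fc00053800c8300031e0031d9000c0800c770002e20031cc000b740091700022a002dd9400b7400a5e4000ef00297)) (.leaf (nat_lit 0xc0043e003b5f0010ee010f880043e0041da400ff9010f89403d94043e2100ffd010f7c0043dc043764010f700f2a8003d5c043de1010f600f0b90043d803ec240103e010f6c003b10043db000f5701089c004224043a6501074010f58004224043d60010f50105794043d403b170010f500fb5800410c043d24010f4010a98404374043d2401091010f4c003f08043d30010f300fdac0037c8043ce0010f300e589003a30043ce50102e010f3c004154043cb0010f200eb6)))) (.node (.node (.leaf (nat_lit 0x8002f000118f100bbf00462c002ef80118a400bbd004618002ef001186500bbb004609002ee801182100bb9004608002ee001182100bb70045f8002ed80117f100bb50045ec002ed00117a100bb30045e8002ec80117b100bb10045dc002ec001176400baf0045dc002eb801172400bad0045cc002eb00116e500bab0045b9002ea80116a000ba90045ac402ea001163000ba7004588402e980115b000ba5004559402e9001152400ba3004548002e8801152400ba100453))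 (.leaf (nat_lit 0x8402a0c03c92000f2300f229003c840222e1007f400f21900319403c8700090900f218003c800336a500f2000aa3c003c8003c7e4006d700f1fc003c7803c760006d700f1c9003c1c03c72500a8400f1b8001e2803c6e000f1b00a7cc003c6c0206f000ee300f1ac003c6803b3a400edc00f1ac40374401d4b00058c00752fc0374801d4b100cfe007bcc0013dc01ef3f007bc00cff800224003c66000f1900ae19403c6403c37000f1900f18900215803c63000f1700f16))) (.node (.leaf (nat_lit 0x9002afc029564005d900abf8002af802af7000abc00abb840112c02aee400aba00ab9940112c010aa100ab70042a8000fc4010abf0042a00ab89002ae00112e50044000ab784010d002ae6000ab800ab79002ad801b8e000ab500ab4c002acc02aca500384008e390026f40238ff009bc008e38402ac80238e4009b500ab29002ac402ac20003f800ab1c4029f40285f0003d300a17fc029f80285e0009c2003f48002ac00270a100ab0003f49402abc020a2000aaf00aae)) (.leaf (nat_lit 0))))) (.node (.node (.node (.leaf (nat_lit 0x9401f0000ada1007bf002b68001ef800ada1007bd002b58001ef000ad71007bb002b4c001ee800ad25007b9002b49001ee000ad24007b7002b39401ed800aca4007b5002b28401ed000aca0007b3002b29001ec800ac60007b1002b19401ec000ac24007af002b08401eb800ac20007ad002b09401eb000abe4007ab002af8401ea800abe0007a9002afc401ea000abb0007a7002ae8401e9800aba0007a5002aec401e9000ab70007a3002ad8001e8800ab25007a1002ab))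 (.leaf (nat_lit 0x900372c01bdf000dcc008d2c001c5003732500dcc008e4800160802393100d2d00c3dc00146c030f610058200c3dfc036e8023931009cb008d0c000e2402343f00d2e00c3dfc023400273240069300dbc940160c0173a400dad005cefc01738036ee4005cf008ee940173c0300a400d4600e25900389401cf60005cd00e258003894038a3000e2800b4084011a801756000288005d5fc01d000175700089b00e289401754038a3000e270063a900389c01dd250075900e26))) (.node (.leaf (nat_lit 0x8001d0001cff00073e0073dc001cf001cee4005e90073ac001ce401ce21005e9007179000a18017a6000737006e79001cdc01cda0005e800737c001cd401cd240061c0052a800187001cce4004e9007338001cc801cc70007300052f9001cc001cbe1006f00072f9001cb8014b600072e0072d8001cb00171700072b0072a8001c6401ca7000728007279001c9801c96500277006379000a0c018dff007160063780018e401c9a100725006359401bb401c8f00072200721)) (.leaf (nat_lit 0)))) (.node (.node (.leaf (nat_lit 0x9403f0002026100fbf008098003ef802027100fbd00808c003ef002023100fbb00807c003ee80201f000fb900805c403ee00200a400fb700800c003ed801ffe400fb5007fe9003ed001ff6100fb3007fd8003ec801ff6000fb1007f98403ec001fda100faf007f48403eb801fce000fad007f3c403eb001fcb000fab007f29403ea801fc2100fa9007e78003ea001f9e100fa7007de8003e9801f7a000fa5007da8403e9001f5f100fa3007d5c003e8801f2e100fa1007c5))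 (.leaf (nat_lit 0x84040940257640102500c1690031f40409700101601025c00409003f9e40102401023800336004093000ecd01024c0039e00408e000956010238403d440408f000c8600db880040880388e10102200df590040880321a40100801022c003e280408a00102100cdf900408404082000a2d01021c00240003e2a00102000abc8002444040821009690101fc00407c02af640101f009c1c002dc40407f000eb00101e80040780293e400c2e0101e940254c0407a000a610101d))) (.node (.leaf (nat_lit 0x80010ac0179bf005e600b08c001548031f6000335008e18400cd40239bf00908008e1fc023980241f00053900b90c0017a0016db0005b600527c400a5001793f00764005e4c000a5001493f0076500524c401790014925005cd0052490007f8014920001c900524840072400713f0052400538fc00710014dff00525001c98400c98014ea0005350053afc02378014eb000774005619400a140172e400737005cbfc01cd80172e5005cc0077484009a001726000210005c9)) (.leaf (nat_lit 0)))))))))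
noncomputable def c4Ft11 : BT Nat := (.node (.node (.node (.node (.node (.node (.node (.leaf (nat_lit 0x80002000009b10007f00025c0001f80009650007d0002590001f00009710007b00024c0001e8000925000790002490001e0000921000770002380001d80008f10007500022c0001d00008b10007300021c0001c80008710007100020c0001c00008250006f0002090001b80008250006d0001f90001b00007e10006b0001f80001a80007e5000690001e84001a00007a0000670001ec400198000765000650001d9000190000771000630001cc000188000731000610001b)) (.leaf (nat_lit 0xc401e8c00d2b0002ad0034a9400d8801e9a40096a007a6fc0254401f37000353007a5fc0251001f03100cda00b5fc00138c02d7e50077c00b5f8401f5402d7e100435007d5fc00d2801e92500401007d6900113801f5a1008c8007d68002b9c01f5b100435002aec0005a400abbf0097a007a6fc0254801e97f00cdb00b5ffc01f5402d7b10044800ae7c002e2002b9ff0093d002adfc01f5802b720002aa0044e8400aa8005d7f002ae00436fc01ea0010d710079a00405))) (.node (.leaf (nat_lit 0x8004200029b300107f00a67c4041f80298f00107d00a6394041f00298710107b00a5884041e80295f10107900a56c0041e00294310107700a4fc4041d80293710107500a4ac4041d00291700107300a4584041c80290310107100a3f90041c0028fe40106f00a3280041b8028a610106d00a25c0041b00288f00106b00a2290041a80288200106900a1580041a00285310106700a0890041980281e40106500a00c404190027cf101063009f1c404188027ba501061009ec))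 (.leaf (nat_lit 0x800412c0364a400fe90104bc004124040d600104900fce900279c0412650098c00fbd900412003ef7f0104700fbd8403fe804123000ac900e00c004120040a2401048010478003d8004123000fa501048c00288c02b52100a0d01046c0041180294640104600ad4c0040e40411a400b7301045c002e840411700104500e729402b4404116000ed701045840344c0411300104400e6d90041100320a000c9101044c0034640411250104300f8ec00410c0410a40104100b38)))) (.node (.node (.leaf (nat_lit 0x800220000c0e40087f0030280021f800c0a50087d0030184021f000c0600087b00301c4021e800c030008790030090021e000bfe100877002ff80021d800bfe500875002fe84021d000bfa000873002fec0021c800bf7100871002fcc0021c000bf310086f002fbc0021b800bee50086d002fbc4021b000beb00086b002fa90021a800bea500869002f990021a000be6100867002f9800219800be7100865002f8940219000bda100863002f6800218800bda500861002f5)) (.leaf (nat_lit 0x90013300184bf00b9f00612c001c04018520005f600614840396401852400d7800e59c0024e80181710057200603c001a580180e400e5900603fc0180c0367e500d9f00e5980039600378b000e580076990039600395f000ba300e578002a300395e400e560066c8401264019b20002950066cfc01d9c019b250092e00e5584019400395e400e5600767800395803956400e5400cfec00195c03952000e5400e538400e5c023c20009ec008f0fc027ac023c2000ad7009ed)))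 (.node (.leaf (nat_lit 0x90020040204e4008120081180020400203e4007fa0080e940203401fff00080d0080c9001fec020325002dc0080bc0020280202640030b008089000b4400c2e40080700300800201c0201a00080300802940200400b6700080100792800200001fff0007fe007fd8001ff001fef000747007fb9401fe800b5f0007fa007f98001fe00129b0007f7007f69000b9c01fdb0007f5007f49001fcc01fca0002e7007f2c001fc401fc30007ef003069001fbc01fbb000408007ef)) (.leaf (nat_lit 0))))) (.node (.node (.node (.leaf (nat_lit 0x80012000062250047f0018790011f80061e10047d0018780011f00061f10047b00186c0011e80061a5004790018690011e00061b0004770018484011d80061200047500184c0011d00060e00047300183c4011c80060b0004710018294011c00060a40046f00182c4011b80060700046d0018194011b00060640046b00181c4011a8006030004690018084011a0006031004670017fc001198005ff1004650017ec001190005fa5004630017e9001188005fb1004610017d)) (.leaf (nat_lit 0x90012580294e100b5800a5380010c80294ff00b5900a53c002d60023d2500b580065bc001c7802d66500b3000b59900125802d67f00b5900c30c001c78030c240095300c2e8401bc80124a00026c00492c002a7801bca4004950026cfc0124801bcff00c25006f2c402e0401bd7000855006f5940125401bd6100c0f006f58002b1c01bd7f0026c00c24fc01bd4030aff00495006f4c0021b401bb25006ec00c2ac002948021aa1004950085a80030a80216bf00c290085a)))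 (.node (.leaf (nat_lit 0xc00102400c630003060040890010200101e1000f5002cb8000bbc00b2ff002cb002ee8000594010230003180015c8000c500058e00040700314840101c0058f000406001b9800101401012400403003ee800100801007000400003ff8400ff800fee40039a003fe9400ff400e330003fd003fc9000e2400ff240032a003fb8000c8c00fea4003f9003f88000fdc00fda4003f5003f48000fcc00fcb0003f1003f08000fbc00fbb0003d0003ee940056400fba4003ed003ec)) (.leaf (nat_lit 0)))) (.node (.node (.leaf (nat_lit 0x9003200012e6000c7f004b984031f8012e2000c7d004b8c0031f0012de500c7b004b690031e8012da100c79004b680031e0012da500c77004b584031d8012d6000c75004b5c0031d0012d3100c73004b3c0031c8012cf000c71004b294031c0012ca400c6f004b2c4031b8012c7000c6d004b190031b0012c6500c6b004b090031a8012c2100c69004b080031a0012c3100c67004ae9403198012b2100c65004ac8003190012b2500c63004ab9003188012ae100c61004ab)) (.leaf (nat_lit 0x84013240208a000ca700822c401338020870004d900821fc032980208a100f4f008218001c8802087f0082100cb79403d3c03a97000e0d00f4f940207803d3e000cb700f4fc002cbc03d3b000f4e00de8800307803d3a400c3500f4e9003d340337e100eab00f4d9001cac03d37000ee200f4dc003d3003d2e00072b00f4a9003b1c03d2a00072000f499003d2403cee10097100f4990030ec03d27000b8200f49c003d2003ce2000f4800a0090028000392a000a0000c0b)))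 (.node (.leaf (nat_lit 0x8002ca002e2b0006b600b8a8402e2402c92400b880069e9402e2001b3b000b8800b879401e6c02e1e1007d600b878002e1802e170006a9008cac001ae802d9e00069f0044a8002e1001a7e400b8400b67800112802e12400b8200a76c001c5402e0a000b8100b809001c5002e07000b7f00b7e9402df4022a3000b7d00b7c900229402df2400b7b00b7a8002de402de2400b7700b768002dd402dd3000b7300b728002dc4029da400b7000b6f8002db802db6400b6c00b6b)) (.leaf (nat_lit 0)))))) (.node (.node (.node (.node (.leaf (nat_lit 0x9000a000033a00027f000ce94009f80033640027d000cd84009f00033600027b000cdc4009e800333000279000cc84009e000332000277000ccc0009d80032e100275000cb80009d00032f100273000cac0009c80032a000271000cac4009c00032700026f000c990009b80032710026d000c8c0009b00032250026b000c890009a800323100269000c7c0009a00031e100267000c680009980031b100265000c5c00099000316100263000c5800098800317100261000c4)) (.leaf (nat_lit 0xfc00ce0022d3f00910007e994024480235e40033a008d7fc0243c02363f00913008d7c400e94023bf0007aa008ef8000f0000cdff00a0b008ef8400f0000ffff0033700a47fc00ffc0291bf003c00090bc0026bc024ef10035c00609c0025a4018271003b200938c0028b0024e200038f0022bfc025a00182610038f0060afc028ac024e3f0022b009defc0182802777f0038f0063bc0031ec0275e000c7700c7b84031e00274e0004b6009d3fc031e40274f1009d8004b7)))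 (.node (.leaf (nat_lit 0xc0002640042a50010a001d3c000748007460001d0001cf9400738004bf0001ce001cd80007300072f0001ca001c98000280007230001c7001c69000344007170001c4001c3c000704006ee1000d10012f9000244003460001c2000c79000708007060000cf001c2c000700004820001bf001be940029c006fb0001bd001bc90006ec0047a0001ba001b9c0006e40056e4001b8001b78400374006de0001b6001b580006d0006cf0001b2001b180004c4006c30001af001ae)) (.leaf (nat_lit 0x84042b4042e6400db3010b884042e4036cf0010b900e4b90042e4032170010b801008c0042dc04127001035010b780042dc042db0010b600f5fc004004042da500cef010b680042d403652400ee3010b594035d4042d65010b400f88c003f90042d2500fb6010b48002fc8042d30010b300e5fc0041a0042ce0010b300d59900393c042ce500fe4010b3c0042c8037ba500b8600f35900224003cd61010ab00f358002e3803cd7f00f3500ff89003cd803952000f3600e8c)))) (.node (.node (.leaf (nat_lit 0xc402a0000f53000a7f003d4c4029f800f4f000a7d003d394029f000f4e400a7b003d3c4029e800f47000a79003d194029e000f46400a77003d1c0029d800f42500a75003cf90029d000f3e100a73003cf80029c800f3e500a71003ce90029c000f3a100a6f003ce80029b800f3b100a6d003cdc0029b000f36000a6b003cdc4029a800f33000a69003ccc4029a000f2e500a67003cb900299800f2f100a65003cac00299000f2a100a63003ca800298800f2b100a61003c9))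 (.leaf (nat_lit 0x940187401fd6400e7a007f58403b1001fd7f007f500e799003b100339a000e7900ec4c0038c403b13000ec3009f79003b0c0386e000ec300e7b9001e8c03b0f00066e00ec294023c4028d60008ef00a37c4010bc028e3000b5400a388401ee8028e3f00a3800b53c001e04028de4007d700ec18403b04028de5008f500ec18003b04023bf000ec100ec09001f7803b0200081500ec09003b000200e100ea600ec080024c803aff000ebe00ebdc003af003aef00061300508))) (.node (.leaf (nat_lit 0x800278001b260006cc00959840256001b270006dc0094290027800277e10039300355800096c00d57f00355006c5fc0096c0255e000958009e0c001b64027821009df0095594025a0027764009dc009be800276c0276b0009d9009d8900275c0275a0009d2009d784027580273f0009d5009d4c001fb00274f0009d3003e99000ff40274e40056b009d28002638027464009d0009cfc0026b8027420009ce009cd90026b40273b0009cc009cb90026840272e4009c6009c5)) (.leaf (nat_lit 0))))) (.node (.node (.node (.leaf (nat_lit 0xc001a000090650067f0024190019f80090710067d00240c0019f00090240067b00240c4019e8008ff0006790023f84019e0008fe0006770023f80019d8008fb1006750023dc0019d0008f65006730023d90019c8008f71006710023cc0019c0008f250066f0023c90019b8008f310066d0023bc0019b0008ee50066b0023b90019a8008ef1006690023ac0019a0008ea4006670023a9001998008e6000665002399401990008e2400663002388401988008e200066100238))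 (.leaf (nat_lit 0xc0033d00218a100d87009aa800158c026abf00d88009aa94036fc0361e000dbf00dbec002954036fa50091e00dbec0036f4036f2400dad00dbb80036e8034ba400db900db8900369c036db00088d00db680036d4036d3000db4007aec002464036d250058600db4c0036cc036ca400db100db080036bc036ba100d4600dad94036b40160f000dad0068594036a8019f210088a0067c90036b00222b00095800dac80036b0036ae4007f400dabc0015f40223650088d00dab))) (.node (.leaf (nat_lit 0x80017900178f0005e2005e1c0017800177e40035e003e1900081c00d7a0005de0051290017780177600035c005dec0014640177a4005dc003e3800176c0176b0005d9005d89001710017620005ad005d790016140175a500555005d68000cf80175b00053a005d580017500174f0005d2005d18001464017430005cf005ce90014e0017370005cc005cb9001728017260005c8005c7c00171801716100281005c5800171000f6a4005c2005c18001700016fe500279005be)) (.leaf (nat_lit 0)))) (.node (.node (.leaf (nat_lit 0xc003a0001882400e7f00620c4039f80187f000e7d0061f94039f00187a400e7b0061e94039e801876400e790061d80039e001876000e770061cc4039d801867000e7500618c4039d00185f100e730061580039c801857100e7100614c4039c00184f000e6f0061394039b80184e100e6d0061180039b001847000e6b0060d84039a801832000e690060984039a00181e000e6700607c40399801816400e6500605940399001812100e6300604800398801812500e61005ff))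 (.leaf (nat_lit 0x900261803f63000dda00fd8c003f60039ba500eba00fd88003f2803f62500fd700ad5c003f5c031ef0009d700fd79402f9803f5e000faa00fd7c40195c0270f000e54009c3fc03ad40270e000fd6009c6c003f5803e6e400fd60088c80039e803f5a500f8300fd580021a803f561008fe00fd590038f003f5700087c00fd5c00212403f531007f200a77c003eb0029dff00a7700fab9403eb803f4e000a7800fd384029d003f4e4009c000fd3c003edc03f4f000fd200fc6))) (.node (.leaf (nat_lit 0x900189c032da100680004fec001964021d24008740068080019f80164b000572006969400920015c24005f600570fc015c001a4b1002490058294026800160a4009ab00582c40078800927f0069700582fc0092401607f001e200698c40340c016130004f90058494028580161240098800584fc016100341310085600678c000bc8019e3f0085700678900335002166500cd40087984013e4021e6000d0200879fc03404021e6100876004fa8000bfc013ea50068400876)) (.leaf (nat_lit 0))))))) (.node (.node (.node (.node (.node (.leaf (nat_lit 0x9400600001ea40017f0007a84005f8001ea00017d0007ac4005f0001e700017b0007980005e8001e710017900078c0005e0001e21001770007880005d8001e310017500077c0005d0001de5001730007790005c8001df10017100076c0005c0001da40016f0007694005b8001d640016d0007584005b0001d600016b0007590005a8001d20001690007494005a0001ca100167000728000598001ca400165000719400590001c2400163000708400588001c200016100070))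 (.leaf (nat_lit 0x9002f9401b6e100b9700bea8402f8002e0b000bed00b70c002c4002fb6000ac300a5dc400d9001e7b0009830079efc01e780260a1007a10081cc002a8401e82000845007a08402ad801e8210058d00b5b8002584033bf1003bd00523c00290c0148e10096100523fc0148c0290b000515007af840224002b86400b8600890c001ee4025ca50097200b859000d8000abe500360005ac84025c80223a0003600088efc00abc025d7f005ac00974fc02238025ce4003610034d))) (.node (.leaf (nat_lit 0xc0002a00029e0000a6000a5c0002900028f0000a2000a1c000280000d61000a00009290000f00028300009f0009e90001300027a00009d0009cc00026c0026a400099000988000130002630000970009690002540025300006500095900024c0024a00009100090900023c000ca00008e0003d9000178002370000570008dc0002300022e4000410008a80000e0002264000860008880001f40021e50008600028c0002180021600008400083c0002080020600006500080)) (.leaf (nat_lit 0x80040f00420a100d980108290041e00420b000eee00dcd84029b003eea00108100fbafc03ee80420300103b01081c00420403d7a0010810108090040740420640107500f6194041d403e12000f840107f90041fc02d5e100feb0107f90029ac041ff000d940107f94041f802a6700107e0107d80041f403f4a10107d00fde90041f4040f6400e450107dc0041f00373a100cde0107c90041f002b36000aff0107c9003db00401a000f6c0107b90041ec03d7e50107b00a62))))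 (.node (.node (.leaf (nat_lit 0x940260000d8e40097f0036384025f800d8e00097d00363c4025f000d8b00097b0036290025e800d8a5009790036190025e000d861009770036180025d800d865009750036090025d000d821009730036080025c800d825009710035f90025c000d7e10096f0035f80025b800d7e10096d0035e80025b000d7b10096b0035dc0025a800d771009690035cc0025a000d725009670035b840259800d6e0009650035b840259000d6a0009630035ac40258800d6700096100359)) (.leaf (nat_lit 0xfc026ec0229a1002c0005048001f6401413f00504007d8fc01f6403456000660007a39001980038c6500c8100e31940261c0320a000e3200987800261c02197000d20007b4840118002bea000bb900afafc02ee002bea000e3700bbac40396c02eeb0005f900bbafc0397002eea000d1d00bbb8002eec039fa50073900e7e80039f803476500e7e00e2bc0039f8039f610075d00e7d90039f0039ee000e7b0066890039e8039e700073300e7a8001b68039e200073300e77))) (.node (.leaf (nat_lit 0x90023d8024320003ff0090b9002428024261005b60090980024200241e0003470090694024180154b0009060090590023ec02416000904009039400cec0240e400902009018002400023ff0008fe008fd80023f0023ee4003e7005c4900176000f9e4003a9003899000ff000ea61005d8003fd90017d400fea50064f003aa9000cc400eaa0005f1003aafc00ea8023eb0008eb005eb90023e80193e5005eb003fa80017c4023ea4008f9003c5c000fb4023e60008f8008f7))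 (.leaf (nat_lit 0))))) (.node (.node (.node (.leaf (nat_lit 0x80016000078b10057f001e1c0015f80078650057d001e190015f00078710057b001e0c0015e800782500579001e090015e000782100577001df80015d80077f100575001dec0015d00077a500573001de94015c800772400571001dc84015c00077200056f001dc84015b80076e00056d001dbc4015b00076b00056b001da80015a80076b100569001d9c0015a000767100567001d8940159800762400565001d8c4015900075f000563001d784015880075e000561001d7)) (.leaf (nat_lit 0x9001b580305e0006d3006d6840177001b5b1006ce005dac00097c0176a400d48005dafc0176801b3f00069e00b50900352001b3e100d3100d48c002d3003522400d4700a3c940351801cf7000d4600d45800300801cf6000d4200c0280018b00351640062000d4594035100284a000d4400d4394022fc03513000d4300659c0021d00350e100d420073dc003508027f2400d420061fc001a640350a50079600d41800163803506000d4100801940350401c37000d4100d40))) (.node (.leaf (nat_lit 0xfc002b400da7f0021c00368fc004880086e00021a0050a8400bc00142a40037a0050ac0007f00142600050800507c0014180141640050500423840106c0141700050400503c00140000bce5004410030f840140000c464002f800500c0013fc013fa4004fd004fc9000728010960001ca004fcc0008f8013ee4004fa004f9c000868013ea10028e004f89000e6c013e2000395004f790013d8009cf0004e7004f680013d4013d24004e6004f5c0013cc013ca5004db002b1))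 (.leaf (nat_lit 0)))) (.node (.node (.leaf (nat_lit 0x800360001582400d7f0055f94035f801576400d7d0055d80035f001576500d7b0055c90035e801572100d790055c80035e001572400d770055984035d801566000d750055994035d001563100d730055784035c80155e000d7100557c4035c00155b000d6f0055684035b80155a000d6d0055680035b001557100d6b00553c0035a80154f000d6900552c4035a001547000d6700551800359801547100d6500550c00359001542400d6300550c0035880153e500d610054f)) (.leaf (nat_lit 0x84023880267f000f9500aa4c003d8403e5650098300f95c003e500305a500f9300d09c003e4c03482500a5d00f928003e4802276500f9200b5bc003e480383b000f6000acc9003d7c0298a000f8900d4c8403bbc03532000d17008a7800229c03e43000bb900895c0026140380b000e02007d9940225403e42000f9000d1780033c803e46000f9100bbe9403e4403d7b000f9100f90c003e3c020f3000f8e00f58c003c7002aaa000f8d008119402aa803e36100e5b00f8c))) (.node (.leaf (nat_lit 0xc0031a8021a2000c6a00c7084031bc0139e400c5b00c6c90031ac031aa000c6900c68940319c026be400c66006a9800319403192400c6300c62800318403182000c5d00c5c940316c012c7000c5b00a2a80031680316610048700b73800304802dcff00c1100b739402dcc03166400c5800b72c001dfc031630004bf00c57c003154031524004bd00c51c00314002c36100bab00c4f900313802c2e000c4e00c4d80031300312e400c1d00c4b94015280312e000c4a00c49))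 (.leaf (nat_lit 0)))))) (.node (.node (.node (.node (.leaf (nat_lit 0xc400e00004a700037f001298400df8004a600037d00129c400df0004a300037b001288000de8004a310037900127c000de00049e500377001279000dd80049f10037500126c000dd00049a500373001269000dc80049b10037100125c000dc00049650036f001249000db80049210036d001248000db00049210036b001238000da80048f10036900122c000da00048a500367001229000d980048a100365001208000d90004830003630011f8000d880047f1003610011e)) (.leaf (nat_lit 0x94031240294a000c0f00ac784031240304e0004a100c13fc031280304e1007ba00b538001eec0152a4007bb00c60800246c01eee5007bb008f49001e0001eea0007b800c1bc002e100306f000b27008e9c0023b001dfe500c1b0077f900123801dff10043d008d4c002dcc023524009cd008d484026b00197600037c0065dc4023b002737f00c1c0077ffc0235002dca40049c009cd800197002737f009ad0065dfc02734030fa00038a0065cfc019700273a5004ab0065a))) (.node (.leaf (nat_lit 0x800079800bf61002fc001e28000bec00beb0002f90016d90006d8004061001f900101800028c00407f001fa001019400be0006d60000ff002f8c000bdc00bdb0002f5002f49000bcc00bca4002f1002f0840086800bc20002ef002eec000bb400bb25002eb0029bc000bac00baa0002e9002e8c000b9c00b9a0002c6002e5c000b9000b8e1002e20029b9000b8800b870002e0002df9000b7800b770002dc002db9000a9400b6e0002da002d9c000b6000b5e10013c002d7))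 (.leaf (nat_lit 0x8004104043ae4010eb00eff8403890043ae400f68010ebc0040f4043ae100dc3010eac0043a803fb24010ea00f6b80043a4043ab000e7b010ea800370c043a64010b8010e980043a0040024010e800f6c8004010043a25010e801006c0043a003a66101084010e7c00439c03f924010e70108680043840439f0010b4010e7c003b280439b0010e600f6d940415c0439a0010e6010099003d2c0439b0010d3010e5c0043940435a001090010e5840434004396400dbf010e5)))) (.node (.node (.leaf (nat_lit 0x8002e000110f100b7f00442c002df80110b100b7d00441c002df001106500b7b0043f9002de8010fe100b790043f8002de0010fe500b770043e9002dd8010fa100b750043e8002dd0010fb100b730043dc002dc8010f6100b710043d9402dc0010f2400b6f0043c8402db8010f2000b6d0043c9402db0010ee400b6b0043b8402da8010ee000b690043bc002da0010ea000b670043a8002d98010e6500b65004388402d90010e2000b63004389002d88010da500b6100435)) (.leaf (nat_lit 0xc00368c03c13000f040099bc003c1803bf2400f0600f058003c1003c1b000d5500f068003c1403b72000a6900f05900315403c12400e8100f039402af003c0e000f0300c8bc003c0c03c0a000f0200d088403c0802ef640073e00f029403c0402b870007b700f0194034bc03c060009e500f01c003bf80361e400ef800eeb9403be001ea71006a000ddec003be00377bf00dde00ef78401be403747100890006f6c000c2401bdbf006f6008919001a8002e165006a000972)))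 (.node (.leaf (nat_lit 0xc00205800fa2000a34003e88002a84028d2100aa1003e8c002a8002a7e000a9e00a9dc002a7002a6f000a9a00a99c002a6002962400a5f00a98c002a5c02a5a400a95008e0c002a5002a4e400a9200a91c0012d002a4a40089d00a8f9401e5002a3e00079200a908401fb002a42400a6400a90800296c02a3f000a8e00a8d9402a3002923000a8c00a8b8002a2801307000a8900a88c002a1c02a1a4004c400a85c002a1002a0e400a83005ef900193802a0e000a8200a81)) (.leaf (nat_lit 0))))) (.node (.node (.node (.leaf (nat_lit 0x8401e0000a7e00077f0029fc001df800a7b10077d0029dc001df000a7650077b0029c9001de800a721007790029c8001de000a724007770029b8001dd800a6e1007750029a8001dd000a6a500773002998401dc800a6600077100299c401dc000a6310076f00297c001db800a5e50076d002969001db000a5a10076b002968001da800a5a500769002959001da000a56100767002958001d9800a5710076500294c001d9000a52100763002948001d8800a5250076100293)) (.leaf (nat_lit 0xfc037200386b1002a7005c0c001e5001703f00793005c0800387402992000e1900e1d9402e6803872000dd400e1c800387001df3000e1c00e1b900386c01e8e10096a00e1b90038300386b1004c700885c002b3402217f00ca00088584016f40269e000e18009a7fc0385c0269e000a6400e19c00236003867000e1900cdc900221003866500884005bd80038600385e400e0400e18900385803856000e1400e1380038400383f000e0e007b090035a0028e7000da700d91)))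 (.node (.leaf (nat_lit 0x9001bd401bd20006f3006f29401bc4009d30006f1006f09001bc00146e400271006f09401bb8009ee00026b0027d8401bbc009f71002f600278c0003dc009e24006ef00278fc009e000bde5002f7006efc001bb801bb60006ec006eb9001bac00bda4006ea003268001ba401ba21005e8006e79000a6801b9f0006e6006e590009f001b924006e3003f08001b8c010cf0006e3006e2c001b840170a4003dd006e19001b800142f0006b4006e08001b8001b7e1005060064d)) (.leaf (nat_lit 0)))) (.node (.node (.leaf (nat_lit 0x9403e0001dc3000f7f0076bc403df801dab100f7d007698003df001d83100f7b0075ec003de801d7b100f79007599403de001d67000f7700758c003dd801d5a100f75007538003dd001d4e500f73007529403dc801d46400f71007518403dc001d46000f6f007518403db801d3e000f6d0074fc403db001d3b000f6b0074ec403da801d2e100f690074bc403da001d2b000f670074a9403d9801d27100f65007489003d9001d23000f63007478403d8801d1a000f6100746)) (.leaf (nat_lit 0xc403ae00299b00065e00a66fc03ae40299b0008bf00624c4022fc03a33f0062401013fc03a300404bf008bf00e8b8003a280405640101500ead8402b5804056400d4301015c0027e804057000f6200c12c00405003d8b000d3c00eb4c00304804053000de500d3c8004050037a6500d3c0101494039b004046100ac4010119002bb804047000e7f010118003b1c03ffa100fa200ffe9003b880404300101000918c002b8c04042500fa20101080037b004042100c730100f)))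 (.node (.leaf (nat_lit 0xfc03314022b65008ac00a1b90010240286ff00a1b00af08402820010260003a400409fc0102402827f003a400aef9001a6c02aee500b8c00abbc402ba002b83f00ae900ae0900231802b7a500adf008b99002b8c02e5f10044e00ab1c002e5c02ac640044e00adc840232002b72000ae700adc940113801007f00ab100b96fc02b7002e57f0040100b94fc0113802b76100b9800b629402d6c02976000a5d00b2990010d40114250043500175fc0114002d87f0017500b60)) (.leaf (nat_lit 0)))))))) (.node (.node (.node (.node (.node (.node (.leaf (nat_lit 0x94004000013a4000ff0004ec4003f8001370000fd0004d90003f0001364000fb0004c80003e8001325000f90004b90003e00012e1000f70004b80003d80012f1000f50004ac0003d00012a4000f30004a94003c8001264000f10004984003c0001260000ef0004994003b8001224000ed0004884003b0001220000eb00048c4003a80011f0000e90004784003a00011e0000e70004794003980011a4000e50004684003900011a0000e3000469400388001164000e100045)) (.leaf (nat_lit 0xfc0157c0211ff0084600928c000b84009ab1002e1006eefc009a8020abf006ee0082980009f800a6ff006ed002e184009f800b8bf0029b00724fc00b8801c8f0002b70027dfc01dd8009fb1002b700722900211801c8bf0027d007c3fc01c8801f0bf002b7007219003398019a2000a710071c84009e40199e00071b00667fc0199c01c6a400753006619401d0c0198610028c0066bfc01d30019ae00028c0066684008e4006bbf0074d0066684013ac008e700021300279)))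 (.node (.leaf (nat_lit 0x8000000000065010ff00ffe84043f803f220010fd00f0b80043f003b6e1010fb00ece90043e803aa70010f900e9484043e003a265010f700e77c0043d8038c71010f500e1dc0043d0037a61010f300de290043c8037825010f100ddd80043c00373a5010ef00dcd90043b8037371010ed00dc9c0043b00371b0010eb00db594043a8036d64010e900db3c4043a0036ba5010e700d9584043980362e4010e500d879004390035964010e300d5f9404388035624010e100d58)) (.leaf (nat_lit 0x84039240419a400e4c01066c002d4804196000d6b010658402cd004196400e4a0106594036bc04192000dbd010648004190036aa50106400b6dc00419003efe100f7400ddd8001d4c03777f00ddd00f758003be00418e0010630102c940418c03dd300106300e9d80041880290e000f6a01062940418803af700106201004840418403af640106100fc6c003e140418650106000c76c00418002ef6100c1e0105fc00417c03ac240105f00e428003d380417f00101e0105f)))) (.node (.node (.leaf (nat_lit 0x840240000cce0008ff00333c4023f800ccb0008fd0033284023f000cca0008fb0033294023e800cc65008f90033084023e000cc20008f700330c4023d800cbf0008f50032f84023d000cbe0008f30032fc4023c800cbb1008f10032dc0023c000cb64008ef0032dc4023b800cb30008ed0032c94023b000cb24008eb0032c84023a800caa0008e90032ac4023a000ca70008e700329940239800ca64008e500329c40239000ca30008e300328900238800ca24008e100327))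 (.leaf (nat_lit 0xc401750021b3f002fa00e36fc021b0038d7f005d40086b8002194038cb000af500e4e80039b4039b2400d2000e6d9402cfc039b7000ab600e6c9402bb8039b3000e4a00a088001df80392e100e6b00e4b9402e44039ae10077e00e6b90028f4039af00064900e6bc4038f002c7f0005db00b1ffc038f402c7e500374008e89002694023a2000b6c008e8fc023a002692400e5b00e6a900268c0396e500e2b007398400dd001ce60009a300739fc01ce40268a1009a400b6c))) (.node (.leaf (nat_lit 0x84021c8022620008970089680022540225300089300892c0022440224250058d007ae900223c0223a1002b0005878001eb80161ff00587007ad8001ebc0223e10088e007ab900223401fd200088d0088cc400bf0020ef0008710083b9002230020eff0083b0087094021c00223300088b0088ac002224022224008710088790022180135600088500884900220c0220b00084c008828401e540220a000881008808401670021fe40031d0087f8000c5c021fa40087d003ad)) (.leaf (nat_lit 0))))) (.node (.node (.node (.leaf (nat_lit 0x9001400006d71004ff001b4c0013f8006d25004fd001b490013f0006d30004fb001b394013e8006ce4004f9001b390013e0006ca0004f7001b294013d8006c61004f5001b180013d0006c71004f3001b0c0013c8006c25004f1001af90013c0006be1004ef001af80013b8006be5004ed001ae84013b0006ba0004eb001aec0013a8006b71004e9001acc0013a0006b25004e7001ab8401398006ae0004e5001ab9001390006aa0004e3001aa9001388006a61004e1001a9))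 (.leaf (nat_lit 0x8401388031ca00068900c72fc0335c031ca00090100b7694025b401e0a10046d00782800260c01e0bf00bdb00782c00277c02cfa000cf500c0d900321403036400c0c00a08c002d1c03216400b3300c0c8002ccc027e210084f009f894025d80213e100b330084f900169c01f265005a700772c001db001c0a00076c005a384023480173b100693005a6c0009200169bf00694005a6c0026840143b00050e008dcc002364027ea0008da00532c0017c001b530006d400c49))) (.node (.leaf (nat_lit 0x80011e40126f00049a0049984012600114e40049800497c0012580125640049400493c0012480124640045a0049180012400123f00048e0048d8400a900123610047a0039e9001174011eb00019f0048c9401230011720004780048cc00122c0122a400489004888001168012230004870048690012140121200048300482900120400a8a400375002a4800062000dd60003750048094006c00120240047f0047ec000ed0011fa1001a70047ec0011ec011ea40047900478)) (.leaf (nat_lit 0)))) (.node (.node (.leaf (nat_lit 0xc003400013e3100cff004f7c0033f8013de500cfd004f790033f0013df100cfb004f5c0033e8013d7100cf9004f4c0033e0013d2500cf7004f490033d8013d2500cf5004f384033d0013ce000cf3004f3c0033c8013c6100cf1004f180033c0013c7100cef004f0c0033b8013c2000ced004f090033b0013bf100ceb004eec0033a8013ba500ce9004ee90033a0013bb100ce7004ed8403398013b6100ce5004ea8403390013a6000ce3004e99403388013a2000ce1004e8))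 (.leaf (nat_lit 0x900217003ddb0007dd00f768003dd403dd3000f74009e3c0037b403dc200075d00f658003d94039f6000e9a00f718003dcc03a6b000d7500f71c003dcc033f6400f7300ed08401d4402dc2000f7000b70fc02dc003dbe000f7100f73c00333403dce400f7200f718003dc003dbe000f6e00f6d940363c03db7000f6c00f6bc003da8033d6000f6900d07c003da003d9e100b5200f66c00360003d9b000f6600dd79003d98033d3000f6500b44c00275803d93000f6400de7))) (.node (.leaf (nat_lit 0xc002fc402fc2400bda00befc002fb80252a400bee00bedc002f3002fba00099300becc002fac02faa400bb700bea8002fa402f0e400bd900be98002f9802f96400bd500be49002f8c024fa400b0100be3c002bf402f8e000be200be1c002f0002f8650047700be19002f8002f7e000bdc00bdb9402bec02f6e500bda00475c002f6802f6640047300bd99402f5c02e8200046c00ba18402f6002e8700047000b9d9402e7402f63000bd700bd68002bc802f56400bd400bc0)) (.leaf (nat_lit 0)))))) (.node (.node (.node (.node (.leaf (nat_lit 0x8000c00003ef1002ff000fac000bf8003ea5002fd000fa9000bf0003ea1002fb000f98000be8003e71002f9000f88000be0003e31002f7000f7c000bd8003df1002f5000f6c000bd0003da5002f3000f69000bc8003da5002f1000f59000bc0003d61002ef000f58000bb8003d71002ed000f3c000bb0003cf1002eb000f2c000ba8003ca1002e9000f28000ba0003cb1002e7000f1c000b98003c60002e5000f1c400b90003c30002e3000f09400b88003c24002e1000f0))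 (.leaf (nat_lit 0x800313c02293f0031000c67fc0229002eaff004ae008a394026b002e02500969007f78400d2001fde000386007f7fc01fdc024df0005dd0064484019000179f000b560063dc0018f402973000ba60051194008b0014464006400051194019100144240022e00510fc018fc01447f0064500510800277001f7f100aa7009bfc000f9c026fff00aa8009bf84018e801fbe5002c9007189001fbc01c6210038e00718800276c01c63f00718007ee8400e3801fba0009db007ee))) (.node (.leaf (nat_lit 0x8400840009a20002670026694009940083300026500264800098c0098a50013000262c000984009824001ce0025f900097c004be0001ad0025fc0009780097610025c0020cc000970004c640025c0025bc000968009670002580025790008700095e00025600255c0009500094e400221001aec0003400094a5002520022080006b00094b00025100250900093c0093a00021c0024ec0009340093240024b0024a80009240092300024700246c000914008aa40024500244)) (.leaf (nat_lit 0x900341c04343000dd6010d0c0039640433f0010cf0108280042540433e100f3f010cf90043380433e000e9d010ce84035ec0433a400cf9010cec0042bc0433a100e90010cdc0043340414e4010cd00ffd800430404337000e7c010cd900410c04332000f99010429003e640410a500f96010428403e380410a0010c2010cc900433003e3a100fc1010ccc0041b4043320010cb01073c0040c8040321010cb00fbc900432c042da400cef010cbc0034c80432e000deb010ca))))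 (.node (.node (.leaf (nat_lit 0x9402c000103f100aff0040ec002bf80103a500afd0040e9002bf00103b100afb0040dc002be801036100af90040d8002be001037100af70040bc002bd80102e400af50040bc402bd00102b000af30040a9402bc80102a400af10040a9402bc001026000aef00409c402bb80101f000aed004079402bb00101a100aeb004068002ba80101b100ae900405c002ba001016400ae7004059002b9801013100ae5004038402b900100e000ae300403c402b880100b000ae100402)) (.leaf (nat_lit 0x90036a803b86400d3f00d5294034e4036a6400e2900da984016c4036a6000e0400da9fc036a40380e000e2900d3fc003b8002a4240088500ee09002228034fe400ee000ea8800222803b825006ff005b390009bc016cf1007cf006ffc00225001bfe000c9c006ff84009bc00867f005b300700fc0381c01bfe10060d0026ffc01bf400867f0026f0060efc0183401bfb0006ef00c5cc00317002413000d9d00917c00245c03103000916009ac940245802dc650043f00917))) (.node (.leaf (nat_lit 0x900292c0292a0003cd00a4b840292800f26000a49006c3c002924029221004c400a48940282c0291a000a4500a44c0029100240f00091c00a4494016d402913000a4300a42c002904016de4005bc00a419002900016ca000a3f00a3e9002864028fa5007cf00a3e80028f4028f20009ae0053694014d8028f24009ff00a3b9000ee4027fe400a3a004e380028e8028e6400a3800a3780028d8028d640040400a34c0010d0028d2000a3300450c0028c8028c700047e00a30))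 (.leaf (nat_lit 0))))) (.node (.node (.node (.leaf (nat_lit 0x9401c00009be4006ff0026f8401bf8009be0006fd0026fc401bf0009bb0006fb0026e8401be8009ba5006f90026d9001be0009b61006f70026d8001bd8009b65006f50026c9001bd0009b21006f30026c8001bc8009b31006f10026bc001bc0009ae0006ef0026bc401bb8009ab0006ed0026a8401bb0009aa0006eb0026a9401ba8009a61006e9002698001ba0009a64006e700268c401b980099f0006e5002679001b900099f1006e300266c001b880099a4006e100266)) (.leaf (nat_lit 0x94017fc037b6000ded0087fc0037b0037af000dea0087590037a8037a7000d0c00dea8402304037a7000de7009d690031180375650065600dd5940379c0195e400de80087480037a00379e40068000de8c00379803442400de600de580017f8037961008c000de584016640325e000de400c97fc0378c0325e400de400d0e80037900378e400d5400de4940378803683000de200de18001c100378640094b00de180037800230f000cc200759c403690017e3000593005f8))) (.node (.leaf (nat_lit 0x90019bc019bb00066d0066c90019ac019aa0006660066b94008e000d0e40066400343fc00d0c0198e0003430066ac0019a4019a240065100667900181c0199a0006000066590019900198f0006400066480019880198640063e00662c0019800197e4006240065f8001978018ce4006500065e90019740197200065b0065a90019640196200065700656800195400cba400654003c1800194c0194a5006510023ac001944019424002370065084019380182e50064e005ef))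 (.leaf (nat_lit 0)))) (.node (.node (.leaf (nat_lit 0xc403c0001a8e100eff006a38003bf801a8f100efd006a28003bf001a8b100efb006a1c003be801a86400ef9006a1c403be001a83000ef7006a09403bd801a82400ef5006a0c003bd001a7a100ef30069bc403bc801a6b000ef10069a9003bc001a6b100eef006908003bb801a43100eed0068ec003bb001a3a100eeb0068d8003ba801a37000ee90068cc003ba001a2e100ee7006888003b9801a23100ee500686c003b9001a1a100ee30067d8003b88019f6400ee10067c)) (.leaf (nat_lit 0x8403fec03ee2400ffb00bd19403fec03d63000ffb00bb98403d8003feb000ffa00ff49003fe803e4310088700dcfc003b2c0373ff00ff300dcfc003b4002fef000ff900ed09403fe403d97000bfb00ff98002b6c03fe6400fe600b8e9002e3803e5e100ff800b8e9003fe002e1a000a9200f558003fdc029e600093c00ff79403fdc028cb000ff700c8d9003ee803fdb00089600f23c003a5403fa6500ff400d4c900222403eea400ff500fe98003fd403fd3000ecb00ff3))) (.node (.leaf (nat_lit 0xfc005dc02c0bf0041e001a6fc0115c010421002a10015efc02c000069610040e002a1fc01e100057bf002a10040ffc0103801e16000afd00b06800332002bf6100cc800b068002c24033261004d6002cd84012980135b1004bd004c9c0028a001327f00cc6002cdfc0135801fe30004a5006bac40129402d9e1006b600c51fc013240322a500b7600a2890010f8028a3f00cc7004a680006a000653f006ba00c53fc02d9c0314bf00ccf00c5184006a00129610043e00332))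 (.leaf (nat_lit 0))))))) (.node (.node (.node (.node (.node (.leaf (nat_lit 0x9400800002924001ff000a484007f8002920001fd000a494007f00028e4001fb000a384007e80028e0001f9000a394007e00028a4001f7000a284007d80028a0001f5000a294007d0002864001f3000a184007c8002860001f1000a194007c00027e1001ef0009f80007b80027e1001ed0009e80007b00027a5001eb0009dc4007a8002730001e90009c90007a0002725001e70009b90007980026e1001e50009b80007900026e5001e30009a90007880026a1001e10009a)) (.leaf (nat_lit 0xfc003b801193f0080b00462fc00b70005fa1007a1004638402f0001e87f004630081cfc01e8402f07100ae1009e4c00100802793f00ae2009e4800159c02e32000b88005678001a90027965009e50069ac0014c40313f000c83005319001c18014c25009fa00530840279801c364009fa00706840265401c1a00037000706fc01c180265a50096f005c5c4025bc0147210039f0051c80027e801473f0051c009f9c0027e4025be000967009fbc001abc027ef10096100468))) (.node (.leaf (nat_lit 0x9000270004fb0000950013ec0004f4004f300013b0010990004ec004ea4001390010780004e4004e24001370006280004d8004d64001340012180004cc004ca400131000dc8000228004c70001300012f9000234004ba40012d0012c80004ac004aa40012900128800049c0049a00012500062c0004900048e00012200121c0001b00048650006000121c0004800023e4001200011f90004780023a00011e0011d90004700046e00011a0011990001d80046300006f00118))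 (.leaf (nat_lit 0x8403f0c0427b00109e00e96900427802d3e000fe60109ec00427403183000d120109d800427403af2400c4c0109d8403f5002bb2400deb00fd4940365803f5210109c00fd490040e80427300109c0101cc002dbc04272500f0c0109c900426c03eca1010600109b9003d680426f000ed90109b800426804046400ff40109a94035300426b000f5f01001c003fa40426700109900e958002b2c04266100f98010999002b1004266000eab01098900426004232100f4d01098)))) (.node (.node (.leaf (nat_lit 0xc40280000e830009ff003a084027f800e820009fd003a094027f000e7e4009fb0039f84027e800e7e0009f90039f90027e000e7a0009f70039e94027d800e721009f50039c80027d000e721009f30039b80027c800e6e5009f10039890027c000e620009ef0039894027b800e5e4009ed0039784027b000e5e0009eb0039784027a800e5a0009e900396c4027a000e570009e700395c40279800e470009e500391840279000e460009e300391c40278800e430009e100390)) (.leaf (nat_lit 0x9001cf00208e000d27008269402aa40208e100642009ff8003a94027fff009ff00ea4c00398803a97000ea5007639400b800190a40082600642fc020940190a000ea500ea4900207803a96400ea300e539403a8c02b5f000ea300ea290023c003a8a000ea100ea0940348803a83000e9f00e9ec003a74027c6000d7b00e9d900198803a77000e9c00a3bc002aa403a72100a5700e9c900349c03a7300090c00ca3900328c0337a50072b00cdf84028b40337e100aff00cde)))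 (.node (.leaf (nat_lit 0x900262c0262b0005660098bc0026240262300098700986c001f6402616400985009849400d9001ece40096b007b3fc0260401ece0007b7009859400d8c0174a400980005d2fc01748025fe0005d200984c00260c0260a40096b00981c00260001e864009800097fc0025740260240097e0079f80025f8025f640095b0097ec0025f0025ee4009450097b8002548010da00097a0095290010d8024f60004360097a90025a8025ea0009780070580025dc025da00097300972)) (.leaf (nat_lit 0))))) (.node (.node (.node (.leaf (nat_lit 0x90018000084f1005ff00212c0017f80084a5005fd0021290017f00084a5005fb0021190017e8008461005f90021180017e0008461005f700210c4017d80083f0005f50020fc4017d00083b0005f30020e94017c8008364005f10020d90017c0008320005ef0020cc4017b80082f0005ed0020b84017b00082e0005eb0020bc4017a80082b0005e90020a90017a00082b1005e700209c001798008271005e5002088401790008220005e300208c4017880081f0005e100207)) (.leaf (nat_lit 0x80020b801ade5006b7006e2940249801ae2400340006b8fc01ae00249f100d6f00abec00155802afbf00d7000abec40129c024970004bf00925fc024940315e100c5100d74c0035d002f02400d74009258001ad8035d30006d100d7480029b4035ce400d7300a4e94035cc01587000d730059f80035c8035c64005b500d719402910035c7000d7000d6f840155802462000d6e00918fc035b402462000346005948400d18007aa5001d500346900156c00d1bf0059400935)))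 (.node (.leaf (nat_lit 0xc0015b0015ae00054c0056ac0015a4015a300056700396900159801597000396001d8800159400e4b0005640056390007a80158e00056200561c0015800157e10054d003a390007bc0153650055e001ee800152c0157b00055d0055c900156c0156a0001ea0055ac0015640156240055700556c0015540155200055300552900154400ce60005500054fc0015380153640054c0054b80007680153210054b001d6c0015280152610030d00549900077c0152200054700546)) (.leaf (nat_lit 0)))) (.node (.node (.leaf (nat_lit 0x8403800016ae000dff005ab84037f80169e000dfd005a790037f00169b100dfb005a590037e801692500df9005a384037e00168f100df7005a2c0037d80168a500df5005a090037d001682000df3005a094037c80167a400df10059e84037c00167a000def0059e94037b801676100ded0059cc4037b00166f000deb0059b94037a80166a400de90059a84037a00166a000de70059a940379801666400de500599840379001666000de300599c4037880165f000de100597)) (.leaf (nat_lit 0xc00254c02fdf000a9500ec5c0025800383f000a6f00bd1c0029b8025824007fe00a6e90029b803ed7000fb500e1d8003ed4020d6000fb300fb29003d54029e6400a7900d3484024f0029e7000e4500d29c402a64024e70003e000939fc02a68024e7000fb100f42c0037f003ec6500d9e00fb18002a6003ec6000fb000f9cc003ebc02c9f0008e900faf8003ebc03c86500fac00a5a84027000296a400fae009c0c00394c03eba000fae00fad90025a403eb7000fad00a27)))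 (.node (.leaf (nat_lit 0x9401474033870004f600ce0c00337c0337b000cdd00c99900337403372400cdb0077c8001ea00336e000cdb007d5c00336c0336b000cd900cd880033300335f000cd600cd5c003350013f6400cd300cd2c0013f401382000cd2004fac003344033261006b600ccf800333803337000ccc00bfa9003330032aa0004e200cccc00332c0332b000cc9004df900332403322400cc7004dd800331c0331b000cc50087f9003314032d6400cc4008c580033100330e000cc200cc1)) (.leaf (nat_lit 0)))))) (.node (.node (.node (.node (.leaf (nat_lit 0xc401000005630003ff001589000ff8005631003fd00157c000ff00055e4003fb001568000fe80055a5003f9001559000fe0005561003f7001558000fd8005565003f5001549000fd0005521003f3001548000fc8005531003f100152c000fc00054a1003ef001528000fb80054a5003ed001519000fb0005461003eb001518000fa8005465003e9001509000fa0005421003e7001508000f98005430003e50014e8400f900053a0003e30014e9400f88005361003e10014d)) (.leaf (nat_lit 0xfc00b4002f3a1007fb007868000b3801e1bf00786007fcc001f3c022530007e000690800202001f720007e100808c401bec01a4700026e006918400b4401a460008070069194021e401a3a400cd40068e8000bcc01a3bf006fc006918400bcc0091ff0068e00859fc0091c02163f002f30068fc001a340219310078d0068b9401de801a2e40029c0068bfc01a2c01dee10075e0029c8000a4c00a7250078c0075efc00a7001d7ff007790075e8400a48008a7f0077800293)))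 (.node (.leaf (nat_lit 0x9400968005c210036800170c000de8009724001ba00368c0004c400dea50037a001b98000d9800dea4003770037680004f400ddb000375003749000dcc00dcb000371003709000dbc00dba1001790036e8000db400db200036b0036a9000d9c00d9a00012c003678400d98004a200036500364c000acc00d8e00034b00362c000d8400d8300035f0035e9000d7400d7300035b0035a9000d680098a4001300035a8000d6400d6300035700356940057800d5a10019300356)) (.leaf (nat_lit 0x21010a6010ffc0043fc042d64010ff0108e)))) (.node (.node (.leaf (nat_lit 0x8403000011fe000bff0047fc402ff8011f7000bfd0047d9402ff0011f6400bfb0047d9402fe8011f2400bf90047bc402fe0011e2100bf7004778002fd8011df100bf500476c002fd0011da500bf3004769002fc8011db100bf100475c002fc0011d6400bef004759402fb8011d2400bed004748002fb0011d3100beb00473c002fa8011ce400be9004739402fa0011c6400be7004718402f98011c6000be500471c002f90011c3000be30046f8402f88011be000be10046f)) (.leaf (nat_lit 0x800378403ccb000f3200de48401c1003cca000f310073c9003cc402f96100f3000d349003cc003393000be600da0c00223002f9b00088700ecb9403b6402222400675008888401b6c02222000c0a00888fc03b680222200088700f2f900258c03cbf0009e000f2fc003cb80258e000f1c00f2ec00257003cb6000f2b00f2d8403b6403cb6400c1700f2dc003cb0038ce0006db00c0a9003c7c0302a5006d700c0a8403b680302a000eda006dbc002b5403b66400f2b00d1e)))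 (.node (.leaf (nat_lit 0x9002bf402bf300046f00afdc002bec02bea40042600afa9402be401e67000af700af6800109802bd640046d00af5900102c011b6400af200af180011ac02bca400af0008acc002bb802bb6400aec006adc001b3402bb2000aeb00aea9001b2c02baf000aea00699c002ba402ba2100ae7008c89002a8802b9f000ae600aa690028d002b9b000ae5009f6c002b1802b93000ac100a78c00297c02b06500ac100a9d9000fd802a77f00a9d00ac29402b9002a7a000ae400ae3)) (.leaf (nat_lit 0))))) (.node (.node (.node (.leaf (nat_lit 0x840200000b3e0007ff002cfc401ff800b3b0007fd002ce8401ff000b3a0007fb002cec401fe800b370007f9002cd8401fe000b371007f7002cbc001fd800b2f1007f5002cac001fd000b2a5007f3002ca9001fc800b2b1007f1002c9c001fc000b265007ef002c99001fb800b265007ed002c89001fb000b221007eb002c88001fa800b221007e9002c7c401fa000b170007e7002c59401f9800b121007e5002c48001f9000b131007e3002c3c001f8800b0e5007e1002c3)) (.leaf (nat_lit 0xc0038dc02a86400e3700e28c001e80038de000e340084390038d0038ce00098000e34c0038900219a500e2f0086690017440219bf00e3000866c0038bc031fb0006e800e2f84038cc038bf0008a500e32c0038c8037d6400dfb00e328002610038c6400e3000e2fc003890038c2000e2e00e2d9003888038ba000e2c00e2b94017e4038b3000b6b00e2bc0038ac01a764009e600e2ac4014c002347000d41008d1fc023440350250099500e2a8002348038aa400e2900e03)))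 (.node (.leaf (nat_lit 0x8001e30012364007790078cc001e2c01e2a400461004da800118401e264004f200789c001e2001e1e4002c100786c00117c01e1a00078500784940115c01e13000783007829001e04011120007800077f90010bc01dfb0004280077ec001df401df240077b0077a8001de401de24002eb007778000b8801dda000775007749001dcc01d8a00077200771c001dc0019fe50076f002e8c001dbc01dba4002e50076e9001db401db200076b0076a9001da401da300076500764)) (.leaf (nat_lit 0)))) (.node (.node (.leaf (nat_lit 0xc40400002263100fff00897c003ff80225f000ffd008969003ff00225b100ffb008959403fe802256000ff9008929403fe002243100ff70088e9003fd802226100ff5008898003fd002227000ff3008878003fc80221f100ff10087e8003fc0021f7100fef0087bc003fb8021ee500fed0087b9003fb0021ee500feb0087a8403fa8021d6100fe9008728403fa0021c6000fe70086fc403f980219a100fe5008618003f900215a000fe3008529003f880213f100fe10084e)) (.leaf (nat_lit 0x9003b1803d32100dd700f4c80022a803d33f0100d00f4c84040c403d2e401031010019003820040c7000e3901031c00295c040c3000ca20102fc0040bc02ac2100eca0102f9003e8c040bf000d4400ebf8003ad0040ba40102e00e8c8403ab4040bb00102e0102d9003b6c03af2500a4900ebc8003af002c7b000d9800d75c003dc403662000f7200d93c40199c0364f00066e00d93fc03b080364e000d9400c0180040b40368e000a670102d90040b402922400a8c0102d)))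 (.node (.leaf (nat_lit 0xc002bfc01cc250040e001c6fc02218014b3f0073000afe94014b80103b100be30052ec0011bc014bbf00afc001c6fc01038014be100b060052e8003320014bbf00afd0052e8400978015121001cd0025efc01b2801513f0025e005438402ba8015160004060054584014a0010460001c500411fc01b2c00737f00aeb00545fc01044014a7f00b0500528fc0071402c1300054100cc880033240147e500b100041d900105401077000b7000b10800297402c4200041500ab9)) (.leaf (nat_lit 0)))))))))
noncomputable def c4Ft1 : BT Nat := .node c4Ft10 c4Ft11
noncomputable def c4Ft : BT Nat := .node c4Ft0 c4Ft1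
noncomputable def c4F (p : Nat) : Nat := row c4Ft (nat_lit 5) (nat_lit 31) (nat_lit 46) (nat_lit 70368744177663) p
noncomputable def c4P0000000 : BT Pf := (.node (.node (.node (.node (.node (.node (.node (.leaf .df) (.leaf (.cyc (nat_lit 19) [(nat_lit 2813), (nat_lit 8188)]))) (.node (.leaf .df) (.leaf (.cyc (nat_lit 25) [(nat_lit 12103), (nat_lit 12284)])))) (.node (.node (.leaf .df) (.leaf (.cyc (nat_lit 2) [(nat_lit 3639), (nat_lit 9485)]))) (.node (.leaf (.cyc (nat_lit 8) [(nat_lit 1914), (nat_lit 1912), (nat_lit 6142), (nat_lit 1931), (nat_lit 1932)])) (.leaf .df)))) (.node (.node (.node (.leaf .df) (.leaf (.cyc (nat_lit 29) [(nat_lit 7383), (nat_lit 9215), (nat_lit 2049)]))) (.node (.leaf (.cyc (nat_lit 2) [(nat_lit 891), (nat_lit 890)])) (.leaf .df))) (.node (.node (.leaf .df) (.leaf (.cyc (nat_lit 20) [(nat_lit 6229), (nat_lit 2016), (nat_lit 706), (nat_lit 707), (nat_lit 7835), (nat_lit 6023), (nat_lit 11261)]))) (.node (.leaf (.cyc (nat_lit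 2) [(nat_lit 2814), (nat_lit 2813)])) (.leaf .df))))) (.node (.node (.node (.node (.leaf .df) (.leaf (.cyc (nat_lit 18) [(nat_lit 4964), (nat_lit 8701), (nat_lit 1124)]))) (.node (.leaf (.cyc (nat_lit 5) [(nat_lit 319), (nat_lit 318)])) (.leaf (.cyc (nat_lit 2) [(nat_lit 4254), (nat_lit 10140)])))) (.node (.node (.leaf .df) (.leaf (.cyc (nat_lit 1) [(nat_lit 8840), (nat_lit 3749)]))) (.node (.leaf (.cyc (nat_lit 2) [(nat_lit 2444), (nat_lit 2443)])) (.leaf .df)))) (.node (.node (.node (.leaf .df) (.leaf (.cyc (nat_lit 6) [(nat_lit 9726), (nat_lit 8481)]))) (.node (.leaf (.cyc (nat_lit 5) [(nat_lit 1389), (nat_lit 1388)])) (.leaf .df))) (.node (.node (.leaf .df) (.leaf (.cyc (nat_lit 14) [(nat_lit 9146), (nat_lit 4021)]))) (.node (.leaf (.cyc (nat_lit 9) [(nat_lit 7679), (nat_lit 1308), (nat_lit 448), (nat_lit 450), (nat_lit 1313)])) (.leaf .df)))))) (.node (.node (.node (.node (.node (.leaf .df) (.leaf (.cyc (nat_lit 17) [(nat_lit 6548), (nat_lit 8446)])))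 (.node (.leaf (.cyc (nat_lit 0) [(nat_lit 4351), (nat_lit 1)])) (.leaf (.cyc (nat_lit 11) [(nat_lit 3493), (nat_lit 1397), (nat_lit 4751), (nat_lit 4732), (nat_lit 1356), (nat_lit 6818), (nat_lit 4197)])))) (.node (.node (.leaf .df) (.leaf (.cyc (nat_lit 18) [(nat_lit 3637), (nat_lit 10494)]))) (.node (.leaf (.cyc (nat_lit 6) [(nat_lit 2200), (nat_lit 2199)])) (.leaf .df)))) (.node (.node (.node (.leaf .df) (.leaf (.cyc (nat_lit 20) [(nat_lit 7563), (nat_lit 7102), (nat_lit 6954), (nat_lit 3185), (nat_lit 9471), (nat_lit 5452), (nat_lit 2119)]))) (.node (.leaf (.cyc (nat_lit 2) [(nat_lit 1180), (nat_lit 1179)])) (.leaf .df))) (.node (.node (.leaf .df) (.leaf (.cyc (nat_lit 13) [(nat_lit 6846), (nat_lit 8879), (nat_lit 1809), (nat_lit 4871), (nat_lit 1803), (nat_lit 9356), (nat_lit 3957)]))) (.node (.leaf (.cyc (nat_lit 9) [(nat_lit 3057), (nat_lit 1141), (nat_lit 4663), (nat_lit 1139), (nat_lit 3052)])) (.leaf .df))))) (.node (.node (.node (.node (.leaf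 .df) (.leaf (.cyc (nat_lit 17) [(nat_lit 2986), (nat_lit 8957)]))) (.node (.leaf (.cyc (nat_lit 2) [(nat_lit 616), (nat_lit 615)])) (.leaf (.cyc (nat_lit 13) [(nat_lit 4239), (nat_lit 11915), (nat_lit 11917), (nat_lit 11671), (nat_lit 10737), (nat_lit 10335), (nat_lit 4303)])))) (.node (.node (.leaf .df) (.leaf (.cyc (nat_lit 20) [(nat_lit 10115), (nat_lit 3613), (nat_lit 1471), (nat_lit 5059), (nat_lit 2326), (nat_lit 10975), (nat_lit 3809)]))) (.node (.leaf (.cyc (nat_lit 5) [(nat_lit 2637), (nat_lit 2636)])) (.leaf .df)))) (.node (.node (.node (.leaf .df) (.leaf (.cyc (nat_lit 6) [(nat_lit 3565), (nat_lit 6849)]))) (.node (.leaf (.cyc (nat_lit 2) [(nat_lit 1648), (nat_lit 1647)])) (.leaf .df))) (.node (.node (.leaf .df) (.leaf (.cyc (nat_lit 3) [(nat_lit 11791), (nat_lit 12031), (nat_lit 12030), (nat_lit 3024), (nat_lit 5415), (nat_lit 3215)]))) (.node (.leaf (.cyc (nat_lit 18) [(nat_lit 5315), (nat_lit 7933), (nat_lit 2818)])) (.leaf .df))))))) (.node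 (.node (.node (.node (.node (.node (.leaf .df) (.leaf (.cyc (nat_lit 28) [(nat_lit 6582), (nat_lit 8313)]))) (.node (.leaf .df) (.leaf (.cyc (nat_lit 3) [(nat_lit 6357), (nat_lit 4072), (nat_lit 12414), (nat_lit 4170), (nat_lit 6659), (nat_lit 4169)])))) (.node (.node (.leaf .df) (.leaf (.cyc (nat_lit 25) [(nat_lit 7859), (nat_lit 10366)]))) (.node (.leaf (.cyc (nat_lit 2) [(nat_lit 2068), (nat_lit 2067)])) (.leaf .df)))) (.node (.node (.node (.leaf .df) (.leaf (.cyc (nat_lit 25) [(nat_lit 9336), (nat_lit 9340)]))) (.node (.leaf (.cyc (nat_lit 5) [(nat_lit 1034), (nat_lit 1033)])) (.leaf .df))) (.node (.node (.leaf .df) (.leaf (.cyc (nat_lit 3) [(nat_lit 2078), (nat_lit 2081), (nat_lit 11390), (nat_lit 9672), (nat_lit 9675)]))) (.node (.leaf (.cyc (nat_lit 24) [(nat_lit 6131), (nat_lit 5297), (nat_lit 2947), (nat_lit 7281), (nat_lit 1097), (nat_lit 1096), (nat_lit 2953), (nat_lit 7295), (nat_lit 2855), (nat_lit 2853)])) (.leaf .df))))) (.node (.node (.node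 (.node (.leaf .df) (.leaf (.cyc (nat_lit 19) [(nat_lit 6554), (nat_lit 8830)]))) (.node (.leaf (.cyc (nat_lit 9) [(nat_lit 4734), (nat_lit 4563), (nat_lit 81), (nat_lit 83), (nat_lit 271)])) (.leaf (.cyc (nat_lit 5) [(nat_lit 12927), (nat_lit 12925)])))) (.node (.node (.leaf .df) (.leaf (.cyc (nat_lit 15) [(nat_lit 10875), (nat_lit 3301), (nat_lit 5467), (nat_lit 544), (nat_lit 4505), (nat_lit 630), (nat_lit 4883), (nat_lit 1840), (nat_lit 9177)]))) (.node (.leaf (.cyc (nat_lit 2) [(nat_lit 2529), (nat_lit 2528)])) (.leaf .df)))) (.node (.node (.node (.leaf .df) (.leaf (.cyc (nat_lit 8) [(nat_lit 5665), (nat_lit 9853), (nat_lit 9486), (nat_lit 7710), (nat_lit 7711)]))) (.node (.leaf (.cyc (nat_lit 21) [(nat_lit 1507), (nat_lit 4784), (nat_lit 4748), (nat_lit 4762), (nat_lit 1445)])) (.leaf .df))) (.node (.node (.leaf .df) (.leaf (.cyc (nat_lit 13) [(nat_lit 11899), (nat_lit 11903), (nat_lit 10841), (nat_lit 5154), (nat_lit 8528), (nat_lit 5095), (nat_lit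 5541), (nat_lit 3367)]))) (.node (.leaf (.cyc (nat_lit 3) [(nat_lit 1576), (nat_lit 1574), (nat_lit 7807), (nat_lit 3253), (nat_lit 5426), (nat_lit 3250)])) (.leaf .df)))))) (.node (.node (.node (.node (.node (.leaf .df) (.leaf (.cyc (nat_lit 20) [(nat_lit 2688), (nat_lit 980), (nat_lit 6959), (nat_lit 4623), (nat_lit 1014), (nat_lit 8229), (nat_lit 3031)]))) (.node (.leaf (.cyc (nat_lit 4) [(nat_lit 167), (nat_lit 50), (nat_lit 49), (nat_lit 4395), (nat_lit 4396)])) (.leaf (.cyc (nat_lit 3) [(nat_lit 12671), (nat_lit 4225), (nat_lit 12333), (nat_lit 12623), (nat_lit 9944)])))) (.node (.node (.leaf .df) (.leaf (.cyc (nat_lit 28) [(nat_lit 2490), (nat_lit 10623)]))) (.node (.leaf (.cyc (nat_lit 6) [(nat_lit 2319), (nat_lit 2318)])) (.leaf .df)))) (.node (.node (.node (.leaf .df) (.leaf (.cyc (nat_lit 8) [(nat_lit 5971), (nat_lit 9598), (nat_lit 9599), (nat_lit 3094), (nat_lit 3096)]))) (.node (.leaf (.cyc (nat_lit 28) [(nat_lit 5118), (nat_lit 5502)]))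 (.leaf .df))) (.node (.node (.leaf .df) (.leaf (.cyc (nat_lit 1) [(nat_lit 8260), (nat_lit 11644)]))) (.node (.leaf (.cyc (nat_lit 14) [(nat_lit 6349), (nat_lit 7551)])) (.leaf .df))))) (.node (.node (.node (.node (.leaf .df) (.leaf (.cyc (nat_lit 1) [(nat_lit 8239), (nat_lit 9087)]))) (.node (.leaf (.cyc (nat_lit 24) [(nat_lit 251), (nat_lit 4407), (nat_lit 255), (nat_lit 4556), (nat_lit 250), (nat_lit 249), (nat_lit 764), (nat_lit 4991), (nat_lit 485), (nat_lit 483)])) (.leaf (.cyc (nat_lit 14) [(nat_lit 13020), (nat_lit 4331)])))) (.node (.node (.leaf .df) (.leaf (.cyc (nat_lit 3) [(nat_lit 5957), (nat_lit 10955), (nat_lit 11129), (nat_lit 3844), (nat_lit 3846)]))) (.node (.leaf (.cyc (nat_lit 2) [(nat_lit 7039), (nat_lit 6949)])) (.leaf .df)))) (.node (.node (.node (.leaf .df) (.leaf (.cyc (nat_lit 17) [(nat_lit 10099), (nat_lit 10111)]))) (.node (.leaf (.cyc (nat_lit 5) [(nat_lit 1782), (nat_lit 1781)])) (.leaf .df))) (.node (.node (.leaf .df) (.leaf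 (.cyc (nat_lit 8) [(nat_lit 2313), (nat_lit 8124), (nat_lit 2272), (nat_lit 2270), (nat_lit 4117)]))) (.node (.leaf (.cyc (nat_lit 17) [(nat_lit 3268), (nat_lit 8063)])) (.leaf .df))))))))
noncomputable def c4P0000001 : BT Pf := (.node (.node (.node (.node (.node (.node (.node (.leaf .df) (.leaf (.cyc (nat_lit 31) [(nat_lit 6618), (nat_lit 6620), (nat_lit 8254), (nat_lit 2808), (nat_lit 7163), (nat_lit 1944), (nat_lit 1945)]))) (.node (.leaf .df) (.leaf (.cyc (nat_lit 4) [(nat_lit 12351), (nat_lit 6925), (nat_lit 10944), (nat_lit 10946), (nat_lit 3796)])))) (.node (.node (.leaf .df) (.leaf (.cyc (nat_lit 7) [(nat_lit 10301), (nat_lit 2788), (nat_lit 8241), (nat_lit 8244), (nat_lit 2717), (nat_lit 5767), (nat_lit 3655)]))) (.node (.leaf (.cyc (nat_lit 0) [(nat_lit 5516), (nat_lit 1996)])) (.leaf .df)))) (.node (.node (.node (.leaf .df) (.leaf (.cyc (nat_lit 24) [(nat_lit 1811), (nat_lit 1812), (nat_lit 7833), (nat_lit 7518), (nat_lit 7493), (nat_lit 9278),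 (nat_lit 9279), (nat_lit 3131), (nat_lit 3129)]))) (.node (.leaf (.cyc (nat_lit 5) [(nat_lit 964), (nat_lit 4815)])) (.leaf .df))) (.node (.node (.leaf .df) (.leaf (.cyc (nat_lit 6) [(nat_lit 11327), (nat_lit 10172)]))) (.node (.leaf (.cyc (nat_lit 10) [(nat_lit 1913), (nat_lit 667), (nat_lit 4637), (nat_lit 1071), (nat_lit 2900)])) (.leaf .df))))) (.node (.node (.node (.node (.leaf .df) (.leaf (.cyc (nat_lit 29) [(nat_lit 5457), (nat_lit 8765)]))) (.node (.leaf (.cyc (nat_lit 6) [(nat_lit 396), (nat_lit 395)])) (.leaf (.cyc (nat_lit 4) [(nat_lit 12143), (nat_lit 7557), (nat_lit 11055), (nat_lit 12167), (nat_lit 12862)])))) (.node (.node (.leaf .df) (.leaf (.cyc (nat_lit 11) [(nat_lit 3756), (nat_lit 1614), (nat_lit 561), (nat_lit 4488), (nat_lit 564), (nat_lit 1622), (nat_lit 3763)]))) (.node (.leaf (.cyc (nat_lit 14) [(nat_lit 6425), (nat_lit 6719)])) (.leaf .df)))) (.node (.node (.node (.leaf .df) (.leaf (.cyc (nat_lit 2) [(nat_lit 3477), (nat_lit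 3476)]))) (.node (.leaf (.cyc (nat_lit 3) [(nat_lit 4766), (nat_lit 4765), (nat_lit 1462), (nat_lit 5693), (nat_lit 1343), (nat_lit 1345)])) (.leaf .df))) (.node (.node (.leaf .df) (.leaf (.cyc (nat_lit 14) [(nat_lit 11670), (nat_lit 11839)]))) (.node (.leaf (.cyc (nat_lit 35) [(nat_lit 5446), (nat_lit 3275), (nat_lit 7658), (nat_lit 1249), (nat_lit 1247), (nat_lit 7740), (nat_lit 1669), (nat_lit 4828), (nat_lit 1665), (nat_lit 7643)])) (.leaf .df)))))) (.node (.node (.node (.node (.node (.leaf .df) (.leaf (.cyc (nat_lit 25) [(nat_lit 7311), (nat_lit 8510)]))) (.node (.leaf (.cyc (nat_lit 6) [(nat_lit 86), (nat_lit 85)])) (.leaf (.cyc (nat_lit 0) [(nat_lit 12012), (nat_lit 12606)])))) (.node (.node (.leaf .df) (.leaf (.cyc (nat_lit 4) [(nat_lit 3701), (nat_lit 1560), (nat_lit 1558), (nat_lit 8490), (nat_lit 8489)]))) (.node (.leaf (.cyc (nat_lit 10) [(nat_lit 1428), (nat_lit 489), (nat_lit 487), (nat_lit 6460), (nat_lit 2268)])) (.leaf .df)))) (.node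 (.node (.node (.leaf .df) (.leaf (.cyc (nat_lit 27) [(nat_lit 3373), (nat_lit 1306), (nat_lit 5534), (nat_lit 5535), (nat_lit 9445), (nat_lit 6725), (nat_lit 7797)]))) (.node (.leaf (.cyc (nat_lit 13) [(nat_lit 4959), (nat_lit 679), (nat_lit 221), (nat_lit 4523), (nat_lit 4454), (nat_lit 420), (nat_lit 1236)])) (.leaf .df))) (.node (.node (.leaf .df) (.leaf (.cyc (nat_lit 4) [(nat_lit 10477), (nat_lit 10703), (nat_lit 10705), (nat_lit 10701), (nat_lit 11582)]))) (.node (.leaf (.cyc (nat_lit 5) [(nat_lit 3117), (nat_lit 3116)])) (.leaf .df))))) (.node (.node (.node (.node (.leaf .df) (.leaf (.cyc (nat_lit 18) [(nat_lit 2992), (nat_lit 9022)]))) (.node (.leaf (.cyc (nat_lit 3) [(nat_lit 4923), (nat_lit 684), (nat_lit 223), (nat_lit 225), (nat_lit 692)])) (.leaf (.cyc (nat_lit 9) [(nat_lit 13039), (nat_lit 13034), (nat_lit 12986), (nat_lit 12931), (nat_lit 13119)])))) (.node (.node (.leaf .df) (.leaf (.cyc (nat_lit 13) [(nat_lit 3413), (nat_lit 1347), (nat_lit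 4730), (nat_lit 1350), (nat_lit 5924), (nat_lit 5926), (nat_lit 3827)]))) (.node (.leaf (.cyc (nat_lit 2) [(nat_lit 2656), (nat_lit 2655)])) (.leaf .df)))) (.node (.node (.node (.leaf .df) (.leaf (.cyc (nat_lit 16) [(nat_lit 2962), (nat_lit 1100), (nat_lit 5711), (nat_lit 4763), (nat_lit 5713), (nat_lit 2627), (nat_lit 6901), (nat_lit 3593), (nat_lit 10047)]))) (.node (.leaf (.cyc (nat_lit 6) [(nat_lit 1721), (nat_lit 1720)])) (.leaf .df))) (.node (.node (.leaf .df) (.leaf (.cyc (nat_lit 5) [(nat_lit 12095), (nat_lit 11140)]))) (.node (.leaf (.cyc (nat_lit 17) [(nat_lit 7092), (nat_lit 7991)])) (.leaf .df))))))) (.node (.node (.node (.node (.node (.node (.leaf .df) (.leaf (.cyc (nat_lit 17) [(nat_lit 8051), (nat_lit 8380), (nat_lit 1995)]))) (.node (.leaf .df) (.leaf (.cyc (nat_lit 0) [(nat_lit 10891), (nat_lit 12479)])))) (.node (.node (.leaf .df) (.leaf (.cyc (nat_lit 14) [(nat_lit 8832), (nat_lit 10431)]))) (.node (.leaf (.cyc (nat_lit 4) [(nat_lit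 2137), (nat_lit 754), (nat_lit 245), (nat_lit 248), (nat_lit 761)])) (.leaf .df)))) (.node (.node (.node (.leaf .df) (.leaf (.cyc (nat_lit 30) [(nat_lit 3172), (nat_lit 9396), (nat_lit 2281), (nat_lit 5226), (nat_lit 6482), (nat_lit 6481), (nat_lit 7128), (nat_lit 2777), (nat_lit 2775)]))) (.node (.leaf (.cyc (nat_lit 6) [(nat_lit 1108), (nat_lit 4911)])) (.leaf .df))) (.node (.node (.leaf .df) (.leaf (.cyc (nat_lit 20) [(nat_lit 3860), (nat_lit 1725), (nat_lit 5528), (nat_lit 5933), (nat_lit 3846), (nat_lit 11454), (nat_lit 2065), (nat_lit 2062)]))) (.node (.leaf (.cyc (nat_lit 5) [(nat_lit 3000), (nat_lit 2999)])) (.leaf .df))))) (.node (.node (.node (.node (.leaf .df) (.leaf (.cyc (nat_lit 1) [(nat_lit 6358), (nat_lit 8895)]))) (.node (.leaf (.cyc (nat_lit 9) [(nat_lit 540), (nat_lit 173), (nat_lit 4388), (nat_lit 170), (nat_lit 531)])) (.leaf (.cyc (nat_lit 28) [(nat_lit 12988), (nat_lit 12991)])))) (.node (.node (.leaf .df) (.leaf (.cyc (nat_lit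 28) [(nat_lit 3358), (nat_lit 10943)]))) (.node (.leaf (.cyc (nat_lit 12) [(nat_lit 6847), (nat_lit 1434), (nat_lit 492), (nat_lit 4552), (nat_lit 767), (nat_lit 6356), (nat_lit 6399), (nat_lit 2199), (nat_lit 2197)])) (.leaf .df)))) (.node (.node (.node (.leaf .df) (.leaf (.cyc (nat_lit 17) [(nat_lit 8082), (nat_lit 9916), (nat_lit 3453)]))) (.node (.leaf (.cyc (nat_lit 6) [(nat_lit 1576), (nat_lit 1575)])) (.leaf .df))) (.node (.node (.leaf .df) (.leaf (.cyc (nat_lit 1) [(nat_lit 10977), (nat_lit 11967)]))) (.node (.leaf (.cyc (nat_lit 28) [(nat_lit 7445), (nat_lit 7869), (nat_lit 3077)])) (.leaf .df)))))) (.node (.node (.node (.node (.node (.leaf .df) (.leaf (.cyc (nat_lit 20) [(nat_lit 7425), (nat_lit 3058), (nat_lit 1141), (nat_lit 1142), (nat_lit 3062), (nat_lit 8638), (nat_lit 6912)]))) (.node (.leaf (.cyc (nat_lit 5) [(nat_lit 4543), (nat_lit 4541)])) (.leaf (.cyc (nat_lit 8) [(nat_lit 12440), (nat_lit 12442), (nat_lit 12685), (nat_lit 12688),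 (nat_lit 4239)])))) (.node (.node (.leaf .df) (.leaf (.cyc (nat_lit 27) [(nat_lit 3725), (nat_lit 1572), (nat_lit 1571), (nat_lit 3721), (nat_lit 10683), (nat_lit 7125), (nat_lit 10336), (nat_lit 6793)]))) (.node (.leaf (.cyc (nat_lit 20) [(nat_lit 1319), (nat_lit 4725), (nat_lit 4722), (nat_lit 4594), (nat_lit 5085), (nat_lit 5086), (nat_lit 2382)])) (.leaf .df)))) (.node (.node (.node (.leaf .df) (.leaf (.cyc (nat_lit 1) [(nat_lit 9662), (nat_lit 3426)]))) (.node (.leaf (.cyc (nat_lit 6) [(nat_lit 1314), (nat_lit 1313)])) (.leaf .df))) (.node (.node (.leaf .df) (.leaf (.cyc (nat_lit 23) [(nat_lit 10054), (nat_lit 10053), (nat_lit 10058), (nat_lit 10059), (nat_lit 7083), (nat_lit 7086), (nat_lit 9936), (nat_lit 6224), (nat_lit 4004)]))) (.node (.leaf (.cyc (nat_lit 5) [(nat_lit 3238), (nat_lit 3237)])) (.leaf .df))))) (.node (.node (.node (.node (.leaf .df) (.leaf (.cyc (nat_lit 1) [(nat_lit 5962), (nat_lit 9150)]))) (.node (.leaf (.cyc (nat_lit 2) [(nat_lit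 823), (nat_lit 822)])) (.leaf (.cyc (nat_lit 14) [(nat_lit 12753), (nat_lit 4344)])))) (.node (.node (.leaf .df) (.leaf (.cyc (nat_lit 23) [(nat_lit 10666), (nat_lit 10667), (nat_lit 10668), (nat_lit 7005), (nat_lit 7003), (nat_lit 7009), (nat_lit 11199), (nat_lit 3875), (nat_lit 3873)]))) (.node (.leaf (.cyc (nat_lit 2) [(nat_lit 2751), (nat_lit 2750)])) (.leaf .df)))) (.node (.node (.node (.leaf .df) (.leaf (.cyc (nat_lit 8) [(nat_lit 10175), (nat_lit 3530), (nat_lit 9880), (nat_lit 5475), (nat_lit 8772)]))) (.node (.leaf (.cyc (nat_lit 2) [(nat_lit 1857), (nat_lit 1856)])) (.leaf .df))) (.node (.node (.leaf .df) (.leaf (.cyc (nat_lit 14) [(nat_lit 8911), (nat_lit 4133)]))) (.node (.leaf (.cyc (nat_lit 29) [(nat_lit 2823), (nat_lit 8126)])) (.leaf .df))))))))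
noncomputable def c4P000000 : BT Pf := .node c4P0000000 c4P0000001
noncomputable def c4P0000010 : BT Pf := (.node (.node (.node (.node (.node (.node (.node (.leaf .df) (.leaf (.cyc (nat_lit 19) [(nat_lit 5337), (nat_lit 8209)]))) (.node (.leaf .df) (.leaf (.cyc (nat_lit 22) [(nat_lit 9835), (nat_lit 12315), (nat_lit 3538), (nat_lit 5659), (nat_lit 9571), (nat_lit 9569), (nat_lit 3909)])))) (.node (.node (.leaf .df) (.leaf (.cyc (nat_lit 0) [(nat_lit 10227), (nat_lit 10271)]))) (.node (.leaf (.cyc (nat_lit 5) [(nat_lit 1961), (nat_lit 1960)])) (.leaf .df)))) (.node (.node (.node (.leaf .df) (.leaf (.cyc (nat_lit 19) [(nat_lit 6374), (nat_lit 9242)]))) (.node (.leaf (.cyc (nat_lit 2) [(nat_lit 926), (nat_lit 925)])) (.leaf .df))) (.node (.node (.leaf .df) (.leaf (.cyc (nat_lit 20) [(nat_lit 2609), (nat_lit 5169), (nat_lit 7763), (nat_lit 5908), (nat_lit 3811), (nat_lit 11295), (nat_lit 6415), (nat_lit 3524)]))) (.node (.leaf (.cyc (nat_lit 9) [(nat_lit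 2865), (nat_lit 1056), (nat_lit 4634), (nat_lit 1053), (nat_lit 2857)])) (.leaf .df))))) (.node (.node (.node (.node (.leaf .df) (.leaf (.cyc (nat_lit 25) [(nat_lit 1807), (nat_lit 8727), (nat_lit 3224)]))) (.node (.leaf (.cyc (nat_lit 5) [(nat_lit 363), (nat_lit 362)])) (.leaf (.cyc (nat_lit 27) [(nat_lit 4260), (nat_lit 9386), (nat_lit 2313), (nat_lit 8123), (nat_lit 4120), (nat_lit 12176), (nat_lit 10422)])))) (.node (.node (.leaf .df) (.leaf (.cyc (nat_lit 0) [(nat_lit 10781), (nat_lit 10782)]))) (.node (.leaf (.cyc (nat_lit 8) [(nat_lit 6676), (nat_lit 6681), (nat_lit 1351), (nat_lit 4732), (nat_lit 1355)])) (.leaf .df)))) (.node (.node (.node (.leaf .df) (.leaf (.cyc (nat_lit 9) [(nat_lit 2206), (nat_lit 5013), (nat_lit 6350), (nat_lit 6352), (nat_lit 9758)]))) (.node (.leaf (.cyc (nat_lit 0) [(nat_lit 5614), (nat_lit 1427)])) (.leaf .df))) (.node (.node (.leaf .df) (.leaf (.cyc (nat_lit 5) [(nat_lit 4030), (nat_lit 4029)]))) (.node (.leaf (.cyc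 (nat_lit 6) [(nat_lit 3316), (nat_lit 7454)])) (.leaf .df)))))) (.node (.node (.node (.node (.node (.leaf .df) (.leaf (.cyc (nat_lit 29) [(nat_lit 7072), (nat_lit 8478)]))) (.node (.leaf (.cyc (nat_lit 5) [(nat_lit 46), (nat_lit 45)])) (.leaf (.cyc (nat_lit 31) [(nat_lit 9561), (nat_lit 11005), (nat_lit 11002), (nat_lit 12575), (nat_lit 11618), (nat_lit 6270), (nat_lit 11454), (nat_lit 11138)])))) (.node (.node (.leaf .df) (.leaf (.cyc (nat_lit 28) [(nat_lit 2610), (nat_lit 10527)]))) (.node (.leaf (.cyc (nat_lit 2) [(nat_lit 2242), (nat_lit 2241)])) (.leaf .df)))) (.node (.node (.node (.leaf .df) (.leaf (.cyc (nat_lit 9) [(nat_lit 3351), (nat_lit 1287), (nat_lit 4710), (nat_lit 1284), (nat_lit 7204)]))) (.node (.leaf (.cyc (nat_lit 7) [(nat_lit 1188), (nat_lit 403), (nat_lit 127), (nat_lit 4378), (nat_lit 130), (nat_lit 411), (nat_lit 1212)])) (.leaf .df))) (.node (.node (.leaf .df) (.leaf (.cyc (nat_lit 4) [(nat_lit 3964), (nat_lit 1896), (nat_lit 10348),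 (nat_lit 10826), (nat_lit 10820)]))) (.node (.leaf (.cyc (nat_lit 3) [(nat_lit 7444), (nat_lit 6145), (nat_lit 5351), (nat_lit 1152), (nat_lit 3078)])) (.leaf .df))))) (.node (.node (.node (.node (.leaf .df) (.leaf (.cyc (nat_lit 28) [(nat_lit 7182), (nat_lit 8986), (nat_lit 8603)]))) (.node (.leaf (.cyc (nat_lit 8) [(nat_lit 4895), (nat_lit 553), (nat_lit 177), (nat_lit 175), (nat_lit 546)])) (.leaf (.cyc (nat_lit 8) [(nat_lit 4309), (nat_lit 10846), (nat_lit 12249), (nat_lit 12251), (nat_lit 13068)])))) (.node (.node (.leaf .df) (.leaf (.cyc (nat_lit 17) [(nat_lit 10867), (nat_lit 11037), (nat_lit 6107)]))) (.node (.leaf (.cyc (nat_lit 3) [(nat_lit 5900), (nat_lit 5945), (nat_lit 6942), (nat_lit 6700), (nat_lit 5032), (nat_lit 6694)])) (.leaf .df)))) (.node (.node (.node (.leaf .df) (.leaf (.cyc (nat_lit 30) [(nat_lit 6795), (nat_lit 10015), (nat_lit 10014), (nat_lit 6121), (nat_lit 6111), (nat_lit 8094), (nat_lit 9450), (nat_lit 1899), (nat_lit 1897)])))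 (.node (.leaf (.cyc (nat_lit 6) [(nat_lit 1685), (nat_lit 1684)])) (.leaf .df))) (.node (.node (.leaf .df) (.leaf (.cyc (nat_lit 8) [(nat_lit 12063), (nat_lit 3470), (nat_lit 6760), (nat_lit 9368), (nat_lit 9975)]))) (.node (.leaf (.cyc (nat_lit 10) [(nat_lit 2886), (nat_lit 1065), (nat_lit 7957), (nat_lit 5266), (nat_lit 6419)])) (.leaf .df))))))) (.node (.node (.node (.node (.node (.node (.leaf .df) (.leaf (.cyc (nat_lit 28) [(nat_lit 6585), (nat_lit 8351)]))) (.node (.leaf .df) (.leaf (.cyc (nat_lit 3) [(nat_lit 3455), (nat_lit 9750), (nat_lit 2481), (nat_lit 2482), (nat_lit 4177)])))) (.node (.node (.leaf .df) (.leaf (.cyc (nat_lit 11) [(nat_lit 6418), (nat_lit 9107), (nat_lit 9109), (nat_lit 9104), (nat_lit 3124), (nat_lit 10393), (nat_lit 6428)]))) (.node (.leaf (.cyc (nat_lit 1) [(nat_lit 6247), (nat_lit 2107)])) (.leaf .df)))) (.node (.node (.node (.leaf .df) (.leaf (.cyc (nat_lit 18) [(nat_lit 7190), (nat_lit 9375)]))) (.node (.leaf (.cyc (nat_lit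 2) [(nat_lit 1073), (nat_lit 1072)])) (.leaf .df))) (.node (.node (.leaf .df) (.leaf (.cyc (nat_lit 22) [(nat_lit 3925), (nat_lit 10253), (nat_lit 11217), (nat_lit 7179), (nat_lit 7966), (nat_lit 2265), (nat_lit 2262)]))) (.node (.leaf (.cyc (nat_lit 0) [(nat_lit 6234), (nat_lit 2977)])) (.leaf .df))))) (.node (.node (.node (.node (.leaf .df) (.leaf (.cyc (nat_lit 18) [(nat_lit 2663), (nat_lit 8862)]))) (.node (.leaf (.cyc (nat_lit 8) [(nat_lit 503), (nat_lit 501), (nat_lit 4766), (nat_lit 270), (nat_lit 272)])) (.leaf (.cyc (nat_lit 22) [(nat_lit 12957), (nat_lit 12955), (nat_lit 12702), (nat_lit 4231), (nat_lit 11685), (nat_lit 11673), (nat_lit 11754)])))) (.node (.node (.leaf .df) (.leaf (.cyc (nat_lit 20) [(nat_lit 6062), (nat_lit 6010), (nat_lit 4869), (nat_lit 642), (nat_lit 1841), (nat_lit 10911), (nat_lit 3790)]))) (.node (.leaf (.cyc (nat_lit 6) [(nat_lit 2562), (nat_lit 6812)])) (.leaf .df)))) (.node (.node (.node (.leaf .df) (.leaf (.cyc (nat_lit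 2) [(nat_lit 3537), (nat_lit 3536)]))) (.node (.leaf (.cyc (nat_lit 0) [(nat_lit 4800), (nat_lit 1538)])) (.leaf .df))) (.node (.node (.leaf .df) (.leaf (.cyc (nat_lit 26) [(nat_lit 3534), (nat_lit 1419), (nat_lit 4755), (nat_lit 5002), (nat_lit 774), (nat_lit 772), (nat_lit 6354), (nat_lit 10709), (nat_lit 11935)]))) (.node (.leaf (.cyc (nat_lit 18) [(nat_lit 7449), (nat_lit 7839)])) (.leaf .df)))))) (.node (.node (.node (.node (.node (.leaf .df) (.leaf (.cyc (nat_lit 34) [(nat_lit 5555), (nat_lit 5550), (nat_lit 506), (nat_lit 504), (nat_lit 1473), (nat_lit 8603), (nat_lit 6055), (nat_lit 6050), (nat_lit 1588), (nat_lit 1587)]))) (.node (.leaf (.cyc (nat_lit 5) [(nat_lit 213), (nat_lit 212)])) (.leaf (.cyc (nat_lit 10) [(nat_lit 12287), (nat_lit 3915), (nat_lit 3913), (nat_lit 12366), (nat_lit 4233)])))) (.node (.node (.leaf .df) (.leaf (.cyc (nat_lit 18) [(nat_lit 7112), (nat_lit 10655)]))) (.node (.leaf (.cyc (nat_lit 6) [(nat_lit 2353), (nat_lit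 2352)])) (.leaf .df)))) (.node (.node (.node (.leaf .df) (.leaf (.cyc (nat_lit 21) [(nat_lit 9631), (nat_lit 8635), (nat_lit 3380), (nat_lit 9555), (nat_lit 7600)]))) (.node (.leaf (.cyc (nat_lit 2) [(nat_lit 1294), (nat_lit 4723)])) (.leaf .df))) (.node (.node (.leaf .df) (.leaf (.cyc (nat_lit 8) [(nat_lit 10811), (nat_lit 10638), (nat_lit 10807), (nat_lit 10808), (nat_lit 11679), (nat_lit 11678)]))) (.node (.leaf (.cyc (nat_lit 5) [(nat_lit 3213), (nat_lit 3212)])) (.leaf .df))))) (.node (.node (.node (.node (.leaf .df) (.leaf (.cyc (nat_lit 28) [(nat_lit 7184), (nat_lit 9117)]))) (.node (.leaf (.cyc (nat_lit 17) [(nat_lit 733), (nat_lit 5023)])) (.leaf (.cyc (nat_lit 8) [(nat_lit 13214), (nat_lit 4184), (nat_lit 10181), (nat_lit 10349), (nat_lit 10826)])))) (.node (.node (.leaf .df) (.leaf (.cyc (nat_lit 2) [(nat_lit 3862), (nat_lit 3861)]))) (.node (.leaf (.cyc (nat_lit 5) [(nat_lit 2734), (nat_lit 2733)])) (.leaf .df)))) (.node (.node (.node (.leaf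 .df) (.leaf (.cyc (nat_lit 4) [(nat_lit 9954), (nat_lit 7647), (nat_lit 6122), (nat_lit 8098), (nat_lit 3621)]))) (.node (.leaf (.cyc (nat_lit 2) [(nat_lit 1825), (nat_lit 1824)])) (.leaf .df))) (.node (.node (.leaf .df) (.leaf (.cyc (nat_lit 0) [(nat_lit 11931), (nat_lit 12191)]))) (.node (.leaf (.cyc (nat_lit 28) [(nat_lit 1526), (nat_lit 8095)])) (.leaf .df))))))))
noncomputable def c4P0000011 : BT Pf := (.node (.node (.node (.node (.node (.node (.node (.leaf .df) (.leaf (.cyc (nat_lit 19) [(nat_lit 6165), (nat_lit 8278)]))) (.node (.leaf .df) (.leaf (.cyc (nat_lit 6) [(nat_lit 12382), (nat_lit 10554)])))) (.node (.node (.leaf .df) (.leaf (.cyc (nat_lit 5) [(nat_lit 10335), (nat_lit 7716)]))) (.node (.leaf (.cyc (nat_lit 8) [(nat_lit 1031), (nat_lit 4629), (nat_lit 4628), (nat_lit 712), (nat_lit 2030)])) (.leaf .df)))) (.node (.node (.node (.leaf .df) (.leaf (.cyc (nat_lit 13) [(nat_lit 3112), (nat_lit 3114), (nat_lit 9310), (nat_lit 7110), (nat_lit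 9108), (nat_lit 8005), (nat_lit 6411), (nat_lit 6335)]))) (.node (.leaf (.cyc (nat_lit 6) [(nat_lit 1004), (nat_lit 1003)])) (.leaf .df))) (.node (.node (.leaf .df) (.leaf (.cyc (nat_lit 11) [(nat_lit 2559), (nat_lit 2557), (nat_lit 6810), (nat_lit 5354), (nat_lit 3083), (nat_lit 10557), (nat_lit 11359)]))) (.node (.leaf (.cyc (nat_lit 6) [(nat_lit 2923), (nat_lit 2922)])) (.leaf .df))))) (.node (.node (.node (.node (.leaf .df) (.leaf (.cyc (nat_lit 19) [(nat_lit 6768), (nat_lit 8798)]))) (.node (.leaf (.cyc (nat_lit 2) [(nat_lit 430), (nat_lit 429)])) (.leaf (.cyc (nat_lit 5) [(nat_lit 12895), (nat_lit 12570)])))) (.node (.node (.leaf .df) (.leaf (.cyc (nat_lit 18) [(nat_lit 3695), (nat_lit 10845)]))) (.node (.leaf (.cyc (nat_lit 6) [(nat_lit 2501), (nat_lit 2500)])) (.leaf .df)))) (.node (.node (.node (.leaf .df) (.leaf (.cyc (nat_lit 23) [(nat_lit 2188), (nat_lit 5005), (nat_lit 5003), (nat_lit 4995), (nat_lit 4990), (nat_lit 481), (nat_lit 479), (nat_lit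 1400), (nat_lit 3498)]))) (.node (.leaf (.cyc (nat_lit 4) [(nat_lit 4874), (nat_lit 5464), (nat_lit 1258), (nat_lit 1260), (nat_lit 5727)])) (.leaf .df))) (.node (.node (.leaf .df) (.leaf (.cyc (nat_lit 2) [(nat_lit 4049), (nat_lit 11838)]))) (.node (.leaf (.cyc (nat_lit 25) [(nat_lit 7733), (nat_lit 7771)])) (.leaf .df)))))) (.node (.node (.node (.node (.node (.leaf .df) (.leaf (.cyc (nat_lit 17) [(nat_lit 2424), (nat_lit 8537)]))) (.node (.leaf (.cyc (nat_lit 0) [(nat_lit 4429), (nat_lit 127)])) (.leaf (.cyc (nat_lit 4) [(nat_lit 4218), (nat_lit 2647), (nat_lit 966), (nat_lit 969), (nat_lit 2657)])))) (.node (.node (.leaf .df) (.leaf (.cyc (nat_lit 0) [(nat_lit 6067), (nat_lit 3702)]))) (.node (.leaf (.cyc (nat_lit 5) [(nat_lit 2295), (nat_lit 2294)])) (.leaf .df)))) (.node (.node (.node (.leaf .df) (.leaf (.cyc (nat_lit 2) [(nat_lit 3392), (nat_lit 3391)]))) (.node (.leaf (.cyc (nat_lit 4) [(nat_lit 1242), (nat_lit 4695), (nat_lit 674), (nat_lit 5470),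 (nat_lit 5471)])) (.leaf .df))) (.node (.node (.leaf .df) (.leaf (.cyc (nat_lit 13) [(nat_lit 10469), (nat_lit 2466), (nat_lit 5110), (nat_lit 5350), (nat_lit 5463), (nat_lit 6148), (nat_lit 3979)]))) (.node (.leaf (.cyc (nat_lit 5) [(nat_lit 3145), (nat_lit 3144)])) (.leaf .df))))) (.node (.node (.node (.node (.leaf .df) (.leaf (.cyc (nat_lit 25) [(nat_lit 3169), (nat_lit 9054)]))) (.node (.leaf (.cyc (nat_lit 13) [(nat_lit 4950), (nat_lit 715), (nat_lit 233), (nat_lit 231), (nat_lit 708), (nat_lit 4942), (nat_lit 726)])) (.leaf (.cyc (nat_lit 1) [(nat_lit 9851), (nat_lit 4324)])))) (.node (.node (.leaf .df) (.leaf (.cyc (nat_lit 25) [(nat_lit 3828), (nat_lit 11102)]))) (.node (.leaf (.cyc (nat_lit 5) [(nat_lit 2689), (nat_lit 2688)])) (.leaf .df)))) (.node (.node (.node (.leaf .df) (.leaf (.cyc (nat_lit 14) [(nat_lit 9821), (nat_lit 10079)]))) (.node (.leaf (.cyc (nat_lit 29) [(nat_lit 5954), (nat_lit 5982)])) (.leaf .df))) (.node (.node (.leaf .df)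 (.leaf (.cyc (nat_lit 13) [(nat_lit 7554), (nat_lit 5409), (nat_lit 7920), (nat_lit 3238), (nat_lit 9923), (nat_lit 9917), (nat_lit 4110)]))) (.node (.leaf (.cyc (nat_lit 25) [(nat_lit 1104), (nat_lit 8029), (nat_lit 2911)])) (.leaf .df))))))) (.node (.node (.node (.node (.node (.node (.leaf .df) (.leaf (.cyc (nat_lit 18) [(nat_lit 1537), (nat_lit 8410)]))) (.node (.leaf .df) (.leaf (.cyc (nat_lit 8) [(nat_lit 12194), (nat_lit 7488), (nat_lit 10796), (nat_lit 10799), (nat_lit 4190)])))) (.node (.node (.leaf .df) (.leaf (.cyc (nat_lit 13) [(nat_lit 6727), (nat_lit 10461), (nat_lit 9544), (nat_lit 9223), (nat_lit 2052), (nat_lit 2049), (nat_lit 9221)]))) (.node (.leaf (.cyc (nat_lit 6) [(nat_lit 2172), (nat_lit 5672)])) (.leaf .df)))) (.node (.node (.node (.leaf .df) (.leaf (.cyc (nat_lit 22) [(nat_lit 1747), (nat_lit 1748), (nat_lit 9432), (nat_lit 3033), (nat_lit 7398), (nat_lit 7327), (nat_lit 3144)]))) (.node (.leaf (.cyc (nat_lit 6) [(nat_lit 1144),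 (nat_lit 1143)])) (.leaf .df))) (.node (.node (.leaf .df) (.leaf (.cyc (nat_lit 8) [(nat_lit 11487), (nat_lit 9893), (nat_lit 9974), (nat_lit 5864), (nat_lit 9973)]))) (.node (.leaf (.cyc (nat_lit 6) [(nat_lit 3027), (nat_lit 7368)])) (.leaf .df))))) (.node (.node (.node (.node (.leaf .df) (.leaf (.cyc (nat_lit 28) [(nat_lit 6769), (nat_lit 8927)]))) (.node (.leaf (.cyc (nat_lit 6) [(nat_lit 580), (nat_lit 579)])) (.leaf (.cyc (nat_lit 0) [(nat_lit 12176), (nat_lit 13023)])))) (.node (.node (.leaf .df) (.leaf (.cyc (nat_lit 25) [(nat_lit 2937), (nat_lit 10974)]))) (.node (.leaf (.cyc (nat_lit 14) [(nat_lit 5347), (nat_lit 2607)])) (.leaf .df)))) (.node (.node (.node (.leaf .df) (.leaf (.cyc (nat_lit 18) [(nat_lit 3544), (nat_lit 9950)]))) (.node (.leaf (.cyc (nat_lit 4) [(nat_lit 1613), (nat_lit 4817), (nat_lit 5855), (nat_lit 1519), (nat_lit 1518)])) (.leaf .df))) (.node (.node (.leaf .df) (.leaf (.cyc (nat_lit 14) [(nat_lit 11254), (nat_lit 4082)])))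 (.node (.leaf (.cyc (nat_lit 29) [(nat_lit 2931), (nat_lit 7899)])) (.leaf .df)))))) (.node (.node (.node (.node (.node (.leaf .df) (.leaf (.cyc (nat_lit 19) [(nat_lit 6609), (nat_lit 8670)]))) (.node (.leaf (.cyc (nat_lit 14) [(nat_lit 4437), (nat_lit 279)])) (.leaf (.cyc (nat_lit 13) [(nat_lit 11373), (nat_lit 12367), (nat_lit 2681), (nat_lit 5196), (nat_lit 5207), (nat_lit 2716), (nat_lit 4247)])))) (.node (.node (.leaf .df) (.leaf (.cyc (nat_lit 13) [(nat_lit 10630), (nat_lit 10718), (nat_lit 10716), (nat_lit 8749), (nat_lit 1254), (nat_lit 1252), (nat_lit 3293)]))) (.node (.leaf (.cyc (nat_lit 5) [(nat_lit 2418), (nat_lit 2417)])) (.leaf .df)))) (.node (.node (.node (.leaf .df) (.leaf (.cyc (nat_lit 28) [(nat_lit 5664), (nat_lit 9692), (nat_lit 2356)]))) (.node (.leaf (.cyc (nat_lit 5) [(nat_lit 1350), (nat_lit 1349)])) (.leaf .df))) (.node (.node (.leaf .df) (.leaf (.cyc (nat_lit 22) [(nat_lit 4012), (nat_lit 2034), (nat_lit 713), (nat_lit 4535),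 (nat_lit 715), (nat_lit 5165), (nat_lit 2598)]))) (.node (.leaf (.cyc (nat_lit 5) [(nat_lit 3265), (nat_lit 3264)])) (.leaf .df))))) (.node (.node (.node (.node (.leaf .df) (.leaf (.cyc (nat_lit 19) [(nat_lit 8460), (nat_lit 9181), (nat_lit 4897)]))) (.node (.leaf (.cyc (nat_lit 13) [(nat_lit 4677), (nat_lit 351), (nat_lit 4437), (nat_lit 278), (nat_lit 841), (nat_lit 5074), (nat_lit 853)])) (.leaf (.cyc (nat_lit 6) [(nat_lit 4350), (nat_lit 12730)])))) (.node (.node (.leaf .df) (.leaf (.cyc (nat_lit 6) [(nat_lit 3882), (nat_lit 9512)]))) (.node (.leaf (.cyc (nat_lit 5) [(nat_lit 2787), (nat_lit 2786)])) (.leaf .df)))) (.node (.node (.node (.leaf .df) (.leaf (.cyc (nat_lit 6) [(nat_lit 10207), (nat_lit 10045)]))) (.node (.leaf (.cyc (nat_lit 2) [(nat_lit 1892), (nat_lit 1891)])) (.leaf .df))) (.node (.node (.leaf .df) (.leaf (.cyc (nat_lit 3) [(nat_lit 10351), (nat_lit 3670), (nat_lit 3668), (nat_lit 10346), (nat_lit 4140)]))) (.node (.leaf (.cyc (nat_lit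 28) [(nat_lit 2830), (nat_lit 8156)])) (.leaf .df))))))))
noncomputable def c4P000001 : BT Pf := .node c4P0000010 c4P0000011
noncomputable def c4P00000 : BT Pf := .node c4P000000 c4P000001
noncomputable def c4P0000100 : BT Pf := (.node (.node (.node (.node (.node (.node (.node (.leaf .df) (.leaf (.cyc (nat_lit 19) [(nat_lit 7035), (nat_lit 8201), (nat_lit 1136)]))) (.node (.leaf .df) (.leaf (.cyc (nat_lit 4) [(nat_lit 3503), (nat_lit 5651), (nat_lit 2451), (nat_lit 11215), (nat_lit 12291), (nat_lit 12294)])))) (.node (.node (.leaf .df) (.leaf (.cyc (nat_lit 6) [(nat_lit 3641), (nat_lit 9594)]))) (.node (.leaf (.cyc (nat_lit 2) [(nat_lit 1939), (nat_lit 1938)])) (.leaf .df)))) (.node (.node (.node (.leaf .df) (.leaf (.cyc (nat_lit 8) [(nat_lit 9177), (nat_lit 1840), (nat_lit 6053), (nat_lit 9183), (nat_lit 1884)]))) (.node (.leaf (.cyc (nat_lit 2) [(nat_lit 915), (nat_lit 914)])) (.leaf .df))) (.node (.node (.leaf .df) (.leaf (.cyc (nat_lit 22) [(nat_lit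 3895), (nat_lit 6566), (nat_lit 6522), (nat_lit 838), (nat_lit 836), (nat_lit 2352), (nat_lit 6558)]))) (.node (.leaf (.cyc (nat_lit 5) [(nat_lit 2834), (nat_lit 2833)])) (.leaf .df))))) (.node (.node (.node (.node (.leaf .df) (.leaf (.cyc (nat_lit 28) [(nat_lit 7608), (nat_lit 8719), (nat_lit 1802)]))) (.node (.leaf (.cyc (nat_lit 14) [(nat_lit 4585), (nat_lit 341)])) (.leaf (.cyc (nat_lit 3) [(nat_lit 12815), (nat_lit 10597), (nat_lit 10870), (nat_lit 10871), (nat_lit 10102)])))) (.node (.node (.leaf .df) (.leaf (.cyc (nat_lit 20) [(nat_lit 2186), (nat_lit 5002), (nat_lit 4755), (nat_lit 5008), (nat_lit 2193), (nat_lit 10767), (nat_lit 2778), (nat_lit 2775)]))) (.node (.leaf (.cyc (nat_lit 9) [(nat_lit 1380), (nat_lit 4741), (nat_lit 4742), (nat_lit 879), (nat_lit 2454)])) (.leaf .df)))) (.node (.node (.node (.leaf .df) (.leaf (.cyc (nat_lit 10) [(nat_lit 3457), (nat_lit 1375), (nat_lit 4740), (nat_lit 1377), (nat_lit 3460)]))) (.node (.leaf (.cyc (nat_lit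 3) [(nat_lit 5169), (nat_lit 5646), (nat_lit 5645), (nat_lit 763), (nat_lit 765)])) (.leaf .df))) (.node (.node (.leaf .df) (.leaf (.cyc (nat_lit 14) [(nat_lit 11717), (nat_lit 4024)]))) (.node (.leaf (.cyc (nat_lit 6) [(nat_lit 3304), (nat_lit 3303)])) (.leaf .df)))))) (.node (.node (.node (.node (.node (.leaf .df) (.leaf (.cyc (nat_lit 1) [(nat_lit 8433), (nat_lit 8448)]))) (.node (.leaf (.cyc (nat_lit 5) [(nat_lit 25), (nat_lit 24)])) (.leaf (.cyc (nat_lit 1) [(nat_lit 11429), (nat_lit 4201)])))) (.node (.node (.leaf .df) (.leaf (.cyc (nat_lit 29) [(nat_lit 3651), (nat_lit 10510)]))) (.node (.leaf (.cyc (nat_lit 4) [(nat_lit 1032), (nat_lit 1030), (nat_lit 5238), (nat_lit 5016), (nat_lit 2219)])) (.leaf .df)))) (.node (.node (.node (.leaf .df) (.leaf (.cyc (nat_lit 9) [(nat_lit 9272), (nat_lit 9270), (nat_lit 1272), (nat_lit 1274), (nat_lit 3333)]))) (.node (.leaf (.cyc (nat_lit 18) [(nat_lit 888), (nat_lit 5390)])) (.leaf .df))) (.node (.node (.leaf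 .df) (.leaf (.cyc (nat_lit 4) [(nat_lit 9897), (nat_lit 3542), (nat_lit 3541), (nat_lit 11487), (nat_lit 11535)]))) (.node (.leaf (.cyc (nat_lit 17) [(nat_lit 6444), (nat_lit 7437)])) (.leaf .df))))) (.node (.node (.node (.node (.leaf .df) (.leaf (.cyc (nat_lit 29) [(nat_lit 2920), (nat_lit 8974)]))) (.node (.leaf (.cyc (nat_lit 1) [(nat_lit 4813), (nat_lit 639)])) (.leaf (.cyc (nat_lit 27) [(nat_lit 4307), (nat_lit 9502), (nat_lit 8615), (nat_lit 2203), (nat_lit 2204), (nat_lit 4101), (nat_lit 12643)])))) (.node (.node (.leaf .df) (.leaf (.cyc (nat_lit 6) [(nat_lit 11023), (nat_lit 9420)]))) (.node (.leaf (.cyc (nat_lit 14) [(nat_lit 6497), (nat_lit 6927)])) (.leaf .df)))) (.node (.node (.node (.leaf .df) (.leaf (.cyc (nat_lit 5) [(nat_lit 9999), (nat_lit 9996)]))) (.node (.leaf (.cyc (nat_lit 0) [(nat_lit 4831), (nat_lit 1665)])) (.leaf .df))) (.node (.node (.leaf .df) (.leaf (.cyc (nat_lit 10) [(nat_lit 10936), (nat_lit 2592), (nat_lit 2590), (nat_lit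 12047), (nat_lit 3569)]))) (.node (.leaf (.cyc (nat_lit 25) [(nat_lit 7212), (nat_lit 7944)])) (.leaf .df))))))) (.node (.node (.node (.node (.node (.node (.leaf .df) (.leaf (.cyc (nat_lit 4) [(nat_lit 2127), (nat_lit 2125), (nat_lit 8335), (nat_lit 6591), (nat_lit 2404)]))) (.node (.leaf .df) (.leaf (.cyc (nat_lit 27) [(nat_lit 4173), (nat_lit 10462), (nat_lit 10256), (nat_lit 10255), (nat_lit 9661), (nat_lit 11443), (nat_lit 11446)])))) (.node (.node (.leaf .df) (.leaf (.cyc (nat_lit 14) [(nat_lit 9748), (nat_lit 3676)]))) (.node (.leaf (.cyc (nat_lit 3) [(nat_lit 2076), (nat_lit 732), (nat_lit 4538), (nat_lit 737), (nat_lit 2090)])) (.leaf .df)))) (.node (.node (.node (.leaf .df) (.leaf (.cyc (nat_lit 21) [(nat_lit 6146), (nat_lit 721), (nat_lit 6154), (nat_lit 1878), (nat_lit 9358)]))) (.node (.leaf (.cyc (nat_lit 2) [(nat_lit 1052), (nat_lit 1051)])) (.leaf .df))) (.node (.node (.leaf .df) (.leaf (.cyc (nat_lit 8) [(nat_lit 11406), (nat_lit 11405),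 (nat_lit 10112), (nat_lit 3527), (nat_lit 3529)]))) (.node (.leaf (.cyc (nat_lit 11) [(nat_lit 1916), (nat_lit 4905), (nat_lit 4577), (nat_lit 4442), (nat_lit 371), (nat_lit 1100), (nat_lit 2962)])) (.leaf .df))))) (.node (.node (.node (.node (.leaf .df) (.leaf (.cyc (nat_lit 17) [(nat_lit 8331), (nat_lit 8845), (nat_lit 1438)]))) (.node (.leaf (.cyc (nat_lit 5) [(nat_lit 480), (nat_lit 479)])) (.leaf (.cyc (nat_lit 4) [(nat_lit 11757), (nat_lit 10022), (nat_lit 5759), (nat_lit 9533), (nat_lit 12942)])))) (.node (.node (.leaf .df) (.leaf (.cyc (nat_lit 3) [(nat_lit 1653), (nat_lit 573), (nat_lit 571), (nat_lit 1646), (nat_lit 3787)]))) (.node (.leaf (.cyc (nat_lit 0) [(nat_lit 5364), (nat_lit 2550)])) (.leaf .df)))) (.node (.node (.node (.leaf .df) (.leaf (.cyc (nat_lit 11) [(nat_lit 7706), (nat_lit 7707), (nat_lit 1314), (nat_lit 1311), (nat_lit 3378), (nat_lit 9870), (nat_lit 9871)]))) (.node (.leaf (.cyc (nat_lit 6) [(nat_lit 1521), (nat_lit 1520)]))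 (.leaf .df))) (.node (.node (.leaf .df) (.leaf (.cyc (nat_lit 11) [(nat_lit 2129), (nat_lit 4977), (nat_lit 4797), (nat_lit 4543), (nat_lit 747), (nat_lit 2120), (nat_lit 4060)]))) (.node (.leaf (.cyc (nat_lit 25) [(nat_lit 1159), (nat_lit 7820)])) (.leaf .df)))))) (.node (.node (.node (.node (.node (.leaf .df) (.leaf (.cyc (nat_lit 17) [(nat_lit 6081), (nat_lit 8586), (nat_lit 1472)]))) (.node (.leaf (.cyc (nat_lit 5) [(nat_lit 190), (nat_lit 189)])) (.leaf (.cyc (nat_lit 0) [(nat_lit 11915), (nat_lit 12686)])))) (.node (.node (.leaf .df) (.leaf (.cyc (nat_lit 2) [(nat_lit 3723), (nat_lit 3722)]))) (.node (.leaf (.cyc (nat_lit 8) [(nat_lit 1499), (nat_lit 1498), (nat_lit 6542), (nat_lit 2336), (nat_lit 2338)])) (.leaf .df)))) (.node (.node (.node (.leaf .df) (.leaf (.cyc (nat_lit 17) [(nat_lit 2885), (nat_lit 9615)]))) (.node (.leaf (.cyc (nat_lit 17) [(nat_lit 878), (nat_lit 5519)])) (.leaf .df))) (.node (.node (.leaf .df) (.leaf (.cyc (nat_lit 3) [(nat_lit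 3989), (nat_lit 1974), (nat_lit 4927), (nat_lit 1976), (nat_lit 3992)]))) (.node (.leaf (.cyc (nat_lit 8) [(nat_lit 3178), (nat_lit 3176), (nat_lit 7566), (nat_lit 3197), (nat_lit 6472)])) (.leaf .df))))) (.node (.node (.node (.node (.leaf .df) (.leaf (.cyc (nat_lit 28) [(nat_lit 7326), (nat_lit 9103)]))) (.node (.leaf (.cyc (nat_lit 9) [(nat_lit 4755), (nat_lit 5002), (nat_lit 774), (nat_lit 4554), (nat_lit 777)])) (.leaf (.cyc (nat_lit 10) [(nat_lit 11683), (nat_lit 12968), (nat_lit 3478), (nat_lit 9882), (nat_lit 4334)])))) (.node (.node (.leaf .df) (.leaf (.cyc (nat_lit 8) [(nat_lit 6608), (nat_lit 11150), (nat_lit 11149), (nat_lit 10545), (nat_lit 7028)]))) (.node (.leaf (.cyc (nat_lit 13) [(nat_lit 2573), (nat_lit 2575), (nat_lit 7055), (nat_lit 5211), (nat_lit 6700), (nat_lit 6942), (nat_lit 5945), (nat_lit 6119)])) (.leaf .df)))) (.node (.node (.node (.leaf .df) (.leaf (.cyc (nat_lit 0) [(nat_lit 9987), (nat_lit 10127)]))) (.node (.leaf (.cyc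 (nat_lit 9) [(nat_lit 1806), (nat_lit 628), (nat_lit 4504), (nat_lit 625), (nat_lit 1800)])) (.leaf .df))) (.node (.node (.leaf .df) (.leaf (.cyc (nat_lit 15) [(nat_lit 12175), (nat_lit 12096), (nat_lit 12093), (nat_lit 12090), (nat_lit 10415), (nat_lit 3679), (nat_lit 3680), (nat_lit 10421), (nat_lit 10422)]))) (.node (.leaf (.cyc (nat_lit 28) [(nat_lit 7649), (nat_lit 8079)])) (.leaf .df))))))))
noncomputable def c4P0000101 : BT Pf := (.node (.node (.node (.node (.node (.node (.node (.leaf .df) (.leaf (.cyc (nat_lit 29) [(nat_lit 1944), (nat_lit 8271), (nat_lit 8028)]))) (.node (.leaf .df) (.leaf (.cyc (nat_lit 7) [(nat_lit 4015), (nat_lit 6248), (nat_lit 8953), (nat_lit 2359), (nat_lit 6573), (nat_lit 2409), (nat_lit 4157)])))) (.node (.node (.leaf .df) (.leaf (.cyc (nat_lit 19) [(nat_lit 9994), (nat_lit 10318)]))) (.node (.leaf (.cyc (nat_lit 6) [(nat_lit 2010), (nat_lit 2009)])) (.leaf .df)))) (.node (.node (.node (.leaf .df) (.leaf (.cyc (nat_lit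 24) [(nat_lit 1170), (nat_lit 4673), (nat_lit 1175), (nat_lit 5373), (nat_lit 5379), (nat_lit 3144), (nat_lit 8239), (nat_lit 9086), (nat_lit 3086), (nat_lit 3085)]))) (.node (.leaf (.cyc (nat_lit 1) [(nat_lit 5187), (nat_lit 985)])) (.leaf .df))) (.node (.node (.leaf .df) (.leaf (.cyc (nat_lit 4) [(nat_lit 3908), (nat_lit 6030), (nat_lit 10006), (nat_lit 6113), (nat_lit 10000)]))) (.node (.leaf (.cyc (nat_lit 16) [(nat_lit 1092), (nat_lit 366), (nat_lit 4442), (nat_lit 370), (nat_lit 4645), (nat_lit 364), (nat_lit 362), (nat_lit 1081), (nat_lit 2918), (nat_lit 7247)])) (.leaf .df))))) (.node (.node (.node (.node (.leaf .df) (.leaf (.cyc (nat_lit 18) [(nat_lit 6757), (nat_lit 8779), (nat_lit 1193)]))) (.node (.leaf (.cyc (nat_lit 10) [(nat_lit 409), (nat_lit 129), (nat_lit 4378), (nat_lit 131), (nat_lit 414)])) (.leaf (.cyc (nat_lit 8) [(nat_lit 9479), (nat_lit 12598), (nat_lit 12876), (nat_lit 4269), (nat_lit 4270)])))) (.node (.node (.leaf .df) (.leaf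 (.cyc (nat_lit 8) [(nat_lit 3766), (nat_lit 10830), (nat_lit 2884), (nat_lit 2882), (nat_lit 9614)]))) (.node (.leaf (.cyc (nat_lit 5) [(nat_lit 2476), (nat_lit 2475)])) (.leaf .df)))) (.node (.node (.node (.leaf .df) (.leaf (.cyc (nat_lit 22) [(nat_lit 3487), (nat_lit 8854), (nat_lit 8857), (nat_lit 5668), (nat_lit 5003), (nat_lit 5005), (nat_lit 2187)]))) (.node (.leaf (.cyc (nat_lit 8) [(nat_lit 5179), (nat_lit 5180), (nat_lit 5175), (nat_lit 5711), (nat_lit 4763), (nat_lit 1453)])) (.leaf .df))) (.node (.node (.leaf .df) (.leaf (.cyc (nat_lit 11) [(nat_lit 6748), (nat_lit 11849), (nat_lit 4042), (nat_lit 2079), (nat_lit 4966), (nat_lit 2083), (nat_lit 4047)]))) (.node (.leaf (.cyc (nat_lit 29) [(nat_lit 1577), (nat_lit 7752)])) (.leaf .df)))))) (.node (.node (.node (.node (.node (.leaf .df) (.leaf (.cyc (nat_lit 29) [(nat_lit 5539), (nat_lit 8526)]))) (.node (.leaf (.cyc (nat_lit 5) [(nat_lit 103), (nat_lit 102)])) (.leaf (.cyc (nat_lit 25) [(nat_lit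 12502), (nat_lit 12621)])))) (.node (.node (.leaf .df) (.leaf (.cyc (nat_lit 25) [(nat_lit 10085), (nat_lit 10574)]))) (.node (.leaf (.cyc (nat_lit 26) [(nat_lit 1021), (nat_lit 343), (nat_lit 4436), (nat_lit 4566), (nat_lit 4819), (nat_lit 5049), (nat_lit 813), (nat_lit 811), (nat_lit 2283)])) (.leaf .df)))) (.node (.node (.node (.leaf .df) (.leaf (.cyc (nat_lit 2) [(nat_lit 3379), (nat_lit 3378)]))) (.node (.leaf (.cyc (nat_lit 0) [(nat_lit 5444), (nat_lit 5455)])) (.leaf .df))) (.node (.node (.leaf .df) (.leaf (.cyc (nat_lit 22) [(nat_lit 11598), (nat_lit 7414), (nat_lit 9642), (nat_lit 9645), (nat_lit 11076), (nat_lit 8520), (nat_lit 6796)]))) (.node (.leaf (.cyc (nat_lit 0) [(nat_lit 7446), (nat_lit 3134)])) (.leaf .df))))) (.node (.node (.node (.node (.leaf .df) (.leaf (.cyc (nat_lit 3) [(nat_lit 7661), (nat_lit 9039), (nat_lit 6114), (nat_lit 9034), (nat_lit 3305)]))) (.node (.leaf (.cyc (nat_lit 6) [(nat_lit 709), (nat_lit 708)])) (.leaf (.cyc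 (nat_lit 10) [(nat_lit 4306), (nat_lit 10501), (nat_lit 4255), (nat_lit 12813), (nat_lit 4321)])))) (.node (.node (.leaf .df) (.leaf (.cyc (nat_lit 0) [(nat_lit 11060), (nat_lit 3835)]))) (.node (.leaf (.cyc (nat_lit 14) [(nat_lit 5218), (nat_lit 2677)])) (.leaf .df)))) (.node (.node (.node (.leaf .df) (.leaf (.cyc (nat_lit 4) [(nat_lit 3595), (nat_lit 1462), (nat_lit 500), (nat_lit 503), (nat_lit 1470)]))) (.node (.leaf (.cyc (nat_lit 2) [(nat_lit 1742), (nat_lit 1741)])) (.leaf .df))) (.node (.node (.leaf .df) (.leaf (.cyc (nat_lit 29) [(nat_lit 4079), (nat_lit 12110)]))) (.node (.leaf (.cyc (nat_lit 19) [(nat_lit 2874), (nat_lit 8011)])) (.leaf .df))))))) (.node (.node (.node (.node (.node (.node (.leaf .df) (.leaf (.cyc (nat_lit 25) [(nat_lit 8050), (nat_lit 8397)]))) (.node (.leaf .df) (.leaf (.cyc (nat_lit 0) [(nat_lit 12494), (nat_lit 12495)])))) (.node (.node (.leaf .df) (.leaf (.cyc (nat_lit 22) [(nat_lit 3686), (nat_lit 5795), (nat_lit 8419),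 (nat_lit 4704), (nat_lit 1262), (nat_lit 7880), (nat_lit 6143)]))) (.node (.leaf (.cyc (nat_lit 2) [(nat_lit 2158), (nat_lit 2157)])) (.leaf .df)))) (.node (.node (.node (.leaf .df) (.leaf (.cyc (nat_lit 28) [(nat_lit 6635), (nat_lit 9423)]))) (.node (.leaf (.cyc (nat_lit 5) [(nat_lit 1127), (nat_lit 4939)])) (.leaf .df))) (.node (.node (.leaf .df) (.leaf (.cyc (nat_lit 20) [(nat_lit 9955), (nat_lit 6433), (nat_lit 5377), (nat_lit 3140), (nat_lit 10824), (nat_lit 11469), (nat_lit 11471)]))) (.node (.leaf (.cyc (nat_lit 8) [(nat_lit 2580), (nat_lit 2578), (nat_lit 7375), (nat_lit 7374), (nat_lit 6838)])) (.leaf .df))))) (.node (.node (.node (.node (.leaf .df) (.leaf (.cyc (nat_lit 31) [(nat_lit 2483), (nat_lit 5144), (nat_lit 4625), (nat_lit 1022), (nat_lit 8821), (nat_lit 5180), (nat_lit 5305), (nat_lit 6666)]))) (.node (.leaf (.cyc (nat_lit 8) [(nat_lit 326), (nat_lit 4432), (nat_lit 322), (nat_lit 4815), (nat_lit 560)])) (.leaf (.cyc (nat_lit 27) [(nat_lit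 4294), (nat_lit 7597), (nat_lit 7556), (nat_lit 5404), (nat_lit 1219), (nat_lit 3223), (nat_lit 12934)])))) (.node (.node (.leaf .df) (.leaf (.cyc (nat_lit 8) [(nat_lit 10957), (nat_lit 9426), (nat_lit 6644), (nat_lit 3632), (nat_lit 10616)]))) (.node (.leaf (.cyc (nat_lit 8) [(nat_lit 5408), (nat_lit 5381), (nat_lit 6863), (nat_lit 6513), (nat_lit 6862)])) (.leaf .df)))) (.node (.node (.node (.leaf .df) (.leaf (.cyc (nat_lit 29) [(nat_lit 2489), (nat_lit 9934)]))) (.node (.leaf (.cyc (nat_lit 2) [(nat_lit 1602), (nat_lit 1601)])) (.leaf .df))) (.node (.node (.leaf .df) (.leaf (.cyc (nat_lit 6) [(nat_lit 4076), (nat_lit 4075)]))) (.node (.leaf (.cyc (nat_lit 19) [(nat_lit 1242), (nat_lit 7884), (nat_lit 3103)])) (.leaf .df)))))) (.node (.node (.node (.node (.node (.leaf .df) (.leaf (.cyc (nat_lit 17) [(nat_lit 2455), (nat_lit 8654)]))) (.node (.leaf (.cyc (nat_lit 6) [(nat_lit 260), (nat_lit 4532)])) (.leaf (.cyc (nat_lit 14) [(nat_lit 12746), (nat_lit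 12751)])))) (.node (.node (.leaf .df) (.leaf (.cyc (nat_lit 7) [(nat_lit 3489), (nat_lit 1396), (nat_lit 4749), (nat_lit 4762), (nat_lit 1444), (nat_lit 8612), (nat_lit 3734)]))) (.node (.leaf (.cyc (nat_lit 6) [(nat_lit 2399), (nat_lit 2398)])) (.leaf .df)))) (.node (.node (.node (.leaf .df) (.leaf (.cyc (nat_lit 5) [(nat_lit 9678), (nat_lit 6558)]))) (.node (.leaf (.cyc (nat_lit 3) [(nat_lit 4785), (nat_lit 5537), (nat_lit 5581), (nat_lit 1331), (nat_lit 1332)])) (.leaf .df))) (.node (.node (.leaf .df) (.leaf (.cyc (nat_lit 3) [(nat_lit 11727), (nat_lit 11724), (nat_lit 11693), (nat_lit 9202), (nat_lit 3819)]))) (.node (.leaf (.cyc (nat_lit 6) [(nat_lit 3249), (nat_lit 3248)])) (.leaf .df))))) (.node (.node (.node (.node (.leaf .df) (.leaf (.cyc (nat_lit 28) [(nat_lit 6328), (nat_lit 9167)]))) (.node (.leaf (.cyc (nat_lit 6) [(nat_lit 5071), (nat_lit 5066)])) (.leaf (.cyc (nat_lit 4) [(nat_lit 4308), (nat_lit 9506), (nat_lit 9507), (nat_lit 10953),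 (nat_lit 4347)])))) (.node (.node (.leaf .df) (.leaf (.cyc (nat_lit 21) [(nat_lit 11215), (nat_lit 2451), (nat_lit 5650), (nat_lit 1399), (nat_lit 3495)]))) (.node (.leaf (.cyc (nat_lit 2) [(nat_lit 2770), (nat_lit 2769)])) (.leaf .df)))) (.node (.node (.node (.leaf .df) (.leaf (.cyc (nat_lit 18) [(nat_lit 2751), (nat_lit 10188)]))) (.node (.leaf (.cyc (nat_lit 2) [(nat_lit 1872), (nat_lit 1871)])) (.leaf .df))) (.node (.node (.leaf .df) (.leaf (.cyc (nat_lit 3) [(nat_lit 12239), (nat_lit 4135), (nat_lit 2329), (nat_lit 2330), (nat_lit 11702)]))) (.node (.leaf (.cyc (nat_lit 11) [(nat_lit 3274), (nat_lit 5444), (nat_lit 1063), (nat_lit 4636), (nat_lit 1068), (nat_lit 8143), (nat_lit 6344)])) (.leaf .df))))))))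
noncomputable def c4P000010 : BT Pf := .node c4P0000100 c4P0000101
noncomputable def c4P0000110 : BT Pf := (.node (.node (.node (.node (.node (.node (.node (.leaf .df) (.leaf (.cyc (nat_lit 17) [(nat_lit 7399), (nat_lit 8228)]))) (.node (.leaf .df) (.leaf (.cyc (nat_lit 11) [(nat_lit 11862), (nat_lit 11795), (nat_lit 11793), (nat_lit 10753), (nat_lit 10773), (nat_lit 6587), (nat_lit 4150)])))) (.node (.node (.leaf .df) (.leaf (.cyc (nat_lit 8) [(nat_lit 7366), (nat_lit 9042), (nat_lit 9044), (nat_lit 10287), (nat_lit 10285)]))) (.node (.leaf (.cyc (nat_lit 6) [(nat_lit 1983), (nat_lit 6171)])) (.leaf .df)))) (.node (.node (.node (.leaf .df) (.leaf (.cyc (nat_lit 19) [(nat_lit 9142), (nat_lit 9262)]))) (.node (.leaf (.cyc (nat_lit 9) [(nat_lit 4675), (nat_lit 4948), (nat_lit 4950), (nat_lit 4605), (nat_lit 946)])) (.leaf .df))) (.node (.node (.leaf .df) (.leaf (.cyc (nat_lit 27) [(nat_lit 3899), (nat_lit 1777), (nat_lit 9328), (nat_lit 9314), (nat_lit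 2137), (nat_lit 9201), (nat_lit 9202)]))) (.node (.leaf (.cyc (nat_lit 1) [(nat_lit 7164), (nat_lit 2879)])) (.leaf .df))))) (.node (.node (.node (.node (.leaf .df) (.leaf (.cyc (nat_lit 17) [(nat_lit 7548), (nat_lit 8742)]))) (.node (.leaf (.cyc (nat_lit 4) [(nat_lit 376), (nat_lit 4443), (nat_lit 4654), (nat_lit 4600), (nat_lit 4588)])) (.leaf (.cyc (nat_lit 3) [(nat_lit 12844), (nat_lit 12845), (nat_lit 3944), (nat_lit 6091), (nat_lit 3942)])))) (.node (.node (.leaf .df) (.leaf (.cyc (nat_lit 20) [(nat_lit 3421), (nat_lit 8870), (nat_lit 2000), (nat_lit 10129), (nat_lit 10793), (nat_lit 10792), (nat_lit 10797)]))) (.node (.leaf (.cyc (nat_lit 29) [(nat_lit 6452), (nat_lit 6702)])) (.leaf .df)))) (.node (.node (.node (.leaf .df) (.leaf (.cyc (nat_lit 6) [(nat_lit 9775), (nat_lit 8843)]))) (.node (.leaf (.cyc (nat_lit 5) [(nat_lit 1445), (nat_lit 1444)])) (.leaf .df))) (.node (.node (.leaf .df) (.leaf (.cyc (nat_lit 18) [(nat_lit 3698), (nat_lit 11823)])))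 (.node (.leaf (.cyc (nat_lit 4) [(nat_lit 3283), (nat_lit 3281), (nat_lit 7664), (nat_lit 5482), (nat_lit 3328)])) (.leaf .df)))))) (.node (.node (.node (.node (.node (.leaf .df) (.leaf (.cyc (nat_lit 19) [(nat_lit 8393), (nat_lit 8492)]))) (.node (.leaf (.cyc (nat_lit 2) [(nat_lit 65), (nat_lit 64)])) (.leaf (.cyc (nat_lit 4) [(nat_lit 4208), (nat_lit 4207), (nat_lit 12586), (nat_lit 12410), (nat_lit 10051)])))) (.node (.node (.leaf .df) (.leaf (.cyc (nat_lit 13) [(nat_lit 7571), (nat_lit 10539), (nat_lit 3050), (nat_lit 1138), (nat_lit 4663), (nat_lit 1140), (nat_lit 3055)]))) (.node (.leaf (.cyc (nat_lit 3) [(nat_lit 2248), (nat_lit 798), (nat_lit 4561), (nat_lit 802), (nat_lit 2260)])) (.leaf .df)))) (.node (.node (.node (.leaf .df) (.leaf (.cyc (nat_lit 2) [(nat_lit 3362), (nat_lit 3361)]))) (.node (.leaf (.cyc (nat_lit 2) [(nat_lit 1227), (nat_lit 1226)])) (.leaf .df))) (.node (.node (.leaf .df) (.leaf (.cyc (nat_lit 3) [(nat_lit 3813), (nat_lit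 5946), (nat_lit 7698), (nat_lit 9033), (nat_lit 3966)]))) (.node (.leaf (.cyc (nat_lit 6) [(nat_lit 3096), (nat_lit 3095)])) (.leaf .df))))) (.node (.node (.node (.node (.leaf .df) (.leaf (.cyc (nat_lit 29) [(nat_lit 7864), (nat_lit 8995)]))) (.node (.leaf (.cyc (nat_lit 9) [(nat_lit 4911), (nat_lit 374), (nat_lit 119), (nat_lit 121), (nat_lit 382)])) (.leaf (.cyc (nat_lit 8) [(nat_lit 12876), (nat_lit 12597), (nat_lit 12594), (nat_lit 12596), (nat_lit 4314)])))) (.node (.node (.leaf .df) (.leaf (.cyc (nat_lit 2) [(nat_lit 3822), (nat_lit 9210)]))) (.node (.leaf (.cyc (nat_lit 29) [(nat_lit 1009), (nat_lit 6958)])) (.leaf .df)))) (.node (.node (.node (.leaf .df) (.leaf (.cyc (nat_lit 5) [(nat_lit 3587), (nat_lit 3586)]))) (.node (.leaf (.cyc (nat_lit 5) [(nat_lit 1705), (nat_lit 1704)])) (.leaf .df))) (.node (.node (.leaf .df) (.leaf (.cyc (nat_lit 17) [(nat_lit 11854), (nat_lit 12079)]))) (.node (.leaf (.cyc (nat_lit 17) [(nat_lit 7098), (nat_lit 7982),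 (nat_lit 2953)])) (.leaf .df))))))) (.node (.node (.node (.node (.node (.node (.leaf .df) (.leaf (.cyc (nat_lit 33) [(nat_lit 6009), (nat_lit 4876), (nat_lit 5556), (nat_lit 8365), (nat_lit 846), (nat_lit 4578), (nat_lit 851), (nat_lit 2387)]))) (.node (.leaf .df) (.leaf (.cyc (nat_lit 8) [(nat_lit 2501), (nat_lit 2499), (nat_lit 4179), (nat_lit 12461), (nat_lit 6851)])))) (.node (.node (.leaf .df) (.leaf (.cyc (nat_lit 5) [(nat_lit 3679), (nat_lit 3678)]))) (.node (.leaf (.cyc (nat_lit 1) [(nat_lit 5000), (nat_lit 2125)])) (.leaf .df)))) (.node (.node (.node (.leaf .df) (.leaf (.cyc (nat_lit 23) [(nat_lit 1705), (nat_lit 7258), (nat_lit 4640), (nat_lit 4679), (nat_lit 405), (nat_lit 407), (nat_lit 1200), (nat_lit 7539), (nat_lit 9391)]))) (.node (.leaf (.cyc (nat_lit 4) [(nat_lit 670), (nat_lit 668), (nat_lit 4905), (nat_lit 4642), (nat_lit 1091)])) (.leaf .df))) (.node (.node (.leaf .df) (.leaf (.cyc (nat_lit 29) [(nat_lit 3717), (nat_lit 11438)])))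 (.node (.leaf (.cyc (nat_lit 26) [(nat_lit 2321), (nat_lit 825), (nat_lit 4571), (nat_lit 4737), (nat_lit 4465), (nat_lit 462), (nat_lit 4751), (nat_lit 1397), (nat_lit 7343)])) (.leaf .df))))) (.node (.node (.node (.node (.leaf .df) (.leaf (.cyc (nat_lit 3) [(nat_lit 2345), (nat_lit 2348), (nat_lit 8877), (nat_lit 8062), (nat_lit 8866)]))) (.node (.leaf (.cyc (nat_lit 6) [(nat_lit 519), (nat_lit 4715)])) (.leaf (.cyc (nat_lit 0) [(nat_lit 11580), (nat_lit 4287)])))) (.node (.node (.leaf .df) (.leaf (.cyc (nat_lit 10) [(nat_lit 3260), (nat_lit 1231), (nat_lit 1228), (nat_lit 7570), (nat_lit 10927)]))) (.node (.leaf (.cyc (nat_lit 26) [(nat_lit 1684), (nat_lit 584), (nat_lit 4786), (nat_lit 1514), (nat_lit 5779), (nat_lit 5853), (nat_lit 6509), (nat_lit 2581), (nat_lit 6831)])) (.leaf .df)))) (.node (.node (.node (.leaf .df) (.leaf (.cyc (nat_lit 18) [(nat_lit 9820), (nat_lit 9903)]))) (.node (.leaf (.cyc (nat_lit 3) [(nat_lit 1059), (nat_lit 356), (nat_lit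 4544), (nat_lit 4797), (nat_lit 1552)])) (.leaf .df))) (.node (.node (.leaf .df) (.leaf (.cyc (nat_lit 20) [(nat_lit 11088), (nat_lit 11089), (nat_lit 5955), (nat_lit 11951), (nat_lit 7415), (nat_lit 9430), (nat_lit 9428)]))) (.node (.leaf (.cyc (nat_lit 28) [(nat_lit 3247), (nat_lit 7853)])) (.leaf .df)))))) (.node (.node (.node (.node (.node (.leaf .df) (.leaf (.cyc (nat_lit 31) [(nat_lit 2733), (nat_lit 1004), (nat_lit 1001), (nat_lit 8623), (nat_lit 1376), (nat_lit 470), (nat_lit 467), (nat_lit 1367)]))) (.node (.leaf (.cyc (nat_lit 5) [(nat_lit 223), (nat_lit 222)])) (.leaf (.cyc (nat_lit 16) [(nat_lit 12595), (nat_lit 3583), (nat_lit 3584), (nat_lit 11696), (nat_lit 12238), (nat_lit 12239), (nat_lit 12240), (nat_lit 12718), (nat_lit 12719)])))) (.node (.node (.leaf .df) (.leaf (.cyc (nat_lit 27) [(nat_lit 10671), (nat_lit 7004), (nat_lit 9150), (nat_lit 7187), (nat_lit 9157), (nat_lit 5689), (nat_lit 6897)]))) (.node (.leaf (.cyc (nat_lit 9) [(nat_lit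 5546), (nat_lit 6572), (nat_lit 2359), (nat_lit 5073), (nat_lit 2362)])) (.leaf .df)))) (.node (.node (.node (.leaf .df) (.leaf (.cyc (nat_lit 9) [(nat_lit 2458), (nat_lit 6682), (nat_lit 1351), (nat_lit 1352), (nat_lit 3419)]))) (.node (.leaf (.cyc (nat_lit 5) [(nat_lit 5551), (nat_lit 5550)])) (.leaf .df))) (.node (.node (.leaf .df) (.leaf (.cyc (nat_lit 5) [(nat_lit 4000), (nat_lit 10029)]))) (.node (.leaf (.cyc (nat_lit 13) [(nat_lit 7599), (nat_lit 3220), (nat_lit 1218), (nat_lit 5386), (nat_lit 5387), (nat_lit 5166), (nat_lit 2469)])) (.leaf .df))))) (.node (.node (.node (.node (.leaf .df) (.leaf (.cyc (nat_lit 28) [(nat_lit 2375), (nat_lit 9135)]))) (.node (.leaf (.cyc (nat_lit 4) [(nat_lit 809), (nat_lit 264), (nat_lit 262), (nat_lit 802), (nat_lit 5035)])) (.leaf (.cyc (nat_lit 4) [(nat_lit 4211), (nat_lit 9776), (nat_lit 4325), (nat_lit 13159), (nat_lit 13230)])))) (.node (.node (.leaf .df) (.leaf (.cyc (nat_lit 27) [(nat_lit 3866), (nat_lit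 1728), (nat_lit 5531), (nat_lit 5984), (nat_lit 5848), (nat_lit 7003), (nat_lit 7005)]))) (.node (.leaf (.cyc (nat_lit 5) [(nat_lit 2740), (nat_lit 2739)])) (.leaf .df)))) (.node (.node (.node (.leaf .df) (.leaf (.cyc (nat_lit 17) [(nat_lit 9846), (nat_lit 10159)]))) (.node (.leaf (.cyc (nat_lit 8) [(nat_lit 1839), (nat_lit 1837), (nat_lit 6061), (nat_lit 1324), (nat_lit 1326)])) (.leaf .df))) (.node (.node (.leaf .df) (.leaf (.cyc (nat_lit 3) [(nat_lit 12084), (nat_lit 11125), (nat_lit 12202), (nat_lit 4127), (nat_lit 4129)]))) (.node (.leaf (.cyc (nat_lit 25) [(nat_lit 5737), (nat_lit 8108)])) (.leaf .df))))))))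
noncomputable def c4P0000111 : BT Pf := (.node (.node (.node (.node (.node (.node (.node (.leaf .df) (.leaf (.cyc (nat_lit 29) [(nat_lit 8045), (nat_lit 8293)]))) (.node (.leaf .df) (.leaf (.cyc (nat_lit 13) [(nat_lit 6824), (nat_lit 5163), (nat_lit 11525), (nat_lit 4671), (nat_lit 6936), (nat_lit 2640), (nat_lit 12399)])))) (.node (.node (.leaf .df) (.leaf (.cyc (nat_lit 20) [(nat_lit 8337), (nat_lit 8336), (nat_lit 8345), (nat_lit 2973), (nat_lit 9018), (nat_lit 5868), (nat_lit 10345)]))) (.node (.leaf (.cyc (nat_lit 2) [(nat_lit 2048), (nat_lit 6159)])) (.leaf .df)))) (.node (.node (.node (.leaf .df) (.leaf (.cyc (nat_lit 17) [(nat_lit 9308), (nat_lit 9320)]))) (.node (.leaf (.cyc (nat_lit 2) [(nat_lit 1023), (nat_lit 1022)])) (.leaf .df))) (.node (.node (.leaf .df) (.leaf (.cyc (nat_lit 1) [(nat_lit 8469), (nat_lit 3917)]))) (.node (.leaf (.cyc (nat_lit 6) [(nat_lit 2945), (nat_lit 6994)])) (.leaf .df))))) (.node (.node (.node (.node (.leaf .df) (.leaf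 (.cyc (nat_lit 19) [(nat_lit 2407), (nat_lit 8811)]))) (.node (.leaf (.cyc (nat_lit 5) [(nat_lit 4718), (nat_lit 4507)])) (.leaf (.cyc (nat_lit 4) [(nat_lit 12911), (nat_lit 12904), (nat_lit 12906), (nat_lit 9643), (nat_lit 3975)])))) (.node (.node (.leaf .df) (.leaf (.cyc (nat_lit 18) [(nat_lit 7231), (nat_lit 10862)]))) (.node (.leaf (.cyc (nat_lit 2) [(nat_lit 2520), (nat_lit 2519)])) (.leaf .df)))) (.node (.node (.node (.leaf .df) (.leaf (.cyc (nat_lit 22) [(nat_lit 3507), (nat_lit 1404), (nat_lit 480), (nat_lit 4469), (nat_lit 484), (nat_lit 1414), (nat_lit 6391)]))) (.node (.leaf (.cyc (nat_lit 4) [(nat_lit 1364), (nat_lit 5046), (nat_lit 5065), (nat_lit 5066), (nat_lit 1493)])) (.leaf .df))) (.node (.node (.leaf .df) (.leaf (.cyc (nat_lit 6) [(nat_lit 4053), (nat_lit 6383)]))) (.node (.leaf (.cyc (nat_lit 3) [(nat_lit 4753), (nat_lit 1411), (nat_lit 7789), (nat_lit 6829), (nat_lit 6834), (nat_lit 5921)])) (.leaf .df)))))) (.node (.node (.node (.node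 (.node (.leaf .df) (.leaf (.cyc (nat_lit 19) [(nat_lit 2625), (nat_lit 8557)]))) (.node (.leaf (.cyc (nat_lit 8) [(nat_lit 100), (nat_lit 4371), (nat_lit 4370), (nat_lit 45), (nat_lit 148)])) (.leaf (.cyc (nat_lit 13) [(nat_lit 4074), (nat_lit 11046), (nat_lit 10331), (nat_lit 7602), (nat_lit 12257), (nat_lit 12258), (nat_lit 4222)])))) (.node (.node (.leaf .df) (.leaf (.cyc (nat_lit 16) [(nat_lit 10238), (nat_lit 10153), (nat_lit 10155), (nat_lit 9585), (nat_lit 10157), (nat_lit 3626), (nat_lit 10600), (nat_lit 10603), (nat_lit 7363)]))) (.node (.leaf (.cyc (nat_lit 6) [(nat_lit 6511), (nat_lit 5747)])) (.leaf .df)))) (.node (.node (.node (.leaf .df) (.leaf (.cyc (nat_lit 32) [(nat_lit 9574), (nat_lit 5818), (nat_lit 9582), (nat_lit 9583), (nat_lit 1579), (nat_lit 7760), (nat_lit 3067), (nat_lit 7448), (nat_lit 7452)]))) (.node (.leaf (.cyc (nat_lit 1) [(nat_lit 4983), (nat_lit 1279)])) (.leaf .df))) (.node (.node (.leaf .df) (.leaf (.cyc (nat_lit 0)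 [(nat_lit 11626), (nat_lit 11631)]))) (.node (.leaf (.cyc (nat_lit 29) [(nat_lit 3088), (nat_lit 7534)])) (.leaf .df))))) (.node (.node (.node (.node (.leaf .df) (.leaf (.cyc (nat_lit 25) [(nat_lit 7476), (nat_lit 9064)]))) (.node (.leaf (.cyc (nat_lit 5) [(nat_lit 750), (nat_lit 749)])) (.leaf (.cyc (nat_lit 4) [(nat_lit 4327), (nat_lit 12315), (nat_lit 9889), (nat_lit 11638), (nat_lit 12072)])))) (.node (.node (.leaf .df) (.leaf (.cyc (nat_lit 3) [(nat_lit 10136), (nat_lit 10131), (nat_lit 1835), (nat_lit 5931), (nat_lit 3841)]))) (.node (.leaf (.cyc (nat_lit 1) [(nat_lit 6404), (nat_lit 7023)])) (.leaf .df)))) (.node (.node (.node (.leaf .df) (.leaf (.cyc (nat_lit 20) [(nat_lit 9102), (nat_lit 7113), (nat_lit 9099), (nat_lit 2658), (nat_lit 2659), (nat_lit 10092), (nat_lit 10089), (nat_lit 6376)]))) (.node (.leaf (.cyc (nat_lit 5) [(nat_lit 1771), (nat_lit 1770)])) (.leaf .df))) (.node (.node (.leaf .df) (.leaf (.cyc (nat_lit 8) [(nat_lit 12140), (nat_lit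 12141), (nat_lit 3560), (nat_lit 3558), (nat_lit 10815)]))) (.node (.leaf (.cyc (nat_lit 19) [(nat_lit 2965), (nat_lit 8042)])) (.leaf .df))))))) (.node (.node (.node (.node (.node (.node (.leaf .df) (.leaf (.cyc (nat_lit 18) [(nat_lit 1824), (nat_lit 8430), (nat_lit 1986)]))) (.node (.leaf .df) (.leaf (.cyc (nat_lit 27) [(nat_lit 4194), (nat_lit 10814), (nat_lit 12288), (nat_lit 12285), (nat_lit 6414), (nat_lit 11299), (nat_lit 12255)])))) (.node (.node (.leaf .df) (.leaf (.cyc (nat_lit 13) [(nat_lit 6129), (nat_lit 5278), (nat_lit 6196), (nat_lit 4934), (nat_lit 4796), (nat_lit 1548), (nat_lit 3690)]))) (.node (.leaf (.cyc (nat_lit 18) [(nat_lit 6353), (nat_lit 6382)])) (.leaf .df)))) (.node (.node (.node (.leaf .df) (.leaf (.cyc (nat_lit 9) [(nat_lit 9455), (nat_lit 8540), (nat_lit 924), (nat_lit 925), (nat_lit 2551)]))) (.node (.leaf (.cyc (nat_lit 0) [(nat_lit 5342), (nat_lit 1163)])) (.leaf .df))) (.node (.node (.leaf .df) (.leaf (.cyc (nat_lit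 10) [(nat_lit 3952), (nat_lit 1872), (nat_lit 4893), (nat_lit 1873), (nat_lit 3954)]))) (.node (.leaf (.cyc (nat_lit 5) [(nat_lit 3041), (nat_lit 3040)])) (.leaf .df))))) (.node (.node (.node (.node (.leaf .df) (.leaf (.cyc (nat_lit 17) [(nat_lit 5838), (nat_lit 8941)]))) (.node (.leaf (.cyc (nat_lit 2) [(nat_lit 599), (nat_lit 598)])) (.leaf (.cyc (nat_lit 8) [(nat_lit 3707), (nat_lit 9875), (nat_lit 3529), (nat_lit 9872), (nat_lit 4300)])))) (.node (.node (.leaf .df) (.leaf (.cyc (nat_lit 19) [(nat_lit 10036), (nat_lit 10987)]))) (.node (.leaf (.cyc (nat_lit 5) [(nat_lit 2622), (nat_lit 2621)])) (.leaf .df)))) (.node (.node (.node (.leaf .df) (.leaf (.cyc (nat_lit 6) [(nat_lit 3557), (nat_lit 3556)]))) (.node (.leaf (.cyc (nat_lit 7) [(nat_lit 1597), (nat_lit 555), (nat_lit 4788), (nat_lit 4790), (nat_lit 4789), (nat_lit 567), (nat_lit 1633)])) (.leaf .df))) (.node (.node (.leaf .df) (.leaf (.cyc (nat_lit 1) [(nat_lit 11964), (nat_lit 12015)]))) (.node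 (.leaf (.cyc (nat_lit 19) [(nat_lit 3209), (nat_lit 7913)])) (.leaf .df)))))) (.node (.node (.node (.node (.node (.leaf .df) (.leaf (.cyc (nat_lit 20) [(nat_lit 7864), (nat_lit 7866), (nat_lit 5364), (nat_lit 5152), (nat_lit 2553), (nat_lit 8686), (nat_lit 5577)]))) (.node (.leaf (.cyc (nat_lit 6) [(nat_lit 300), (nat_lit 299)])) (.leaf (.cyc (nat_lit 4) [(nat_lit 11143), (nat_lit 6804), (nat_lit 8659), (nat_lit 2795), (nat_lit 4251)])))) (.node (.node (.leaf .df) (.leaf (.cyc (nat_lit 2) [(nat_lit 3746), (nat_lit 3745)]))) (.node (.leaf (.cyc (nat_lit 1) [(nat_lit 6617), (nat_lit 2432)])) (.leaf .df)))) (.node (.node (.node (.leaf .df) (.leaf (.cyc (nat_lit 8) [(nat_lit 6924), (nat_lit 1001), (nat_lit 1004), (nat_lit 8626), (nat_lit 3443)]))) (.node (.leaf (.cyc (nat_lit 2) [(nat_lit 1372), (nat_lit 1371)])) (.leaf .df))) (.node (.node (.leaf .df) (.leaf (.cyc (nat_lit 18) [(nat_lit 2713), (nat_lit 11759)]))) (.node (.leaf (.cyc (nat_lit 15) [(nat_lit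 3281), (nat_lit 5449), (nat_lit 5450), (nat_lit 677), (nat_lit 4540), (nat_lit 4541), (nat_lit 4542), (nat_lit 434), (nat_lit 1273)])) (.leaf .df))))) (.node (.node (.node (.node (.leaf .df) (.leaf (.cyc (nat_lit 17) [(nat_lit 6330), (nat_lit 9197), (nat_lit 1680)]))) (.node (.leaf (.cyc (nat_lit 5) [(nat_lit 874), (nat_lit 873)])) (.leaf .df))) (.node (.node (.leaf .df) (.leaf (.cyc (nat_lit 26) [(nat_lit 2182), (nat_lit 5001), (nat_lit 6320), (nat_lit 8334), (nat_lit 5086), (nat_lit 5085), (nat_lit 5092), (nat_lit 2402), (nat_lit 11247)]))) (.node (.leaf (.cyc (nat_lit 5) [(nat_lit 2794), (nat_lit 2793)])) (.leaf .df)))) (.node (.node (.node (.leaf .df) (.leaf (.cyc (nat_lit 1) [(nat_lit 10021), (nat_lit 3633)]))) (.node (.leaf (.cyc (nat_lit 14) [(nat_lit 5271), (nat_lit 1917)])) (.leaf .df))) (.node (.node (.leaf .df) (.leaf (.cyc (nat_lit 3) [(nat_lit 12271), (nat_lit 10817), (nat_lit 9580), (nat_lit 9579), (nat_lit 12155)]))) (.node (.leaf (.cyc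 (nat_lit 29) [(nat_lit 1738), (nat_lit 8171), (nat_lit 1346)])) (.leaf .df))))))))
noncomputable def c4P000011 : BT Pf := .node c4P0000110 c4P0000111
noncomputable def c4P00001 : BT Pf := .node c4P000010 c4P000011
noncomputable def c4P0000 : BT Pf := .node c4P00000 c4P00001
noncomputable def c4P0001000 : BT Pf := (.node (.node (.node (.node (.node (.node (.node (.leaf .df) (.leaf (.cyc (nat_lit 25) [(nat_lit 7116), (nat_lit 8197), (nat_lit 5333)]))) (.node (.leaf .df) (.leaf (.cyc (nat_lit 29) [(nat_lit 11985), (nat_lit 12295), (nat_lit 9860)])))) (.node (.node (.leaf .df) (.leaf (.cyc (nat_lit 8) [(nat_lit 3418), (nat_lit 7683), (nat_lit 8665), (nat_lit 6545), (nat_lit 10247), (nat_lit 10246)]))) (.node (.leaf (.cyc (nat_lit 19) [(nat_lit 4894), (nat_lit 6151), (nat_lit 723)])) (.leaf .df)))) (.node (.node (.node (.leaf .df) (.leaf (.cyc (nat_lit 29) [(nat_lit 8662), (nat_lit 9218)]))) (.node (.leaf (.cyc (nat_lit 0) [(nat_lit 5102), (nat_lit 904)]))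 (.leaf .df))) (.node (.node (.leaf .df) (.leaf (.cyc (nat_lit 8) [(nat_lit 11271), (nat_lit 11270), (nat_lit 3891), (nat_lit 1756), (nat_lit 1757)]))) (.node (.leaf (.cyc (nat_lit 7) [(nat_lit 2820), (nat_lit 5252), (nat_lit 5274), (nat_lit 5275), (nat_lit 5276), (nat_lit 4853), (nat_lit 1738)])) (.leaf .df))))) (.node (.node (.node (.node (.leaf .df) (.leaf (.cyc (nat_lit 29) [(nat_lit 1215), (nat_lit 8705)]))) (.node (.leaf (.cyc (nat_lit 21) [(nat_lit 330), (nat_lit 4433), (nat_lit 80), (nat_lit 4387), (nat_lit 165)])) (.leaf (.cyc (nat_lit 6) [(nat_lit 4256), (nat_lit 4255)])))) (.node (.node (.leaf .df) (.leaf (.cyc (nat_lit 18) [(nat_lit 9520), (nat_lit 10759)]))) (.node (.leaf (.cyc (nat_lit 8) [(nat_lit 6661), (nat_lit 938), (nat_lit 313), (nat_lit 311), (nat_lit 933)])) (.leaf .df)))) (.node (.node (.node (.leaf .df) (.leaf (.cyc (nat_lit 1) [(nat_lit 9734), (nat_lit 3446)]))) (.node (.leaf (.cyc (nat_lit 6) [(nat_lit 1400), (nat_lit 1399)]))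 (.leaf .df))) (.node (.node (.leaf .df) (.leaf (.cyc (nat_lit 11) [(nat_lit 6654), (nat_lit 9649), (nat_lit 9647), (nat_lit 8904), (nat_lit 2048), (nat_lit 2047), (nat_lit 4022)]))) (.node (.leaf (.cyc (nat_lit 6) [(nat_lit 7687), (nat_lit 7684)])) (.leaf .df)))))) (.node (.node (.node (.node (.node (.leaf .df) (.leaf (.cyc (nat_lit 17) [(nat_lit 2900), (nat_lit 8454)]))) (.node (.leaf (.cyc (nat_lit 5) [(nat_lit 11), (nat_lit 10)])) (.leaf (.cyc (nat_lit 4) [(nat_lit 12274), (nat_lit 9581), (nat_lit 2577), (nat_lit 2580), (nat_lit 4200)])))) (.node (.node (.leaf .df) (.leaf (.cyc (nat_lit 8) [(nat_lit 3693), (nat_lit 5809), (nat_lit 10368), (nat_lit 9926), (nat_lit 9924)]))) (.node (.leaf (.cyc (nat_lit 2) [(nat_lit 2208), (nat_lit 2207)])) (.leaf .df)))) (.node (.node (.node (.leaf .df) (.leaf (.cyc (nat_lit 20) [(nat_lit 1844), (nat_lit 4884), (nat_lit 4855), (nat_lit 4854), (nat_lit 1257), (nat_lit 3300), (nat_lit 9476), (nat_lit 7708)]))) (.node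 (.leaf (.cyc (nat_lit 2) [(nat_lit 1194), (nat_lit 1193)])) (.leaf .df))) (.node (.node (.leaf .df) (.leaf (.cyc (nat_lit 14) [(nat_lit 11470), (nat_lit 3958)]))) (.node (.leaf (.cyc (nat_lit 5) [(nat_lit 3062), (nat_lit 3061)])) (.leaf .df))))) (.node (.node (.node (.node (.leaf .df) (.leaf (.cyc (nat_lit 32) [(nat_lit 2472), (nat_lit 5112), (nat_lit 5111), (nat_lit 5121), (nat_lit 8966), (nat_lit 2209), (nat_lit 783), (nat_lit 785), (nat_lit 2215), (nat_lit 7275)]))) (.node (.leaf (.cyc (nat_lit 14) [(nat_lit 4549), (nat_lit 629)])) (.leaf (.cyc (nat_lit 3) [(nat_lit 12565), (nat_lit 10224), (nat_lit 10491), (nat_lit 9487), (nat_lit 4305)])))) (.node (.node (.leaf .df) (.leaf (.cyc (nat_lit 27) [(nat_lit 3812), (nat_lit 5908), (nat_lit 7762), (nat_lit 5645), (nat_lit 6385), (nat_lit 2106), (nat_lit 2107)]))) (.node (.leaf (.cyc (nat_lit 29) [(nat_lit 1002), (nat_lit 6919), (nat_lit 1713)])) (.leaf .df)))) (.node (.node (.node (.leaf .df) (.leaf (.cyc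 (nat_lit 22) [(nat_lit 9987), (nat_lit 6632), (nat_lit 2372), (nat_lit 5151), (nat_lit 8540), (nat_lit 9455), (nat_lit 9456)]))) (.node (.leaf (.cyc (nat_lit 1) [(nat_lit 5437), (nat_lit 1658)])) (.leaf .df))) (.node (.node (.leaf .df) (.leaf (.cyc (nat_lit 25) [(nat_lit 11069), (nat_lit 12036)]))) (.node (.leaf (.cyc (nat_lit 28) [(nat_lit 5963), (nat_lit 7938), (nat_lit 2859)])) (.leaf .df))))))) (.node (.node (.node (.node (.node (.node (.leaf .df) (.leaf (.cyc (nat_lit 10) [(nat_lit 2380), (nat_lit 848), (nat_lit 845), (nat_lit 8327), (nat_lit 2979)]))) (.node (.leaf .df) (.leaf (.cyc (nat_lit 1) [(nat_lit 12341), (nat_lit 4171)])))) (.node (.node (.leaf .df) (.leaf (.cyc (nat_lit 6) [(nat_lit 3673), (nat_lit 9951)]))) (.node (.leaf (.cyc (nat_lit 5) [(nat_lit 2079), (nat_lit 2078)])) (.leaf .df)))) (.node (.node (.node (.leaf .df) (.leaf (.cyc (nat_lit 17) [(nat_lit 9235), (nat_lit 9349)]))) (.node (.leaf (.cyc (nat_lit 17) [(nat_lit 5249), (nat_lit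 5255)])) (.leaf .df))) (.node (.node (.leaf .df) (.leaf (.cyc (nat_lit 25) [(nat_lit 11392), (nat_lit 11397)]))) (.node (.leaf (.cyc (nat_lit 5) [(nat_lit 2960), (nat_lit 2959)])) (.leaf .df))))) (.node (.node (.node (.node (.leaf .df) (.leaf (.cyc (nat_lit 17) [(nat_lit 8078), (nat_lit 8839)]))) (.node (.leaf (.cyc (nat_lit 3) [(nat_lit 472), (nat_lit 4742), (nat_lit 292), (nat_lit 4418), (nat_lit 290)])) (.leaf (.cyc (nat_lit 4) [(nat_lit 4282), (nat_lit 11302), (nat_lit 11315), (nat_lit 12424), (nat_lit 12425)])))) (.node (.node (.leaf .df) (.leaf (.cyc (nat_lit 3) [(nat_lit 8426), (nat_lit 1638), (nat_lit 4824), (nat_lit 1642), (nat_lit 3782)]))) (.node (.leaf (.cyc (nat_lit 5) [(nat_lit 2539), (nat_lit 2538)])) (.leaf .df)))) (.node (.node (.node (.leaf .df) (.leaf (.cyc (nat_lit 0) [(nat_lit 6351), (nat_lit 3524)]))) (.node (.leaf (.cyc (nat_lit 2) [(nat_lit 1510), (nat_lit 1509)])) (.leaf .df))) (.node (.node (.leaf .df) (.leaf (.cyc (nat_lit 1)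 [(nat_lit 10957), (nat_lit 4057)]))) (.node (.leaf (.cyc (nat_lit 3) [(nat_lit 5893), (nat_lit 7815), (nat_lit 5985), (nat_lit 5987), (nat_lit 5533)])) (.leaf .df)))))) (.node (.node (.node (.node (.node (.leaf .df) (.leaf (.cyc (nat_lit 25) [(nat_lit 6076), (nat_lit 8583), (nat_lit 2724)]))) (.node (.leaf (.cyc (nat_lit 5) [(nat_lit 180), (nat_lit 179)])) (.leaf (.cyc (nat_lit 22) [(nat_lit 12678), (nat_lit 4175), (nat_lit 10094), (nat_lit 12603), (nat_lit 3404), (nat_lit 5592), (nat_lit 2876)])))) (.node (.node (.leaf .df) (.leaf (.cyc (nat_lit 5) [(nat_lit 3714), (nat_lit 3713)]))) (.node (.leaf (.cyc (nat_lit 5) [(nat_lit 2329), (nat_lit 2328)])) (.leaf .df)))) (.node (.node (.node (.leaf .df) (.leaf (.cyc (nat_lit 6) [(nat_lit 3401), (nat_lit 3400)]))) (.node (.leaf (.cyc (nat_lit 28) [(nat_lit 533), (nat_lit 5510), (nat_lit 893)])) (.leaf .df))) (.node (.node (.leaf .df) (.leaf (.cyc (nat_lit 1) [(nat_lit 11653), (nat_lit 11655)]))) (.node (.leaf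 (.cyc (nat_lit 5) [(nat_lit 3189), (nat_lit 3188)])) (.leaf .df))))) (.node (.node (.node (.node (.leaf .df) (.leaf (.cyc (nat_lit 30) [(nat_lit 3218), (nat_lit 9093), (nat_lit 9091), (nat_lit 7327), (nat_lit 7398), (nat_lit 8229), (nat_lit 1014), (nat_lit 1016), (nat_lit 2763)]))) (.node (.leaf (.cyc (nat_lit 7) [(nat_lit 750), (nat_lit 244), (nat_lit 73), (nat_lit 4365), (nat_lit 76), (nat_lit 252), (nat_lit 773)])) (.leaf (.cyc (nat_lit 4) [(nat_lit 12871), (nat_lit 12874), (nat_lit 12928), (nat_lit 12926), (nat_lit 13191)])))) (.node (.node (.leaf .df) (.leaf (.cyc (nat_lit 14) [(nat_lit 9255), (nat_lit 3852)]))) (.node (.leaf (.cyc (nat_lit 35) [(nat_lit 5750), (nat_lit 5210), (nat_lit 7042), (nat_lit 2096), (nat_lit 7047), (nat_lit 1001), (nat_lit 6924), (nat_lit 1744), (nat_lit 1746)])) (.leaf .df)))) (.node (.node (.node (.leaf .df) (.leaf (.cyc (nat_lit 27) [(nat_lit 3614), (nat_lit 9001), (nat_lit 9013), (nat_lit 8935), (nat_lit 6240), (nat_lit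 5269), (nat_lit 9268)]))) (.node (.leaf (.cyc (nat_lit 3) [(nat_lit 5535), (nat_lit 5534), (nat_lit 1306), (nat_lit 5557), (nat_lit 1796)])) (.leaf .df))) (.node (.node (.leaf .df) (.leaf (.cyc (nat_lit 13) [(nat_lit 11156), (nat_lit 11157), (nat_lit 9671), (nat_lit 3196), (nat_lit 6471), (nat_lit 2270), (nat_lit 4118)]))) (.node (.leaf (.cyc (nat_lit 25) [(nat_lit 6424), (nat_lit 8070)])) (.leaf .df))))))))
noncomputable def c4P0001001 : BT Pf := (.node (.node (.node (.node (.node (.node (.node (.leaf .df) (.leaf (.cyc (nat_lit 30) [(nat_lit 5256), (nat_lit 1953), (nat_lit 8261), (nat_lit 8263), (nat_lit 2831), (nat_lit 8159), (nat_lit 5283), (nat_lit 5991), (nat_lit 5992), (nat_lit 2739)]))) (.node (.leaf .df) (.leaf (.cyc (nat_lit 2) [(nat_lit 4155), (nat_lit 11245)])))) (.node (.node (.leaf .df) (.leaf (.cyc (nat_lit 1) [(nat_lit 9525), (nat_lit 3658)]))) (.node (.leaf (.cyc (nat_lit 6) [(nat_lit 2003), (nat_lit 2002)])) (.leaf .df)))) (.node (.node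 (.node (.leaf .df) (.leaf (.cyc (nat_lit 28) [(nat_lit 9279), (nat_lit 9287), (nat_lit 6441)]))) (.node (.leaf (.cyc (nat_lit 3) [(nat_lit 971), (nat_lit 5191), (nat_lit 477), (nat_lit 4468), (nat_lit 474)])) (.leaf .df))) (.node (.node (.leaf .df) (.leaf (.cyc (nat_lit 6) [(nat_lit 3905), (nat_lit 3904)]))) (.node (.leaf (.cyc (nat_lit 7) [(nat_lit 2171), (nat_lit 4998), (nat_lit 5018), (nat_lit 5019), (nat_lit 5285), (nat_lit 5287), (nat_lit 2915)])) (.leaf .df))))) (.node (.node (.node (.node (.leaf .df) (.leaf (.cyc (nat_lit 18) [(nat_lit 3322), (nat_lit 8774)]))) (.node (.leaf (.cyc (nat_lit 5) [(nat_lit 405), (nat_lit 404)])) (.leaf (.cyc (nat_lit 20) [(nat_lit 11500), (nat_lit 12061), (nat_lit 4097), (nat_lit 12245), (nat_lit 6536), (nat_lit 11992), (nat_lit 12869)])))) (.node (.node (.leaf .df) (.leaf (.cyc (nat_lit 29) [(nat_lit 10343), (nat_lit 10822)]))) (.node (.leaf (.cyc (nat_lit 2) [(nat_lit 2470), (nat_lit 2469)])) (.leaf .df)))) (.node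 (.node (.node (.leaf .df) (.leaf (.cyc (nat_lit 23) [(nat_lit 9559), (nat_lit 9541), (nat_lit 8859), (nat_lit 1313), (nat_lit 1311), (nat_lit 3377), (nat_lit 9548), (nat_lit 5634), (nat_lit 3484)]))) (.node (.leaf (.cyc (nat_lit 8) [(nat_lit 5703), (nat_lit 956), (nat_lit 4609), (nat_lit 4575), (nat_lit 842)])) (.leaf .df))) (.node (.node (.leaf .df) (.leaf (.cyc (nat_lit 8) [(nat_lit 4042), (nat_lit 11398), (nat_lit 11400), (nat_lit 11393), (nat_lit 7964)]))) (.node (.leaf (.cyc (nat_lit 28) [(nat_lit 5825), (nat_lit 7746), (nat_lit 1148)])) (.leaf .df)))))) (.node (.node (.node (.node (.node (.leaf .df) (.leaf (.cyc (nat_lit 3) [(nat_lit 2547), (nat_lit 2549), (nat_lit 8518), (nat_lit 1500), (nat_lit 1502)]))) (.node (.leaf (.cyc (nat_lit 2) [(nat_lit 98), (nat_lit 97)])) (.leaf (.cyc (nat_lit 4) [(nat_lit 7354), (nat_lit 9484), (nat_lit 3314), (nat_lit 3316), (nat_lit 12614)])))) (.node (.node (.leaf .df) (.leaf (.cyc (nat_lit 12) [(nat_lit 10567),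 (nat_lit 5944), (nat_lit 5959), (nat_lit 6322), (nat_lit 6323), (nat_lit 7291), (nat_lit 7300), (nat_lit 7301), (nat_lit 9781)]))) (.node (.leaf (.cyc (nat_lit 1) [(nat_lit 6471), (nat_lit 2272)])) (.leaf .df)))) (.node (.node (.node (.leaf .df) (.leaf (.cyc (nat_lit 14) [(nat_lit 8649), (nat_lit 3376)]))) (.node (.leaf (.cyc (nat_lit 6) [(nat_lit 1246), (nat_lit 1245)])) (.leaf .df))) (.node (.node (.leaf .df) (.leaf (.cyc (nat_lit 3) [(nat_lit 11591), (nat_lit 6963), (nat_lit 10726), (nat_lit 3739), (nat_lit 8948)]))) (.node (.leaf (.cyc (nat_lit 5) [(nat_lit 3126), (nat_lit 3125)])) (.leaf .df))))) (.node (.node (.node (.node (.leaf .df) (.leaf (.cyc (nat_lit 11) [(nat_lit 1898), (nat_lit 661), (nat_lit 4512), (nat_lit 656), (nat_lit 5784), (nat_lit 9027), (nat_lit 5468), (nat_lit 3303)]))) (.node (.leaf (.cyc (nat_lit 2) [(nat_lit 701), (nat_lit 700)])) (.leaf (.cyc (nat_lit 20) [(nat_lit 3702), (nat_lit 9563), (nat_lit 4317), (nat_lit 13123), (nat_lit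 11002), (nat_lit 11004), (nat_lit 13127)])))) (.node (.node (.leaf .df) (.leaf (.cyc (nat_lit 22) [(nat_lit 6796), (nat_lit 10279), (nat_lit 11078), (nat_lit 9538), (nat_lit 8523), (nat_lit 5682), (nat_lit 2566)]))) (.node (.leaf (.cyc (nat_lit 2) [(nat_lit 2663), (nat_lit 6982)])) (.leaf .df)))) (.node (.node (.node (.leaf .df) (.leaf (.cyc (nat_lit 13) [(nat_lit 8913), (nat_lit 10053), (nat_lit 3594), (nat_lit 1460), (nat_lit 1458), (nat_lit 5803), (nat_lit 1549), (nat_lit 1550)]))) (.node (.leaf (.cyc (nat_lit 5) [(nat_lit 1732), (nat_lit 5525)])) (.leaf .df))) (.node (.node (.leaf .df) (.leaf (.cyc (nat_lit 5) [(nat_lit 4108), (nat_lit 9896)]))) (.node (.leaf (.cyc (nat_lit 1) [(nat_lit 7194), (nat_lit 8005)])) (.leaf .df))))))) (.node (.node (.node (.node (.node (.node (.leaf .df) (.leaf (.cyc (nat_lit 29) [(nat_lit 8086), (nat_lit 8384)]))) (.node (.leaf .df) (.leaf (.cyc (nat_lit 13) [(nat_lit 4185), (nat_lit 12332), (nat_lit 3442), (nat_lit 3441),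 (nat_lit 10570), (nat_lit 10567), (nat_lit 3851)])))) (.node (.node (.leaf .df) (.leaf (.cyc (nat_lit 2) [(nat_lit 3685), (nat_lit 10361)]))) (.node (.leaf (.cyc (nat_lit 6) [(nat_lit 2152), (nat_lit 2151)])) (.leaf .df)))) (.node (.node (.node (.leaf .df) (.leaf (.cyc (nat_lit 25) [(nat_lit 7714), (nat_lit 9414)]))) (.node (.leaf (.cyc (nat_lit 5) [(nat_lit 1114), (nat_lit 5168)])) (.leaf .df))) (.node (.node (.leaf .df) (.leaf (.cyc (nat_lit 11) [(nat_lit 10606), (nat_lit 5783), (nat_lit 9951), (nat_lit 10526), (nat_lit 2996), (nat_lit 10135), (nat_lit 3930)]))) (.node (.leaf (.cyc (nat_lit 4) [(nat_lit 1129), (nat_lit 383), (nat_lit 381), (nat_lit 1122), (nat_lit 3007)])) (.leaf .df))))) (.node (.node (.node (.node (.leaf .df) (.leaf (.cyc (nat_lit 15) [(nat_lit 6271), (nat_lit 8902), (nat_lit 1940), (nat_lit 679), (nat_lit 4553), (nat_lit 4993), (nat_lit 5011), (nat_lit 5602), (nat_lit 5660)]))) (.node (.leaf (.cyc (nat_lit 0) [(nat_lit 4788), (nat_lit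 553)])) (.leaf (.cyc (nat_lit 14) [(nat_lit 12668), (nat_lit 12999)])))) (.node (.node (.leaf .df) (.leaf (.cyc (nat_lit 6) [(nat_lit 3801), (nat_lit 3800)]))) (.node (.leaf (.cyc (nat_lit 6) [(nat_lit 2594), (nat_lit 2593)])) (.leaf .df)))) (.node (.node (.node (.leaf .df) (.leaf (.cyc (nat_lit 28) [(nat_lit 3448), (nat_lit 9927)]))) (.node (.leaf (.cyc (nat_lit 6) [(nat_lit 1589), (nat_lit 1588)])) (.leaf .df))) (.node (.node (.leaf .df) (.leaf (.cyc (nat_lit 25) [(nat_lit 11323), (nat_lit 11972)]))) (.node (.leaf (.cyc (nat_lit 25) [(nat_lit 3307), (nat_lit 7876)])) (.leaf .df)))))) (.node (.node (.node (.node (.node (.leaf .df) (.leaf (.cyc (nat_lit 28) [(nat_lit 3026), (nat_lit 8645)]))) (.node (.leaf (.cyc (nat_lit 1) [(nat_lit 4471), (nat_lit 250)])) (.leaf (.cyc (nat_lit 29) [(nat_lit 4241), (nat_lit 12742)])))) (.node (.node (.leaf .df) (.leaf (.cyc (nat_lit 20) [(nat_lit 1607), (nat_lit 4813), (nat_lit 638), (nat_lit 1830), (nat_lit 10693),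 (nat_lit 7722), (nat_lit 7717)]))) (.node (.leaf (.cyc (nat_lit 6) [(nat_lit 2392), (nat_lit 2391)])) (.leaf .df)))) (.node (.node (.node (.leaf .df) (.leaf (.cyc (nat_lit 3) [(nat_lit 7616), (nat_lit 7640), (nat_lit 8465), (nat_lit 8464), (nat_lit 3433)]))) (.node (.leaf (.cyc (nat_lit 6) [(nat_lit 1326), (nat_lit 1325)])) (.leaf .df))) (.node (.node (.leaf .df) (.leaf (.cyc (nat_lit 7) [(nat_lit 4003), (nat_lit 2006), (nat_lit 702), (nat_lit 4531), (nat_lit 705), (nat_lit 2013), (nat_lit 4006)]))) (.node (.leaf (.cyc (nat_lit 14) [(nat_lit 7285), (nat_lit 7622)])) (.leaf .df))))) (.node (.node (.node (.node (.leaf .df) (.leaf (.cyc (nat_lit 28) [(nat_lit 7278), (nat_lit 9159)]))) (.node (.leaf (.cyc (nat_lit 2) [(nat_lit 831), (nat_lit 830)])) (.leaf (.cyc (nat_lit 22) [(nat_lit 13254), (nat_lit 10886), (nat_lit 10814), (nat_lit 10731), (nat_lit 13048), (nat_lit 13046), (nat_lit 12825)])))) (.node (.node (.leaf .df) (.leaf (.cyc (nat_lit 14) [(nat_lit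 9668), (nat_lit 11207)]))) (.node (.leaf (.cyc (nat_lit 2) [(nat_lit 2762), (nat_lit 2761)])) (.leaf .df)))) (.node (.node (.node (.leaf .df) (.leaf (.cyc (nat_lit 28) [(nat_lit 2689), (nat_lit 10183)]))) (.node (.leaf (.cyc (nat_lit 22) [(nat_lit 1673), (nat_lit 1675), (nat_lit 6087), (nat_lit 4888), (nat_lit 4854), (nat_lit 4856), (nat_lit 1349)])) (.leaf .df))) (.node (.node (.leaf .df) (.leaf (.cyc (nat_lit 3) [(nat_lit 12231), (nat_lit 3904), (nat_lit 1793), (nat_lit 1795), (nat_lit 3906)]))) (.node (.leaf (.cyc (nat_lit 25) [(nat_lit 7307), (nat_lit 8133), (nat_lit 7227)])) (.leaf .df))))))))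
noncomputable def c4P000100 : BT Pf := .node c4P0001000 c4P0001001
noncomputable def c4P0001010 : BT Pf := (.node (.node (.node (.node (.node (.node (.node (.leaf .df) (.leaf (.cyc (nat_lit 25) [(nat_lit 7137), (nat_lit 8220), (nat_lit 3038)]))) (.node (.leaf .df) (.leaf (.cyc (nat_lit 4) [(nat_lit 11773), (nat_lit 2399), (nat_lit 5091), (nat_lit 6584), (nat_lit 4148)])))) (.node (.node (.leaf .df) (.leaf (.cyc (nat_lit 8) [(nat_lit 3648), (nat_lit 8374), (nat_lit 5980), (nat_lit 6778), (nat_lit 2392)]))) (.node (.leaf (.cyc (nat_lit 6) [(nat_lit 1973), (nat_lit 1972)])) (.leaf .df)))) (.node (.node (.node (.leaf .df) (.leaf (.cyc (nat_lit 15) [(nat_lit 9235), (nat_lit 3092), (nat_lit 7823), (nat_lit 7825), (nat_lit 5368), (nat_lit 8463), (nat_lit 9147), (nat_lit 1877), (nat_lit 1879)]))) (.node (.leaf (.cyc (nat_lit 0) [(nat_lit 4758), (nat_lit 938)])) (.leaf .df))) (.node (.node (.leaf .df) (.leaf (.cyc (nat_lit 13) [(nat_lit 11301), (nat_lit 3897),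 (nat_lit 1771), (nat_lit 8445), (nat_lit 2087), (nat_lit 9728), (nat_lit 9727), (nat_lit 9730)]))) (.node (.leaf (.cyc (nat_lit 13) [(nat_lit 1685), (nat_lit 584), (nat_lit 4494), (nat_lit 4544), (nat_lit 356), (nat_lit 1059), (nat_lit 2874)])) (.leaf .df))))) (.node (.node (.node (.node (.leaf .df) (.leaf (.cyc (nat_lit 18) [(nat_lit 7308), (nat_lit 8733), (nat_lit 3181)]))) (.node (.leaf (.cyc (nat_lit 2) [(nat_lit 372), (nat_lit 371)])) (.leaf (.cyc (nat_lit 13) [(nat_lit 11568), (nat_lit 11021), (nat_lit 11275), (nat_lit 12233), (nat_lit 12695), (nat_lit 12694), (nat_lit 12839)])))) (.node (.node (.leaf .df) (.leaf (.cyc (nat_lit 4) [(nat_lit 1823), (nat_lit 1821), (nat_lit 10281), (nat_lit 10282), (nat_lit 10791)]))) (.node (.leaf (.cyc (nat_lit 12) [(nat_lit 6453), (nat_lit 6690), (nat_lit 2069), (nat_lit 729), (nat_lit 4537), (nat_lit 725), (nat_lit 6158), (nat_lit 6238), (nat_lit 2027), (nat_lit 2025)])) (.leaf .df)))) (.node (.node (.node (.leaf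 .df) (.leaf (.cyc (nat_lit 8) [(nat_lit 8457), (nat_lit 2145), (nat_lit 2147), (nat_lit 9762), (nat_lit 3464)]))) (.node (.leaf (.cyc (nat_lit 3) [(nat_lit 5671), (nat_lit 1434), (nat_lit 492), (nat_lit 4552), (nat_lit 768)])) (.leaf .df))) (.node (.node (.leaf .df) (.leaf (.cyc (nat_lit 8) [(nat_lit 4032), (nat_lit 9425), (nat_lit 2431), (nat_lit 9426), (nat_lit 10957)]))) (.node (.leaf (.cyc (nat_lit 28) [(nat_lit 1859), (nat_lit 7719)])) (.leaf .df)))))) (.node (.node (.node (.node (.node (.leaf .df) (.leaf (.cyc (nat_lit 3) [(nat_lit 8487), (nat_lit 7291), (nat_lit 7300), (nat_lit 7301), (nat_lit 5923)]))) (.node (.leaf (.cyc (nat_lit 2) [(nat_lit 58), (nat_lit 57)])) (.leaf (.cyc (nat_lit 20) [(nat_lit 10931), (nat_lit 10937), (nat_lit 10934), (nat_lit 7840), (nat_lit 12480), (nat_lit 12482), (nat_lit 12583)])))) (.node (.node (.leaf .df) (.leaf (.cyc (nat_lit 6) [(nat_lit 10532), (nat_lit 9566)]))) (.node (.leaf (.cyc (nat_lit 5) [(nat_lit 2253),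 (nat_lit 2252)])) (.leaf .df)))) (.node (.node (.node (.leaf .df) (.leaf (.cyc (nat_lit 4) [(nat_lit 9441), (nat_lit 5774), (nat_lit 1759), (nat_lit 5987), (nat_lit 3357)]))) (.node (.leaf (.cyc (nat_lit 9) [(nat_lit 5199), (nat_lit 5410), (nat_lit 1213), (nat_lit 4686), (nat_lit 1216)])) (.leaf .df))) (.node (.node (.leaf .df) (.leaf (.cyc (nat_lit 33) [(nat_lit 10355), (nat_lit 11551), (nat_lit 11555), (nat_lit 10325), (nat_lit 6479), (nat_lit 9409), (nat_lit 6751)]))) (.node (.leaf (.cyc (nat_lit 5) [(nat_lit 3089), (nat_lit 3088)])) (.leaf .df))))) (.node (.node (.node (.node (.leaf .df) (.leaf (.cyc (nat_lit 25) [(nat_lit 5834), (nat_lit 8991), (nat_lit 2827)]))) (.node (.leaf (.cyc (nat_lit 9) [(nat_lit 668), (nat_lit 216), (nat_lit 66), (nat_lit 68), (nat_lit 224)])) (.leaf (.cyc (nat_lit 0) [(nat_lit 12782), (nat_lit 13094)])))) (.node (.node (.leaf .df) (.leaf (.cyc (nat_lit 4) [(nat_lit 6252), (nat_lit 10897), (nat_lit 11044), (nat_lit 11045),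 (nat_lit 11046)]))) (.node (.leaf (.cyc (nat_lit 2) [(nat_lit 2643), (nat_lit 2642)])) (.leaf .df)))) (.node (.node (.node (.leaf .df) (.leaf (.cyc (nat_lit 9) [(nat_lit 3579), (nat_lit 1445), (nat_lit 4762), (nat_lit 5547), (nat_lit 6037)]))) (.node (.leaf (.cyc (nat_lit 4) [(nat_lit 1694), (nat_lit 586), (nat_lit 189), (nat_lit 192), (nat_lit 596)])) (.leaf .df))) (.node (.node (.leaf .df) (.leaf (.cyc (nat_lit 5) [(nat_lit 4101), (nat_lit 11639)]))) (.node (.leaf (.cyc (nat_lit 29) [(nat_lit 2893), (nat_lit 7974)])) (.leaf .df))))))) (.node (.node (.node (.node (.node (.node (.leaf .df) (.leaf (.cyc (nat_lit 9) [(nat_lit 6191), (nat_lit 8358), (nat_lit 8359), (nat_lit 7089), (nat_lit 1762), (nat_lit 1760)]))) (.node (.leaf .df) (.leaf (.cyc (nat_lit 8) [(nat_lit 12455), (nat_lit 9870), (nat_lit 3528), (nat_lit 9875), (nat_lit 3707)])))) (.node (.node (.leaf .df) (.leaf (.cyc (nat_lit 11) [(nat_lit 2797), (nat_lit 5238), (nat_lit 787), (nat_lit 4559),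 (nat_lit 792), (nat_lit 10399), (nat_lit 3338)]))) (.node (.leaf (.cyc (nat_lit 4) [(nat_lit 6194), (nat_lit 6199), (nat_lit 1909), (nat_lit 4974), (nat_lit 2117)])) (.leaf .df)))) (.node (.node (.node (.leaf .df) (.leaf (.cyc (nat_lit 8) [(nat_lit 7566), (nat_lit 9381), (nat_lit 6344), (nat_lit 8143), (nat_lit 8138)]))) (.node (.leaf (.cyc (nat_lit 6) [(nat_lit 1081), (nat_lit 1080)])) (.leaf .df))) (.node (.node (.leaf .df) (.leaf (.cyc (nat_lit 7) [(nat_lit 3024), (nat_lit 5330), (nat_lit 8648), (nat_lit 647), (nat_lit 644), (nat_lit 1847), (nat_lit 3927)]))) (.node (.leaf (.cyc (nat_lit 1) [(nat_lit 5368), (nat_lit 2985)])) (.leaf .df))))) (.node (.node (.node (.node (.leaf .df) (.leaf (.cyc (nat_lit 22) [(nat_lit 1443), (nat_lit 4761), (nat_lit 1438), (nat_lit 8846), (nat_lit 701), (nat_lit 4530), (nat_lit 694), (nat_lit 1984)]))) (.node (.leaf (.cyc (nat_lit 2) [(nat_lit 514), (nat_lit 513)])) (.leaf (.cyc (nat_lit 18) [(nat_lit 3481), (nat_lit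 12964)])))) (.node (.node (.leaf .df) (.leaf (.cyc (nat_lit 4) [(nat_lit 1657), (nat_lit 574), (nat_lit 572), (nat_lit 1650), (nat_lit 3795)]))) (.node (.leaf (.cyc (nat_lit 4) [(nat_lit 2572), (nat_lit 933), (nat_lit 311), (nat_lit 314), (nat_lit 941)])) (.leaf .df)))) (.node (.node (.node (.leaf .df) (.leaf (.cyc (nat_lit 9) [(nat_lit 9015), (nat_lit 5845), (nat_lit 8982), (nat_lit 6874), (nat_lit 9895)]))) (.node (.leaf (.cyc (nat_lit 13) [(nat_lit 1545), (nat_lit 534), (nat_lit 171), (nat_lit 169), (nat_lit 525), (nat_lit 4788), (nat_lit 554)])) (.leaf .df))) (.node (.node (.leaf .df) (.leaf (.cyc (nat_lit 0) [(nat_lit 11920), (nat_lit 4066)]))) (.node (.leaf (.cyc (nat_lit 19) [(nat_lit 6814), (nat_lit 7843), (nat_lit 5424)])) (.leaf .df)))))) (.node (.node (.node (.node (.node (.leaf .df) (.leaf (.cyc (nat_lit 20) [(nat_lit 1490), (nat_lit 511), (nat_lit 508), (nat_lit 1482), (nat_lit 8614), (nat_lit 6402), (nat_lit 6403)]))) (.node (.leaf (.cyc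 (nat_lit 18) [(nat_lit 114), (nat_lit 4518)])) (.leaf (.cyc (nat_lit 20) [(nat_lit 3856), (nat_lit 9037), (nat_lit 1897), (nat_lit 11203), (nat_lit 3873), (nat_lit 3875), (nat_lit 12711)])))) (.node (.node (.leaf .df) (.leaf (.cyc (nat_lit 27) [(nat_lit 9489), (nat_lit 10663), (nat_lit 7366), (nat_lit 3276), (nat_lit 10018), (nat_lit 7725), (nat_lit 6091)]))) (.node (.leaf (.cyc (nat_lit 11) [(nat_lit 1353), (nat_lit 462), (nat_lit 4465), (nat_lit 466), (nat_lit 1363), (nat_lit 6565), (nat_lit 6537)])) (.leaf .df)))) (.node (.node (.node (.leaf .df) (.leaf (.cyc (nat_lit 2) [(nat_lit 3415), (nat_lit 3414)]))) (.node (.leaf (.cyc (nat_lit 28) [(nat_lit 957), (nat_lit 5543)])) (.leaf .df))) (.node (.node (.leaf .df) (.leaf (.cyc (nat_lit 17) [(nat_lit 11169), (nat_lit 11687)]))) (.node (.leaf (.cyc (nat_lit 4) [(nat_lit 7016), (nat_lit 7017), (nat_lit 6906), (nat_lit 7012), (nat_lit 7590)])) (.leaf .df))))) (.node (.node (.node (.node (.leaf .df) (.leaf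 (.cyc (nat_lit 17) [(nat_lit 7189), (nat_lit 9127)]))) (.node (.leaf (.cyc (nat_lit 6) [(nat_lit 799), (nat_lit 798)])) (.leaf (.cyc (nat_lit 3) [(nat_lit 13011), (nat_lit 13010), (nat_lit 10442), (nat_lit 9979), (nat_lit 4339)])))) (.node (.node (.leaf .df) (.leaf (.cyc (nat_lit 19) [(nat_lit 7726), (nat_lit 11174)]))) (.node (.leaf (.cyc (nat_lit 10) [(nat_lit 1015), (nat_lit 340), (nat_lit 337), (nat_lit 1006), (nat_lit 2736)])) (.leaf .df)))) (.node (.node (.node (.leaf .df) (.leaf (.cyc (nat_lit 22) [(nat_lit 3623), (nat_lit 8112), (nat_lit 8110), (nat_lit 4728), (nat_lit 5484), (nat_lit 5486), (nat_lit 7217)]))) (.node (.leaf (.cyc (nat_lit 2) [(nat_lit 1831), (nat_lit 1830)])) (.leaf .df))) (.node (.node (.leaf .df) (.leaf (.cyc (nat_lit 13) [(nat_lit 8954), (nat_lit 8952), (nat_lit 2497), (nat_lit 7076), (nat_lit 5222), (nat_lit 2748), (nat_lit 12199)]))) (.node (.leaf (.cyc (nat_lit 28) [(nat_lit 6466), (nat_lit 8103)])) (.leaf .df))))))))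
noncomputable def c4P0001011 : BT Pf := (.node (.node (.node (.node (.node (.node (.node (.leaf .df) (.leaf (.cyc (nat_lit 19) [(nat_lit 2950), (nat_lit 8286)]))) (.node (.leaf .df) (.leaf (.cyc (nat_lit 0) [(nat_lit 10951), (nat_lit 4164)])))) (.node (.node (.leaf .df) (.leaf (.cyc (nat_lit 7) [(nat_lit 3669), (nat_lit 1523), (nat_lit 4808), (nat_lit 4809), (nat_lit 4512), (nat_lit 660), (nat_lit 1894)]))) (.node (.leaf (.cyc (nat_lit 2) [(nat_lit 2038), (nat_lit 2037)])) (.leaf .df)))) (.node (.node (.node (.leaf .df) (.leaf (.cyc (nat_lit 17) [(nat_lit 1779), (nat_lit 9318), (nat_lit 9308)]))) (.node (.leaf (.cyc (nat_lit 6) [(nat_lit 1016), (nat_lit 1015)])) (.leaf .df))) (.node (.node (.leaf .df) (.leaf (.cyc (nat_lit 0) [(nat_lit 10793), (nat_lit 11366)]))) (.node (.leaf (.cyc (nat_lit 6) [(nat_lit 2938), (nat_lit 2937)])) (.leaf .df))))) (.node (.node (.node (.node (.leaf .df) (.leaf (.cyc (nat_lit 28) [(nat_lit 1594), (nat_lit 8806), (nat_lit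 2525)]))) (.node (.leaf (.cyc (nat_lit 5) [(nat_lit 441), (nat_lit 440)])) (.leaf (.cyc (nat_lit 21) [(nat_lit 11945), (nat_lit 11092), (nat_lit 11951), (nat_lit 7414), (nat_lit 4274)])))) (.node (.node (.leaf .df) (.leaf (.cyc (nat_lit 2) [(nat_lit 3776), (nat_lit 3775)]))) (.node (.leaf (.cyc (nat_lit 1) [(nat_lit 6658), (nat_lit 2513)])) (.leaf .df)))) (.node (.node (.node (.leaf .df) (.leaf (.cyc (nat_lit 2) [(nat_lit 3500), (nat_lit 7764)]))) (.node (.leaf (.cyc (nat_lit 2) [(nat_lit 1483), (nat_lit 1482)])) (.leaf .df))) (.node (.node (.leaf .df) (.leaf (.cyc (nat_lit 19) [(nat_lit 4010), (nat_lit 11878)]))) (.node (.leaf (.cyc (nat_lit 8) [(nat_lit 2134), (nat_lit 4979), (nat_lit 2136), (nat_lit 6363), (nat_lit 7780), (nat_lit 7729)])) (.leaf .df)))))) (.node (.node (.node (.node (.node (.leaf .df) (.leaf (.cyc (nat_lit 12) [(nat_lit 8549), (nat_lit 2189), (nat_lit 5006), (nat_lit 684), (nat_lit 223), (nat_lit 225), (nat_lit 690), (nat_lit 5299),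 (nat_lit 2948)]))) (.node (.leaf (.cyc (nat_lit 1) [(nat_lit 4399), (nat_lit 137)])) (.leaf (.cyc (nat_lit 3) [(nat_lit 10511), (nat_lit 10513), (nat_lit 7595), (nat_lit 9095), (nat_lit 4220)])))) (.node (.node (.leaf .df) (.leaf (.cyc (nat_lit 4) [(nat_lit 3709), (nat_lit 9574), (nat_lit 9584), (nat_lit 10157), (nat_lit 3626)]))) (.node (.leaf (.cyc (nat_lit 28) [(nat_lit 6499), (nat_lit 6503)])) (.leaf .df)))) (.node (.node (.node (.leaf .df) (.leaf (.cyc (nat_lit 13) [(nat_lit 3393), (nat_lit 1328), (nat_lit 454), (nat_lit 4462), (nat_lit 448), (nat_lit 4886), (nat_lit 1852)]))) (.node (.leaf (.cyc (nat_lit 9) [(nat_lit 4893), (nat_lit 4891), (nat_lit 4892), (nat_lit 4706), (nat_lit 1271)])) (.leaf .df))) (.node (.node (.leaf .df) (.leaf (.cyc (nat_lit 27) [(nat_lit 3984), (nat_lit 1960), (nat_lit 8551), (nat_lit 2417), (nat_lit 8553), (nat_lit 11025), (nat_lit 11023)]))) (.node (.leaf (.cyc (nat_lit 1) [(nat_lit 5408), (nat_lit 3152)])) (.leaf .df)))))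 (.node (.node (.node (.node (.leaf .df) (.leaf (.cyc (nat_lit 19) [(nat_lit 7500), (nat_lit 9059), (nat_lit 8794)]))) (.node (.leaf (.cyc (nat_lit 13) [(nat_lit 737), (nat_lit 239), (nat_lit 72), (nat_lit 4364), (nat_lit 66), (nat_lit 215), (nat_lit 666)])) (.leaf (.cyc (nat_lit 22) [(nat_lit 13158), (nat_lit 12939), (nat_lit 12938), (nat_lit 10812), (nat_lit 10813), (nat_lit 6094), (nat_lit 3948)])))) (.node (.node (.leaf .df) (.leaf (.cyc (nat_lit 19) [(nat_lit 3830), (nat_lit 11110)]))) (.node (.leaf (.cyc (nat_lit 2) [(nat_lit 2699), (nat_lit 2698)])) (.leaf .df)))) (.node (.node (.node (.leaf .df) (.leaf (.cyc (nat_lit 4) [(nat_lit 10043), (nat_lit 3589), (nat_lit 3587), (nat_lit 10086), (nat_lit 3607)]))) (.node (.leaf (.cyc (nat_lit 3) [(nat_lit 5991), (nat_lit 1074), (nat_lit 4638), (nat_lit 4621), (nat_lit 1007)])) (.leaf .df))) (.node (.node (.leaf .df) (.leaf (.cyc (nat_lit 14) [(nat_lit 10628), (nat_lit 4112)]))) (.node (.leaf (.cyc (nat_lit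 25) [(nat_lit 2780), (nat_lit 8039), (nat_lit 2963)])) (.leaf .df))))))) (.node (.node (.node (.node (.node (.node (.leaf .df) (.leaf (.cyc (nat_lit 1) [(nat_lit 6099), (nat_lit 8423)]))) (.node (.leaf .df) (.leaf (.cyc (nat_lit 6) [(nat_lit 4192), (nat_lit 11831)])))) (.node (.node (.leaf .df) (.leaf (.cyc (nat_lit 28) [(nat_lit 10464), (nat_lit 10471)]))) (.node (.leaf (.cyc (nat_lit 5) [(nat_lit 2180), (nat_lit 2179)])) (.leaf .df)))) (.node (.node (.node (.leaf .df) (.leaf (.cyc (nat_lit 19) [(nat_lit 5917), (nat_lit 9446)]))) (.node (.leaf (.cyc (nat_lit 3) [(nat_lit 5350), (nat_lit 5349), (nat_lit 4705), (nat_lit 4596), (nat_lit 675)])) (.leaf .df))) (.node (.node (.leaf .df) (.leaf (.cyc (nat_lit 5) [(nat_lit 3944), (nat_lit 10664)]))) (.node (.leaf (.cyc (nat_lit 3) [(nat_lit 1138), (nat_lit 386), (nat_lit 384), (nat_lit 1131), (nat_lit 3032)])) (.leaf .df))))) (.node (.node (.node (.node (.leaf .df) (.leaf (.cyc (nat_lit 20) [(nat_lit 2727),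 (nat_lit 5213), (nat_lit 8588), (nat_lit 8591), (nat_lit 8593), (nat_lit 8932), (nat_lit 6745), (nat_lit 6747)]))) (.node (.leaf (.cyc (nat_lit 2) [(nat_lit 592), (nat_lit 591)])) (.leaf (.cyc (nat_lit 13) [(nat_lit 4032), (nat_lit 9424), (nat_lit 9434), (nat_lit 7685), (nat_lit 8582), (nat_lit 8579), (nat_lit 4299)])))) (.node (.node (.leaf .df) (.leaf (.cyc (nat_lit 29) [(nat_lit 1789), (nat_lit 10983), (nat_lit 5804)]))) (.node (.leaf (.cyc (nat_lit 7) [(nat_lit 2617), (nat_lit 952), (nat_lit 318), (nat_lit 4574), (nat_lit 4575), (nat_lit 843), (nat_lit 5453)])) (.leaf .df)))) (.node (.node (.node (.leaf .df) (.leaf (.cyc (nat_lit 7) [(nat_lit 9637), (nat_lit 2169), (nat_lit 767), (nat_lit 4552), (nat_lit 491), (nat_lit 1432), (nat_lit 3555)]))) (.node (.leaf (.cyc (nat_lit 5) [(nat_lit 1622), (nat_lit 1621)])) (.leaf .df))) (.node (.node (.leaf .df) (.leaf (.cyc (nat_lit 2) [(nat_lit 4086), (nat_lit 11294)]))) (.node (.leaf (.cyc (nat_lit 25) [(nat_lit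 7270), (nat_lit 7902)])) (.leaf .df)))))) (.node (.node (.node (.node (.node (.leaf .df) (.leaf (.cyc (nat_lit 4) [(nat_lit 8679), (nat_lit 1307), (nat_lit 5559), (nat_lit 5560), (nat_lit 5732)]))) (.node (.leaf (.cyc (nat_lit 4) [(nat_lit 4421), (nat_lit 4423), (nat_lit 4422), (nat_lit 4418), (nat_lit 288)])) (.leaf (.cyc (nat_lit 20) [(nat_lit 11482), (nat_lit 11662), (nat_lit 12772), (nat_lit 12775), (nat_lit 11977), (nat_lit 6400), (nat_lit 4096)])))) (.node (.node (.leaf .df) (.leaf (.cyc (nat_lit 2) [(nat_lit 10727), (nat_lit 8379)]))) (.node (.leaf (.cyc (nat_lit 3) [(nat_lit 6582), (nat_lit 6597), (nat_lit 6630), (nat_lit 2425), (nat_lit 2426)])) (.leaf .df)))) (.node (.node (.node (.leaf .df) (.leaf (.cyc (nat_lit 2) [(nat_lit 3439), (nat_lit 3438)]))) (.node (.leaf (.cyc (nat_lit 5) [(nat_lit 1359), (nat_lit 1358)])) (.leaf .df))) (.node (.node (.leaf .df) (.leaf (.cyc (nat_lit 20) [(nat_lit 2280), (nat_lit 5040), (nat_lit 1017), (nat_lit 2767),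 (nat_lit 10769), (nat_lit 11197), (nat_lit 11751)]))) (.node (.leaf (.cyc (nat_lit 8) [(nat_lit 3272), (nat_lit 3270), (nat_lit 7654), (nat_lit 1244), (nat_lit 1246)])) (.leaf .df))))) (.node (.node (.node (.node (.leaf .df) (.leaf (.cyc (nat_lit 17) [(nat_lit 1914), (nat_lit 9191)]))) (.node (.leaf (.cyc (nat_lit 2) [(nat_lit 862), (nat_lit 861)])) (.leaf .df))) (.node (.node (.leaf .df) (.leaf (.cyc (nat_lit 1) [(nat_lit 9599), (nat_lit 3884)]))) (.node (.leaf (.cyc (nat_lit 2) [(nat_lit 2788), (nat_lit 6799)])) (.leaf .df)))) (.node (.node (.node (.leaf .df) (.leaf (.cyc (nat_lit 14) [(nat_lit 9406), (nat_lit 10215)]))) (.node (.leaf (.cyc (nat_lit 5) [(nat_lit 1905), (nat_lit 1904)])) (.leaf .df))) (.node (.node (.leaf .df) (.leaf (.cyc (nat_lit 16) [(nat_lit 11502), (nat_lit 11512), (nat_lit 12189), (nat_lit 12186), (nat_lit 7447), (nat_lit 7446), (nat_lit 7450), (nat_lit 12260), (nat_lit 9791)]))) (.node (.leaf (.cyc (nat_lit 29) [(nat_lit 7175),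 (nat_lit 8167), (nat_lit 1319)])) (.leaf .df))))))))
noncomputable def c4P000101 : BT Pf := .node c4P0001010 c4P0001011
noncomputable def c4P00010 : BT Pf := .node c4P000100 c4P000101
noncomputable def c4P0001100 : BT Pf := (.node (.node (.node (.node (.node (.node (.node (.leaf .df) (.leaf (.cyc (nat_lit 17) [(nat_lit 7395), (nat_lit 8206)]))) (.node (.leaf .df) (.leaf (.cyc (nat_lit 18) [(nat_lit 11752), (nat_lit 12307)])))) (.node (.node (.leaf .df) (.leaf (.cyc (nat_lit 3) [(nat_lit 6542), (nat_lit 5749), (nat_lit 3641), (nat_lit 10255), (nat_lit 2276), (nat_lit 2278)]))) (.node (.leaf (.cyc (nat_lit 6) [(nat_lit 1952), (nat_lit 1951)])) (.leaf .df)))) (.node (.node (.node (.leaf .df) (.leaf (.cyc (nat_lit 28) [(nat_lit 2142), (nat_lit 9238)]))) (.node (.leaf (.cyc (nat_lit 25) [(nat_lit 5123), (nat_lit 5142)])) (.leaf .df))) (.node (.node (.leaf .df) (.leaf (.cyc (nat_lit 26) [(nat_lit 3206), (nat_lit 5409), (nat_lit 7528), (nat_lit 9716), (nat_lit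 9714), (nat_lit 2340), (nat_lit 9724), (nat_lit 3855), (nat_lit 11287)]))) (.node (.leaf (.cyc (nat_lit 3) [(nat_lit 2833), (nat_lit 1045), (nat_lit 4633), (nat_lit 1050), (nat_lit 2847)])) (.leaf .df))))) (.node (.node (.node (.node (.leaf .df) (.leaf (.cyc (nat_lit 25) [(nat_lit 5477), (nat_lit 8724)]))) (.node (.leaf (.cyc (nat_lit 5) [(nat_lit 351), (nat_lit 350)])) (.leaf (.cyc (nat_lit 11) [(nat_lit 3320), (nat_lit 1267), (nat_lit 4892), (nat_lit 1802), (nat_lit 8722), (nat_lit 12598), (nat_lit 12823)])))) (.node (.node (.leaf .df) (.leaf (.cyc (nat_lit 3) [(nat_lit 10720), (nat_lit 10652), (nat_lit 1610), (nat_lit 1611), (nat_lit 10775)]))) (.node (.leaf (.cyc (nat_lit 23) [(nat_lit 1351), (nat_lit 4732), (nat_lit 1355), (nat_lit 5605), (nat_lit 473), (nat_lit 471), (nat_lit 1381), (nat_lit 6679), (nat_lit 2458), (nat_lit 2456)])) (.leaf .df)))) (.node (.node (.node (.leaf .df) (.leaf (.cyc (nat_lit 8) [(nat_lit 8752), (nat_lit 9405), (nat_lit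 2922), (nat_lit 8976), (nat_lit 9751)]))) (.node (.leaf (.cyc (nat_lit 2) [(nat_lit 1416), (nat_lit 1415)])) (.leaf .df))) (.node (.node (.leaf .df) (.leaf (.cyc (nat_lit 31) [(nat_lit 6579), (nat_lit 7411), (nat_lit 9224), (nat_lit 4024), (nat_lit 11796), (nat_lit 9527), (nat_lit 5837), (nat_lit 3741)]))) (.node (.leaf (.cyc (nat_lit 2) [(nat_lit 3306), (nat_lit 3305)])) (.leaf .df)))))) (.node (.node (.node (.node (.node (.leaf .df) (.leaf (.cyc (nat_lit 28) [(nat_lit 8362), (nat_lit 8471)]))) (.node (.leaf (.cyc (nat_lit 6) [(nat_lit 34), (nat_lit 33)])) (.leaf (.cyc (nat_lit 3) [(nat_lit 12046), (nat_lit 2590), (nat_lit 5163), (nat_lit 2594), (nat_lit 4203)])))) (.node (.node (.leaf .df) (.leaf (.cyc (nat_lit 25) [(nat_lit 3653), (nat_lit 10518)]))) (.node (.leaf (.cyc (nat_lit 6) [(nat_lit 2229), (nat_lit 2228)])) (.leaf .df)))) (.node (.node (.node (.leaf .df) (.leaf (.cyc (nat_lit 0) [(nat_lit 8013), (nat_lit 3344)]))) (.node (.leaf (.cyc (nat_lit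 28) [(nat_lit 5198), (nat_lit 5399)])) (.leaf .df))) (.node (.node (.leaf .df) (.leaf (.cyc (nat_lit 20) [(nat_lit 3962), (nat_lit 1885), (nat_lit 1887), (nat_lit 3963), (nat_lit 11542), (nat_lit 1953), (nat_lit 5256), (nat_lit 8267)]))) (.node (.leaf (.cyc (nat_lit 13) [(nat_lit 3067), (nat_lit 1148), (nat_lit 4668), (nat_lit 5351), (nat_lit 6145), (nat_lit 7444), (nat_lit 6485)])) (.leaf .df))))) (.node (.node (.node (.node (.leaf .df) (.leaf (.cyc (nat_lit 29) [(nat_lit 7524), (nat_lit 8983), (nat_lit 638)]))) (.node (.leaf (.cyc (nat_lit 8) [(nat_lit 428), (nat_lit 136), (nat_lit 4399), (nat_lit 210), (nat_lit 649)])) (.leaf (.cyc (nat_lit 4) [(nat_lit 3869), (nat_lit 3867), (nat_lit 11244), (nat_lit 11930), (nat_lit 13079)])))) (.node (.node (.leaf .df) (.leaf (.cyc (nat_lit 14) [(nat_lit 3816), (nat_lit 11031)]))) (.node (.leaf (.cyc (nat_lit 25) [(nat_lit 1155), (nat_lit 6933)])) (.leaf .df)))) (.node (.node (.node (.leaf .df) (.leaf (.cyc (nat_lit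 2) [(nat_lit 9998), (nat_lit 9802)]))) (.node (.leaf (.cyc (nat_lit 5) [(nat_lit 1674), (nat_lit 1673)])) (.leaf .df))) (.node (.node (.leaf .df) (.leaf (.cyc (nat_lit 27) [(nat_lit 12055), (nat_lit 11198), (nat_lit 11202), (nat_lit 7365), (nat_lit 6182), (nat_lit 9481), (nat_lit 3926)]))) (.node (.leaf (.cyc (nat_lit 18) [(nat_lit 2888), (nat_lit 7955)])) (.leaf .df))))))) (.node (.node (.node (.node (.node (.node (.leaf .df) (.leaf (.cyc (nat_lit 19) [(nat_lit 2765), (nat_lit 8339)]))) (.node (.leaf .df) (.leaf (.cyc (nat_lit 6) [(nat_lit 4175), (nat_lit 4174)])))) (.node (.node (.leaf .df) (.leaf (.cyc (nat_lit 13) [(nat_lit 8469), (nat_lit 9299), (nat_lit 5356), (nat_lit 3089), (nat_lit 7557), (nat_lit 7597), (nat_lit 10391)]))) (.node (.leaf (.cyc (nat_lit 5) [(nat_lit 6295), (nat_lit 6293)])) (.leaf .df)))) (.node (.node (.node (.leaf .df) (.leaf (.cyc (nat_lit 5) [(nat_lit 9367), (nat_lit 6766)]))) (.node (.leaf (.cyc (nat_lit 6) [(nat_lit 1063),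 (nat_lit 1062)])) (.leaf .df))) (.node (.node (.leaf .df) (.leaf (.cyc (nat_lit 6) [(nat_lit 3923), (nat_lit 10131)]))) (.node (.leaf (.cyc (nat_lit 2) [(nat_lit 2969), (nat_lit 2968)])) (.leaf .df))))) (.node (.node (.node (.node (.leaf .df) (.leaf (.cyc (nat_lit 9) [(nat_lit 2661), (nat_lit 5190), (nat_lit 5191), (nat_lit 1395), (nat_lit 8854)]))) (.node (.leaf (.cyc (nat_lit 5) [(nat_lit 492), (nat_lit 491)])) (.leaf (.cyc (nat_lit 11) [(nat_lit 3156), (nat_lit 5382), (nat_lit 716), (nat_lit 4676), (nat_lit 1185), (nat_lit 3147), (nat_lit 4284)])))) (.node (.node (.leaf .df) (.leaf (.cyc (nat_lit 29) [(nat_lit 10901), (nat_lit 10903)]))) (.node (.leaf (.cyc (nat_lit 1) [(nat_lit 5682), (nat_lit 6806)])) (.leaf .df)))) (.node (.node (.node (.leaf .df) (.leaf (.cyc (nat_lit 25) [(nat_lit 3317), (nat_lit 9878)]))) (.node (.leaf (.cyc (nat_lit 9) [(nat_lit 656), (nat_lit 4512), (nat_lit 4810), (nat_lit 4791), (nat_lit 1529)])) (.leaf .df))) (.node (.node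 (.leaf .df) (.leaf (.cyc (nat_lit 8) [(nat_lit 10204), (nat_lit 2870), (nat_lit 2872), (nat_lit 11829), (nat_lit 11924)]))) (.node (.leaf (.cyc (nat_lit 8) [(nat_lit 7277), (nat_lit 6036), (nat_lit 7830), (nat_lit 7470), (nat_lit 7818)])) (.leaf .df)))))) (.node (.node (.node (.node (.node (.leaf .df) (.leaf (.cyc (nat_lit 19) [(nat_lit 1856), (nat_lit 8598)]))) (.node (.leaf (.cyc (nat_lit 6) [(nat_lit 202), (nat_lit 201)])) (.leaf (.cyc (nat_lit 8) [(nat_lit 4230), (nat_lit 2673), (nat_lit 2676), (nat_lit 11686), (nat_lit 10738)])))) (.node (.node (.leaf .df) (.leaf (.cyc (nat_lit 2) [(nat_lit 10647), (nat_lit 9374)]))) (.node (.leaf (.cyc (nat_lit 7) [(nat_lit 2317), (nat_lit 823), (nat_lit 4736), (nat_lit 5046), (nat_lit 5041), (nat_lit 833), (nat_lit 2346)])) (.leaf .df)))) (.node (.node (.node (.leaf .df) (.leaf (.cyc (nat_lit 14) [(nat_lit 8130), (nat_lit 3405)]))) (.node (.leaf (.cyc (nat_lit 3) [(nat_lit 5527), (nat_lit 4839), (nat_lit 4838),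 (nat_lit 4847), (nat_lit 4848)])) (.leaf .df))) (.node (.node (.leaf .df) (.leaf (.cyc (nat_lit 8) [(nat_lit 2190), (nat_lit 776), (nat_lit 4928), (nat_lit 1979), (nat_lit 3995)]))) (.node (.leaf (.cyc (nat_lit 9) [(nat_lit 2990), (nat_lit 1116), (nat_lit 4685), (nat_lit 1209), (nat_lit 3202)])) (.leaf .df))))) (.node (.node (.node (.node (.leaf .df) (.leaf (.cyc (nat_lit 19) [(nat_lit 7185), (nat_lit 9111), (nat_lit 3122)]))) (.node (.leaf (.cyc (nat_lit 6) [(nat_lit 787), (nat_lit 786)])) (.leaf (.cyc (nat_lit 22) [(nat_lit 4335), (nat_lit 9883), (nat_lit 12667), (nat_lit 12419), (nat_lit 6759), (nat_lit 4180), (nat_lit 12467)])))) (.node (.node (.leaf .df) (.leaf (.cyc (nat_lit 7) [(nat_lit 9331), (nat_lit 1169), (nat_lit 1167), (nat_lit 7887), (nat_lit 7701), (nat_lit 5953), (nat_lit 3857)]))) (.node (.leaf (.cyc (nat_lit 15) [(nat_lit 2724), (nat_lit 5213), (nat_lit 6512), (nat_lit 6704), (nat_lit 6239), (nat_lit 7021), (nat_lit 2703), (nat_lit 2702),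 (nat_lit 7023)])) (.leaf .df)))) (.node (.node (.node (.leaf .df) (.leaf (.cyc (nat_lit 29) [(nat_lit 7356), (nat_lit 10134)]))) (.node (.leaf (.cyc (nat_lit 10) [(nat_lit 639), (nat_lit 205), (nat_lit 203), (nat_lit 631), (nat_lit 1816)])) (.leaf .df))) (.node (.node (.leaf .df) (.leaf (.cyc (nat_lit 10) [(nat_lit 4075), (nat_lit 12121), (nat_lit 9826), (nat_lit 4014), (nat_lit 12183)]))) (.node (.leaf (.cyc (nat_lit 6) [(nat_lit 8087), (nat_lit 8051)])) (.leaf .df))))))))
noncomputable def c4P0001101 : BT Pf := (.node (.node (.node (.node (.node (.node (.node (.leaf .df) (.leaf (.cyc (nat_lit 17) [(nat_lit 6173), (nat_lit 8273), (nat_lit 1074)]))) (.node (.leaf .df) (.leaf (.cyc (nat_lit 21) [(nat_lit 2464), (nat_lit 5109), (nat_lit 11029), (nat_lit 6648), (nat_lit 4159)])))) (.node (.node (.leaf .df) (.leaf (.cyc (nat_lit 6) [(nat_lit 10327), (nat_lit 10325)]))) (.node (.leaf (.cyc (nat_lit 5) [(nat_lit 2020), (nat_lit 2019)])) (.leaf .df)))) (.node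 (.node (.node (.leaf .df) (.leaf (.cyc (nat_lit 25) [(nat_lit 3118), (nat_lit 9302)]))) (.node (.leaf (.cyc (nat_lit 8) [(nat_lit 993), (nat_lit 992), (nat_lit 5206), (nat_lit 518), (nat_lit 519)])) (.leaf .df))) (.node (.node (.leaf .df) (.leaf (.cyc (nat_lit 4) [(nat_lit 9382), (nat_lit 5443), (nat_lit 2981), (nat_lit 8759), (nat_lit 3910)]))) (.node (.leaf (.cyc (nat_lit 29) [(nat_lit 2917), (nat_lit 7255), (nat_lit 1704)])) (.leaf .df))))) (.node (.node (.node (.node (.leaf .df) (.leaf (.cyc (nat_lit 25) [(nat_lit 2510), (nat_lit 8788)]))) (.node (.leaf (.cyc (nat_lit 2) [(nat_lit 424), (nat_lit 423)])) (.leaf (.cyc (nat_lit 22) [(nat_lit 12886), (nat_lit 11117), (nat_lit 11116), (nat_lit 6787), (nat_lit 11348), (nat_lit 11569), (nat_lit 12840)])))) (.node (.node (.leaf .df) (.leaf (.cyc (nat_lit 16) [(nat_lit 2561), (nat_lit 7862), (nat_lit 6800), (nat_lit 7866), (nat_lit 9008), (nat_lit 9010), (nat_lit 3200), (nat_lit 9017), (nat_lit 3769), (nat_lit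 10839)]))) (.node (.leaf (.cyc (nat_lit 6) [(nat_lit 2492), (nat_lit 2491)])) (.leaf .df)))) (.node (.node (.node (.leaf .df) (.leaf (.cyc (nat_lit 29) [(nat_lit 3488), (nat_lit 9814)]))) (.node (.leaf (.cyc (nat_lit 3) [(nat_lit 5582), (nat_lit 498), (nat_lit 496), (nat_lit 5710), (nat_lit 954)])) (.leaf .df))) (.node (.node (.leaf .df) (.leaf (.cyc (nat_lit 3) [(nat_lit 11766), (nat_lit 11863), (nat_lit 3929), (nat_lit 10751), (nat_lit 4045)]))) (.node (.leaf (.cyc (nat_lit 29) [(nat_lit 7669), (nat_lit 7765)])) (.leaf .df)))))) (.node (.node (.node (.node (.node (.leaf .df) (.leaf (.cyc (nat_lit 25) [(nat_lit 6581), (nat_lit 8534), (nat_lit 2423)]))) (.node (.leaf (.cyc (nat_lit 2) [(nat_lit 114), (nat_lit 113)])) (.leaf (.cyc (nat_lit 21) [(nat_lit 4217), (nat_lit 2646), (nat_lit 11550), (nat_lit 11614), (nat_lit 12524)])))) (.node (.node (.leaf .df) (.leaf (.cyc (nat_lit 17) [(nat_lit 3601), (nat_lit 10580)]))) (.node (.leaf (.cyc (nat_lit 2) [(nat_lit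 2289), (nat_lit 5828)])) (.leaf .df)))) (.node (.node (.node (.leaf .df) (.leaf (.cyc (nat_lit 14) [(nat_lit 9543), (nat_lit 3383)]))) (.node (.leaf (.cyc (nat_lit 4) [(nat_lit 633), (nat_lit 4505), (nat_lit 544), (nat_lit 4844), (nat_lit 1258)])) (.leaf .df))) (.node (.node (.leaf .df) (.leaf (.cyc (nat_lit 2) [(nat_lit 3978), (nat_lit 10448)]))) (.node (.leaf (.cyc (nat_lit 15) [(nat_lit 7511), (nat_lit 6443), (nat_lit 7440), (nat_lit 7438), (nat_lit 563), (nat_lit 180), (nat_lit 182), (nat_lit 569), (nat_lit 5860)])) (.leaf .df))))) (.node (.node (.node (.node (.leaf .df) (.leaf (.cyc (nat_lit 19) [(nat_lit 7670), (nat_lit 9046)]))) (.node (.leaf (.cyc (nat_lit 6) [(nat_lit 718), (nat_lit 717)])) (.leaf (.cyc (nat_lit 11) [(nat_lit 9670), (nat_lit 10316), (nat_lit 10315), (nat_lit 6818), (nat_lit 5607), (nat_lit 3422), (nat_lit 4322)])))) (.node (.node (.leaf .df) (.leaf (.cyc (nat_lit 2) [(nat_lit 3839), (nat_lit 11087)]))) (.node (.leaf (.cyc (nat_lit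 6) [(nat_lit 2679), (nat_lit 2678)])) (.leaf .df)))) (.node (.node (.node (.leaf .df) (.leaf (.cyc (nat_lit 29) [(nat_lit 9785), (nat_lit 10070)]))) (.node (.leaf (.cyc (nat_lit 10) [(nat_lit 1748), (nat_lit 608), (nat_lit 4499), (nat_lit 610), (nat_lit 1752)])) (.leaf .df))) (.node (.node (.leaf .df) (.leaf (.cyc (nat_lit 18) [(nat_lit 11986), (nat_lit 12119)]))) (.node (.leaf (.cyc (nat_lit 28) [(nat_lit 7317), (nat_lit 8023), (nat_lit 2905)])) (.leaf .df))))))) (.node (.node (.node (.node (.node (.node (.leaf .df) (.leaf (.cyc (nat_lit 17) [(nat_lit 6044), (nat_lit 8406), (nat_lit 5790)]))) (.node (.leaf .df) (.leaf (.cyc (nat_lit 8) [(nat_lit 11900), (nat_lit 4055), (nat_lit 11850), (nat_lit 11852), (nat_lit 4188)])))) (.node (.node (.leaf .df) (.leaf (.cyc (nat_lit 4) [(nat_lit 10454), (nat_lit 8494), (nat_lit 1557), (nat_lit 1560), (nat_lit 8497)]))) (.node (.leaf (.cyc (nat_lit 5) [(nat_lit 2163), (nat_lit 2162)])) (.leaf .df)))) (.node (.node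 (.node (.leaf .df) (.leaf (.cyc (nat_lit 5) [(nat_lit 9431), (nat_lit 5976)]))) (.node (.leaf (.cyc (nat_lit 8) [(nat_lit 387), (nat_lit 385), (nat_lit 1135), (nat_lit 5334), (nat_lit 5253)])) (.leaf .df))) (.node (.node (.leaf .df) (.leaf (.cyc (nat_lit 26) [(nat_lit 6963), (nat_lit 10726), (nat_lit 3739), (nat_lit 5837), (nat_lit 5872), (nat_lit 1633), (nat_lit 1635), (nat_lit 3774), (nat_lit 11479)]))) (.node (.leaf (.cyc (nat_lit 24) [(nat_lit 2012), (nat_lit 4940), (nat_lit 2016), (nat_lit 6229), (nat_lit 2011), (nat_lit 5328), (nat_lit 3021), (nat_lit 7383), (nat_lit 3018), (nat_lit 3016)])) (.leaf .df))))) (.node (.node (.node (.node (.leaf .df) (.leaf (.cyc (nat_lit 17) [(nat_lit 7388), (nat_lit 8916), (nat_lit 2505)]))) (.node (.leaf (.cyc (nat_lit 5) [(nat_lit 570), (nat_lit 569)])) (.leaf (.cyc (nat_lit 1) [(nat_lit 12491), (nat_lit 4296)])))) (.node (.node (.leaf .df) (.leaf (.cyc (nat_lit 17) [(nat_lit 2938), (nat_lit 10967)]))) (.node (.leaf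 (.cyc (nat_lit 3) [(nat_lit 1594), (nat_lit 5806), (nat_lit 6869), (nat_lit 2601), (nat_lit 2602)])) (.leaf .df)))) (.node (.node (.node (.leaf .df) (.leaf (.cyc (nat_lit 2) [(nat_lit 3548), (nat_lit 3547)]))) (.node (.leaf (.cyc (nat_lit 2) [(nat_lit 1613), (nat_lit 1612)])) (.leaf .df))) (.node (.node (.leaf .df) (.leaf (.cyc (nat_lit 6) [(nat_lit 11991), (nat_lit 7479)]))) (.node (.leaf (.cyc (nat_lit 18) [(nat_lit 6520), (nat_lit 7893)])) (.leaf .df)))))) (.node (.node (.node (.node (.node (.leaf .df) (.leaf (.cyc (nat_lit 11) [(nat_lit 6544), (nat_lit 7048), (nat_lit 1746), (nat_lit 8199), (nat_lit 3042), (nat_lit 8661), (nat_lit 7377)]))) (.node (.leaf (.cyc (nat_lit 18) [(nat_lit 4564), (nat_lit 4567)])) (.leaf (.cyc (nat_lit 20) [(nat_lit 3198), (nat_lit 3199), (nat_lit 10544), (nat_lit 7423), (nat_lit 11649), (nat_lit 11648), (nat_lit 4246)])))) (.node (.node (.leaf .df) (.leaf (.cyc (nat_lit 21) [(nat_lit 3736), (nat_lit 9013), (nat_lit 5258),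 (nat_lit 2831), (nat_lit 8263)]))) (.node (.leaf (.cyc (nat_lit 2) [(nat_lit 2410), (nat_lit 2409)])) (.leaf .df)))) (.node (.node (.node (.leaf .df) (.leaf (.cyc (nat_lit 21) [(nat_lit 5716), (nat_lit 9687), (nat_lit 2341), (nat_lit 831), (nat_lit 828), (nat_lit 2332)]))) (.node (.leaf (.cyc (nat_lit 1) [(nat_lit 5485), (nat_lit 1339)])) (.leaf .df))) (.node (.node (.leaf .df) (.leaf (.cyc (nat_lit 13) [(nat_lit 11733), (nat_lit 4009), (nat_lit 9137), (nat_lit 2101), (nat_lit 740), (nat_lit 4539), (nat_lit 743), (nat_lit 2109)]))) (.node (.leaf (.cyc (nat_lit 3) [(nat_lit 3237), (nat_lit 1224), (nat_lit 4691), (nat_lit 1229), (nat_lit 3254)])) (.leaf .df))))) (.node (.node (.node (.node (.leaf .df) (.leaf (.cyc (nat_lit 17) [(nat_lit 6118), (nat_lit 9171)]))) (.node (.leaf (.cyc (nat_lit 3) [(nat_lit 4599), (nat_lit 4655), (nat_lit 5075), (nat_lit 841), (nat_lit 843)])) (.leaf (.cyc (nat_lit 3) [(nat_lit 11808), (nat_lit 11806), (nat_lit 12442), (nat_lit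 12440), (nat_lit 13271)])))) (.node (.node (.leaf .df) (.leaf (.cyc (nat_lit 18) [(nat_lit 11167), (nat_lit 11223)]))) (.node (.leaf (.cyc (nat_lit 9) [(nat_lit 2282), (nat_lit 5048), (nat_lit 6483), (nat_lit 5232), (nat_lit 2777)])) (.leaf .df)))) (.node (.node (.node (.leaf .df) (.leaf (.cyc (nat_lit 25) [(nat_lit 6742), (nat_lit 10195)]))) (.node (.leaf (.cyc (nat_lit 6) [(nat_lit 1884), (nat_lit 1883)])) (.leaf .df))) (.node (.node (.leaf .df) (.leaf (.cyc (nat_lit 5) [(nat_lit 4136), (nat_lit 10846)]))) (.node (.leaf (.cyc (nat_lit 11) [(nat_lit 1701), (nat_lit 5509), (nat_lit 1095), (nat_lit 7254), (nat_lit 7997), (nat_lit 8132), (nat_lit 7229)])) (.leaf .df))))))))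
noncomputable def c4P000110 : BT Pf := .node c4P0001100 c4P0001101
noncomputable def c4P0001110 : BT Pf := (.node (.node (.node (.node (.node (.node (.node (.leaf .df) (.leaf (.cyc (nat_lit 25) [(nat_lit 2800), (nat_lit 8238)]))) (.node (.leaf .df) (.leaf (.cyc (nat_lit 29) [(nat_lit 3191), (nat_lit 12342)])))) (.node (.node (.leaf .df) (.leaf (.cyc (nat_lit 6) [(nat_lit 3654), (nat_lit 3653)]))) (.node (.leaf (.cyc (nat_lit 3) [(nat_lit 702), (nat_lit 228), (nat_lit 226), (nat_lit 695), (nat_lit 1988)])) (.leaf .df)))) (.node (.node (.node (.leaf .df) (.leaf (.cyc (nat_lit 17) [(nat_lit 7837), (nat_lit 9269)]))) (.node (.leaf (.cyc (nat_lit 2) [(nat_lit 952), (nat_lit 951)])) (.leaf .df))) (.node (.node (.leaf .df) (.leaf (.cyc (nat_lit 20) [(nat_lit 6514), (nat_lit 9755), (nat_lit 6345), (nat_lit 9313), (nat_lit 11319), (nat_lit 9999), (nat_lit 6288), (nat_lit 6279)]))) (.node (.leaf (.cyc (nat_lit 1) [(nat_lit 7097), (nat_lit 2886)])) (.leaf .df)))))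 (.node (.node (.node (.node (.leaf .df) (.leaf (.cyc (nat_lit 26) [(nat_lit 1324), (nat_lit 8190), (nat_lit 7930), (nat_lit 4914), (nat_lit 4694), (nat_lit 5314), (nat_lit 5393), (nat_lit 5394), (nat_lit 1252), (nat_lit 8756)]))) (.node (.leaf (.cyc (nat_lit 4) [(nat_lit 4451), (nat_lit 4452), (nat_lit 4446), (nat_lit 4445), (nat_lit 388)])) (.leaf (.cyc (nat_lit 6) [(nat_lit 12848), (nat_lit 12558)])))) (.node (.node (.leaf .df) (.leaf (.cyc (nat_lit 6) [(nat_lit 3759), (nat_lit 3758)]))) (.node (.leaf (.cyc (nat_lit 25) [(nat_lit 6448), (nat_lit 6709)])) (.leaf .df)))) (.node (.node (.node (.leaf .df) (.leaf (.cyc (nat_lit 5) [(nat_lit 3471), (nat_lit 3470)]))) (.node (.leaf (.cyc (nat_lit 2) [(nat_lit 1456), (nat_lit 5583)])) (.leaf .df))) (.node (.node (.leaf .df) (.leaf (.cyc (nat_lit 1) [(nat_lit 9863), (nat_lit 4038)]))) (.node (.leaf (.cyc (nat_lit 18) [(nat_lit 1936), (nat_lit 7735), (nat_lit 5907)])) (.leaf .df)))))) (.node (.node (.node (.node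 (.node (.leaf .df) (.leaf (.cyc (nat_lit 19) [(nat_lit 6243), (nat_lit 8502)]))) (.node (.leaf (.cyc (nat_lit 14) [(nat_lit 4375), (nat_lit 78)])) (.leaf (.cyc (nat_lit 5) [(nat_lit 4209), (nat_lit 10672)])))) (.node (.node (.leaf .df) (.leaf (.cyc (nat_lit 2) [(nat_lit 3698), (nat_lit 9250)]))) (.node (.leaf (.cyc (nat_lit 6) [(nat_lit 2265), (nat_lit 2264)])) (.leaf .df)))) (.node (.node (.node (.leaf .df) (.leaf (.cyc (nat_lit 14) [(nat_lit 8556), (nat_lit 3367)]))) (.node (.leaf (.cyc (nat_lit 17) [(nat_lit 1171), (nat_lit 5431)])) (.leaf .df))) (.node (.node (.leaf .df) (.leaf (.cyc (nat_lit 13) [(nat_lit 9344), (nat_lit 9341), (nat_lit 1073), (nat_lit 1071), (nat_lit 6195), (nat_lit 6197), (nat_lit 3969)]))) (.node (.leaf (.cyc (nat_lit 1) [(nat_lit 6940), (nat_lit 3102)])) (.leaf .df))))) (.node (.node (.node (.node (.leaf .df) (.leaf (.cyc (nat_lit 20) [(nat_lit 1548), (nat_lit 536), (nat_lit 5514), (nat_lit 894), (nat_lit 2479), (nat_lit 8981),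 (nat_lit 5845)]))) (.node (.leaf (.cyc (nat_lit 8) [(nat_lit 4642), (nat_lit 4906), (nat_lit 224), (nat_lit 222), (nat_lit 681)])) (.leaf (.cyc (nat_lit 25) [(nat_lit 4313), (nat_lit 13109)])))) (.node (.node (.leaf .df) (.leaf (.cyc (nat_lit 2) [(nat_lit 3825), (nat_lit 3824)]))) (.node (.leaf (.cyc (nat_lit 2) [(nat_lit 2653), (nat_lit 2652)])) (.leaf .df)))) (.node (.node (.node (.leaf .df) (.leaf (.cyc (nat_lit 17) [(nat_lit 10033), (nat_lit 10038)]))) (.node (.leaf (.cyc (nat_lit 6) [(nat_lit 1710), (nat_lit 1709)])) (.leaf .df))) (.node (.node (.leaf .df) (.leaf (.cyc (nat_lit 3) [(nat_lit 12087), (nat_lit 9776), (nat_lit 2628), (nat_lit 5714), (nat_lit 9653)]))) (.node (.leaf (.cyc (nat_lit 28) [(nat_lit 2908), (nat_lit 7987)])) (.leaf .df))))))) (.node (.node (.node (.node (.node (.node (.leaf .df) (.leaf (.cyc (nat_lit 20) [(nat_lit 6580), (nat_lit 5150), (nat_lit 5075), (nat_lit 8318), (nat_lit 5006), (nat_lit 2189), (nat_lit 6388)]))) (.node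 (.leaf .df) (.leaf (.cyc (nat_lit 8) [(nat_lit 4181), (nat_lit 2512), (nat_lit 6658), (nat_lit 3470), (nat_lit 12063)])))) (.node (.node (.leaf .df) (.leaf (.cyc (nat_lit 5) [(nat_lit 3682), (nat_lit 3681)]))) (.node (.leaf (.cyc (nat_lit 5) [(nat_lit 2132), (nat_lit 2131)])) (.leaf .df)))) (.node (.node (.node (.leaf .df) (.leaf (.cyc (nat_lit 6) [(nat_lit 9398), (nat_lit 9392)]))) (.node (.leaf (.cyc (nat_lit 2) [(nat_lit 1099), (nat_lit 1098)])) (.leaf .df))) (.node (.node (.leaf .df) (.leaf (.cyc (nat_lit 22) [(nat_lit 6301), (nat_lit 11447), (nat_lit 11444), (nat_lit 11443), (nat_lit 9660), (nat_lit 6343), (nat_lit 10231), (nat_lit 3628)]))) (.node (.leaf (.cyc (nat_lit 8) [(nat_lit 7351), (nat_lit 1163), (nat_lit 395), (nat_lit 393), (nat_lit 1156)])) (.leaf .df))))) (.node (.node (.node (.node (.leaf .df) (.leaf (.cyc (nat_lit 25) [(nat_lit 7061), (nat_lit 8884)]))) (.node (.leaf (.cyc (nat_lit 5) [(nat_lit 530), (nat_lit 529)])) (.leaf (.cyc (nat_lit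 4) [(nat_lit 4289), (nat_lit 12389), (nat_lit 12391), (nat_lit 3346), (nat_lit 3345)])))) (.node (.node (.leaf .df) (.leaf (.cyc (nat_lit 17) [(nat_lit 7642), (nat_lit 10933)]))) (.node (.leaf (.cyc (nat_lit 4) [(nat_lit 1384), (nat_lit 4743), (nat_lit 1111), (nat_lit 6837), (nat_lit 6839)])) (.leaf .df)))) (.node (.node (.node (.leaf .df) (.leaf (.cyc (nat_lit 20) [(nat_lit 6559), (nat_lit 2353), (nat_lit 836), (nat_lit 837), (nat_lit 9700), (nat_lit 3545), (nat_lit 9911)]))) (.node (.leaf (.cyc (nat_lit 2) [(nat_lit 1563), (nat_lit 1562)])) (.leaf .df))) (.node (.node (.leaf .df) (.leaf (.cyc (nat_lit 4) [(nat_lit 3883), (nat_lit 5973), (nat_lit 3804), (nat_lit 11912), (nat_lit 11959)]))) (.node (.leaf (.cyc (nat_lit 28) [(nat_lit 7576), (nat_lit 7860)])) (.leaf .df)))))) (.node (.node (.node (.node (.node (.leaf .df) (.leaf (.cyc (nat_lit 22) [(nat_lit 8630), (nat_lit 6898), (nat_lit 5702), (nat_lit 5565), (nat_lit 8129), (nat_lit 7181), (nat_lit 2901)])))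 (.node (.leaf (.cyc (nat_lit 5) [(nat_lit 235), (nat_lit 234)])) (.leaf (.cyc (nat_lit 2) [(nat_lit 4237), (nat_lit 11725)])))) (.node (.node (.leaf .df) (.leaf (.cyc (nat_lit 8) [(nat_lit 7078), (nat_lit 2682), (nat_lit 7004), (nat_lit 5962), (nat_lit 10678), (nat_lit 3716)]))) (.node (.leaf (.cyc (nat_lit 4) [(nat_lit 2373), (nat_lit 846), (nat_lit 280), (nat_lit 283), (nat_lit 855)])) (.leaf .df)))) (.node (.node (.node (.leaf .df) (.leaf (.cyc (nat_lit 26) [(nat_lit 1461), (nat_lit 4765), (nat_lit 4766), (nat_lit 270), (nat_lit 272), (nat_lit 824), (nat_lit 5057), (nat_lit 1358), (nat_lit 3424)]))) (.node (.leaf (.cyc (nat_lit 3) [(nat_lit 5558), (nat_lit 5557), (nat_lit 4869), (nat_lit 4509), (nat_lit 640)])) (.leaf .df))) (.node (.node (.leaf .df) (.leaf (.cyc (nat_lit 5) [(nat_lit 4003), (nat_lit 8378)]))) (.node (.leaf (.cyc (nat_lit 13) [(nat_lit 7607), (nat_lit 1221), (nat_lit 416), (nat_lit 4450), (nat_lit 410), (nat_lit 5400), (nat_lit 2693)]))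 (.leaf .df))))) (.node (.node (.node (.node (.leaf .df) (.leaf (.cyc (nat_lit 13) [(nat_lit 3053), (nat_lit 9133), (nat_lit 2687), (nat_lit 5397), (nat_lit 5402), (nat_lit 5398), (nat_lit 2695)]))) (.node (.leaf (.cyc (nat_lit 5) [(nat_lit 812), (nat_lit 811)])) (.leaf (.cyc (nat_lit 6) [(nat_lit 4342), (nat_lit 11221)])))) (.node (.node (.leaf .df) (.leaf (.cyc (nat_lit 4) [(nat_lit 3871), (nat_lit 1730), (nat_lit 1729), (nat_lit 11136), (nat_lit 11137)]))) (.node (.leaf (.cyc (nat_lit 29) [(nat_lit 7090), (nat_lit 7094)])) (.leaf .df)))) (.node (.node (.node (.leaf .df) (.leaf (.cyc (nat_lit 29) [(nat_lit 9536), (nat_lit 10164)]))) (.node (.leaf (.cyc (nat_lit 5) [(nat_lit 6070), (nat_lit 5996)])) (.leaf .df))) (.node (.node (.leaf .df) (.leaf (.cyc (nat_lit 8) [(nat_lit 10902), (nat_lit 9702), (nat_lit 6535), (nat_lit 6518), (nat_lit 4131)]))) (.node (.leaf (.cyc (nat_lit 8) [(nat_lit 5590), (nat_lit 8105), (nat_lit 5586), (nat_lit 1767), (nat_lit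 7307)])) (.leaf .df))))))))
noncomputable def c4P0001111 : BT Pf := (.node (.node (.node (.node (.node (.node (.node (.leaf .df) (.leaf (.cyc (nat_lit 19) [(nat_lit 7671), (nat_lit 8298)]))) (.node (.leaf .df) (.leaf (.cyc (nat_lit 3) [(nat_lit 12404), (nat_lit 12407), (nat_lit 12025), (nat_lit 11631), (nat_lit 11804), (nat_lit 11805)])))) (.node (.node (.leaf .df) (.leaf (.cyc (nat_lit 19) [(nat_lit 3486), (nat_lit 10357)]))) (.node (.leaf (.cyc (nat_lit 4) [(nat_lit 731), (nat_lit 237), (nat_lit 235), (nat_lit 722), (nat_lit 2058)])) (.leaf .df)))) (.node (.node (.node (.leaf .df) (.leaf (.cyc (nat_lit 25) [(nat_lit 9303), (nat_lit 9334)]))) (.node (.leaf (.cyc (nat_lit 8) [(nat_lit 791), (nat_lit 4559), (nat_lit 787), (nat_lit 5238), (nat_lit 1030)])) (.leaf .df))) (.node (.node (.leaf .df) (.leaf (.cyc (nat_lit 4) [(nat_lit 2080), (nat_lit 4966), (nat_lit 10743), (nat_lit 3748), (nat_lit 11383), (nat_lit 11380)]))) (.node (.leaf (.cyc (nat_lit 13)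 [(nat_lit 6219), (nat_lit 1948), (nat_lit 4920), (nat_lit 1092), (nat_lit 7249), (nat_lit 7252), (nat_lit 2950)])) (.leaf .df))))) (.node (.node (.node (.node (.leaf .df) (.leaf (.cyc (nat_lit 18) [(nat_lit 8514), (nat_lit 8822)]))) (.node (.leaf (.cyc (nat_lit 2) [(nat_lit 457), (nat_lit 456)])) (.leaf (.cyc (nat_lit 20) [(nat_lit 4148), (nat_lit 6584), (nat_lit 5091), (nat_lit 2400), (nat_lit 8561), (nat_lit 12916), (nat_lit 12919)])))) (.node (.node (.leaf .df) (.leaf (.cyc (nat_lit 8) [(nat_lit 10869), (nat_lit 10838), (nat_lit 10839), (nat_lit 10841), (nat_lit 7862)]))) (.node (.leaf (.cyc (nat_lit 28) [(nat_lit 2390), (nat_lit 6775), (nat_lit 1732)])) (.leaf .df)))) (.node (.node (.node (.leaf .df) (.leaf (.cyc (nat_lit 4) [(nat_lit 6541), (nat_lit 9677), (nat_lit 3435), (nat_lit 5653), (nat_lit 3517)]))) (.node (.leaf (.cyc (nat_lit 26) [(nat_lit 859), (nat_lit 4580), (nat_lit 4581), (nat_lit 141), (nat_lit 142), (nat_lit 445), (nat_lit 4715),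 (nat_lit 517), (nat_lit 1501)])) (.leaf .df))) (.node (.node (.leaf .df) (.leaf (.cyc (nat_lit 20) [(nat_lit 9367), (nat_lit 7517), (nat_lit 5864), (nat_lit 11893), (nat_lit 2498), (nat_lit 11739), (nat_lit 4054)]))) (.node (.leaf (.cyc (nat_lit 17) [(nat_lit 5916), (nat_lit 7799)])) (.leaf .df)))))) (.node (.node (.node (.node (.node (.leaf .df) (.leaf (.cyc (nat_lit 18) [(nat_lit 6641), (nat_lit 8567)]))) (.node (.leaf (.cyc (nat_lit 2) [(nat_lit 158), (nat_lit 157)])) (.leaf (.cyc (nat_lit 8) [(nat_lit 12356), (nat_lit 11995), (nat_lit 11996), (nat_lit 12191), (nat_lit 12661)])))) (.node (.node (.leaf .df) (.leaf (.cyc (nat_lit 30) [(nat_lit 7575), (nat_lit 10615), (nat_lit 10614), (nat_lit 3633), (nat_lit 5741), (nat_lit 3635), (nat_lit 10234), (nat_lit 6644), (nat_lit 3632)]))) (.node (.leaf (.cyc (nat_lit 2) [(nat_lit 2309), (nat_lit 2308)])) (.leaf .df)))) (.node (.node (.node (.leaf .df) (.leaf (.cyc (nat_lit 22) [(nat_lit 5926), (nat_lit 9546),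 (nat_lit 9590), (nat_lit 9589), (nat_lit 8135), (nat_lit 2961), (nat_lit 8131)]))) (.node (.leaf (.cyc (nat_lit 5) [(nat_lit 1287), (nat_lit 1286)])) (.leaf .df))) (.node (.node (.leaf .df) (.leaf (.cyc (nat_lit 4) [(nat_lit 7067), (nat_lit 8588), (nat_lit 8587), (nat_lit 6404), (nat_lit 11639)]))) (.node (.leaf (.cyc (nat_lit 6) [(nat_lit 3173), (nat_lit 7259)])) (.leaf .df))))) (.node (.node (.node (.node (.leaf .df) (.leaf (.cyc (nat_lit 6) [(nat_lit 9078), (nat_lit 9053)]))) (.node (.leaf (.cyc (nat_lit 3) [(nat_lit 4769), (nat_lit 4708), (nat_lit 4983), (nat_lit 4982), (nat_lit 254), (nat_lit 256)])) (.leaf (.cyc (nat_lit 6) [(nat_lit 4329), (nat_lit 13090)])))) (.node (.node (.leaf .df) (.leaf (.cyc (nat_lit 11) [(nat_lit 6985), (nat_lit 8860), (nat_lit 5599), (nat_lit 5600), (nat_lit 5925), (nat_lit 1702), (nat_lit 3844)]))) (.node (.leaf (.cyc (nat_lit 2) [(nat_lit 2713), (nat_lit 2712)])) (.leaf .df)))) (.node (.node (.node (.leaf .df) (.leaf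 (.cyc (nat_lit 0) [(nat_lit 9891), (nat_lit 10103)]))) (.node (.leaf (.cyc (nat_lit 0) [(nat_lit 1774), (nat_lit 6007)])) (.leaf .df))) (.node (.node (.leaf .df) (.leaf (.cyc (nat_lit 3) [(nat_lit 9579), (nat_lit 9580), (nat_lit 12148), (nat_lit 12151), (nat_lit 3721), (nat_lit 3722)]))) (.node (.leaf (.cyc (nat_lit 30) [(nat_lit 5454), (nat_lit 5456), (nat_lit 7956), (nat_lit 1056), (nat_lit 4634), (nat_lit 5239), (nat_lit 5016), (nat_lit 2219), (nat_lit 6416), (nat_lit 2798)])) (.leaf .df))))))) (.node (.node (.node (.node (.node (.node (.leaf .df) (.leaf (.cyc (nat_lit 17) [(nat_lit 6049), (nat_lit 8437), (nat_lit 4967)]))) (.node (.leaf .df) (.leaf (.cyc (nat_lit 0) [(nat_lit 11556), (nat_lit 12535)])))) (.node (.node (.leaf .df) (.leaf (.cyc (nat_lit 7) [(nat_lit 3359), (nat_lit 1291), (nat_lit 4712), (nat_lit 1289), (nat_lit 5500), (nat_lit 1552), (nat_lit 3692)]))) (.node (.leaf (.cyc (nat_lit 29) [(nat_lit 1964), (nat_lit 6390)])) (.leaf .df))))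 (.node (.node (.node (.leaf .df) (.leaf (.cyc (nat_lit 31) [(nat_lit 3034), (nat_lit 7159), (nat_lit 1034), (nat_lit 4630), (nat_lit 7932), (nat_lit 672), (nat_lit 671), (nat_lit 1921)]))) (.node (.leaf (.cyc (nat_lit 3) [(nat_lit 5357), (nat_lit 1159), (nat_lit 394), (nat_lit 396), (nat_lit 1168)])) (.leaf .df))) (.node (.node (.leaf .df) (.leaf (.cyc (nat_lit 5) [(nat_lit 11511), (nat_lit 11504)]))) (.node (.leaf (.cyc (nat_lit 3) [(nat_lit 7358), (nat_lit 7372), (nat_lit 7415), (nat_lit 3048), (nat_lit 3049)])) (.leaf .df))))) (.node (.node (.node (.node (.leaf .df) (.leaf (.cyc (nat_lit 28) [(nat_lit 6570), (nat_lit 8951)]))) (.node (.leaf (.cyc (nat_lit 1) [(nat_lit 4731), (nat_lit 4855)])) (.leaf (.cyc (nat_lit 0) [(nat_lit 10730), (nat_lit 13047)])))) (.node (.node (.leaf .df) (.leaf (.cyc (nat_lit 16) [(nat_lit 10208), (nat_lit 10032), (nat_lit 10086), (nat_lit 3607), (nat_lit 10088), (nat_lit 6376), (nat_lit 10998), (nat_lit 10995), (nat_lit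 10997)]))) (.node (.leaf (.cyc (nat_lit 5) [(nat_lit 2628), (nat_lit 2627)])) (.leaf .df)))) (.node (.node (.node (.leaf .df) (.leaf (.cyc (nat_lit 8) [(nat_lit 9973), (nat_lit 5864), (nat_lit 7517), (nat_lit 9367), (nat_lit 6767)]))) (.node (.leaf (.cyc (nat_lit 11) [(nat_lit 834), (nat_lit 5041), (nat_lit 810), (nat_lit 4563), (nat_lit 4569), (nat_lit 570), (nat_lit 1641)])) (.leaf .df))) (.node (.node (.leaf .df) (.leaf (.cyc (nat_lit 19) [(nat_lit 4082), (nat_lit 12022)]))) (.node (.leaf (.cyc (nat_lit 29) [(nat_lit 1924), (nat_lit 7927), (nat_lit 5250)])) (.leaf .df)))))) (.node (.node (.node (.node (.node (.leaf .df) (.leaf (.cyc (nat_lit 19) [(nat_lit 7135), (nat_lit 8694)]))) (.node (.leaf (.cyc (nat_lit 6) [(nat_lit 310), (nat_lit 4423)])) (.leaf (.cyc (nat_lit 7) [(nat_lit 3147), (nat_lit 8998), (nat_lit 4879), (nat_lit 1828), (nat_lit 6050), (nat_lit 9376), (nat_lit 4252)])))) (.node (.node (.leaf .df) (.leaf (.cyc (nat_lit 8) [(nat_lit 10739),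 (nat_lit 6279), (nat_lit 6288), (nat_lit 9999), (nat_lit 9997)]))) (.node (.leaf (.cyc (nat_lit 17) [(nat_lit 6640), (nat_lit 6647)])) (.leaf .df)))) (.node (.node (.node (.leaf .df) (.leaf (.cyc (nat_lit 20) [(nat_lit 3439), (nat_lit 3437), (nat_lit 9686), (nat_lit 6546), (nat_lit 9718), (nat_lit 3213), (nat_lit 7585), (nat_lit 7101)]))) (.node (.leaf (.cyc (nat_lit 2) [(nat_lit 1379), (nat_lit 1378)])) (.leaf .df))) (.node (.node (.leaf .df) (.leaf (.cyc (nat_lit 22) [(nat_lit 11767), (nat_lit 6297), (nat_lit 2047), (nat_lit 6159), (nat_lit 7022), (nat_lit 7020), (nat_lit 10107)]))) (.node (.leaf (.cyc (nat_lit 27) [(nat_lit 3290), (nat_lit 1250), (nat_lit 1251), (nat_lit 5456), (nat_lit 5271), (nat_lit 4937), (nat_lit 2004)])) (.leaf .df))))) (.node (.node (.node (.node (.leaf .df) (.leaf (.cyc (nat_lit 11) [(nat_lit 6668), (nat_lit 9132), (nat_lit 9134), (nat_lit 9173), (nat_lit 9207), (nat_lit 9205), (nat_lit 2055)]))) (.node (.leaf (.cyc (nat_lit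 6) [(nat_lit 886), (nat_lit 885)])) (.leaf .df))) (.node (.node (.leaf .df) (.leaf (.cyc (nat_lit 2) [(nat_lit 11255), (nat_lit 9808)]))) (.node (.leaf (.cyc (nat_lit 1) [(nat_lit 7159), (nat_lit 2804)])) (.leaf .df)))) (.node (.node (.node (.leaf .df) (.leaf (.cyc (nat_lit 25) [(nat_lit 10222), (nat_lit 10230)]))) (.node (.leaf (.cyc (nat_lit 3) [(nat_lit 4939), (nat_lit 4661), (nat_lit 4913), (nat_lit 672), (nat_lit 1925)])) (.leaf .df))) (.node (.node (.leaf .df) (.leaf (.cyc (nat_lit 14) [(nat_lit 10244), (nat_lit 4144)]))) (.node (.leaf (.cyc (nat_lit 17) [(nat_lit 7167), (nat_lit 8180), (nat_lit 1325)])) (.leaf .df))))))))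
noncomputable def c4P000111 : BT Pf := .node c4P0001110 c4P0001111
noncomputable def c4P00011 : BT Pf := .node c4P000110 c4P000111
noncomputable def c4P0001 : BT Pf := .node c4P00010 c4P00011
noncomputable def c4P000 : BT Pf := .node c4P0000 c4P0001
noncomputable def c4P0010000 : BT Pf := (.node (.node (.node (.node (.node (.node (.node (.leaf .df) (.leaf (.cyc (nat_lit 33) [(nat_lit 1745), (nat_lit 7686), (nat_lit 1322), (nat_lit 8172), (nat_lit 2821), (nat_lit 8182), (nat_lit 8185), (nat_lit 3041)]))) (.node (.leaf .df) (.leaf (.cyc (nat_lit 13) [(nat_lit 11984), (nat_lit 11985), (nat_lit 3982), (nat_lit 6172), (nat_lit 8367), (nat_lit 8364), (nat_lit 4146)])))) (.node (.node (.leaf .df) (.leaf (.cyc (nat_lit 8) [(nat_lit 2353), (nat_lit 5069), (nat_lit 5068), (nat_lit 1494), (nat_lit 3640)]))) (.node (.leaf (.cyc (nat_lit 9) [(nat_lit 5463), (nat_lit 5350), (nat_lit 5352), (nat_lit 4917), (nat_lit 1934)])) (.leaf .df)))) (.node (.node (.node (.leaf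 .df) (.leaf (.cyc (nat_lit 25) [(nat_lit 3018), (nat_lit 9216)]))) (.node (.leaf (.cyc (nat_lit 2) [(nat_lit 899), (nat_lit 898)])) (.leaf .df))) (.node (.node (.leaf .df) (.leaf (.cyc (nat_lit 9) [(nat_lit 11050), (nat_lit 11047), (nat_lit 9960), (nat_lit 11262), (nat_lit 11266)]))) (.node (.leaf (.cyc (nat_lit 3) [(nat_lit 6579), (nat_lit 7171), (nat_lit 7170), (nat_lit 2398), (nat_lit 2400)])) (.leaf .df))))) (.node (.node (.node (.node (.leaf .df) (.leaf (.cyc (nat_lit 29) [(nat_lit 7591), (nat_lit 8704), (nat_lit 2073)]))) (.node (.leaf (.cyc (nat_lit 11) [(nat_lit 129), (nat_lit 4429), (nat_lit 100), (nat_lit 28), (nat_lit 29), (nat_lit 103), (nat_lit 325)])) (.leaf (.cyc (nat_lit 10) [(nat_lit 12802), (nat_lit 3082), (nat_lit 3080), (nat_lit 9524), (nat_lit 10276)])))) (.node (.node (.leaf .df) (.leaf (.cyc (nat_lit 28) [(nat_lit 10734), (nat_lit 10754), (nat_lit 2175)]))) (.node (.leaf (.cyc (nat_lit 2) [(nat_lit 2448), (nat_lit 2447)])) (.leaf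 .df)))) (.node (.node (.node (.leaf .df) (.leaf (.cyc (nat_lit 7) [(nat_lit 9559), (nat_lit 9539), (nat_lit 2095), (nat_lit 7046), (nat_lit 8626), (nat_lit 5613), (nat_lit 3445)]))) (.node (.leaf (.cyc (nat_lit 6) [(nat_lit 1394), (nat_lit 5191)])) (.leaf .df))) (.node (.node (.leaf .df) (.leaf (.cyc (nat_lit 8) [(nat_lit 10547), (nat_lit 7234), (nat_lit 9625), (nat_lit 11777), (nat_lit 11779)]))) (.node (.leaf (.cyc (nat_lit 4) [(nat_lit 1322), (nat_lit 4725), (nat_lit 643), (nat_lit 5460), (nat_lit 3298)])) (.leaf .df)))))) (.node (.node (.node (.node (.node (.leaf .df) (.leaf (.cyc (nat_lit 29) [(nat_lit 6313), (nat_lit 8447)]))) (.node (.leaf (.cyc (nat_lit 2) [(nat_lit 6), (nat_lit 5)])) (.leaf (.cyc (nat_lit 27) [(nat_lit 4198), (nat_lit 2567), (nat_lit 5156), (nat_lit 1250), (nat_lit 3289), (nat_lit 12433), (nat_lit 12431)])))) (.node (.node (.leaf .df) (.leaf (.cyc (nat_lit 19) [(nat_lit 3402), (nat_lit 10498)]))) (.node (.leaf (.cyc (nat_lit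 3) [(nat_lit 6161), (nat_lit 1472), (nat_lit 4986), (nat_lit 781), (nat_lit 2204)])) (.leaf .df)))) (.node (.node (.node (.leaf .df) (.leaf (.cyc (nat_lit 24) [(nat_lit 3300), (nat_lit 5463), (nat_lit 5350), (nat_lit 5352), (nat_lit 5365), (nat_lit 7880), (nat_lit 1262), (nat_lit 1264), (nat_lit 3311)]))) (.node (.leaf (.cyc (nat_lit 2) [(nat_lit 1186), (nat_lit 1185)])) (.leaf .df))) (.node (.node (.leaf .df) (.leaf (.cyc (nat_lit 18) [(nat_lit 2595), (nat_lit 11523), (nat_lit 1162)]))) (.node (.leaf (.cyc (nat_lit 25) [(nat_lit 3054), (nat_lit 7426)])) (.leaf .df))))) (.node (.node (.node (.node (.leaf .df) (.leaf (.cyc (nat_lit 18) [(nat_lit 3174), (nat_lit 8958)]))) (.node (.leaf (.cyc (nat_lit 2) [(nat_lit 623), (nat_lit 622)])) (.leaf (.cyc (nat_lit 4) [(nat_lit 12908), (nat_lit 12905), (nat_lit 10330), (nat_lit 10329), (nat_lit 4304)])))) (.node (.node (.leaf .df) (.leaf (.cyc (nat_lit 3) [(nat_lit 9471), (nat_lit 1249), (nat_lit 1247), (nat_lit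 7740), (nat_lit 3811)]))) (.node (.leaf (.cyc (nat_lit 9) [(nat_lit 6496), (nat_lit 6494), (nat_lit 2640), (nat_lit 6915), (nat_lit 5986), (nat_lit 5947)])) (.leaf .df)))) (.node (.node (.node (.leaf .df) (.leaf (.cyc (nat_lit 23) [(nat_lit 4772), (nat_lit 5552), (nat_lit 5988), (nat_lit 8361), (nat_lit 8366), (nat_lit 8364), (nat_lit 6632), (nat_lit 9987), (nat_lit 3571), (nat_lit 3570)]))) (.node (.leaf (.cyc (nat_lit 0) [(nat_lit 4829), (nat_lit 1653)])) (.leaf .df))) (.node (.node (.leaf .df) (.leaf (.cyc (nat_lit 19) [(nat_lit 6408), (nat_lit 12035), (nat_lit 3210)]))) (.node (.leaf (.cyc (nat_lit 19) [(nat_lit 2817), (nat_lit 7935)])) (.leaf .df))))))) (.node (.node (.node (.node (.node (.node (.leaf .df) (.leaf (.cyc (nat_lit 28) [(nat_lit 2369), (nat_lit 8322), (nat_lit 7328)]))) (.node (.leaf .df) (.leaf (.cyc (nat_lit 7) [(nat_lit 4170), (nat_lit 11865), (nat_lit 11460), (nat_lit 3888), (nat_lit 11251), (nat_lit 6379), (nat_lit 4084)])))) (.node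 (.node (.leaf .df) (.leaf (.cyc (nat_lit 18) [(nat_lit 3483), (nat_lit 10371)]))) (.node (.leaf (.cyc (nat_lit 2) [(nat_lit 2072), (nat_lit 2071)])) (.leaf .df)))) (.node (.node (.node (.leaf .df) (.leaf (.cyc (nat_lit 20) [(nat_lit 6130), (nat_lit 9071), (nat_lit 7442), (nat_lit 9339), (nat_lit 2903), (nat_lit 5281), (nat_lit 1735)]))) (.node (.leaf (.cyc (nat_lit 2) [(nat_lit 1041), (nat_lit 1040)])) (.leaf .df))) (.node (.node (.leaf .df) (.leaf (.cyc (nat_lit 2) [(nat_lit 11395), (nat_lit 10872)]))) (.node (.leaf (.cyc (nat_lit 27) [(nat_lit 2955), (nat_lit 1096), (nat_lit 1097), (nat_lit 7284), (nat_lit 1694), (nat_lit 1693), (nat_lit 7292)])) (.leaf .df))))) (.node (.node (.node (.node (.leaf .df) (.leaf (.cyc (nat_lit 25) [(nat_lit 6423), (nat_lit 8831)]))) (.node (.leaf (.cyc (nat_lit 6) [(nat_lit 470), (nat_lit 469)])) (.leaf (.cyc (nat_lit 22) [(nat_lit 4281), (nat_lit 7477), (nat_lit 9081), (nat_lit 1978), (nat_lit 4927), (nat_lit 1974), (nat_lit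 3989)])))) (.node (.node (.leaf .df) (.leaf (.cyc (nat_lit 0) [(nat_lit 6995), (nat_lit 3780)]))) (.node (.leaf (.cyc (nat_lit 4) [(nat_lit 2533), (nat_lit 5135), (nat_lit 6673), (nat_lit 2454), (nat_lit 2452)])) (.leaf .df)))) (.node (.node (.node (.leaf .df) (.leaf (.cyc (nat_lit 5) [(nat_lit 3520), (nat_lit 3519)]))) (.node (.leaf (.cyc (nat_lit 8) [(nat_lit 5618), (nat_lit 493), (nat_lit 495), (nat_lit 1444), (nat_lit 5763)])) (.leaf .df))) (.node (.node (.leaf .df) (.leaf (.cyc (nat_lit 25) [(nat_lit 4041), (nat_lit 11904)]))) (.node (.leaf (.cyc (nat_lit 28) [(nat_lit 7504), (nat_lit 7811)])) (.leaf .df)))))) (.node (.node (.node (.node (.node (.leaf .df) (.leaf (.cyc (nat_lit 29) [(nat_lit 8235), (nat_lit 8578)]))) (.node (.leaf (.cyc (nat_lit 2) [(nat_lit 174), (nat_lit 4475)])) (.leaf (.cyc (nat_lit 19) [(nat_lit 3770), (nat_lit 12674)])))) (.node (.node (.leaf .df) (.leaf (.cyc (nat_lit 8) [(nat_lit 2236), (nat_lit 10399), (nat_lit 3339), (nat_lit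 10407), (nat_lit 10626)]))) (.node (.leaf (.cyc (nat_lit 6) [(nat_lit 2322), (nat_lit 2321)])) (.leaf .df)))) (.node (.node (.node (.leaf .df) (.leaf (.cyc (nat_lit 10) [(nat_lit 3342), (nat_lit 1278), (nat_lit 1275), (nat_lit 5591), (nat_lit 3401)]))) (.node (.leaf (.cyc (nat_lit 18) [(nat_lit 872), (nat_lit 5503)])) (.leaf .df))) (.node (.node (.leaf .df) (.leaf (.cyc (nat_lit 22) [(nat_lit 10949), (nat_lit 11651), (nat_lit 11650), (nat_lit 7364), (nat_lit 10603), (nat_lit 10600), (nat_lit 10218)]))) (.node (.leaf (.cyc (nat_lit 3) [(nat_lit 1206), (nat_lit 409), (nat_lit 408), (nat_lit 1203), (nat_lit 3187)])) (.leaf .df))))) (.node (.node (.node (.node (.leaf .df) (.leaf (.cyc (nat_lit 29) [(nat_lit 9085), (nat_lit 9090)]))) (.node (.leaf (.cyc (nat_lit 2) [(nat_lit 766), (nat_lit 765)])) (.leaf (.cyc (nat_lit 0) [(nat_lit 11131), (nat_lit 13186)])))) (.node (.node (.leaf .df) (.leaf (.cyc (nat_lit 13) [(nat_lit 6753), (nat_lit 2464), (nat_lit 5532),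 (nat_lit 5499), (nat_lit 4978), (nat_lit 5941), (nat_lit 3849)]))) (.node (.leaf (.cyc (nat_lit 25) [(nat_lit 5216), (nat_lit 7043), (nat_lit 2097)])) (.leaf .df)))) (.node (.node (.node (.leaf .df) (.leaf (.cyc (nat_lit 6) [(nat_lit 3613), (nat_lit 3612)]))) (.node (.leaf (.cyc (nat_lit 5) [(nat_lit 1789), (nat_lit 1788)])) (.leaf .df))) (.node (.node (.leaf .df) (.leaf (.cyc (nat_lit 9) [(nat_lit 12163), (nat_lit 12102), (nat_lit 2273), (nat_lit 2274), (nat_lit 7085)]))) (.node (.leaf (.cyc (nat_lit 28) [(nat_lit 3253), (nat_lit 8067)])) (.leaf .df))))))))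
noncomputable def c4P0010001 : BT Pf := (.node (.node (.node (.node (.node (.node (.node (.leaf .df) (.leaf (.cyc (nat_lit 3) [(nat_lit 8259), (nat_lit 8253), (nat_lit 2412), (nat_lit 5756), (nat_lit 2714)]))) (.node (.leaf .df) (.leaf (.cyc (nat_lit 1) [(nat_lit 11247), (nat_lit 4154)])))) (.node (.node (.leaf .df) (.leaf (.cyc (nat_lit 6) [(nat_lit 3656), (nat_lit 6618)]))) (.node (.leaf (.cyc (nat_lit 3) [(nat_lit 1984), (nat_lit 694), (nat_lit 4530), (nat_lit 699), (nat_lit 1997)])) (.leaf .df)))) (.node (.node (.node (.leaf .df) (.leaf (.cyc (nat_lit 19) [(nat_lit 8739), (nat_lit 9282)]))) (.node (.leaf (.cyc (nat_lit 5) [(nat_lit 967), (nat_lit 966)])) (.leaf .df))) (.node (.node (.leaf .df) (.leaf (.cyc (nat_lit 22) [(nat_lit 11330), (nat_lit 10040), (nat_lit 10044), (nat_lit 10354), (nat_lit 10355), (nat_lit 9959), (nat_lit 9807)]))) (.node (.leaf (.cyc (nat_lit 5) [(nat_lit 2905), (nat_lit 5991)])) (.leaf .df))))) (.node (.node (.node (.node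 (.leaf .df) (.leaf (.cyc (nat_lit 25) [(nat_lit 6063), (nat_lit 8769)]))) (.node (.leaf (.cyc (nat_lit 15) [(nat_lit 401), (nat_lit 4448), (nat_lit 4430), (nat_lit 4425), (nat_lit 33), (nat_lit 31), (nat_lit 110), (nat_lit 350), (nat_lit 4631)])) (.leaf (.cyc (nat_lit 20) [(nat_lit 3989), (nat_lit 6185), (nat_lit 2948), (nat_lit 11166), (nat_lit 11954), (nat_lit 12015), (nat_lit 4266)])))) (.node (.node (.leaf .df) (.leaf (.cyc (nat_lit 0) [(nat_lit 7435), (nat_lit 3765)]))) (.node (.leaf (.cyc (nat_lit 2) [(nat_lit 2462), (nat_lit 2461)])) (.leaf .df)))) (.node (.node (.node (.leaf .df) (.leaf (.cyc (nat_lit 2) [(nat_lit 3481), (nat_lit 3480)]))) (.node (.leaf (.cyc (nat_lit 2) [(nat_lit 1464), (nat_lit 1463)])) (.leaf .df))) (.node (.node (.leaf .df) (.leaf (.cyc (nat_lit 3) [(nat_lit 11843), (nat_lit 4040), (nat_lit 2074), (nat_lit 6147), (nat_lit 3979)]))) (.node (.leaf (.cyc (nat_lit 18) [(nat_lit 3262), (nat_lit 7744), (nat_lit 6880)])) (.leaf .df))))))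 (.node (.node (.node (.node (.node (.leaf .df) (.leaf (.cyc (nat_lit 17) [(nat_lit 1963), (nat_lit 8515)]))) (.node (.leaf (.cyc (nat_lit 5) [(nat_lit 94), (nat_lit 93)])) (.leaf (.cyc (nat_lit 27) [(nat_lit 4213), (nat_lit 2636), (nat_lit 2638), (nat_lit 12195), (nat_lit 12196), (nat_lit 10809), (nat_lit 10637)])))) (.node (.node (.leaf .df) (.leaf (.cyc (nat_lit 8) [(nat_lit 10562), (nat_lit 10563), (nat_lit 7119), (nat_lit 9387), (nat_lit 6525)]))) (.node (.leaf (.cyc (nat_lit 8) [(nat_lit 1318), (nat_lit 1316), (nat_lit 6467), (nat_lit 6466), (nat_lit 5769)])) (.leaf .df)))) (.node (.node (.node (.leaf .df) (.leaf (.cyc (nat_lit 10) [(nat_lit 1317), (nat_lit 451), (nat_lit 448), (nat_lit 1308), (nat_lit 3375)]))) (.node (.leaf (.cyc (nat_lit 15) [(nat_lit 1238), (nat_lit 421), (nat_lit 4454), (nat_lit 4523), (nat_lit 4401), (nat_lit 215), (nat_lit 4514), (nat_lit 357), (nat_lit 1063)])) (.leaf .df))) (.node (.node (.leaf .df) (.leaf (.cyc (nat_lit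 11) [(nat_lit 9624), (nat_lit 7994), (nat_lit 2852), (nat_lit 8001), (nat_lit 4910), (nat_lit 1919), (nat_lit 3972)]))) (.node (.leaf (.cyc (nat_lit 22) [(nat_lit 3120), (nat_lit 5372), (nat_lit 5373), (nat_lit 5310), (nat_lit 6234), (nat_lit 2021), (nat_lit 2019)])) (.leaf .df))))) (.node (.node (.node (.node (.leaf .df) (.leaf (.cyc (nat_lit 19) [(nat_lit 3078), (nat_lit 9025)]))) (.node (.leaf (.cyc (nat_lit 6) [(nat_lit 699), (nat_lit 698)])) (.leaf (.cyc (nat_lit 3) [(nat_lit 12571), (nat_lit 12446), (nat_lit 4205), (nat_lit 12574), (nat_lit 13122)])))) (.node (.node (.leaf .df) (.leaf (.cyc (nat_lit 29) [(nat_lit 3647), (nat_lit 11074)]))) (.node (.leaf (.cyc (nat_lit 4) [(nat_lit 2660), (nat_lit 969), (nat_lit 967), (nat_lit 2651), (nat_lit 6967)])) (.leaf .df)))) (.node (.node (.node (.leaf .df) (.leaf (.cyc (nat_lit 29) [(nat_lit 3582), (nat_lit 10050)]))) (.node (.leaf (.cyc (nat_lit 6) [(nat_lit 1727), (nat_lit 5528)])) (.leaf .df))) (.node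 (.node (.leaf .df) (.leaf (.cyc (nat_lit 31) [(nat_lit 11141), (nat_lit 12096), (nat_lit 12092), (nat_lit 11632), (nat_lit 4107), (nat_lit 12099), (nat_lit 7029)]))) (.node (.leaf (.cyc (nat_lit 31) [(nat_lit 2837), (nat_lit 1046), (nat_lit 4633), (nat_lit 1051), (nat_lit 8002), (nat_lit 4641), (nat_lit 1088), (nat_lit 2939)])) (.leaf .df))))))) (.node (.node (.node (.node (.node (.node (.leaf .df) (.leaf (.cyc (nat_lit 28) [(nat_lit 2244), (nat_lit 8383)]))) (.node (.leaf .df) (.leaf (.cyc (nat_lit 20) [(nat_lit 7512), (nat_lit 5860), (nat_lit 4824), (nat_lit 1643), (nat_lit 10349), (nat_lit 10181), (nat_lit 4184)])))) (.node (.node (.leaf .df) (.leaf (.cyc (nat_lit 22) [(nat_lit 10435), (nat_lit 10434), (nat_lit 7705), (nat_lit 5927), (nat_lit 7284), (nat_lit 5303), (nat_lit 2868)]))) (.node (.leaf (.cyc (nat_lit 6) [(nat_lit 2147), (nat_lit 5999)])) (.leaf .df)))) (.node (.node (.node (.leaf .df) (.leaf (.cyc (nat_lit 29) [(nat_lit 7126), (nat_lit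 9410)]))) (.node (.leaf (.cyc (nat_lit 5) [(nat_lit 1111), (nat_lit 5106)])) (.leaf .df))) (.node (.node (.leaf .df) (.leaf (.cyc (nat_lit 5) [(nat_lit 3929), (nat_lit 11260)]))) (.node (.leaf (.cyc (nat_lit 8) [(nat_lit 3002), (nat_lit 3000), (nat_lit 7361), (nat_lit 1971), (nat_lit 1973)])) (.leaf .df))))) (.node (.node (.node (.node (.leaf .df) (.leaf (.cyc (nat_lit 17) [(nat_lit 8072), (nat_lit 8897)]))) (.node (.leaf (.cyc (nat_lit 2) [(nat_lit 548), (nat_lit 547)])) (.leaf (.cyc (nat_lit 1) [(nat_lit 12989), (nat_lit 4292)])))) (.node (.node (.leaf .df) (.leaf (.cyc (nat_lit 14) [(nat_lit 10490), (nat_lit 10947)]))) (.node (.leaf (.cyc (nat_lit 2) [(nat_lit 2592), (nat_lit 2591)])) (.leaf .df)))) (.node (.node (.node (.leaf .df) (.leaf (.cyc (nat_lit 6) [(nat_lit 3546), (nat_lit 3545)]))) (.node (.leaf (.cyc (nat_lit 22) [(nat_lit 1583), (nat_lit 550), (nat_lit 176), (nat_lit 4389), (nat_lit 180), (nat_lit 563), (nat_lit 5049)])) (.leaf .df))) (.node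 (.node (.leaf .df) (.leaf (.cyc (nat_lit 13) [(nat_lit 11325), (nat_lit 11970), (nat_lit 4071), (nat_lit 2160), (nat_lit 5645), (nat_lit 5646), (nat_lit 5169), (nat_lit 2608)]))) (.node (.leaf (.cyc (nat_lit 25) [(nat_lit 7458), (nat_lit 7873), (nat_lit 3307)])) (.leaf .df)))))) (.node (.node (.node (.node (.node (.leaf .df) (.leaf (.cyc (nat_lit 29) [(nat_lit 6079), (nat_lit 8642), (nat_lit 3025)]))) (.node (.leaf (.cyc (nat_lit 5) [(nat_lit 246), (nat_lit 245)])) (.leaf (.cyc (nat_lit 7) [(nat_lit 4242), (nat_lit 2707), (nat_lit 989), (nat_lit 4617), (nat_lit 408), (nat_lit 1204), (nat_lit 3189)])))) (.node (.node (.leaf .df) (.leaf (.cyc (nat_lit 28) [(nat_lit 10336), (nat_lit 10691)]))) (.node (.leaf (.cyc (nat_lit 2) [(nat_lit 2385), (nat_lit 2384)])) (.leaf .df)))) (.node (.node (.node (.leaf .df) (.leaf (.cyc (nat_lit 20) [(nat_lit 2993), (nat_lit 5323), (nat_lit 9429), (nat_lit 2324), (nat_lit 5058), (nat_lit 5609), (nat_lit 3429)]))) (.node (.leaf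 (.cyc (nat_lit 20) [(nat_lit 1292), (nat_lit 442), (nat_lit 141), (nat_lit 4383), (nat_lit 144), (nat_lit 452), (nat_lit 1319)])) (.leaf .df))) (.node (.node (.leaf .df) (.leaf (.cyc (nat_lit 22) [(nat_lit 4005), (nat_lit 9226), (nat_lit 2050), (nat_lit 4953), (nat_lit 2054), (nat_lit 6357), (nat_lit 6399)]))) (.node (.leaf (.cyc (nat_lit 9) [(nat_lit 7618), (nat_lit 1240), (nat_lit 422), (nat_lit 423), (nat_lit 1245)])) (.leaf .df))))) (.node (.node (.node (.node (.leaf .df) (.leaf (.cyc (nat_lit 2) [(nat_lit 9155), (nat_lit 6975)]))) (.node (.leaf (.cyc (nat_lit 14) [(nat_lit 5045), (nat_lit 827)])) (.leaf (.cyc (nat_lit 0) [(nat_lit 13008), (nat_lit 13250)])))) (.node (.node (.leaf .df) (.leaf (.cyc (nat_lit 20) [(nat_lit 6148), (nat_lit 5462), (nat_lit 4705), (nat_lit 4851), (nat_lit 5773), (nat_lit 7010), (nat_lit 11199)]))) (.node (.leaf (.cyc (nat_lit 6) [(nat_lit 2757), (nat_lit 2756)])) (.leaf .df)))) (.node (.node (.node (.leaf .df) (.leaf (.cyc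 (nat_lit 17) [(nat_lit 7497), (nat_lit 10179)]))) (.node (.leaf (.cyc (nat_lit 23) [(nat_lit 5892), (nat_lit 579), (nat_lit 186), (nat_lit 4391), (nat_lit 4390), (nat_lit 4399), (nat_lit 210), (nat_lit 649), (nat_lit 1862)])) (.leaf .df))) (.node (.node (.leaf .df) (.leaf (.cyc (nat_lit 20) [(nat_lit 3855), (nat_lit 9724), (nat_lit 2339), (nat_lit 10900), (nat_lit 7054), (nat_lit 12226), (nat_lit 12227)]))) (.node (.leaf (.cyc (nat_lit 0) [(nat_lit 7994), (nat_lit 8131)])) (.leaf .df))))))))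
noncomputable def c4P001000 : BT Pf := .node c4P0010000 c4P0010001
noncomputable def c4P0010010 : BT Pf := (.node (.node (.node (.node (.node (.node (.node (.leaf .df) (.leaf (.cyc (nat_lit 18) [(nat_lit 3030), (nat_lit 8218), (nat_lit 2759)]))) (.node (.leaf .df) (.leaf (.cyc (nat_lit 4) [(nat_lit 4147), (nat_lit 8330), (nat_lit 2000), (nat_lit 8870), (nat_lit 3421)])))) (.node (.node (.leaf .df) (.leaf (.cyc (nat_lit 3) [(nat_lit 3364), (nat_lit 8532), (nat_lit 8527), (nat_lit 5753), (nat_lit 3646)]))) (.node (.leaf (.cyc (nat_lit 0) [(nat_lit 5471), (nat_lit 1968)])) (.leaf .df)))) (.node (.node (.node (.leaf .df) (.leaf (.cyc (nat_lit 18) [(nat_lit 7668), (nat_lit 9251)]))) (.node (.leaf (.cyc (nat_lit 4) [(nat_lit 931), (nat_lit 310), (nat_lit 309), (nat_lit 5080), (nat_lit 5081)])) (.leaf .df))) (.node (.node (.leaf .df) (.leaf (.cyc (nat_lit 8) [(nat_lit 3464), (nat_lit 9762), (nat_lit 6340), (nat_lit 6000), (nat_lit 3897)]))) (.node (.leaf (.cyc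 (nat_lit 6) [(nat_lit 2872), (nat_lit 5494)])) (.leaf .df))))) (.node (.node (.node (.node (.leaf .df) (.leaf (.cyc (nat_lit 29) [(nat_lit 1798), (nat_lit 8732)]))) (.node (.leaf (.cyc (nat_lit 9) [(nat_lit 369), (nat_lit 118), (nat_lit 4376), (nat_lit 115), (nat_lit 361)])) (.leaf (.cyc (nat_lit 14) [(nat_lit 12316), (nat_lit 4261)])))) (.node (.node (.leaf .df) (.leaf (.cyc (nat_lit 4) [(nat_lit 3754), (nat_lit 1611), (nat_lit 1610), (nat_lit 10650), (nat_lit 10718)]))) (.node (.leaf (.cyc (nat_lit 19) [(nat_lit 6276), (nat_lit 6691), (nat_lit 2250)])) (.leaf .df)))) (.node (.node (.node (.leaf .df) (.leaf (.cyc (nat_lit 8) [(nat_lit 6340), (nat_lit 9763), (nat_lit 2341), (nat_lit 2339), (nat_lit 9686)]))) (.node (.leaf (.cyc (nat_lit 8) [(nat_lit 764), (nat_lit 249), (nat_lit 4471), (nat_lit 491), (nat_lit 1431)])) (.leaf .df))) (.node (.node (.leaf .df) (.leaf (.cyc (nat_lit 6) [(nat_lit 4031), (nat_lit 9422)]))) (.node (.leaf (.cyc (nat_lit 9) [(nat_lit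 3323), (nat_lit 5478), (nat_lit 916), (nat_lit 918), (nat_lit 2540)])) (.leaf .df)))))) (.node (.node (.node (.node (.node (.leaf .df) (.leaf (.cyc (nat_lit 24) [(nat_lit 7705), (nat_lit 1561), (nat_lit 4802), (nat_lit 4844), (nat_lit 1258), (nat_lit 8414), (nat_lit 530), (nat_lit 532), (nat_lit 1540)]))) (.node (.leaf (.cyc (nat_lit 6) [(nat_lit 52), (nat_lit 51)])) (.leaf (.cyc (nat_lit 8) [(nat_lit 12579), (nat_lit 7069), (nat_lit 8601), (nat_lit 11260), (nat_lit 11259)])))) (.node (.node (.leaf .df) (.leaf (.cyc (nat_lit 4) [(nat_lit 1606), (nat_lit 1603), (nat_lit 10375), (nat_lit 10376), (nat_lit 10526)]))) (.node (.leaf (.cyc (nat_lit 7) [(nat_lit 2246), (nat_lit 797), (nat_lit 795), (nat_lit 5022), (nat_lit 663), (nat_lit 664), (nat_lit 1905)])) (.leaf .df)))) (.node (.node (.node (.leaf .df) (.leaf (.cyc (nat_lit 2) [(nat_lit 3354), (nat_lit 3353)]))) (.node (.leaf (.cyc (nat_lit 8) [(nat_lit 1190), (nat_lit 1188), (nat_lit 5408), (nat_lit 1212),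 (nat_lit 1214)])) (.leaf .df))) (.node (.node (.leaf .df) (.leaf (.cyc (nat_lit 13) [(nat_lit 10327), (nat_lit 11555), (nat_lit 3964), (nat_lit 10044), (nat_lit 3589), (nat_lit 11003), (nat_lit 9823)]))) (.node (.leaf (.cyc (nat_lit 9) [(nat_lit 3080), (nat_lit 5354), (nat_lit 6812), (nat_lit 5154), (nat_lit 2564)])) (.leaf .df))))) (.node (.node (.node (.node (.leaf .df) (.leaf (.cyc (nat_lit 18) [(nat_lit 7527), (nat_lit 8988), (nat_lit 552)]))) (.node (.leaf (.cyc (nat_lit 5) [(nat_lit 663), (nat_lit 662)])) (.leaf (.cyc (nat_lit 0) [(nat_lit 13089), (nat_lit 13091)])))) (.node (.node (.leaf .df) (.leaf (.cyc (nat_lit 0) [(nat_lit 10898), (nat_lit 3821)]))) (.node (.leaf (.cyc (nat_lit 8) [(nat_lit 6947), (nat_lit 6689), (nat_lit 2061), (nat_lit 5164), (nat_lit 2596)])) (.leaf .df)))) (.node (.node (.node (.leaf .df) (.leaf (.cyc (nat_lit 2) [(nat_lit 3578), (nat_lit 8612)]))) (.node (.leaf (.cyc (nat_lit 23) [(nat_lit 1350), (nat_lit 4856), (nat_lit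 4854), (nat_lit 4703), (nat_lit 4698), (nat_lit 191), (nat_lit 189), (nat_lit 586), (nat_lit 1692)])) (.leaf .df))) (.node (.node (.leaf .df) (.leaf (.cyc (nat_lit 3) [(nat_lit 12067), (nat_lit 4099), (nat_lit 2201), (nat_lit 5655), (nat_lit 3522)]))) (.node (.leaf (.cyc (nat_lit 19) [(nat_lit 2956), (nat_lit 7970)])) (.leaf .df))))))) (.node (.node (.node (.node (.node (.node (.leaf .df) (.leaf (.cyc (nat_lit 18) [(nat_lit 6325), (nat_lit 8355)]))) (.node (.leaf .df) (.leaf (.cyc (nat_lit 8) [(nat_lit 9783), (nat_lit 9740), (nat_lit 12448), (nat_lit 12451), (nat_lit 12172)])))) (.node (.node (.leaf .df) (.leaf (.cyc (nat_lit 18) [(nat_lit 7299), (nat_lit 10403)]))) (.node (.leaf (.cyc (nat_lit 10) [(nat_lit 2107), (nat_lit 742), (nat_lit 4539), (nat_lit 744), (nat_lit 2112)])) (.leaf .df)))) (.node (.node (.node (.leaf .df) (.leaf (.cyc (nat_lit 29) [(nat_lit 3175), (nat_lit 9378)]))) (.node (.leaf (.cyc (nat_lit 2) [(nat_lit 1077), (nat_lit 1076)]))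 (.leaf .df))) (.node (.node (.leaf .df) (.leaf (.cyc (nat_lit 11) [(nat_lit 6852), (nat_lit 10935), (nat_lit 10927), (nat_lit 7570), (nat_lit 7810), (nat_lit 9667), (nat_lit 11427)]))) (.node (.leaf (.cyc (nat_lit 3) [(nat_lit 2971), (nat_lit 1105), (nat_lit 4649), (nat_lit 1108), (nat_lit 2980)])) (.leaf .df))))) (.node (.node (.node (.node (.leaf .df) (.leaf (.cyc (nat_lit 14) [(nat_lit 8663), (nat_lit 8867)]))) (.node (.leaf (.cyc (nat_lit 6) [(nat_lit 507), (nat_lit 506)])) (.leaf (.cyc (nat_lit 18) [(nat_lit 3998), (nat_lit 12962), (nat_lit 3481)])))) (.node (.node (.leaf .df) (.leaf (.cyc (nat_lit 9) [(nat_lit 2093), (nat_lit 2091), (nat_lit 10894), (nat_lit 5888), (nat_lit 3792)]))) (.node (.leaf (.cyc (nat_lit 5) [(nat_lit 2569), (nat_lit 6455)])) (.leaf .df)))) (.node (.node (.node (.leaf .df) (.leaf (.cyc (nat_lit 7) [(nat_lit 6090), (nat_lit 9856), (nat_lit 6464), (nat_lit 2268), (nat_lit 6460), (nat_lit 1424), (nat_lit 3541)]))) (.node (.leaf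 (.cyc (nat_lit 2) [(nat_lit 1543), (nat_lit 1542)])) (.leaf .df))) (.node (.node (.leaf .df) (.leaf (.cyc (nat_lit 9) [(nat_lit 6612), (nat_lit 8335), (nat_lit 2125), (nat_lit 2126), (nat_lit 4065)]))) (.node (.leaf (.cyc (nat_lit 28) [(nat_lit 7630), (nat_lit 7842), (nat_lit 6460)])) (.leaf .df)))))) (.node (.node (.node (.node (.node (.leaf .df) (.leaf (.cyc (nat_lit 8) [(nat_lit 1589), (nat_lit 8611), (nat_lit 510), (nat_lit 508), (nat_lit 5762)]))) (.node (.leaf (.cyc (nat_lit 2) [(nat_lit 218), (nat_lit 217)])) (.leaf (.cyc (nat_lit 11) [(nat_lit 12478), (nat_lit 12479), (nat_lit 7506), (nat_lit 9955), (nat_lit 12707), (nat_lit 12366), (nat_lit 4232)])))) (.node (.node (.leaf .df) (.leaf (.cyc (nat_lit 23) [(nat_lit 7365), (nat_lit 1928), (nat_lit 674), (nat_lit 4695), (nat_lit 5346), (nat_lit 1149), (nat_lit 7758), (nat_lit 1580), (nat_lit 3731)]))) (.node (.leaf (.cyc (nat_lit 16) [(nat_lit 1763), (nat_lit 614), (nat_lit 5043), (nat_lit 4572),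 (nat_lit 829), (nat_lit 5063), (nat_lit 5071), (nat_lit 2357), (nat_lit 6562)])) (.leaf .df)))) (.node (.node (.node (.leaf .df) (.leaf (.cyc (nat_lit 3) [(nat_lit 9606), (nat_lit 1340), (nat_lit 4729), (nat_lit 1344), (nat_lit 3411)]))) (.node (.leaf (.cyc (nat_lit 6) [(nat_lit 1298), (nat_lit 1297)])) (.leaf .df))) (.node (.node (.leaf .df) (.leaf (.cyc (nat_lit 20) [(nat_lit 6999), (nat_lit 2679), (nat_lit 976), (nat_lit 4818), (nat_lit 1618), (nat_lit 3758), (nat_lit 11679)]))) (.node (.leaf (.cyc (nat_lit 10) [(nat_lit 3013), (nat_lit 1124), (nat_lit 1121), (nat_lit 5414), (nat_lit 3214)])) (.leaf .df))))) (.node (.node (.node (.node (.leaf .df) (.leaf (.cyc (nat_lit 3) [(nat_lit 9120), (nat_lit 6586), (nat_lit 8338), (nat_lit 8350), (nat_lit 8576)]))) (.node (.leaf (.cyc (nat_lit 8) [(nat_lit 737), (nat_lit 4538), (nat_lit 5024), (nat_lit 4900), (nat_lit 5022)])) (.leaf (.cyc (nat_lit 5) [(nat_lit 4338), (nat_lit 10355)])))) (.node (.node (.leaf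 .df) (.leaf (.cyc (nat_lit 27) [(nat_lit 3864), (nat_lit 11081), (nat_lit 11071), (nat_lit 2531), (nat_lit 2532), (nat_lit 11116), (nat_lit 11119)]))) (.node (.leaf (.cyc (nat_lit 5) [(nat_lit 7075), (nat_lit 7074)])) (.leaf .df)))) (.node (.node (.node (.leaf .df) (.leaf (.cyc (nat_lit 20) [(nat_lit 2202), (nat_lit 781), (nat_lit 4985), (nat_lit 4477), (nat_lit 509), (nat_lit 1484), (nat_lit 3623)]))) (.node (.leaf (.cyc (nat_lit 24) [(nat_lit 1813), (nat_lit 4873), (nat_lit 1816), (nat_lit 6040), (nat_lit 639), (nat_lit 638), (nat_lit 1829), (nat_lit 6051), (nat_lit 1592), (nat_lit 1590)])) (.leaf .df))) (.node (.node (.leaf .df) (.leaf (.cyc (nat_lit 8) [(nat_lit 3759), (nat_lit 5861), (nat_lit 10549), (nat_lit 7488), (nat_lit 12194)]))) (.node (.leaf (.cyc (nat_lit 17) [(nat_lit 6071), (nat_lit 8099)])) (.leaf .df))))))))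
noncomputable def c4P0010011 : BT Pf := (.node (.node (.node (.node (.node (.node (.node (.leaf .df) (.leaf (.cyc (nat_lit 28) [(nat_lit 1948), (nat_lit 8282)]))) (.node (.leaf .df) (.leaf (.cyc (nat_lit 10) [(nat_lit 11436), (nat_lit 8616), (nat_lit 3633), (nat_lit 10614), (nat_lit 4163)])))) (.node (.node (.leaf .df) (.leaf (.cyc (nat_lit 5) [(nat_lit 3667), (nat_lit 3666)]))) (.node (.leaf (.cyc (nat_lit 11) [(nat_lit 742), (nat_lit 4943), (nat_lit 709), (nat_lit 231), (nat_lit 232), (nat_lit 713), (nat_lit 2033)])) (.leaf .df)))) (.node (.node (.node (.leaf .df) (.leaf (.cyc (nat_lit 23) [(nat_lit 1771), (nat_lit 617), (nat_lit 4503), (nat_lit 4547), (nat_lit 246), (nat_lit 248), (nat_lit 761), (nat_lit 6336), (nat_lit 9313)]))) (.node (.leaf (.cyc (nat_lit 2) [(nat_lit 1008), (nat_lit 1007)])) (.leaf .df))) (.node (.node (.leaf .df) (.leaf (.cyc (nat_lit 14) [(nat_lit 7279), (nat_lit 3912)]))) (.node (.leaf (.cyc (nat_lit 2) [(nat_lit 2930), (nat_lit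 2929)])) (.leaf .df))))) (.node (.node (.node (.node (.leaf .df) (.leaf (.cyc (nat_lit 16) [(nat_lit 7561), (nat_lit 2645), (nat_lit 5200), (nat_lit 5731), (nat_lit 5747), (nat_lit 6508), (nat_lit 6761), (nat_lit 8802), (nat_lit 3194)]))) (.node (.leaf (.cyc (nat_lit 5) [(nat_lit 437), (nat_lit 436)])) (.leaf (.cyc (nat_lit 29) [(nat_lit 12866), (nat_lit 12898)])))) (.node (.node (.leaf .df) (.leaf (.cyc (nat_lit 13) [(nat_lit 10752), (nat_lit 2346), (nat_lit 5067), (nat_lit 5880), (nat_lit 5885), (nat_lit 5884), (nat_lit 3775)]))) (.node (.leaf (.cyc (nat_lit 5) [(nat_lit 2509), (nat_lit 2508)])) (.leaf .df)))) (.node (.node (.node (.leaf .df) (.leaf (.cyc (nat_lit 20) [(nat_lit 6774), (nat_lit 2527), (nat_lit 5133), (nat_lit 8356), (nat_lit 2188), (nat_lit 9824), (nat_lit 9827)]))) (.node (.leaf (.cyc (nat_lit 13) [(nat_lit 5560), (nat_lit 5559), (nat_lit 447), (nat_lit 446), (nat_lit 1303), (nat_lit 5550), (nat_lit 1476)])) (.leaf .df))) (.node (.node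 (.leaf .df) (.leaf (.cyc (nat_lit 0) [(nat_lit 6999), (nat_lit 11875)]))) (.node (.leaf (.cyc (nat_lit 28) [(nat_lit 7730), (nat_lit 7779)])) (.leaf .df)))))) (.node (.node (.node (.node (.node (.leaf .df) (.leaf (.cyc (nat_lit 28) [(nat_lit 2418), (nat_lit 8545)]))) (.node (.leaf (.cyc (nat_lit 4) [(nat_lit 133), (nat_lit 38), (nat_lit 36), (nat_lit 124), (nat_lit 4446)])) (.leaf (.cyc (nat_lit 10) [(nat_lit 10652), (nat_lit 10656), (nat_lit 11932), (nat_lit 11931), (nat_lit 4219)])))) (.node (.node (.leaf .df) (.leaf (.cyc (nat_lit 10) [(nat_lit 3706), (nat_lit 1565), (nat_lit 5467), (nat_lit 3301), (nat_lit 8429)]))) (.node (.leaf (.cyc (nat_lit 30) [(nat_lit 5852), (nat_lit 2297), (nat_lit 6499), (nat_lit 1520), (nat_lit 5523), (nat_lit 5230), (nat_lit 5231), (nat_lit 1018), (nat_lit 1017)])) (.leaf .df)))) (.node (.node (.node (.leaf .df) (.leaf (.cyc (nat_lit 4) [(nat_lit 6163), (nat_lit 8907), (nat_lit 4962), (nat_lit 6257), (nat_lit 9570)])))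 (.node (.leaf (.cyc (nat_lit 8) [(nat_lit 1254), (nat_lit 1253), (nat_lit 5474), (nat_lit 1268), (nat_lit 1269)])) (.leaf .df))) (.node (.node (.leaf .df) (.leaf (.cyc (nat_lit 2) [(nat_lit 3981), (nat_lit 11442)]))) (.node (.leaf (.cyc (nat_lit 5) [(nat_lit 3149), (nat_lit 3148)])) (.leaf .df))))) (.node (.node (.node (.node (.leaf .df) (.leaf (.cyc (nat_lit 25) [(nat_lit 6755), (nat_lit 9057), (nat_lit 5867)]))) (.node (.leaf (.cyc (nat_lit 2) [(nat_lit 731), (nat_lit 730)])) (.leaf (.cyc (nat_lit 20) [(nat_lit 13136), (nat_lit 4321), (nat_lit 12813), (nat_lit 13138), (nat_lit 13139), (nat_lit 13057), (nat_lit 13153)])))) (.node (.node (.leaf .df) (.leaf (.cyc (nat_lit 19) [(nat_lit 6395), (nat_lit 11106)]))) (.node (.leaf (.cyc (nat_lit 1) [(nat_lit 5419), (nat_lit 2692)])) (.leaf .df)))) (.node (.node (.node (.leaf .df) (.leaf (.cyc (nat_lit 5) [(nat_lit 3603), (nat_lit 3602)]))) (.node (.leaf (.cyc (nat_lit 1) [(nat_lit 5203), (nat_lit 1760)])) (.leaf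 .df))) (.node (.node (.leaf .df) (.leaf (.cyc (nat_lit 22) [(nat_lit 4111), (nat_lit 2225), (nat_lit 9918), (nat_lit 1372), (nat_lit 4739), (nat_lit 1365), (nat_lit 9703)]))) (.node (.leaf (.cyc (nat_lit 11) [(nat_lit 7067), (nat_lit 997), (nat_lit 999), (nat_lit 7038), (nat_lit 6883), (nat_lit 7992), (nat_lit 7197)])) (.leaf .df))))))) (.node (.node (.node (.node (.node (.node (.leaf .df) (.leaf (.cyc (nat_lit 28) [(nat_lit 1868), (nat_lit 8418)]))) (.node (.leaf .df) (.leaf (.cyc (nat_lit 13) [(nat_lit 7479), (nat_lit 6536), (nat_lit 12244), (nat_lit 11440), (nat_lit 3719), (nat_lit 10809), (nat_lit 12515)])))) (.node (.node (.leaf .df) (.leaf (.cyc (nat_lit 25) [(nat_lit 10463), (nat_lit 10465)]))) (.node (.leaf (.cyc (nat_lit 5) [(nat_lit 2176), (nat_lit 2175)])) (.leaf .df)))) (.node (.node (.node (.leaf .df) (.leaf (.cyc (nat_lit 20) [(nat_lit 5535), (nat_lit 5561), (nat_lit 8677), (nat_lit 9443), (nat_lit 6455), (nat_lit 5157), (nat_lit 6457)])))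 (.node (.leaf (.cyc (nat_lit 6) [(nat_lit 1150), (nat_lit 1149)])) (.leaf .df))) (.node (.node (.leaf .df) (.leaf (.cyc (nat_lit 8) [(nat_lit 3941), (nat_lit 6090), (nat_lit 9892), (nat_lit 3541), (nat_lit 3542)]))) (.node (.leaf (.cyc (nat_lit 8) [(nat_lit 1135), (nat_lit 4662), (nat_lit 1131), (nat_lit 3031), (nat_lit 7395)])) (.leaf .df))))) (.node (.node (.node (.node (.leaf .df) (.leaf (.cyc (nat_lit 29) [(nat_lit 8929), (nat_lit 8930)]))) (.node (.leaf (.cyc (nat_lit 6) [(nat_lit 586), (nat_lit 585)])) (.leaf (.cyc (nat_lit 13) [(nat_lit 13026), (nat_lit 8561), (nat_lit 8672), (nat_lit 5328), (nat_lit 2011), (nat_lit 9209), (nat_lit 4027)])))) (.node (.node (.leaf .df) (.leaf (.cyc (nat_lit 14) [(nat_lit 9799), (nat_lit 10979)]))) (.node (.leaf (.cyc (nat_lit 3) [(nat_lit 1027), (nat_lit 4639), (nat_lit 5173), (nat_lit 5172), (nat_lit 2611)])) (.leaf .df)))) (.node (.node (.node (.leaf .df) (.leaf (.cyc (nat_lit 3) [(nat_lit 2378), (nat_lit 6589),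 (nat_lit 8857), (nat_lit 5669), (nat_lit 3552)]))) (.node (.leaf (.cyc (nat_lit 4) [(nat_lit 1616), (nat_lit 561), (nat_lit 179), (nat_lit 182), (nat_lit 569)])) (.leaf .df))) (.node (.node (.leaf .df) (.leaf (.cyc (nat_lit 30) [(nat_lit 12001), (nat_lit 12002), (nat_lit 4072), (nat_lit 6357), (nat_lit 2054), (nat_lit 6261), (nat_lit 2195), (nat_lit 11057), (nat_lit 11633)]))) (.node (.leaf (.cyc (nat_lit 18) [(nat_lit 7622), (nat_lit 7900), (nat_lit 3154)])) (.leaf .df)))))) (.node (.node (.node (.node (.node (.leaf .df) (.leaf (.cyc (nat_lit 4) [(nat_lit 5561), (nat_lit 6593), (nat_lit 6612), (nat_lit 8674), (nat_lit 2554), (nat_lit 2552)]))) (.node (.leaf (.cyc (nat_lit 5) [(nat_lit 285), (nat_lit 284)])) (.leaf (.cyc (nat_lit 9) [(nat_lit 11662), (nat_lit 11482), (nat_lit 11635), (nat_lit 8269), (nat_lit 4248)])))) (.node (.node (.leaf .df) (.leaf (.cyc (nat_lit 20) [(nat_lit 6530), (nat_lit 8829), (nat_lit 6454), (nat_lit 8777), (nat_lit 10719),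 (nat_lit 10717), (nat_lit 7613)]))) (.node (.leaf (.cyc (nat_lit 11) [(nat_lit 1077), (nat_lit 360), (nat_lit 361), (nat_lit 5173), (nat_lit 5170), (nat_lit 5098), (nat_lit 2425)])) (.leaf .df)))) (.node (.node (.node (.leaf .df) (.leaf (.cyc (nat_lit 28) [(nat_lit 2356), (nat_lit 9696)]))) (.node (.leaf (.cyc (nat_lit 9) [(nat_lit 1354), (nat_lit 463), (nat_lit 147), (nat_lit 149), (nat_lit 469)])) (.leaf .df))) (.node (.node (.leaf .df) (.leaf (.cyc (nat_lit 3) [(nat_lit 11746), (nat_lit 11742), (nat_lit 8952), (nat_lit 5125), (nat_lit 2495)]))) (.node (.leaf (.cyc (nat_lit 8) [(nat_lit 3268), (nat_lit 3267), (nat_lit 7650), (nat_lit 2244), (nat_lit 6370)])) (.leaf .df))))) (.node (.node (.node (.node (.leaf .df) (.leaf (.cyc (nat_lit 25) [(nat_lit 6142), (nat_lit 9186)]))) (.node (.leaf (.cyc (nat_lit 3) [(nat_lit 5085), (nat_lit 849), (nat_lit 281), (nat_lit 283), (nat_lit 857)])) (.leaf .df))) (.node (.node (.leaf .df) (.leaf (.cyc (nat_lit 4) [(nat_lit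 1750), (nat_lit 5093), (nat_lit 11230), (nat_lit 3801), (nat_lit 11235)]))) (.node (.leaf (.cyc (nat_lit 25) [(nat_lit 7106), (nat_lit 7138)])) (.leaf .df)))) (.node (.node (.node (.leaf .df) (.leaf (.cyc (nat_lit 18) [(nat_lit 9568), (nat_lit 10211)]))) (.node (.leaf (.cyc (nat_lit 3) [(nat_lit 740), (nat_lit 240), (nat_lit 238), (nat_lit 5024), (nat_lit 1901)])) (.leaf .df))) (.node (.node (.leaf .df) (.leaf (.cyc (nat_lit 27) [(nat_lit 9790), (nat_lit 12258), (nat_lit 12256), (nat_lit 9019), (nat_lit 5859), (nat_lit 7513), (nat_lit 7505)]))) (.node (.leaf (.cyc (nat_lit 25) [(nat_lit 7183), (nat_lit 8158)])) (.leaf .df))))))))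
noncomputable def c4P001001 : BT Pf := .node c4P0010010 c4P0010011
noncomputable def c4P00100 : BT Pf := .node c4P001000 c4P001001
noncomputable def c4P0010100 : BT Pf := (.node (.node (.node (.node (.node (.node (.node (.leaf .df) (.leaf (.cyc (nat_lit 25) [(nat_lit 7412), (nat_lit 8205), (nat_lit 1016)]))) (.node (.leaf .df) (.leaf (.cyc (nat_lit 18) [(nat_lit 4122), (nat_lit 12304)])))) (.node (.node (.leaf .df) (.leaf (.cyc (nat_lit 9) [(nat_lit 3095), (nat_lit 3093), (nat_lit 10259), (nat_lit 8125), (nat_lit 6567)]))) (.node (.leaf (.cyc (nat_lit 5) [(nat_lit 1944), (nat_lit 1943)])) (.leaf .df)))) (.node (.node (.node (.leaf .df) (.leaf (.cyc (nat_lit 10) [(nat_lit 2143), (nat_lit 756), (nat_lit 753), (nat_lit 2132), (nat_lit 9234)]))) (.node (.leaf (.cyc (nat_lit 5) [(nat_lit 921), (nat_lit 920)])) (.leaf .df))) (.node (.node (.leaf .df) (.leaf (.cyc (nat_lit 17) [(nat_lit 7472), (nat_lit 11281)]))) (.node (.leaf (.cyc (nat_lit 6) [(nat_lit 2842),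 (nat_lit 2841)])) (.leaf .df))))) (.node (.node (.node (.node (.leaf .df) (.leaf (.cyc (nat_lit 25) [(nat_lit 7607), (nat_lit 8720), (nat_lit 5477)]))) (.node (.leaf (.cyc (nat_lit 3) [(nat_lit 346), (nat_lit 109), (nat_lit 4374), (nat_lit 4403), (nat_lit 232)])) (.leaf (.cyc (nat_lit 22) [(nat_lit 12817), (nat_lit 12818), (nat_lit 11993), (nat_lit 4080), (nat_lit 2173), (nat_lit 2174), (nat_lit 9982)])))) (.node (.node (.leaf .df) (.leaf (.cyc (nat_lit 8) [(nat_lit 10752), (nat_lit 6553), (nat_lit 8880), (nat_lit 2578), (nat_lit 2580)]))) (.node (.leaf (.cyc (nat_lit 7) [(nat_lit 2457), (nat_lit 880), (nat_lit 4588), (nat_lit 4600), (nat_lit 4654), (nat_lit 378), (nat_lit 1114)])) (.leaf .df)))) (.node (.node (.node (.leaf .df) (.leaf (.cyc (nat_lit 8) [(nat_lit 5787), (nat_lit 8873), (nat_lit 8875), (nat_lit 9746), (nat_lit 9745)]))) (.node (.leaf (.cyc (nat_lit 5) [(nat_lit 1411), (nat_lit 1410)])) (.leaf .df))) (.node (.node (.leaf .df) (.leaf (.cyc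 (nat_lit 5) [(nat_lit 11795), (nat_lit 10750)]))) (.node (.leaf (.cyc (nat_lit 28) [(nat_lit 6180), (nat_lit 7699)])) (.leaf .df)))))) (.node (.node (.node (.node (.node (.leaf .df) (.leaf (.cyc (nat_lit 29) [(nat_lit 3110), (nat_lit 8466)]))) (.node (.leaf (.cyc (nat_lit 2) [(nat_lit 30), (nat_lit 29)])) (.leaf (.cyc (nat_lit 3) [(nat_lit 12428), (nat_lit 3511), (nat_lit 12111), (nat_lit 6856), (nat_lit 4202)])))) (.node (.node (.leaf .df) (.leaf (.cyc (nat_lit 7) [(nat_lit 3654), (nat_lit 10512), (nat_lit 10373), (nat_lit 9674), (nat_lit 9672), (nat_lit 3238), (nat_lit 7919), (nat_lit 6861)]))) (.node (.leaf (.cyc (nat_lit 5) [(nat_lit 2223), (nat_lit 2222)])) (.leaf .df)))) (.node (.node (.node (.leaf .df) (.leaf (.cyc (nat_lit 8) [(nat_lit 2164), (nat_lit 2163), (nat_lit 7804), (nat_lit 7806), (nat_lit 3339)]))) (.node (.leaf (.cyc (nat_lit 5) [(nat_lit 1201), (nat_lit 1200)])) (.leaf .df))) (.node (.node (.leaf .df) (.leaf (.cyc (nat_lit 1) [(nat_lit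 10445), (nat_lit 11539)]))) (.node (.leaf (.cyc (nat_lit 31) [(nat_lit 1932), (nat_lit 5365), (nat_lit 5366), (nat_lit 7443), (nat_lit 814), (nat_lit 811), (nat_lit 2284)])) (.leaf .df))))) (.node (.node (.node (.node (.leaf .df) (.leaf (.cyc (nat_lit 20) [(nat_lit 8603), (nat_lit 1473), (nat_lit 4986), (nat_lit 4558), (nat_lit 783), (nat_lit 2209), (nat_lit 8965)]))) (.node (.leaf (.cyc (nat_lit 5) [(nat_lit 643), (nat_lit 4722)])) (.leaf (.cyc (nat_lit 13) [(nat_lit 13074), (nat_lit 13073), (nat_lit 4218), (nat_lit 11480), (nat_lit 11479), (nat_lit 10851), (nat_lit 4144)])))) (.node (.node (.leaf .df) (.leaf (.cyc (nat_lit 18) [(nat_lit 6724), (nat_lit 11027)]))) (.node (.leaf (.cyc (nat_lit 29) [(nat_lit 2294), (nat_lit 6930)])) (.leaf .df)))) (.node (.node (.node (.leaf .df) (.leaf (.cyc (nat_lit 29) [(nat_lit 1893), (nat_lit 10002)]))) (.node (.leaf (.cyc (nat_lit 5) [(nat_lit 1669), (nat_lit 1668)])) (.leaf .df))) (.node (.node (.leaf .df) (.leaf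 (.cyc (nat_lit 8) [(nat_lit 12049), (nat_lit 10332), (nat_lit 5973), (nat_lit 9432), (nat_lit 7427)]))) (.node (.leaf (.cyc (nat_lit 17) [(nat_lit 5272), (nat_lit 7949)])) (.leaf .df))))))) (.node (.node (.node (.node (.node (.node (.leaf .df) (.leaf (.cyc (nat_lit 29) [(nat_lit 8214), (nat_lit 8339), (nat_lit 6611)]))) (.node (.leaf .df) (.leaf (.cyc (nat_lit 0) [(nat_lit 12031), (nat_lit 12435)])))) (.node (.node (.leaf .df) (.leaf (.cyc (nat_lit 5) [(nat_lit 10387), (nat_lit 9399)]))) (.node (.leaf (.cyc (nat_lit 1) [(nat_lit 6116), (nat_lit 2099)])) (.leaf .df)))) (.node (.node (.node (.leaf .df) (.leaf (.cyc (nat_lit 3) [(nat_lit 9356), (nat_lit 1803), (nat_lit 4871), (nat_lit 8747), (nat_lit 3226)]))) (.node (.leaf (.cyc (nat_lit 2) [(nat_lit 1058), (nat_lit 1057)])) (.leaf .df))) (.node (.node (.leaf .df) (.leaf (.cyc (nat_lit 4) [(nat_lit 3921), (nat_lit 3920), (nat_lit 11407), (nat_lit 10583), (nat_lit 3598)]))) (.node (.leaf (.cyc (nat_lit 3)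 [(nat_lit 5306), (nat_lit 2964), (nat_lit 7314), (nat_lit 2790), (nat_lit 2791)])) (.leaf .df))))) (.node (.node (.node (.node (.leaf .df) (.leaf (.cyc (nat_lit 31) [(nat_lit 8328), (nat_lit 2979), (nat_lit 8327), (nat_lit 8850), (nat_lit 493), (nat_lit 4747), (nat_lit 4749), (nat_lit 1395)]))) (.node (.leaf (.cyc (nat_lit 1) [(nat_lit 4607), (nat_lit 487)])) (.leaf (.cyc (nat_lit 17) [(nat_lit 12757), (nat_lit 12945)])))) (.node (.node (.leaf .df) (.leaf (.cyc (nat_lit 8) [(nat_lit 8888), (nat_lit 8890), (nat_lit 10894), (nat_lit 3788), (nat_lit 10899)]))) (.node (.leaf (.cyc (nat_lit 6) [(nat_lit 2555), (nat_lit 2554)])) (.leaf .df)))) (.node (.node (.node (.leaf .df) (.leaf (.cyc (nat_lit 7) [(nat_lit 3513), (nat_lit 1409), (nat_lit 4990), (nat_lit 4995), (nat_lit 4991), (nat_lit 1417), (nat_lit 3531)]))) (.node (.leaf (.cyc (nat_lit 2) [(nat_lit 1525), (nat_lit 1524)])) (.leaf .df))) (.node (.node (.leaf .df) (.leaf (.cyc (nat_lit 1) [(nat_lit 11827),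 (nat_lit 4061)]))) (.node (.leaf (.cyc (nat_lit 30) [(nat_lit 7484), (nat_lit 7470), (nat_lit 7818), (nat_lit 2132), (nat_lit 753), (nat_lit 4548), (nat_lit 4867), (nat_lit 5548), (nat_lit 5549), (nat_lit 1810)])) (.leaf .df)))))) (.node (.node (.node (.node (.node (.leaf .df) (.leaf (.cyc (nat_lit 25) [(nat_lit 2789), (nat_lit 8590)]))) (.node (.leaf (.cyc (nat_lit 2) [(nat_lit 197), (nat_lit 4413)])) (.leaf (.cyc (nat_lit 3) [(nat_lit 12690), (nat_lit 12489), (nat_lit 12355), (nat_lit 3474), (nat_lit 3476)])))) (.node (.node (.leaf .df) (.leaf (.cyc (nat_lit 3) [(nat_lit 10643), (nat_lit 10641), (nat_lit 9522), (nat_lit 1828), (nat_lit 1830)]))) (.node (.leaf (.cyc (nat_lit 3) [(nat_lit 5610), (nat_lit 6521), (nat_lit 6522), (nat_lit 5072), (nat_lit 2343)])) (.leaf .df)))) (.node (.node (.node (.leaf .df) (.leaf (.cyc (nat_lit 1) [(nat_lit 8637), (nat_lit 9619)]))) (.node (.leaf (.cyc (nat_lit 29) [(nat_lit 920), (nat_lit 5522)])) (.leaf .df))) (.node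 (.node (.leaf .df) (.leaf (.cyc (nat_lit 22) [(nat_lit 11666), (nat_lit 2615), (nat_lit 11039), (nat_lit 9229), (nat_lit 9763), (nat_lit 9725), (nat_lit 3855)]))) (.node (.leaf (.cyc (nat_lit 9) [(nat_lit 7028), (nat_lit 2271), (nat_lit 6471), (nat_lit 5405), (nat_lit 3199)])) (.leaf .df))))) (.node (.node (.node (.node (.leaf .df) (.leaf (.cyc (nat_lit 29) [(nat_lit 7186), (nat_lit 9106)]))) (.node (.leaf (.cyc (nat_lit 6) [(nat_lit 781), (nat_lit 4987)])) (.leaf (.cyc (nat_lit 13) [(nat_lit 11653), (nat_lit 3797), (nat_lit 5891), (nat_lit 11231), (nat_lit 4154), (nat_lit 12357), (nat_lit 13202)])))) (.node (.node (.leaf .df) (.leaf (.cyc (nat_lit 3) [(nat_lit 11155), (nat_lit 3642), (nat_lit 1498), (nat_lit 1499), (nat_lit 3645)]))) (.node (.leaf (.cyc (nat_lit 17) [(nat_lit 2576), (nat_lit 7059)])) (.leaf .df)))) (.node (.node (.node (.leaf .df) (.leaf (.cyc (nat_lit 18) [(nat_lit 7371), (nat_lit 10130)]))) (.node (.leaf (.cyc (nat_lit 5) [(nat_lit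 1811), (nat_lit 1810)])) (.leaf .df))) (.node (.node (.leaf .df) (.leaf (.cyc (nat_lit 20) [(nat_lit 10377), (nat_lit 5836), (nat_lit 6869), (nat_lit 7538), (nat_lit 9405), (nat_lit 7264), (nat_lit 12179)]))) (.node (.leaf (.cyc (nat_lit 15) [(nat_lit 3267), (nat_lit 8064), (nat_lit 2220), (nat_lit 786), (nat_lit 4559), (nat_lit 791), (nat_lit 5285), (nat_lit 5286), (nat_lit 2245), (nat_lit 8051)])) (.leaf .df))))))))
noncomputable def c4P0010101 : BT Pf := (.node (.node (.node (.node (.node (.node (.node (.leaf .df) (.leaf (.cyc (nat_lit 17) [(nat_lit 7319), (nat_lit 8272), (nat_lit 680)]))) (.node (.leaf .df) (.leaf (.cyc (nat_lit 4) [(nat_lit 11629), (nat_lit 2436), (nat_lit 5100), (nat_lit 6617), (nat_lit 4158)])))) (.node (.node (.leaf .df) (.leaf (.cyc (nat_lit 2) [(nat_lit 3660), (nat_lit 6502)]))) (.node (.leaf (.cyc (nat_lit 9) [(nat_lit 2015), (nat_lit 706), (nat_lit 4531), (nat_lit 703), (nat_lit 2009)])) (.leaf .df)))) (.node (.node (.node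 (.leaf .df) (.leaf (.cyc (nat_lit 9) [(nat_lit 3086), (nat_lit 9298), (nat_lit 1170), (nat_lit 1172), (nat_lit 3114)]))) (.node (.leaf (.cyc (nat_lit 5) [(nat_lit 990), (nat_lit 989)])) (.leaf .df))) (.node (.node (.leaf .df) (.leaf (.cyc (nat_lit 0) [(nat_lit 8685), (nat_lit 3909)]))) (.node (.leaf (.cyc (nat_lit 9) [(nat_lit 7249), (nat_lit 1092), (nat_lit 366), (nat_lit 367), (nat_lit 1095)])) (.leaf .df))))) (.node (.node (.node (.node (.leaf .df) (.leaf (.cyc (nat_lit 17) [(nat_lit 6758), (nat_lit 8784), (nat_lit 1192)]))) (.node (.leaf (.cyc (nat_lit 6) [(nat_lit 419), (nat_lit 4664)])) (.leaf (.cyc (nat_lit 1) [(nat_lit 7416), (nat_lit 4271)])))) (.node (.node (.leaf .df) (.leaf (.cyc (nat_lit 13) [(nat_lit 10835), (nat_lit 3223), (nat_lit 5418), (nat_lit 1163), (nat_lit 4672), (nat_lit 1166), (nat_lit 3100)]))) (.node (.leaf (.cyc (nat_lit 5) [(nat_lit 2484), (nat_lit 2483)])) (.leaf .df)))) (.node (.node (.node (.leaf .df) (.leaf (.cyc (nat_lit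 1) [(nat_lit 9811), (nat_lit 3490)]))) (.node (.leaf (.cyc (nat_lit 4) [(nat_lit 1379), (nat_lit 470), (nat_lit 468), (nat_lit 1370), (nat_lit 5715)])) (.leaf .df))) (.node (.node (.leaf .df) (.leaf (.cyc (nat_lit 13) [(nat_lit 4048), (nat_lit 2083), (nat_lit 735), (nat_lit 238), (nat_lit 240), (nat_lit 740), (nat_lit 2100)]))) (.node (.leaf (.cyc (nat_lit 19) [(nat_lit 6879), (nat_lit 7753)])) (.leaf .df)))))) (.node (.node (.node (.node (.node (.leaf .df) (.leaf (.cyc (nat_lit 25) [(nat_lit 2564), (nat_lit 8529)]))) (.node (.leaf (.cyc (nat_lit 6) [(nat_lit 108), (nat_lit 107)])) (.leaf (.cyc (nat_lit 10) [(nat_lit 12250), (nat_lit 9849), (nat_lit 7103), (nat_lit 11564), (nat_lit 12627)])))) (.node (.node (.leaf .df) (.leaf (.cyc (nat_lit 17) [(nat_lit 2388), (nat_lit 10577), (nat_lit 3601)]))) (.node (.leaf (.cyc (nat_lit 13) [(nat_lit 6483), (nat_lit 812), (nat_lit 267), (nat_lit 4563), (nat_lit 4734), (nat_lit 4736), (nat_lit 822)])) (.leaf .df))))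 (.node (.node (.node (.leaf .df) (.leaf (.cyc (nat_lit 8) [(nat_lit 3222), (nat_lit 3220), (nat_lit 7599), (nat_lit 7600), (nat_lit 9555)]))) (.node (.leaf (.cyc (nat_lit 4) [(nat_lit 1256), (nat_lit 4703), (nat_lit 4854), (nat_lit 4855), (nat_lit 4884)])) (.leaf .df))) (.node (.node (.leaf .df) (.leaf (.cyc (nat_lit 6) [(nat_lit 3976), (nat_lit 10667)]))) (.node (.leaf (.cyc (nat_lit 8) [(nat_lit 2268), (nat_lit 6461), (nat_lit 5667), (nat_lit 6714), (nat_lit 7506)])) (.leaf .df))))) (.node (.node (.node (.node (.leaf .df) (.leaf (.cyc (nat_lit 25) [(nat_lit 9040), (nat_lit 9041)]))) (.node (.leaf (.cyc (nat_lit 5) [(nat_lit 715), (nat_lit 4676)])) (.leaf (.cyc (nat_lit 8) [(nat_lit 13137), (nat_lit 13139), (nat_lit 13058), (nat_lit 11496), (nat_lit 12849)])))) (.node (.node (.leaf .df) (.leaf (.cyc (nat_lit 1) [(nat_lit 11063), (nat_lit 11090)]))) (.node (.leaf (.cyc (nat_lit 9) [(nat_lit 6995), (nat_lit 2678), (nat_lit 976), (nat_lit 4613), (nat_lit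 973), (nat_lit 2671)])) (.leaf .df)))) (.node (.node (.node (.leaf .df) (.leaf (.cyc (nat_lit 1) [(nat_lit 8310), (nat_lit 10067)]))) (.node (.leaf (.cyc (nat_lit 0) [(nat_lit 5889), (nat_lit 1747)])) (.leaf .df))) (.node (.node (.leaf .df) (.leaf (.cyc (nat_lit 18) [(nat_lit 11989), (nat_lit 12113)]))) (.node (.leaf (.cyc (nat_lit 25) [(nat_lit 6342), (nat_lit 8017)])) (.leaf .df))))))) (.node (.node (.node (.node (.node (.node (.leaf .df) (.leaf (.cyc (nat_lit 18) [(nat_lit 6426), (nat_lit 8403)]))) (.node (.leaf .df) (.leaf (.cyc (nat_lit 28) [(nat_lit 4149), (nat_lit 12499)])))) (.node (.node (.leaf .df) (.leaf (.cyc (nat_lit 0) [(nat_lit 10196), (nat_lit 3688)]))) (.node (.leaf (.cyc (nat_lit 3) [(nat_lit 767), (nat_lit 250), (nat_lit 249), (nat_lit 764), (nat_lit 2161)])) (.leaf .df)))) (.node (.node (.node (.leaf .df) (.leaf (.cyc (nat_lit 28) [(nat_lit 7358), (nat_lit 9427)]))) (.node (.leaf (.cyc (nat_lit 2) [(nat_lit 1133), (nat_lit 1132)]))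 (.leaf .df))) (.node (.node (.leaf .df) (.leaf (.cyc (nat_lit 28) [(nat_lit 3592), (nat_lit 11475)]))) (.node (.leaf (.cyc (nat_lit 8) [(nat_lit 2377), (nat_lit 2375), (nat_lit 7378), (nat_lit 3017), (nat_lit 3019)])) (.leaf .df))))) (.node (.node (.node (.node (.leaf .df) (.leaf (.cyc (nat_lit 22) [(nat_lit 903), (nat_lit 4591), (nat_lit 896), (nat_lit 8914), (nat_lit 2018), (nat_lit 4940), (nat_lit 2012), (nat_lit 7385)]))) (.node (.leaf (.cyc (nat_lit 8) [(nat_lit 4819), (nat_lit 4566), (nat_lit 107), (nat_lit 105), (nat_lit 334)])) (.leaf (.cyc (nat_lit 2) [(nat_lit 4295), (nat_lit 12078)])))) (.node (.node (.leaf .df) (.leaf (.cyc (nat_lit 5) [(nat_lit 3806), (nat_lit 3805)]))) (.node (.leaf (.cyc (nat_lit 9) [(nat_lit 2601), (nat_lit 5166), (nat_lit 885), (nat_lit 5391), (nat_lit 1222)])) (.leaf .df)))) (.node (.node (.node (.leaf .df) (.leaf (.cyc (nat_lit 29) [(nat_lit 3440), (nat_lit 9938)]))) (.node (.leaf (.cyc (nat_lit 2) [(nat_lit 1606),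 (nat_lit 1605)])) (.leaf .df))) (.node (.node (.leaf .df) (.leaf (.cyc (nat_lit 23) [(nat_lit 10138), (nat_lit 10219), (nat_lit 3629), (nat_lit 10231), (nat_lit 6343), (nat_lit 6365), (nat_lit 2171), (nat_lit 2172), (nat_lit 4079)]))) (.node (.leaf (.cyc (nat_lit 31) [(nat_lit 6561), (nat_lit 6939), (nat_lit 5367), (nat_lit 7890), (nat_lit 1240), (nat_lit 7618), (nat_lit 7620), (nat_lit 3279)])) (.leaf .df)))))) (.node (.node (.node (.node (.node (.leaf .df) (.leaf (.cyc (nat_lit 19) [(nat_lit 7150), (nat_lit 8657)]))) (.node (.leaf (.cyc (nat_lit 2) [(nat_lit 267), (nat_lit 266)])) (.leaf (.cyc (nat_lit 6) [(nat_lit 4244), (nat_lit 12163)])))) (.node (.node (.leaf .df) (.leaf (.cyc (nat_lit 14) [(nat_lit 8604), (nat_lit 3735)]))) (.node (.leaf (.cyc (nat_lit 6) [(nat_lit 2406), (nat_lit 6591)])) (.leaf .df)))) (.node (.node (.node (.leaf .df) (.leaf (.cyc (nat_lit 19) [(nat_lit 5644), (nat_lit 9682)]))) (.node (.leaf (.cyc (nat_lit 7) [(nat_lit 509),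 (nat_lit 163), (nat_lit 4386), (nat_lit 159), (nat_lit 4474), (nat_lit 456), (nat_lit 1335)])) (.leaf .df))) (.node (.node (.leaf .df) (.leaf (.cyc (nat_lit 8) [(nat_lit 8350), (nat_lit 8338), (nat_lit 2376), (nat_lit 8353), (nat_lit 4009)]))) (.node (.leaf (.cyc (nat_lit 22) [(nat_lit 3252), (nat_lit 1229), (nat_lit 418), (nat_lit 4451), (nat_lit 421), (nat_lit 1238), (nat_lit 5455)])) (.leaf .df))))) (.node (.node (.node (.node (.leaf .df) (.leaf (.cyc (nat_lit 28) [(nat_lit 6293), (nat_lit 9170)]))) (.node (.leaf (.cyc (nat_lit 5) [(nat_lit 5075), (nat_lit 5074)])) (.leaf (.cyc (nat_lit 0) [(nat_lit 13238), (nat_lit 4348)])))) (.node (.node (.leaf .df) (.leaf (.cyc (nat_lit 20) [(nat_lit 3406), (nat_lit 9616), (nat_lit 2882), (nat_lit 11213), (nat_lit 3878), (nat_lit 5966), (nat_lit 3881)]))) (.node (.leaf (.cyc (nat_lit 3) [(nat_lit 6836), (nat_lit 1520), (nat_lit 5523), (nat_lit 5230), (nat_lit 2773)])) (.leaf .df)))) (.node (.node (.node (.leaf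 .df) (.leaf (.cyc (nat_lit 28) [(nat_lit 9153), (nat_lit 10194)]))) (.node (.leaf (.cyc (nat_lit 5) [(nat_lit 1877), (nat_lit 1876)])) (.leaf .df))) (.node (.node (.leaf .df) (.leaf (.cyc (nat_lit 18) [(nat_lit 12065), (nat_lit 12243)]))) (.node (.leaf (.cyc (nat_lit 19) [(nat_lit 2941), (nat_lit 8147)])) (.leaf .df))))))))
noncomputable def c4P001010 : BT Pf := .node c4P0010100 c4P0010101
noncomputable def c4P0010110 : BT Pf := (.node (.node (.node (.node (.node (.node (.node (.leaf .df) (.leaf (.cyc (nat_lit 25) [(nat_lit 3038), (nat_lit 8232)]))) (.node (.leaf .df) (.leaf (.cyc (nat_lit 29) [(nat_lit 9995), (nat_lit 12338)])))) (.node (.node (.leaf .df) (.leaf (.cyc (nat_lit 13) [(nat_lit 10290), (nat_lit 10291), (nat_lit 7704), (nat_lit 10013), (nat_lit 10011), (nat_lit 9746), (nat_lit 9743)]))) (.node (.leaf (.cyc (nat_lit 8) [(nat_lit 699), (nat_lit 4530), (nat_lit 695), (nat_lit 1987), (nat_lit 6195)])) (.leaf .df)))) (.node (.node (.node (.leaf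 .df) (.leaf (.cyc (nat_lit 25) [(nat_lit 2873), (nat_lit 9265)]))) (.node (.leaf (.cyc (nat_lit 6) [(nat_lit 950), (nat_lit 949)])) (.leaf .df))) (.node (.node (.leaf .df) (.leaf (.cyc (nat_lit 22) [(nat_lit 3900), (nat_lit 6017), (nat_lit 11109), (nat_lit 11179), (nat_lit 6097), (nat_lit 5479), (nat_lit 2545)]))) (.node (.leaf (.cyc (nat_lit 4) [(nat_lit 2881), (nat_lit 5272), (nat_lit 5456), (nat_lit 1251), (nat_lit 1250)])) (.leaf .df))))) (.node (.node (.node (.node (.leaf .df) (.leaf (.cyc (nat_lit 17) [(nat_lit 3292), (nat_lit 8748)]))) (.node (.leaf (.cyc (nat_lit 5) [(nat_lit 381), (nat_lit 380)])) (.leaf (.cyc (nat_lit 28) [(nat_lit 4136), (nat_lit 12851)])))) (.node (.node (.leaf .df) (.leaf (.cyc (nat_lit 19) [(nat_lit 6056), (nat_lit 10802)]))) (.node (.leaf (.cyc (nat_lit 33) [(nat_lit 2024), (nat_lit 4945), (nat_lit 6701), (nat_lit 799), (nat_lit 4561), (nat_lit 803), (nat_lit 2263)])) (.leaf .df)))) (.node (.node (.node (.leaf .df) (.leaf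 (.cyc (nat_lit 3) [(nat_lit 9707), (nat_lit 9705), (nat_lit 6904), (nat_lit 8843), (nat_lit 3468)]))) (.node (.leaf (.cyc (nat_lit 2) [(nat_lit 1451), (nat_lit 1450)])) (.leaf .df))) (.node (.node (.leaf .df) (.leaf (.cyc (nat_lit 10) [(nat_lit 3351), (nat_lit 10848), (nat_lit 6316), (nat_lit 6315), (nat_lit 11827)]))) (.node (.leaf (.cyc (nat_lit 5) [(nat_lit 3332), (nat_lit 7664)])) (.leaf .df)))))) (.node (.node (.node (.node (.node (.leaf .df) (.leaf (.cyc (nat_lit 11) [(nat_lit 2014), (nat_lit 705), (nat_lit 229), (nat_lit 226), (nat_lit 696), (nat_lit 1991), (nat_lit 8499)]))) (.node (.leaf (.cyc (nat_lit 2) [(nat_lit 72), (nat_lit 71)])) (.leaf (.cyc (nat_lit 11) [(nat_lit 9560), (nat_lit 1457), (nat_lit 499), (nat_lit 496), (nat_lit 1450), (nat_lit 3583), (nat_lit 12595)])))) (.node (.node (.leaf .df) (.leaf (.cyc (nat_lit 22) [(nat_lit 6986), (nat_lit 10547), (nat_lit 2902), (nat_lit 5280), (nat_lit 9341), (nat_lit 9343), (nat_lit 3116)]))) (.node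 (.leaf (.cyc (nat_lit 5) [(nat_lit 6451), (nat_lit 5731)])) (.leaf .df)))) (.node (.node (.node (.leaf .df) (.leaf (.cyc (nat_lit 0) [(nat_lit 8531), (nat_lit 3364)]))) (.node (.leaf (.cyc (nat_lit 21) [(nat_lit 663), (nat_lit 4513), (nat_lit 4666), (nat_lit 4692), (nat_lit 1233)])) (.leaf .df))) (.node (.node (.leaf .df) (.leaf (.cyc (nat_lit 6) [(nat_lit 3967), (nat_lit 10961)]))) (.node (.leaf (.cyc (nat_lit 6) [(nat_lit 3099), (nat_lit 3098)])) (.leaf .df))))) (.node (.node (.node (.node (.leaf .df) (.leaf (.cyc (nat_lit 17) [(nat_lit 2828), (nat_lit 8996)]))) (.node (.leaf (.cyc (nat_lit 5) [(nat_lit 674), (nat_lit 673)])) (.leaf (.cyc (nat_lit 13) [(nat_lit 12434), (nat_lit 12433), (nat_lit 8312), (nat_lit 8309), (nat_lit 6217), (nat_lit 10029), (nat_lit 13107)])))) (.node (.node (.leaf .df) (.leaf (.cyc (nat_lit 9) [(nat_lit 3823), (nat_lit 1689), (nat_lit 585), (nat_lit 587), (nat_lit 1697)]))) (.node (.leaf (.cyc (nat_lit 2) [(nat_lit 2649),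 (nat_lit 2648)])) (.leaf .df)))) (.node (.node (.node (.leaf .df) (.leaf (.cyc (nat_lit 8) [(nat_lit 3590), (nat_lit 5689), (nat_lit 5721), (nat_lit 2621), (nat_lit 6894)]))) (.node (.leaf (.cyc (nat_lit 23) [(nat_lit 4978), (nat_lit 5499), (nat_lit 1289), (nat_lit 4712), (nat_lit 5506), (nat_lit 5504), (nat_lit 5119), (nat_lit 5939), (nat_lit 1709), (nat_lit 1707)])) (.leaf .df))) (.node (.node (.leaf .df) (.leaf (.cyc (nat_lit 5) [(nat_lit 4103), (nat_lit 12038)]))) (.node (.leaf (.cyc (nat_lit 17) [(nat_lit 2953), (nat_lit 7984)])) (.leaf .df))))))) (.node (.node (.node (.node (.node (.node (.leaf .df) (.leaf (.cyc (nat_lit 2) [(nat_lit 8371), (nat_lit 8325)]))) (.node (.leaf .df) (.leaf (.cyc (nat_lit 15) [(nat_lit 4180), (nat_lit 6759), (nat_lit 2445), (nat_lit 874), (nat_lit 4745), (nat_lit 1385), (nat_lit 9775), (nat_lit 12087), (nat_lit 12088)])))) (.node (.node (.leaf .df) (.leaf (.cyc (nat_lit 8) [(nat_lit 3680), (nat_lit 3679), (nat_lit 10417),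 (nat_lit 9496), (nat_lit 5920)]))) (.node (.leaf (.cyc (nat_lit 2) [(nat_lit 2129), (nat_lit 2128)])) (.leaf .df)))) (.node (.node (.node (.leaf .df) (.leaf (.cyc (nat_lit 17) [(nat_lit 3173), (nat_lit 9395)]))) (.node (.leaf (.cyc (nat_lit 0) [(nat_lit 5118), (nat_lit 1094)])) (.leaf .df))) (.node (.node (.leaf .df) (.leaf (.cyc (nat_lit 4) [(nat_lit 2722), (nat_lit 2720), (nat_lit 7037), (nat_lit 8595), (nat_lit 3928)]))) (.node (.leaf (.cyc (nat_lit 19) [(nat_lit 2323), (nat_lit 7346)])) (.leaf .df))))) (.node (.node (.node (.node (.leaf .df) (.leaf (.cyc (nat_lit 17) [(nat_lit 3257), (nat_lit 8883), (nat_lit 7060)]))) (.node (.leaf (.cyc (nat_lit 9) [(nat_lit 525), (nat_lit 169), (nat_lit 51), (nat_lit 53), (nat_lit 177)])) (.leaf (.cyc (nat_lit 3) [(nat_lit 11439), (nat_lit 9501), (nat_lit 12391), (nat_lit 12389), (nat_lit 4288)])))) (.node (.node (.leaf .df) (.leaf (.cyc (nat_lit 0) [(nat_lit 3795), (nat_lit 10928)]))) (.node (.leaf (.cyc (nat_lit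 5) [(nat_lit 2582), (nat_lit 6504)])) (.leaf .df)))) (.node (.node (.node (.leaf .df) (.leaf (.cyc (nat_lit 21) [(nat_lit 7648), (nat_lit 9906), (nat_lit 3493), (nat_lit 3491), (nat_lit 9901)]))) (.node (.leaf (.cyc (nat_lit 6) [(nat_lit 1560), (nat_lit 1559)])) (.leaf .df))) (.node (.node (.leaf .df) (.leaf (.cyc (nat_lit 18) [(nat_lit 3825), (nat_lit 11955)]))) (.node (.leaf (.cyc (nat_lit 18) [(nat_lit 7633), (nat_lit 7854), (nat_lit 7324)])) (.leaf .df)))))) (.node (.node (.node (.node (.node (.leaf .df) (.leaf (.cyc (nat_lit 20) [(nat_lit 5581), (nat_lit 5537), (nat_lit 4785), (nat_lit 1512), (nat_lit 8587), (nat_lit 7023), (nat_lit 7019)]))) (.node (.leaf (.cyc (nat_lit 4) [(nat_lit 4408), (nat_lit 34), (nat_lit 32), (nat_lit 4403), (nat_lit 230)])) (.leaf (.cyc (nat_lit 20) [(nat_lit 7474), (nat_lit 6940), (nat_lit 1167), (nat_lit 1168), (nat_lit 3106), (nat_lit 9145), (nat_lit 4236)])))) (.node (.node (.leaf .df) (.leaf (.cyc (nat_lit 19) [(nat_lit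 10658), (nat_lit 10674)]))) (.node (.leaf (.cyc (nat_lit 9) [(nat_lit 924), (nat_lit 4599), (nat_lit 5080), (nat_lit 5082), (nat_lit 2367)])) (.leaf .df)))) (.node (.node (.node (.leaf .df) (.leaf (.cyc (nat_lit 20) [(nat_lit 2073), (nat_lit 4963), (nat_lit 1933), (nat_lit 9651), (nat_lit 9648), (nat_lit 6678), (nat_lit 3146)]))) (.node (.leaf (.cyc (nat_lit 2) [(nat_lit 1305), (nat_lit 5553)])) (.leaf .df))) (.node (.node (.leaf .df) (.leaf (.cyc (nat_lit 13) [(nat_lit 10888), (nat_lit 1818), (nat_lit 8416), (nat_lit 4792), (nat_lit 1531), (nat_lit 6206), (nat_lit 4001)]))) (.node (.leaf (.cyc (nat_lit 26) [(nat_lit 3182), (nat_lit 1201), (nat_lit 4682), (nat_lit 1197), (nat_lit 6867), (nat_lit 6868), (nat_lit 1222), (nat_lit 1220), (nat_lit 3225)])) (.leaf .df))))) (.node (.node (.node (.node (.leaf .df) (.leaf (.cyc (nat_lit 6) [(nat_lit 9134), (nat_lit 6267)]))) (.node (.leaf (.cyc (nat_lit 25) [(nat_lit 512), (nat_lit 5042)])) (.leaf (.cyc (nat_lit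 3) [(nat_lit 12369), (nat_lit 10101), (nat_lit 10618), (nat_lit 10617), (nat_lit 4341)])))) (.node (.node (.leaf .df) (.leaf (.cyc (nat_lit 11) [(nat_lit 1750), (nat_lit 609), (nat_lit 196), (nat_lit 193), (nat_lit 600), (nat_lit 1729), (nat_lit 3867)]))) (.node (.leaf (.cyc (nat_lit 23) [(nat_lit 5292), (nat_lit 4646), (nat_lit 4644), (nat_lit 361), (nat_lit 360), (nat_lit 1075), (nat_lit 7091), (nat_lit 2744), (nat_lit 2742)])) (.leaf .df)))) (.node (.node (.node (.leaf .df) (.leaf (.cyc (nat_lit 25) [(nat_lit 9537), (nat_lit 10163), (nat_lit 9289)]))) (.node (.leaf (.cyc (nat_lit 3) [(nat_lit 6067), (nat_lit 1842), (nat_lit 643), (nat_lit 4725), (nat_lit 1321)])) (.leaf .df))) (.node (.node (.leaf .df) (.leaf (.cyc (nat_lit 8) [(nat_lit 12209), (nat_lit 12211), (nat_lit 3618), (nat_lit 12115), (nat_lit 9844)]))) (.node (.leaf (.cyc (nat_lit 18) [(nat_lit 6112), (nat_lit 8114), (nat_lit 8113)])) (.leaf .df))))))))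
noncomputable def c4P0010111 : BT Pf := (.node (.node (.node (.node (.node (.node (.node (.leaf .df) (.leaf (.cyc (nat_lit 29) [(nat_lit 2909), (nat_lit 8297)]))) (.node (.leaf .df) (.leaf (.cyc (nat_lit 6) [(nat_lit 4167), (nat_lit 4166)])))) (.node (.node (.leaf .df) (.leaf (.cyc (nat_lit 4) [(nat_lit 9806), (nat_lit 1685), (nat_lit 4835), (nat_lit 5781), (nat_lit 3672)]))) (.node (.leaf (.cyc (nat_lit 7) [(nat_lit 2054), (nat_lit 720), (nat_lit 234), (nat_lit 236), (nat_lit 725), (nat_lit 4958), (nat_lit 4997)])) (.leaf .df)))) (.node (.node (.node (.leaf .df) (.leaf (.cyc (nat_lit 33) [(nat_lit 8370), (nat_lit 1773), (nat_lit 1771), (nat_lit 9316), (nat_lit 3113), (nat_lit 5371), (nat_lit 3117)]))) (.node (.leaf (.cyc (nat_lit 2) [(nat_lit 1029), (nat_lit 4711)])) (.leaf .df))) (.node (.node (.leaf .df) (.leaf (.cyc (nat_lit 0) [(nat_lit 8465), (nat_lit 3918)]))) (.node (.leaf (.cyc (nat_lit 5) [(nat_lit 7283), (nat_lit 7281)])) (.leaf .df))))) (.node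 (.node (.node (.node (.leaf .df) (.leaf (.cyc (nat_lit 28) [(nat_lit 2314), (nat_lit 8818), (nat_lit 2630)]))) (.node (.leaf (.cyc (nat_lit 2) [(nat_lit 451), (nat_lit 450)])) (.leaf (.cyc (nat_lit 4) [(nat_lit 3310), (nat_lit 5469), (nat_lit 9481), (nat_lit 9483), (nat_lit 4277)])))) (.node (.node (.leaf .df) (.leaf (.cyc (nat_lit 14) [(nat_lit 7838), (nat_lit 3777)]))) (.node (.leaf (.cyc (nat_lit 9) [(nat_lit 2526), (nat_lit 5133), (nat_lit 849), (nat_lit 851), (nat_lit 2388)])) (.leaf .df)))) (.node (.node (.node (.leaf .df) (.leaf (.cyc (nat_lit 6) [(nat_lit 3512), (nat_lit 3511)]))) (.node (.leaf (.cyc (nat_lit 2) [(nat_lit 1496), (nat_lit 1495)])) (.leaf .df))) (.node (.node (.leaf .df) (.leaf (.cyc (nat_lit 18) [(nat_lit 10819), (nat_lit 11891)]))) (.node (.leaf (.cyc (nat_lit 17) [(nat_lit 6834), (nat_lit 7794)])) (.leaf .df)))))) (.node (.node (.node (.node (.node (.leaf .df) (.leaf (.cyc (nat_lit 0) [(nat_lit 8475), (nat_lit 8563)]))) (.node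 (.leaf (.cyc (nat_lit 6) [(nat_lit 152), (nat_lit 151)])) (.leaf (.cyc (nat_lit 6) [(nat_lit 12659), (nat_lit 11586)])))) (.node (.node (.leaf .df) (.leaf (.cyc (nat_lit 8) [(nat_lit 9517), (nat_lit 2878), (nat_lit 7164), (nat_lit 10610), (nat_lit 7361)]))) (.node (.leaf (.cyc (nat_lit 6) [(nat_lit 2305), (nat_lit 2304)])) (.leaf .df)))) (.node (.node (.node (.leaf .df) (.leaf (.cyc (nat_lit 6) [(nat_lit 3398), (nat_lit 6891)]))) (.node (.leaf (.cyc (nat_lit 2) [(nat_lit 1283), (nat_lit 1282)])) (.leaf .df))) (.node (.node (.leaf .df) (.leaf (.cyc (nat_lit 8) [(nat_lit 3935), (nat_lit 3934), (nat_lit 11635), (nat_lit 6977), (nat_lit 9099)]))) (.node (.leaf (.cyc (nat_lit 5) [(nat_lit 3164), (nat_lit 3163)])) (.leaf .df))))) (.node (.node (.node (.node (.leaf .df) (.leaf (.cyc (nat_lit 26) [(nat_lit 1975), (nat_lit 691), (nat_lit 4529), (nat_lit 4906), (nat_lit 4642), (nat_lit 1091), (nat_lit 5296), (nat_lit 1918), (nat_lit 9072)]))) (.node (.leaf (.cyc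 (nat_lit 2) [(nat_lit 756), (nat_lit 755)])) (.leaf (.cyc (nat_lit 1) [(nat_lit 12926), (nat_lit 4328)])))) (.node (.node (.leaf .df) (.leaf (.cyc (nat_lit 27) [(nat_lit 3842), (nat_lit 8691), (nat_lit 8690), (nat_lit 1689), (nat_lit 1690), (nat_lit 3826), (nat_lit 11069)]))) (.node (.leaf (.cyc (nat_lit 6) [(nat_lit 2708), (nat_lit 6470)])) (.leaf .df)))) (.node (.node (.node (.leaf .df) (.leaf (.cyc (nat_lit 13) [(nat_lit 6615), (nat_lit 5098), (nat_lit 5704), (nat_lit 1467), (nat_lit 4767), (nat_lit 1470), (nat_lit 3610)]))) (.node (.leaf (.cyc (nat_lit 17) [(nat_lit 6002), (nat_lit 6003)])) (.leaf .df))) (.node (.node (.leaf .df) (.leaf (.cyc (nat_lit 3) [(nat_lit 3394), (nat_lit 5578), (nat_lit 9442), (nat_lit 6456), (nat_lit 4116)]))) (.node (.leaf (.cyc (nat_lit 8) [(nat_lit 2792), (nat_lit 2790), (nat_lit 8044), (nat_lit 2779), (nat_lit 5233), (nat_lit 2783)])) (.leaf .df))))))) (.node (.node (.node (.node (.node (.node (.leaf .df) (.leaf (.cyc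 (nat_lit 18) [(nat_lit 1986), (nat_lit 8432)]))) (.node (.leaf .df) (.leaf (.cyc (nat_lit 29) [(nat_lit 11517), (nat_lit 12530)])))) (.node (.node (.leaf .df) (.leaf (.cyc (nat_lit 22) [(nat_lit 3657), (nat_lit 3658), (nat_lit 10483), (nat_lit 6128), (nat_lit 5456), (nat_lit 5454), (nat_lit 2567)]))) (.node (.leaf (.cyc (nat_lit 9) [(nat_lit 2189), (nat_lit 5006), (nat_lit 684), (nat_lit 686), (nat_lit 1962)])) (.leaf .df)))) (.node (.node (.node (.leaf .df) (.leaf (.cyc (nat_lit 6) [(nat_lit 9458), (nat_lit 7962)]))) (.node (.leaf (.cyc (nat_lit 13) [(nat_lit 5363), (nat_lit 1116), (nat_lit 379), (nat_lit 4654), (nat_lit 310), (nat_lit 308), (nat_lit 925)])) (.leaf .df))) (.node (.node (.leaf .df) (.leaf (.cyc (nat_lit 6) [(nat_lit 3954), (nat_lit 10910)]))) (.node (.leaf (.cyc (nat_lit 3) [(nat_lit 3028), (nat_lit 1130), (nat_lit 4662), (nat_lit 1135), (nat_lit 3043)])) (.leaf .df))))) (.node (.node (.node (.node (.leaf .df) (.leaf (.cyc (nat_lit 14)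 [(nat_lit 8632), (nat_lit 8947)]))) (.node (.leaf (.cyc (nat_lit 13) [(nat_lit 603), (nat_lit 194), (nat_lit 58), (nat_lit 4362), (nat_lit 51), (nat_lit 168), (nat_lit 523)])) (.leaf (.cyc (nat_lit 13) [(nat_lit 11429), (nat_lit 11607), (nat_lit 12203), (nat_lit 6515), (nat_lit 12080), (nat_lit 4178), (nat_lit 13043)])))) (.node (.node (.leaf .df) (.leaf (.cyc (nat_lit 7) [(nat_lit 10995), (nat_lit 6380), (nat_lit 10770), (nat_lit 2777), (nat_lit 10381), (nat_lit 5844), (nat_lit 3751)]))) (.node (.leaf (.cyc (nat_lit 2) [(nat_lit 2626), (nat_lit 2625)])) (.leaf .df)))) (.node (.node (.node (.leaf .df) (.leaf (.cyc (nat_lit 7) [(nat_lit 3559), (nat_lit 1433), (nat_lit 491), (nat_lit 4471), (nat_lit 249), (nat_lit 765), (nat_lit 2163)]))) (.node (.leaf (.cyc (nat_lit 0) [(nat_lit 5791), (nat_lit 1636)])) (.leaf .df))) (.node (.node (.leaf .df) (.leaf (.cyc (nat_lit 8) [(nat_lit 12019), (nat_lit 11513), (nat_lit 10715), (nat_lit 11511), (nat_lit 11508)])))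 (.node (.leaf (.cyc (nat_lit 9) [(nat_lit 3271), (nat_lit 7922), (nat_lit 4951), (nat_lit 1040), (nat_lit 2821)])) (.leaf .df)))))) (.node (.node (.node (.node (.node (.leaf .df) (.leaf (.cyc (nat_lit 35) [(nat_lit 7292), (nat_lit 1693), (nat_lit 4836), (nat_lit 1688), (nat_lit 5935), (nat_lit 8652), (nat_lit 5135), (nat_lit 2530), (nat_lit 6785)]))) (.node (.leaf (.cyc (nat_lit 6) [(nat_lit 304), (nat_lit 4519)])) (.leaf (.cyc (nat_lit 13) [(nat_lit 12787), (nat_lit 12355), (nat_lit 12262), (nat_lit 10893), (nat_lit 2094), (nat_lit 2091), (nat_lit 4051)])))) (.node (.node (.leaf .df) (.leaf (.cyc (nat_lit 5) [(nat_lit 3748), (nat_lit 3747)]))) (.node (.leaf (.cyc (nat_lit 17) [(nat_lit 6638), (nat_lit 6643)])) (.leaf .df)))) (.node (.node (.node (.leaf .df) (.leaf (.cyc (nat_lit 13) [(nat_lit 7528), (nat_lit 1212), (nat_lit 4686), (nat_lit 5325), (nat_lit 5326), (nat_lit 3007), (nat_lit 9715)]))) (.node (.leaf (.cyc (nat_lit 13) [(nat_lit 5619), (nat_lit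 494), (nat_lit 158), (nat_lit 156), (nat_lit 4651), (nat_lit 4653), (nat_lit 930)])) (.leaf .df))) (.node (.node (.leaf .df) (.leaf (.cyc (nat_lit 3) [(nat_lit 11763), (nat_lit 6577), (nat_lit 9529), (nat_lit 9550), (nat_lit 9552)]))) (.node (.leaf (.cyc (nat_lit 2) [(nat_lit 3285), (nat_lit 3284)])) (.leaf .df))))) (.node (.node (.node (.node (.leaf .df) (.leaf (.cyc (nat_lit 28) [(nat_lit 6332), (nat_lit 9200)]))) (.node (.leaf (.cyc (nat_lit 2) [(nat_lit 880), (nat_lit 879)])) (.leaf .df))) (.node (.node (.leaf .df) (.leaf (.cyc (nat_lit 17) [(nat_lit 3801), (nat_lit 11249)]))) (.node (.leaf (.cyc (nat_lit 6) [(nat_lit 2799), (nat_lit 6416)])) (.leaf .df)))) (.node (.node (.node (.leaf .df) (.leaf (.cyc (nat_lit 20) [(nat_lit 1767), (nat_lit 5586), (nat_lit 8105), (nat_lit 5589), (nat_lit 1491), (nat_lit 3634), (nat_lit 10227)]))) (.node (.leaf (.cyc (nat_lit 2) [(nat_lit 1922), (nat_lit 1921)])) (.leaf .df))) (.node (.node (.leaf .df) (.leaf (.cyc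 (nat_lit 9) [(nat_lit 10889), (nat_lit 11473), (nat_lit 9365), (nat_lit 6557), (nat_lit 4142)]))) (.node (.leaf (.cyc (nat_lit 9) [(nat_lit 7926), (nat_lit 2821), (nat_lit 8172), (nat_lit 452), (nat_lit 453), (nat_lit 1325)])) (.leaf .df))))))))
noncomputable def c4P001011 : BT Pf := .node c4P0010110 c4P0010111
noncomputable def c4P00101 : BT Pf := .node c4P001010 c4P001011
noncomputable def c4P0010 : BT Pf := .node c4P00100 c4P00101
noncomputable def c4P0011000 : BT Pf := (.node (.node (.node (.node (.node (.node (.node (.leaf .df) (.leaf (.cyc (nat_lit 18) [(nat_lit 7407), (nat_lit 8198)]))) (.node (.leaf .df) (.leaf (.cyc (nat_lit 19) [(nat_lit 12116), (nat_lit 12295)])))) (.node (.node (.leaf .df) (.leaf (.cyc (nat_lit 3) [(nat_lit 10251), (nat_lit 6895), (nat_lit 6896), (nat_lit 10075), (nat_lit 10080)]))) (.node (.leaf (.cyc (nat_lit 6) [(nat_lit 1935), (nat_lit 5450)])) (.leaf .df)))) (.node (.node (.node (.leaf .df) (.leaf (.cyc (nat_lit 0) [(nat_lit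 7425), (nat_lit 9227)]))) (.node (.leaf (.cyc (nat_lit 4) [(nat_lit 910), (nat_lit 300), (nat_lit 298), (nat_lit 901), (nat_lit 5126)])) (.leaf .df))) (.node (.node (.leaf .df) (.leaf (.cyc (nat_lit 4) [(nat_lit 3894), (nat_lit 1757), (nat_lit 1756), (nat_lit 11164), (nat_lit 11161)]))) (.node (.leaf (.cyc (nat_lit 0) [(nat_lit 5274), (nat_lit 2823)])) (.leaf .df))))) (.node (.node (.node (.node (.leaf .df) (.leaf (.cyc (nat_lit 25) [(nat_lit 2692), (nat_lit 8708)]))) (.node (.leaf (.cyc (nat_lit 2) [(nat_lit 336), (nat_lit 335)])) (.leaf (.cyc (nat_lit 8) [(nat_lit 12808), (nat_lit 12811), (nat_lit 4255), (nat_lit 7213), (nat_lit 11209)])))) (.node (.node (.leaf .df) (.leaf (.cyc (nat_lit 29) [(nat_lit 3724), (nat_lit 10762)]))) (.node (.leaf (.cyc (nat_lit 2) [(nat_lit 2450), (nat_lit 6663)])) (.leaf .df)))) (.node (.node (.node (.leaf .df) (.leaf (.cyc (nat_lit 5) [(nat_lit 3456), (nat_lit 3455)]))) (.node (.leaf (.cyc (nat_lit 2) [(nat_lit 1406),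 (nat_lit 1405)])) (.leaf .df))) (.node (.node (.leaf .df) (.leaf (.cyc (nat_lit 25) [(nat_lit 2441), (nat_lit 11786)]))) (.node (.leaf (.cyc (nat_lit 5) [(nat_lit 3300), (nat_lit 6148)])) (.leaf .df)))))) (.node (.node (.node (.node (.node (.leaf .df) (.leaf (.cyc (nat_lit 22) [(nat_lit 1911), (nat_lit 1913), (nat_lit 8458), (nat_lit 6006), (nat_lit 4873), (nat_lit 6054), (nat_lit 5833)]))) (.node (.leaf (.cyc (nat_lit 5) [(nat_lit 19), (nat_lit 18)])) (.leaf (.cyc (nat_lit 11) [(nat_lit 4138), (nat_lit 2335), (nat_lit 2337), (nat_lit 10247), (nat_lit 10244), (nat_lit 10851), (nat_lit 12552)])))) (.node (.node (.leaf .df) (.leaf (.cyc (nat_lit 22) [(nat_lit 3697), (nat_lit 1556), (nat_lit 1553), (nat_lit 10369), (nat_lit 8345), (nat_lit 8342), (nat_lit 7397)]))) (.node (.leaf (.cyc (nat_lit 2) [(nat_lit 2214), (nat_lit 2213)])) (.leaf .df)))) (.node (.node (.node (.leaf .df) (.leaf (.cyc (nat_lit 4) [(nat_lit 6722), (nat_lit 2988), (nat_lit 7875), (nat_lit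 7454), (nat_lit 3314)]))) (.node (.leaf (.cyc (nat_lit 3) [(nat_lit 885), (nat_lit 5166), (nat_lit 5387), (nat_lit 5386), (nat_lit 413), (nat_lit 415)])) (.leaf .df))) (.node (.node (.leaf .df) (.leaf (.cyc (nat_lit 6) [(nat_lit 3959), (nat_lit 10144)]))) (.node (.leaf (.cyc (nat_lit 24) [(nat_lit 1182), (nat_lit 4674), (nat_lit 1178), (nat_lit 6431), (nat_lit 6710), (nat_lit 7434), (nat_lit 7435), (nat_lit 6446), (nat_lit 2258)])) (.leaf .df))))) (.node (.node (.node (.node (.leaf .df) (.leaf (.cyc (nat_lit 33) [(nat_lit 6729), (nat_lit 6730), (nat_lit 8970), (nat_lit 1088), (nat_lit 365), (nat_lit 362), (nat_lit 1082), (nat_lit 2921)]))) (.node (.leaf (.cyc (nat_lit 5) [(nat_lit 635), (nat_lit 634)])) (.leaf (.cyc (nat_lit 1) [(nat_lit 11642), (nat_lit 4306)])))) (.node (.node (.leaf .df) (.leaf (.cyc (nat_lit 22) [(nat_lit 3813), (nat_lit 5910), (nat_lit 1711), (nat_lit 6950), (nat_lit 6682), (nat_lit 2458), (nat_lit 9648)]))) (.node (.leaf (.cyc (nat_lit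 25) [(nat_lit 5969), (nat_lit 6921)])) (.leaf .df)))) (.node (.node (.node (.leaf .df) (.leaf (.cyc (nat_lit 10) [(nat_lit 1895), (nat_lit 4899), (nat_lit 1899), (nat_lit 9450), (nat_lit 3576)]))) (.node (.leaf (.cyc (nat_lit 6) [(nat_lit 1662), (nat_lit 1661)])) (.leaf .df))) (.node (.node (.leaf .df) (.leaf (.cyc (nat_lit 9) [(nat_lit 4091), (nat_lit 6398), (nat_lit 6849), (nat_lit 5674), (nat_lit 3568)]))) (.node (.leaf (.cyc (nat_lit 18) [(nat_lit 1239), (nat_lit 7939)])) (.leaf .df))))))) (.node (.node (.node (.node (.node (.node (.leaf .df) (.leaf (.cyc (nat_lit 1) [(nat_lit 6632), (nat_lit 8330)]))) (.node (.leaf .df) (.leaf (.cyc (nat_lit 13) [(nat_lit 9844), (nat_lit 12114), (nat_lit 11956), (nat_lit 5922), (nat_lit 8656), (nat_lit 2452), (nat_lit 4172)])))) (.node (.node (.leaf .df) (.leaf (.cyc (nat_lit 13) [(nat_lit 10378), (nat_lit 1528), (nat_lit 528), (nat_lit 4481), (nat_lit 522), (nat_lit 1514), (nat_lit 6502)]))) (.node (.leaf (.cyc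 (nat_lit 4) [(nat_lit 4973), (nat_lit 4974), (nat_lit 4968), (nat_lit 4967), (nat_lit 2086)])) (.leaf .df)))) (.node (.node (.node (.leaf .df) (.leaf (.cyc (nat_lit 28) [(nat_lit 6100), (nat_lit 9355)]))) (.node (.leaf (.cyc (nat_lit 6) [(nat_lit 1046), (nat_lit 1045)])) (.leaf .df))) (.node (.node (.leaf .df) (.leaf (.cyc (nat_lit 3) [(nat_lit 1832), (nat_lit 639), (nat_lit 638), (nat_lit 1829), (nat_lit 3919)]))) (.node (.leaf (.cyc (nat_lit 8) [(nat_lit 6026), (nat_lit 5997), (nat_lit 7307), (nat_lit 7304), (nat_lit 7305)])) (.leaf .df))))) (.node (.node (.node (.node (.leaf .df) (.leaf (.cyc (nat_lit 8) [(nat_lit 5714), (nat_lit 2628), (nat_lit 8843), (nat_lit 5630), (nat_lit 5606)]))) (.node (.leaf (.cyc (nat_lit 22) [(nat_lit 476), (nat_lit 152), (nat_lit 46), (nat_lit 4361), (nat_lit 49), (nat_lit 4461), (nat_lit 445)])) (.leaf (.cyc (nat_lit 2) [(nat_lit 4283), (nat_lit 9801)])))) (.node (.node (.leaf .df) (.leaf (.cyc (nat_lit 9) [(nat_lit 10890),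 (nat_lit 10891), (nat_lit 3136), (nat_lit 9731), (nat_lit 6290)]))) (.node (.leaf (.cyc (nat_lit 5) [(nat_lit 2548), (nat_lit 2547)])) (.leaf .df)))) (.node (.node (.node (.leaf .df) (.leaf (.cyc (nat_lit 5) [(nat_lit 3527), (nat_lit 3526)]))) (.node (.leaf (.cyc (nat_lit 2) [(nat_lit 1517), (nat_lit 1516)])) (.leaf .df))) (.node (.node (.leaf .df) (.leaf (.cyc (nat_lit 22) [(nat_lit 11915), (nat_lit 10243), (nat_lit 10242), (nat_lit 11897), (nat_lit 4054), (nat_lit 11738), (nat_lit 11890)]))) (.node (.leaf (.cyc (nat_lit 17) [(nat_lit 2140), (nat_lit 7819), (nat_lit 5358)])) (.leaf .df)))))) (.node (.node (.node (.node (.node (.leaf .df) (.leaf (.cyc (nat_lit 25) [(nat_lit 2724), (nat_lit 8584)]))) (.node (.leaf (.cyc (nat_lit 5) [(nat_lit 186), (nat_lit 185)])) (.leaf (.cyc (nat_lit 8) [(nat_lit 4227), (nat_lit 6988), (nat_lit 11769), (nat_lit 11861), (nat_lit 11859)])))) (.node (.node (.leaf .df) (.leaf (.cyc (nat_lit 22) [(nat_lit 10635), (nat_lit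 5870), (nat_lit 1571), (nat_lit 4896), (nat_lit 1880), (nat_lit 10144), (nat_lit 10143)]))) (.node (.leaf (.cyc (nat_lit 5) [(nat_lit 2332), (nat_lit 2331)])) (.leaf .df)))) (.node (.node (.node (.leaf .df) (.leaf (.cyc (nat_lit 25) [(nat_lit 3342), (nat_lit 9609)]))) (.node (.leaf (.cyc (nat_lit 29) [(nat_lit 5318), (nat_lit 5515)])) (.leaf .df))) (.node (.node (.leaf .df) (.leaf (.cyc (nat_lit 14) [(nat_lit 9439), (nat_lit 3991)]))) (.node (.leaf (.cyc (nat_lit 6) [(nat_lit 3194), (nat_lit 3193)])) (.leaf .df))))) (.node (.node (.node (.node (.leaf .df) (.leaf (.cyc (nat_lit 20) [(nat_lit 3232), (nat_lit 6868), (nat_lit 6867), (nat_lit 5386), (nat_lit 1217), (nat_lit 3218), (nat_lit 9096), (nat_lit 7113)]))) (.node (.leaf (.cyc (nat_lit 8) [(nat_lit 752), (nat_lit 750), (nat_lit 5000), (nat_lit 773), (nat_lit 775)])) (.leaf (.cyc (nat_lit 8) [(nat_lit 13172), (nat_lit 13194), (nat_lit 13195), (nat_lit 4278), (nat_lit 11431)])))) (.node (.node (.leaf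 .df) (.leaf (.cyc (nat_lit 3) [(nat_lit 3061), (nat_lit 8211), (nat_lit 6923), (nat_lit 1716), (nat_lit 3853)]))) (.node (.leaf (.cyc (nat_lit 23) [(nat_lit 2569), (nat_lit 932), (nat_lit 4601), (nat_lit 4602), (nat_lit 262), (nat_lit 264), (nat_lit 807), (nat_lit 5212), (nat_lit 2723)])) (.leaf .df)))) (.node (.node (.node (.leaf .df) (.leaf (.cyc (nat_lit 11) [(nat_lit 3578), (nat_lit 1444), (nat_lit 495), (nat_lit 493), (nat_lit 1439), (nat_lit 9991), (nat_lit 10123)]))) (.node (.leaf (.cyc (nat_lit 6) [(nat_lit 1801), (nat_lit 1800)])) (.leaf .df))) (.node (.node (.leaf .df) (.leaf (.cyc (nat_lit 6) [(nat_lit 12170), (nat_lit 8638)]))) (.node (.leaf (.cyc (nat_lit 28) [(nat_lit 6422), (nat_lit 8075)])) (.leaf .df))))))))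
noncomputable def c4P0011001 : BT Pf := (.node (.node (.node (.node (.node (.node (.node (.leaf .df) (.leaf (.cyc (nat_lit 25) [(nat_lit 8262), (nat_lit 8265)]))) (.node (.leaf .df) (.leaf (.cyc (nat_lit 14) [(nat_lit 11762), (nat_lit 12363)])))) (.node (.node (.leaf .df) (.leaf (.cyc (nat_lit 26) [(nat_lit 10081), (nat_lit 6887), (nat_lit 6888), (nat_lit 5453), (nat_lit 5153), (nat_lit 2556), (nat_lit 6806), (nat_lit 2566), (nat_lit 10315)]))) (.node (.leaf (.cyc (nat_lit 2) [(nat_lit 2006), (nat_lit 2005)])) (.leaf .df)))) (.node (.node (.node (.leaf .df) (.leaf (.cyc (nat_lit 29) [(nat_lit 2254), (nat_lit 9288)]))) (.node (.leaf (.cyc (nat_lit 5) [(nat_lit 976), (nat_lit 975)])) (.leaf .df))) (.node (.node (.leaf .df) (.leaf (.cyc (nat_lit 2) [(nat_lit 3907), (nat_lit 3906)]))) (.node (.leaf (.cyc (nat_lit 6) [(nat_lit 2916), (nat_lit 7119)])) (.leaf .df))))) (.node (.node (.node (.node (.leaf .df) (.leaf (.cyc (nat_lit 29) [(nat_lit 7540), (nat_lit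 8778)]))) (.node (.leaf (.cyc (nat_lit 1) [(nat_lit 4617), (nat_lit 409)])) (.leaf (.cyc (nat_lit 7) [(nat_lit 12598), (nat_lit 2694), (nat_lit 5400), (nat_lit 4685), (nat_lit 1115), (nat_lit 2989), (nat_lit 4269)])))) (.node (.node (.leaf .df) (.leaf (.cyc (nat_lit 1) [(nat_lit 9338), (nat_lit 3766)]))) (.node (.leaf (.cyc (nat_lit 2) [(nat_lit 2474), (nat_lit 2473)])) (.leaf .df)))) (.node (.node (.node (.leaf .df) (.leaf (.cyc (nat_lit 0) [(nat_lit 9548), (nat_lit 3485)]))) (.node (.leaf (.cyc (nat_lit 25) [(nat_lit 1449), (nat_lit 5707), (nat_lit 953)])) (.leaf .df))) (.node (.node (.leaf .df) (.leaf (.cyc (nat_lit 11) [(nat_lit 2529), (nat_lit 911), (nat_lit 4858), (nat_lit 4859), (nat_lit 1753), (nat_lit 10593), (nat_lit 11851)]))) (.node (.leaf (.cyc (nat_lit 29) [(nat_lit 3070), (nat_lit 7749)])) (.leaf .df)))))) (.node (.node (.node (.node (.node (.leaf .df) (.leaf (.cyc (nat_lit 29) [(nat_lit 2413), (nat_lit 8522)]))) (.node (.leaf (.cyc (nat_lit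 8) [(nat_lit 90), (nat_lit 4368), (nat_lit 86), (nat_lit 4426), (nat_lit 99)])) (.leaf (.cyc (nat_lit 13) [(nat_lit 12619), (nat_lit 12333), (nat_lit 6784), (nat_lit 11852), (nat_lit 11850), (nat_lit 4055), (nat_lit 11902)])))) (.node (.node (.leaf .df) (.leaf (.cyc (nat_lit 18) [(nat_lit 9722), (nat_lit 10571)]))) (.node (.leaf (.cyc (nat_lit 10) [(nat_lit 2272), (nat_lit 806), (nat_lit 4562), (nat_lit 808), (nat_lit 2277)])) (.leaf .df)))) (.node (.node (.node (.leaf .df) (.leaf (.cyc (nat_lit 10) [(nat_lit 5634), (nat_lit 6859), (nat_lit 8633), (nat_lit 5567), (nat_lit 3377)]))) (.node (.leaf (.cyc (nat_lit 1) [(nat_lit 5451), (nat_lit 1249)])) (.leaf .df))) (.node (.node (.leaf .df) (.leaf (.cyc (nat_lit 19) [(nat_lit 3938), (nat_lit 11594)]))) (.node (.leaf (.cyc (nat_lit 8) [(nat_lit 3099), (nat_lit 7443), (nat_lit 5050), (nat_lit 7439), (nat_lit 3133)])) (.leaf .df))))) (.node (.node (.node (.node (.leaf .df) (.leaf (.cyc (nat_lit 3) [(nat_lit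 1900), (nat_lit 1898), (nat_lit 9034), (nat_lit 5468), (nat_lit 7702), (nat_lit 5953)]))) (.node (.leaf (.cyc (nat_lit 5) [(nat_lit 706), (nat_lit 705)])) (.leaf (.cyc (nat_lit 6) [(nat_lit 13131), (nat_lit 12967)])))) (.node (.node (.leaf .df) (.leaf (.cyc (nat_lit 2) [(nat_lit 3831), (nat_lit 3830)]))) (.node (.leaf (.cyc (nat_lit 5) [(nat_lit 2670), (nat_lit 2669)])) (.leaf .df)))) (.node (.node (.node (.leaf .df) (.leaf (.cyc (nat_lit 22) [(nat_lit 7075), (nat_lit 8915), (nat_lit 10058), (nat_lit 5805), (nat_lit 6870), (nat_lit 5421), (nat_lit 3233)]))) (.node (.leaf (.cyc (nat_lit 1) [(nat_lit 5281), (nat_lit 1736)])) (.leaf .df))) (.node (.node (.leaf .df) (.leaf (.cyc (nat_lit 10) [(nat_lit 3511), (nat_lit 9684), (nat_lit 2352), (nat_lit 9678), (nat_lit 12107)]))) (.node (.leaf (.cyc (nat_lit 19) [(nat_lit 1280), (nat_lit 8010)])) (.leaf .df))))))) (.node (.node (.node (.node (.node (.node (.leaf .df) (.leaf (.cyc (nat_lit 3) [(nat_lit 2173), (nat_lit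 5029), (nat_lit 8395), (nat_lit 1531), (nat_lit 1533)]))) (.node (.leaf .df) (.leaf (.cyc (nat_lit 8) [(nat_lit 12491), (nat_lit 10930), (nat_lit 2704), (nat_lit 5204), (nat_lit 2708)])))) (.node (.node (.leaf .df) (.leaf (.cyc (nat_lit 16) [(nat_lit 2522), (nat_lit 2523), (nat_lit 8926), (nat_lit 8499), (nat_lit 1991), (nat_lit 8413), (nat_lit 8417), (nat_lit 5795), (nat_lit 3686), (nat_lit 10443)]))) (.node (.leaf (.cyc (nat_lit 6) [(nat_lit 2156), (nat_lit 5293)])) (.leaf .df)))) (.node (.node (.node (.leaf .df) (.leaf (.cyc (nat_lit 4) [(nat_lit 8714), (nat_lit 6311), (nat_lit 8564), (nat_lit 1951), (nat_lit 1949)]))) (.node (.leaf (.cyc (nat_lit 2) [(nat_lit 1120), (nat_lit 1119)])) (.leaf .df))) (.node (.node (.leaf .df) (.leaf (.cyc (nat_lit 13) [(nat_lit 9364), (nat_lit 1877), (nat_lit 655), (nat_lit 4511), (nat_lit 648), (nat_lit 1858), (nat_lit 3931)]))) (.node (.leaf (.cyc (nat_lit 4) [(nat_lit 3010), (nat_lit 1122), (nat_lit 4660), (nat_lit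 1118), (nat_lit 2997)])) (.leaf .df))))) (.node (.node (.node (.node (.leaf .df) (.leaf (.cyc (nat_lit 25) [(nat_lit 6275), (nat_lit 8905)]))) (.node (.leaf (.cyc (nat_lit 5) [(nat_lit 557), (nat_lit 556)])) (.leaf (.cyc (nat_lit 3) [(nat_lit 13003), (nat_lit 11536), (nat_lit 9740), (nat_lit 9783), (nat_lit 12611)])))) (.node (.node (.leaf .df) (.leaf (.cyc (nat_lit 27) [(nat_lit 3803), (nat_lit 1654), (nat_lit 574), (nat_lit 571), (nat_lit 1647), (nat_lit 10907), (nat_lit 10905)]))) (.node (.leaf (.cyc (nat_lit 4) [(nat_lit 6687), (nat_lit 6684), (nat_lit 4960), (nat_lit 944), (nat_lit 2598)])) (.leaf .df)))) (.node (.node (.node (.leaf .df) (.leaf (.cyc (nat_lit 8) [(nat_lit 9930), (nat_lit 1538), (nat_lit 531), (nat_lit 529), (nat_lit 1532)]))) (.node (.leaf (.cyc (nat_lit 1) [(nat_lit 5806), (nat_lit 1595)])) (.leaf .df))) (.node (.node (.leaf .df) (.leaf (.cyc (nat_lit 8) [(nat_lit 3343), (nat_lit 3341), (nat_lit 9636), (nat_lit 9637), (nat_lit 4074)])))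 (.node (.leaf (.cyc (nat_lit 17) [(nat_lit 3102), (nat_lit 7881), (nat_lit 5472)])) (.leaf .df)))))) (.node (.node (.node (.node (.node (.leaf .df) (.leaf (.cyc (nat_lit 28) [(nat_lit 6673), (nat_lit 8651)]))) (.node (.leaf (.cyc (nat_lit 10) [(nat_lit 250), (nat_lit 75), (nat_lit 4365), (nat_lit 77), (nat_lit 255)])) (.leaf (.cyc (nat_lit 1) [(nat_lit 12745), (nat_lit 4243)])))) (.node (.node (.leaf .df) (.leaf (.cyc (nat_lit 29) [(nat_lit 3713), (nat_lit 10698)]))) (.node (.leaf (.cyc (nat_lit 6) [(nat_lit 2396), (nat_lit 2395)])) (.leaf .df)))) (.node (.node (.node (.leaf .df) (.leaf (.cyc (nat_lit 0) [(nat_lit 5642), (nat_lit 3435)]))) (.node (.leaf (.cyc (nat_lit 9) [(nat_lit 1331), (nat_lit 4727), (nat_lit 159), (nat_lit 160), (nat_lit 498)])) (.leaf .df))) (.node (.node (.leaf .df) (.leaf (.cyc (nat_lit 4) [(nat_lit 7007), (nat_lit 9134), (nat_lit 6296), (nat_lit 6294), (nat_lit 4007)]))) (.node (.leaf (.cyc (nat_lit 8) [(nat_lit 7617), (nat_lit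 7623), (nat_lit 1243), (nat_lit 1246), (nat_lit 7626), (nat_lit 2934)])) (.leaf .df))))) (.node (.node (.node (.node (.leaf .df) (.leaf (.cyc (nat_lit 18) [(nat_lit 2864), (nat_lit 9163)]))) (.node (.leaf (.cyc (nat_lit 4) [(nat_lit 514), (nat_lit 5044), (nat_lit 273), (nat_lit 276), (nat_lit 835)])) (.leaf (.cyc (nat_lit 5) [(nat_lit 4346), (nat_lit 13014)])))) (.node (.node (.leaf .df) (.leaf (.cyc (nat_lit 21) [(nat_lit 11211), (nat_lit 6600), (nat_lit 10586), (nat_lit 5597), (nat_lit 9623)]))) (.node (.leaf (.cyc (nat_lit 6) [(nat_lit 7115), (nat_lit 7049)])) (.leaf .df)))) (.node (.node (.node (.leaf .df) (.leaf (.cyc (nat_lit 7) [(nat_lit 7105), (nat_lit 10185), (nat_lit 2516), (nat_lit 907), (nat_lit 300), (nat_lit 297), (nat_lit 898), (nat_lit 2486)]))) (.node (.leaf (.cyc (nat_lit 5) [(nat_lit 1868), (nat_lit 1867)])) (.leaf .df))) (.node (.node (.leaf .df) (.leaf (.cyc (nat_lit 18) [(nat_lit 11340), (nat_lit 12234)]))) (.node (.leaf (.cyc (nat_lit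 24) [(nat_lit 6348), (nat_lit 1089), (nat_lit 4641), (nat_lit 8002), (nat_lit 2852), (nat_lit 7994), (nat_lit 2961), (nat_lit 8135), (nat_lit 2891), (nat_lit 2889)])) (.leaf .df))))))))
noncomputable def c4P001100 : BT Pf := .node c4P0011000 c4P0011001
noncomputable def c4P0011010 : BT Pf := (.node (.node (.node (.node (.node (.node (.node (.leaf .df) (.leaf (.cyc (nat_lit 25) [(nat_lit 7684), (nat_lit 8222)]))) (.node (.leaf .df) (.leaf (.cyc (nat_lit 13) [(nat_lit 12331), (nat_lit 4149), (nat_lit 2373), (nat_lit 2372), (nat_lit 8330), (nat_lit 8847), (nat_lit 9708)])))) (.node (.node (.leaf .df) (.leaf (.cyc (nat_lit 8) [(nat_lit 2389), (nat_lit 8369), (nat_lit 6045), (nat_lit 6046), (nat_lit 3650)]))) (.node (.leaf (.cyc (nat_lit 6) [(nat_lit 1976), (nat_lit 1975)])) (.leaf .df)))) (.node (.node (.node (.leaf .df) (.leaf (.cyc (nat_lit 18) [(nat_lit 6310), (nat_lit 9259)]))) (.node (.leaf (.cyc (nat_lit 5) [(nat_lit 943), (nat_lit 4960)])) (.leaf .df)))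 (.node (.node (.leaf .df) (.leaf (.cyc (nat_lit 5) [(nat_lit 3898), (nat_lit 6062)]))) (.node (.leaf (.cyc (nat_lit 7) [(nat_lit 2859), (nat_lit 1054), (nat_lit 5237), (nat_lit 5245), (nat_lit 5241), (nat_lit 1060), (nat_lit 2877)])) (.leaf .df))))) (.node (.node (.node (.node (.leaf .df) (.leaf (.cyc (nat_lit 19) [(nat_lit 7676), (nat_lit 8736), (nat_lit 1808)]))) (.node (.leaf (.cyc (nat_lit 8) [(nat_lit 124), (nat_lit 4377), (nat_lit 120), (nat_lit 377), (nat_lit 4651)])) (.leaf (.cyc (nat_lit 0) [(nat_lit 12559), (nat_lit 12843)])))) (.node (.node (.leaf .df) (.leaf (.cyc (nat_lit 1) [(nat_lit 10549), (nat_lit 3757)]))) (.node (.leaf (.cyc (nat_lit 29) [(nat_lit 6237), (nat_lit 6697)])) (.leaf .df)))) (.node (.node (.node (.leaf .df) (.leaf (.cyc (nat_lit 4) [(nat_lit 3465), (nat_lit 5627), (nat_lit 9649), (nat_lit 3419), (nat_lit 6401)]))) (.node (.leaf (.cyc (nat_lit 8) [(nat_lit 5675), (nat_lit 1373), (nat_lit 469), (nat_lit 467), (nat_lit 1366)]))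 (.leaf .df))) (.node (.node (.leaf .df) (.leaf (.cyc (nat_lit 10) [(nat_lit 6375), (nat_lit 9248), (nat_lit 6299), (nat_lit 6269), (nat_lit 4035)]))) (.node (.leaf (.cyc (nat_lit 10) [(nat_lit 1869), (nat_lit 651), (nat_lit 648), (nat_lit 7720), (nat_lit 2544)])) (.leaf .df)))))) (.node (.node (.node (.node (.node (.leaf .df) (.leaf (.cyc (nat_lit 21) [(nat_lit 8401), (nat_lit 6204), (nat_lit 8402), (nat_lit 8404), (nat_lit 8490), (nat_lit 5811)]))) (.node (.leaf (.cyc (nat_lit 13) [(nat_lit 4395), (nat_lit 49), (nat_lit 13), (nat_lit 11), (nat_lit 41), (nat_lit 4380), (nat_lit 60)])) (.leaf (.cyc (nat_lit 14) [(nat_lit 12421), (nat_lit 12587)])))) (.node (.node (.leaf .df) (.leaf (.cyc (nat_lit 17) [(nat_lit 9908), (nat_lit 10537)]))) (.node (.leaf (.cyc (nat_lit 7) [(nat_lit 2259), (nat_lit 801), (nat_lit 261), (nat_lit 263), (nat_lit 4780), (nat_lit 4820), (nat_lit 1620)])) (.leaf .df)))) (.node (.node (.node (.leaf .df) (.leaf (.cyc (nat_lit 5) [(nat_lit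 3359), (nat_lit 9488)]))) (.node (.leaf (.cyc (nat_lit 5) [(nat_lit 1221), (nat_lit 1220)])) (.leaf .df))) (.node (.node (.leaf .df) (.leaf (.cyc (nat_lit 10) [(nat_lit 7103), (nat_lit 11465), (nat_lit 11462), (nat_lit 11122), (nat_lit 11563)]))) (.node (.leaf (.cyc (nat_lit 4) [(nat_lit 1169), (nat_lit 396), (nat_lit 394), (nat_lit 1160), (nat_lit 3091)])) (.leaf .df))))) (.node (.node (.node (.node (.leaf .df) (.leaf (.cyc (nat_lit 18) [(nat_lit 2211), (nat_lit 8993)]))) (.node (.leaf (.cyc (nat_lit 10) [(nat_lit 228), (nat_lit 69), (nat_lit 66), (nat_lit 216), (nat_lit 669)])) (.leaf (.cyc (nat_lit 11) [(nat_lit 11191), (nat_lit 11193), (nat_lit 10321), (nat_lit 3659), (nat_lit 10314), (nat_lit 9524), (nat_lit 4312)])))) (.node (.node (.leaf .df) (.leaf (.cyc (nat_lit 18) [(nat_lit 10558), (nat_lit 11051)]))) (.node (.leaf (.cyc (nat_lit 7) [(nat_lit 979), (nat_lit 6955), (nat_lit 1496), (nat_lit 4779), (nat_lit 334), (nat_lit 4434), (nat_lit 339),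 (nat_lit 1010)])) (.leaf .df)))) (.node (.node (.node (.leaf .df) (.leaf (.cyc (nat_lit 6) [(nat_lit 3584), (nat_lit 7313)]))) (.node (.leaf (.cyc (nat_lit 2) [(nat_lit 1701), (nat_lit 1700)])) (.leaf .df))) (.node (.node (.leaf .df) (.leaf (.cyc (nat_lit 7) [(nat_lit 3213), (nat_lit 5412), (nat_lit 7976), (nat_lit 2895), (nat_lit 8132), (nat_lit 7996), (nat_lit 4102)]))) (.node (.leaf (.cyc (nat_lit 20) [(nat_lit 6373), (nat_lit 6162), (nat_lit 5440), (nat_lit 5442), (nat_lit 7921), (nat_lit 5383), (nat_lit 7975)])) (.leaf .df))))))) (.node (.node (.node (.node (.node (.node (.leaf .df) (.leaf (.cyc (nat_lit 28) [(nat_lit 8320), (nat_lit 8363)]))) (.node (.leaf .df) (.leaf (.cyc (nat_lit 8) [(nat_lit 4179), (nat_lit 6751), (nat_lit 11561), (nat_lit 9807), (nat_lit 7329)])))) (.node (.node (.leaf .df) (.leaf (.cyc (nat_lit 35) [(nat_lit 9968), (nat_lit 9967), (nat_lit 3677), (nat_lit 10389), (nat_lit 2235), (nat_lit 10398), (nat_lit 9970), (nat_lit 3559),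 (nat_lit 3561)]))) (.node (.leaf (.cyc (nat_lit 7) [(nat_lit 2122), (nat_lit 748), (nat_lit 4543), (nat_lit 4495), (nat_lit 4483), (nat_lit 541), (nat_lit 1554)])) (.leaf .df)))) (.node (.node (.node (.leaf .df) (.leaf (.cyc (nat_lit 8) [(nat_lit 6477), (nat_lit 8123), (nat_lit 2313), (nat_lit 9386), (nat_lit 7242)]))) (.node (.leaf (.cyc (nat_lit 0) [(nat_lit 4645), (nat_lit 1087)])) (.leaf .df))) (.node (.node (.leaf .df) (.leaf (.cyc (nat_lit 6) [(nat_lit 11434), (nat_lit 8615)]))) (.node (.leaf (.cyc (nat_lit 6) [(nat_lit 2986), (nat_lit 6676)])) (.leaf .df))))) (.node (.node (.node (.node (.leaf .df) (.leaf (.cyc (nat_lit 16) [(nat_lit 6844), (nat_lit 8062), (nat_lit 6417), (nat_lit 8065), (nat_lit 8069), (nat_lit 2228), (nat_lit 8077), (nat_lit 8840), (nat_lit 2346), (nat_lit 2348)]))) (.node (.leaf (.cyc (nat_lit 5) [(nat_lit 4779), (nat_lit 4778)])) (.leaf (.cyc (nat_lit 11) [(nat_lit 3595), (nat_lit 5695), (nat_lit 5590), (nat_lit 8104), (nat_lit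 5587), (nat_lit 8780), (nat_lit 4286)])))) (.node (.node (.leaf .df) (.leaf (.cyc (nat_lit 29) [(nat_lit 7057), (nat_lit 10922)]))) (.node (.leaf (.cyc (nat_lit 6) [(nat_lit 2580), (nat_lit 2579)])) (.leaf .df)))) (.node (.node (.node (.leaf .df) (.leaf (.cyc (nat_lit 4) [(nat_lit 5909), (nat_lit 5910), (nat_lit 5902), (nat_lit 5900), (nat_lit 9898)]))) (.node (.leaf (.cyc (nat_lit 5) [(nat_lit 1549), (nat_lit 1548)])) (.leaf .df))) (.node (.node (.leaf .df) (.leaf (.cyc (nat_lit 8) [(nat_lit 3862), (nat_lit 11092), (nat_lit 11945), (nat_lit 11946), (nat_lit 3662), (nat_lit 7775)]))) (.node (.leaf (.cyc (nat_lit 29) [(nat_lit 6815), (nat_lit 7848), (nat_lit 3246)])) (.leaf .df)))))) (.node (.node (.node (.node (.node (.leaf .df) (.leaf (.cyc (nat_lit 20) [(nat_lit 2732), (nat_lit 1001), (nat_lit 7047), (nat_lit 2095), (nat_lit 8619), (nat_lit 6072), (nat_lit 5995), (nat_lit 1907)]))) (.node (.leaf (.cyc (nat_lit 4) [(nat_lit 218), (nat_lit 4401), (nat_lit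 4523), (nat_lit 135), (nat_lit 134)])) (.leaf (.cyc (nat_lit 14) [(nat_lit 12703), (nat_lit 12715)])))) (.node (.node (.leaf .df) (.leaf (.cyc (nat_lit 13) [(nat_lit 10667), (nat_lit 3732), (nat_lit 5911), (nat_lit 9470), (nat_lit 7583), (nat_lit 7584), (nat_lit 7586)]))) (.node (.leaf (.cyc (nat_lit 9) [(nat_lit 1300), (nat_lit 5544), (nat_lit 4609), (nat_lit 839), (nat_lit 2359)])) (.leaf .df)))) (.node (.node (.node (.leaf .df) (.leaf (.cyc (nat_lit 6) [(nat_lit 9643), (nat_lit 9641)]))) (.node (.leaf (.cyc (nat_lit 27) [(nat_lit 1302), (nat_lit 445), (nat_lit 142), (nat_lit 4396), (nat_lit 4397), (nat_lit 200), (nat_lit 621)])) (.leaf .df))) (.node (.node (.leaf .df) (.leaf (.cyc (nat_lit 13) [(nat_lit 11689), (nat_lit 2674), (nat_lit 974), (nat_lit 4683), (nat_lit 1202), (nat_lit 5397), (nat_lit 2686)]))) (.node (.leaf (.cyc (nat_lit 5) [(nat_lit 3220), (nat_lit 3219)])) (.leaf .df))))) (.node (.node (.node (.node (.leaf .df) (.leaf (.cyc (nat_lit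 28) [(nat_lit 7418), (nat_lit 9131)]))) (.node (.leaf (.cyc (nat_lit 2) [(nat_lit 804), (nat_lit 803)])) (.leaf (.cyc (nat_lit 2) [(nat_lit 4340), (nat_lit 11768)])))) (.node (.node (.leaf .df) (.leaf (.cyc (nat_lit 1) [(nat_lit 10955), (nat_lit 3865)]))) (.node (.leaf (.cyc (nat_lit 4) [(nat_lit 2491), (nat_lit 899), (nat_lit 896), (nat_lit 2484), (nat_lit 7082), (nat_lit 7083)])) (.leaf .df)))) (.node (.node (.node (.leaf .df) (.leaf (.cyc (nat_lit 1) [(nat_lit 9587), (nat_lit 10155)]))) (.node (.leaf (.cyc (nat_lit 5) [(nat_lit 1837), (nat_lit 1836)])) (.leaf .df))) (.node (.node (.leaf .df) (.leaf (.cyc (nat_lit 10) [(nat_lit 10780), (nat_lit 10786), (nat_lit 2305), (nat_lit 2303), (nat_lit 4128)]))) (.node (.leaf (.cyc (nat_lit 28) [(nat_lit 5569), (nat_lit 8106), (nat_lit 1335)])) (.leaf .df))))))))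
noncomputable def c4P0011011 : BT Pf := (.node (.node (.node (.node (.node (.node (.node (.leaf .df) (.leaf (.cyc (nat_lit 28) [(nat_lit 6628), (nat_lit 8290), (nat_lit 1957)]))) (.node (.leaf .df) (.leaf (.cyc (nat_lit 3) [(nat_lit 7536), (nat_lit 7466), (nat_lit 3217), (nat_lit 10509), (nat_lit 12394)])))) (.node (.node (.leaf .df) (.leaf (.cyc (nat_lit 28) [(nat_lit 1894), (nat_lit 10347)]))) (.node (.leaf (.cyc (nat_lit 20) [(nat_lit 1862), (nat_lit 649), (nat_lit 4511), (nat_lit 6155), (nat_lit 4536), (nat_lit 717), (nat_lit 2042)])) (.leaf .df)))) (.node (.node (.node (.leaf .df) (.leaf (.cyc (nat_lit 18) [(nat_lit 9305), (nat_lit 9319)]))) (.node (.leaf (.cyc (nat_lit 2) [(nat_lit 1020), (nat_lit 1019)])) (.leaf .df))) (.node (.node (.leaf .df) (.leaf (.cyc (nat_lit 14) [(nat_lit 11008), (nat_lit 3916)]))) (.node (.leaf (.cyc (nat_lit 2) [(nat_lit 2942), (nat_lit 2941)])) (.leaf .df))))) (.node (.node (.node (.node (.leaf .df) (.leaf (.cyc (nat_lit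 28) [(nat_lit 2525), (nat_lit 8808)]))) (.node (.leaf (.cyc (nat_lit 5) [(nat_lit 446), (nat_lit 445)])) (.leaf (.cyc (nat_lit 22) [(nat_lit 12906), (nat_lit 9641), (nat_lit 11781), (nat_lit 9792), (nat_lit 10421), (nat_lit 3680), (nat_lit 3678)])))) (.node (.node (.leaf .df) (.leaf (.cyc (nat_lit 1) [(nat_lit 10530), (nat_lit 10858)]))) (.node (.leaf (.cyc (nat_lit 2) [(nat_lit 2516), (nat_lit 2515)])) (.leaf .df)))) (.node (.node (.node (.leaf .df) (.leaf (.cyc (nat_lit 6) [(nat_lit 3504), (nat_lit 3503)]))) (.node (.leaf (.cyc (nat_lit 2) [(nat_lit 1489), (nat_lit 1488)])) (.leaf .df))) (.node (.node (.leaf .df) (.leaf (.cyc (nat_lit 13) [(nat_lit 6550), (nat_lit 8451), (nat_lit 746), (nat_lit 744), (nat_lit 2111), (nat_lit 6307), (nat_lit 4052)]))) (.node (.leaf (.cyc (nat_lit 17) [(nat_lit 7742), (nat_lit 7787)])) (.leaf .df)))))) (.node (.node (.node (.node (.node (.leaf .df) (.leaf (.cyc (nat_lit 20) [(nat_lit 5541), (nat_lit 860), (nat_lit 4580),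 (nat_lit 863), (nat_lit 8548), (nat_lit 6393), (nat_lit 6389)]))) (.node (.leaf (.cyc (nat_lit 5) [(nat_lit 141), (nat_lit 4396)])) (.leaf (.cyc (nat_lit 2) [(nat_lit 4221), (nat_lit 4220)])))) (.node (.node (.leaf .df) (.leaf (.cyc (nat_lit 0) [(nat_lit 10601), (nat_lit 10603)]))) (.node (.leaf (.cyc (nat_lit 31) [(nat_lit 5747), (nat_lit 6452), (nat_lit 2261), (nat_lit 5225), (nat_lit 6507), (nat_lit 5853), (nat_lit 5228)])) (.leaf .df)))) (.node (.node (.node (.leaf .df) (.leaf (.cyc (nat_lit 5) [(nat_lit 3395), (nat_lit 3394)]))) (.node (.leaf (.cyc (nat_lit 11) [(nat_lit 457), (nat_lit 4474), (nat_lit 4473), (nat_lit 4393), (nat_lit 138), (nat_lit 435), (nat_lit 1275)])) (.leaf .df))) (.node (.node (.leaf .df) (.leaf (.cyc (nat_lit 20) [(nat_lit 3585), (nat_lit 8516), (nat_lit 1960), (nat_lit 3983), (nat_lit 11626), (nat_lit 3350), (nat_lit 10621)]))) (.node (.leaf (.cyc (nat_lit 3) [(nat_lit 3159), (nat_lit 1191), (nat_lit 4680), (nat_lit 5290),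 (nat_lit 2929)])) (.leaf .df))))) (.node (.node (.node (.node (.leaf .df) (.leaf (.cyc (nat_lit 17) [(nat_lit 8793), (nat_lit 9063)]))) (.node (.leaf (.cyc (nat_lit 5) [(nat_lit 744), (nat_lit 743)])) (.leaf (.cyc (nat_lit 6) [(nat_lit 4326), (nat_lit 12692)])))) (.node (.node (.leaf .df) (.leaf (.cyc (nat_lit 0) [(nat_lit 8691), (nat_lit 3840)]))) (.node (.leaf (.cyc (nat_lit 1) [(nat_lit 6978), (nat_lit 2703)])) (.leaf .df)))) (.node (.node (.node (.leaf .df) (.leaf (.cyc (nat_lit 26) [(nat_lit 7020), (nat_lit 7022), (nat_lit 1937), (nat_lit 4919), (nat_lit 4959), (nat_lit 5440), (nat_lit 5441), (nat_lit 2179), (nat_lit 10089)]))) (.node (.leaf (.cyc (nat_lit 9) [(nat_lit 1511), (nat_lit 521), (nat_lit 4502), (nat_lit 615), (nat_lit 1766)])) (.leaf .df))) (.node (.node (.leaf .df) (.leaf (.cyc (nat_lit 21) [(nat_lit 3387), (nat_lit 3388), (nat_lit 10437), (nat_lit 6430), (nat_lit 4115)]))) (.node (.leaf (.cyc (nat_lit 28) [(nat_lit 7314), (nat_lit 8041)]))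 (.leaf .df))))))) (.node (.node (.node (.node (.node (.node (.leaf .df) (.leaf (.cyc (nat_lit 10) [(nat_lit 6997), (nat_lit 1640), (nat_lit 1638), (nat_lit 8427), (nat_lit 1819)]))) (.node (.leaf .df) (.leaf (.cyc (nat_lit 26) [(nat_lit 11614), (nat_lit 2613), (nat_lit 2615), (nat_lit 11666), (nat_lit 11667), (nat_lit 10338), (nat_lit 4192), (nat_lit 12521), (nat_lit 12523)])))) (.node (.node (.leaf .df) (.leaf (.cyc (nat_lit 18) [(nat_lit 3644), (nat_lit 10475)]))) (.node (.leaf (.cyc (nat_lit 2) [(nat_lit 2186), (nat_lit 2185)])) (.leaf .df)))) (.node (.node (.node (.leaf .df) (.leaf (.cyc (nat_lit 4) [(nat_lit 5681), (nat_lit 5682), (nat_lit 5620), (nat_lit 5678), (nat_lit 8092)]))) (.node (.leaf (.cyc (nat_lit 2) [(nat_lit 1158), (nat_lit 1157)])) (.leaf .df))) (.node (.node (.leaf .df) (.leaf (.cyc (nat_lit 5) [(nat_lit 3949), (nat_lit 3948)]))) (.node (.leaf (.cyc (nat_lit 5) [(nat_lit 3035), (nat_lit 3034)])) (.leaf .df))))) (.node (.node (.node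 (.node (.leaf .df) (.leaf (.cyc (nat_lit 30) [(nat_lit 5843), (nat_lit 5841), (nat_lit 1595), (nat_lit 8812), (nat_lit 6571), (nat_lit 6573), (nat_lit 5095), (nat_lit 8528), (nat_lit 8533), (nat_lit 1295)]))) (.node (.leaf (.cyc (nat_lit 3) [(nat_lit 4802), (nat_lit 4842), (nat_lit 4841), (nat_lit 427), (nat_lit 429)])) (.leaf (.cyc (nat_lit 4) [(nat_lit 12932), (nat_lit 12986), (nat_lit 13034), (nat_lit 13033), (nat_lit 13035)])))) (.node (.node (.leaf .df) (.leaf (.cyc (nat_lit 17) [(nat_lit 5803), (nat_lit 10984), (nat_lit 1791)]))) (.node (.leaf (.cyc (nat_lit 16) [(nat_lit 6737), (nat_lit 5804), (nat_lit 5803), (nat_lit 1458), (nat_lit 4764), (nat_lit 5582), (nat_lit 5720), (nat_lit 2619), (nat_lit 6891)])) (.leaf .df)))) (.node (.node (.node (.leaf .df) (.leaf (.cyc (nat_lit 28) [(nat_lit 9961), (nat_lit 9963)]))) (.node (.leaf (.cyc (nat_lit 1) [(nat_lit 5858), (nat_lit 1629)])) (.leaf .df))) (.node (.node (.leaf .df) (.leaf (.cyc (nat_lit 11)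 [(nat_lit 7025), (nat_lit 5411), (nat_lit 5413), (nat_lit 3212), (nat_lit 12008), (nat_lit 12011), (nat_lit 11765)]))) (.node (.leaf (.cyc (nat_lit 18) [(nat_lit 3154), (nat_lit 7908)])) (.leaf .df)))))) (.node (.node (.node (.node (.node (.leaf .df) (.leaf (.cyc (nat_lit 17) [(nat_lit 6803), (nat_lit 8681)]))) (.node (.leaf (.cyc (nat_lit 5) [(nat_lit 292), (nat_lit 4422)])) (.leaf (.cyc (nat_lit 14) [(nat_lit 11233), (nat_lit 4250)])))) (.node (.node (.leaf .df) (.leaf (.cyc (nat_lit 2) [(nat_lit 3742), (nat_lit 3741)]))) (.node (.leaf (.cyc (nat_lit 7) [(nat_lit 2429), (nat_lit 5099), (nat_lit 690), (nat_lit 225), (nat_lit 222), (nat_lit 682), (nat_lit 1950)])) (.leaf .df)))) (.node (.node (.node (.leaf .df) (.leaf (.cyc (nat_lit 2) [(nat_lit 3442), (nat_lit 5676)]))) (.node (.leaf (.cyc (nat_lit 6) [(nat_lit 1366), (nat_lit 1365)])) (.leaf .df))) (.node (.node (.leaf .df) (.leaf (.cyc (nat_lit 4) [(nat_lit 10551), (nat_lit 7912), (nat_lit 6861), (nat_lit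 6860), (nat_lit 4016)]))) (.node (.leaf (.cyc (nat_lit 8) [(nat_lit 3275), (nat_lit 5446), (nat_lit 1149), (nat_lit 1147), (nat_lit 3065)])) (.leaf .df))))) (.node (.node (.node (.node (.leaf .df) (.leaf (.cyc (nat_lit 33) [(nat_lit 754), (nat_lit 4548), (nat_lit 757), (nat_lit 8458), (nat_lit 9193), (nat_lit 1674), (nat_lit 4834), (nat_lit 1678)]))) (.node (.leaf (.cyc (nat_lit 5) [(nat_lit 868), (nat_lit 867)])) (.leaf .df))) (.node (.node (.leaf .df) (.leaf (.cyc (nat_lit 0) [(nat_lit 11188), (nat_lit 3885)]))) (.node (.leaf (.cyc (nat_lit 9) [(nat_lit 2790), (nat_lit 1028), (nat_lit 4639), (nat_lit 1078), (nat_lit 6437)])) (.leaf .df)))) (.node (.node (.node (.leaf .df) (.leaf (.cyc (nat_lit 5) [(nat_lit 3629), (nat_lit 3628)]))) (.node (.leaf (.cyc (nat_lit 1) [(nat_lit 4974), (nat_lit 1910)])) (.leaf .df))) (.node (.node (.leaf .df) (.leaf (.cyc (nat_lit 4) [(nat_lit 2632), (nat_lit 5862), (nat_lit 9816), (nat_lit 9811), (nat_lit 12267)]))) (.node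 (.leaf (.cyc (nat_lit 28) [(nat_lit 1320), (nat_lit 8169)])) (.leaf .df))))))))
noncomputable def c4P001101 : BT Pf := .node c4P0011010 c4P0011011
noncomputable def c4P00110 : BT Pf := .node c4P001100 c4P001101
noncomputable def c4P0011100 : BT Pf := (.node (.node (.node (.node (.node (.node (.node (.leaf .df) (.leaf (.cyc (nat_lit 18) [(nat_lit 7143), (nat_lit 8207), (nat_lit 1133)]))) (.node (.leaf .df) (.leaf (.cyc (nat_lit 22) [(nat_lit 7265), (nat_lit 12314), (nat_lit 3502), (nat_lit 5651), (nat_lit 5105), (nat_lit 2449), (nat_lit 7337)])))) (.node (.node (.leaf .df) (.leaf (.cyc (nat_lit 1) [(nat_lit 10267), (nat_lit 3642)]))) (.node (.leaf (.cyc (nat_lit 5) [(nat_lit 1957), (nat_lit 1956)])) (.leaf .df)))) (.node (.node (.node (.leaf .df) (.leaf (.cyc (nat_lit 29) [(nat_lit 6317), (nat_lit 9242)]))) (.node (.leaf (.cyc (nat_lit 3) [(nat_lit 5137), (nat_lit 916), (nat_lit 306), (nat_lit 307), (nat_lit 922)])) (.leaf .df))) (.node (.node (.leaf .df)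 (.leaf (.cyc (nat_lit 19) [(nat_lit 3833), (nat_lit 11290)]))) (.node (.leaf (.cyc (nat_lit 5) [(nat_lit 2854), (nat_lit 2853)])) (.leaf .df))))) (.node (.node (.node (.node (.leaf .df) (.leaf (.cyc (nat_lit 29) [(nat_lit 1201), (nat_lit 8726), (nat_lit 1798)]))) (.node (.leaf (.cyc (nat_lit 5) [(nat_lit 358), (nat_lit 357)])) (.leaf (.cyc (nat_lit 22) [(nat_lit 4259), (nat_lit 9620), (nat_lit 12525), (nat_lit 4193), (nat_lit 10763), (nat_lit 10765), (nat_lit 10806)])))) (.node (.node (.leaf .df) (.leaf (.cyc (nat_lit 1) [(nat_lit 8982), (nat_lit 3753)]))) (.node (.leaf (.cyc (nat_lit 17) [(nat_lit 6251), (nat_lit 6683)])) (.leaf .df)))) (.node (.node (.node (.leaf .df) (.leaf (.cyc (nat_lit 22) [(nat_lit 2158), (nat_lit 4989), (nat_lit 2153), (nat_lit 9755), (nat_lit 2301), (nat_lit 7904), (nat_lit 2933), (nat_lit 9468)]))) (.node (.leaf (.cyc (nat_lit 4) [(nat_lit 1421), (nat_lit 486), (nat_lit 484), (nat_lit 5011), (nat_lit 5602)])) (.leaf .df))) (.node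 (.node (.leaf .df) (.leaf (.cyc (nat_lit 3) [(nat_lit 11631), (nat_lit 11627), (nat_lit 2196), (nat_lit 6262), (nat_lit 4027)]))) (.node (.leaf (.cyc (nat_lit 5) [(nat_lit 3312), (nat_lit 3311)])) (.leaf .df)))))) (.node (.node (.node (.node (.node (.leaf .df) (.leaf (.cyc (nat_lit 18) [(nat_lit 2427), (nat_lit 8474)]))) (.node (.leaf (.cyc (nat_lit 9) [(nat_lit 41), (nat_lit 11), (nat_lit 2), (nat_lit 3), (nat_lit 16)])) (.leaf (.cyc (nat_lit 0) [(nat_lit 11346), (nat_lit 4205)])))) (.node (.node (.leaf .df) (.leaf (.cyc (nat_lit 4) [(nat_lit 2324), (nat_lit 2321), (nat_lit 7344), (nat_lit 9818), (nat_lit 10522)]))) (.node (.leaf (.cyc (nat_lit 6) [(nat_lit 2236), (nat_lit 2235)])) (.leaf .df)))) (.node (.node (.node (.leaf .df) (.leaf (.cyc (nat_lit 8) [(nat_lit 2200), (nat_lit 2198), (nat_lit 6849), (nat_lit 6850), (nat_lit 3347)]))) (.node (.leaf (.cyc (nat_lit 0) [(nat_lit 4688), (nat_lit 1206)])) (.leaf .df))) (.node (.node (.leaf .df) (.leaf (.cyc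 (nat_lit 31) [(nat_lit 11038), (nat_lit 1888), (nat_lit 1885), (nat_lit 11547), (nat_lit 2657), (nat_lit 969), (nat_lit 966), (nat_lit 2648)]))) (.node (.leaf (.cyc (nat_lit 4) [(nat_lit 3073), (nat_lit 1150), (nat_lit 1148), (nat_lit 3067), (nat_lit 7448)])) (.leaf .df))))) (.node (.node (.node (.node (.leaf .df) (.leaf (.cyc (nat_lit 17) [(nat_lit 3151), (nat_lit 8985), (nat_lit 549)]))) (.node (.leaf (.cyc (nat_lit 3) [(nat_lit 4891), (nat_lit 652), (nat_lit 211), (nat_lit 4456), (nat_lit 432)])) (.leaf (.cyc (nat_lit 0) [(nat_lit 13079), (nat_lit 13083)])))) (.node (.node (.leaf .df) (.leaf (.cyc (nat_lit 5) [(nat_lit 3818), (nat_lit 3817)]))) (.node (.leaf (.cyc (nat_lit 3) [(nat_lit 5367), (nat_lit 6939), (nat_lit 6561), (nat_lit 6566), (nat_lit 5994)])) (.leaf .df)))) (.node (.node (.node (.leaf .df) (.leaf (.cyc (nat_lit 9) [(nat_lit 6121), (nat_lit 6111), (nat_lit 8094), (nat_lit 5679), (nat_lit 3577)]))) (.node (.leaf (.cyc (nat_lit 1) [(nat_lit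 5781), (nat_lit 1681)])) (.leaf .df))) (.node (.node (.leaf .df) (.leaf (.cyc (nat_lit 3) [(nat_lit 11500), (nat_lit 11499), (nat_lit 9784), (nat_lit 11718), (nat_lit 12059)]))) (.node (.leaf (.cyc (nat_lit 25) [(nat_lit 7221), (nat_lit 7959)])) (.leaf .df))))))) (.node (.node (.node (.node (.node (.node (.leaf .df) (.leaf (.cyc (nat_lit 18) [(nat_lit 7331), (nat_lit 8347)]))) (.node (.leaf .df) (.leaf (.cyc (nat_lit 3) [(nat_lit 3681), (nat_lit 3683), (nat_lit 10430), (nat_lit 6739), (nat_lit 4176)])))) (.node (.node (.leaf .df) (.leaf (.cyc (nat_lit 29) [(nat_lit 9491), (nat_lit 10395), (nat_lit 2233)]))) (.node (.leaf (.cyc (nat_lit 5) [(nat_lit 2103), (nat_lit 2102)])) (.leaf .df)))) (.node (.node (.node (.leaf .df) (.leaf (.cyc (nat_lit 29) [(nat_lit 3160), (nat_lit 9370)]))) (.node (.leaf (.cyc (nat_lit 13) [(nat_lit 1067), (nat_lit 358), (nat_lit 4521), (nat_lit 4420), (nat_lit 4702), (nat_lit 4498), (nat_lit 604)])) (.leaf .df))) (.node (.node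 (.leaf .df) (.leaf (.cyc (nat_lit 14) [(nat_lit 10594), (nat_lit 3924)]))) (.node (.leaf (.cyc (nat_lit 2) [(nat_lit 2974), (nat_lit 2973)])) (.leaf .df))))) (.node (.node (.node (.node (.leaf .df) (.leaf (.cyc (nat_lit 29) [(nat_lit 3296), (nat_lit 8858)]))) (.node (.leaf (.cyc (nat_lit 6) [(nat_lit 499), (nat_lit 498)])) (.leaf (.cyc (nat_lit 27) [(nat_lit 4285), (nat_lit 7914), (nat_lit 5948), (nat_lit 7283), (nat_lit 12727), (nat_lit 4236), (nat_lit 11530)])))) (.node (.node (.leaf .df) (.leaf (.cyc (nat_lit 6) [(nat_lit 3789), (nat_lit 10894)]))) (.node (.leaf (.cyc (nat_lit 3) [(nat_lit 5354), (nat_lit 6810), (nat_lit 2557), (nat_lit 927), (nat_lit 928)])) (.leaf .df)))) (.node (.node (.node (.leaf .df) (.leaf (.cyc (nat_lit 11) [(nat_lit 7614), (nat_lit 9359), (nat_lit 9572), (nat_lit 9571), (nat_lit 1421), (nat_lit 1419), (nat_lit 3534)]))) (.node (.leaf (.cyc (nat_lit 3) [(nat_lit 4792), (nat_lit 1532), (nat_lit 5786), (nat_lit 694), (nat_lit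 696)])) (.leaf .df))) (.node (.node (.leaf .df) (.leaf (.cyc (nat_lit 4) [(nat_lit 2762), (nat_lit 5224), (nat_lit 2764), (nat_lit 9098), (nat_lit 11931)]))) (.node (.leaf (.cyc (nat_lit 29) [(nat_lit 6232), (nat_lit 7834)])) (.leaf .df)))))) (.node (.node (.node (.node (.node (.leaf .df) (.leaf (.cyc (nat_lit 22) [(nat_lit 1590), (nat_lit 1592), (nat_lit 8602), (nat_lit 5989), (nat_lit 8472), (nat_lit 6284), (nat_lit 6286)]))) (.node (.leaf (.cyc (nat_lit 10) [(nat_lit 201), (nat_lit 61), (nat_lit 4363), (nat_lit 63), (nat_lit 207)])) (.leaf (.cyc (nat_lit 10) [(nat_lit 7580), (nat_lit 12476), (nat_lit 9202), (nat_lit 11693), (nat_lit 12699)])))) (.node (.node (.leaf .df) (.leaf (.cyc (nat_lit 1) [(nat_lit 10630), (nat_lit 10650)]))) (.node (.leaf (.cyc (nat_lit 0) [(nat_lit 5880), (nat_lit 2349)])) (.leaf .df)))) (.node (.node (.node (.leaf .df) (.leaf (.cyc (nat_lit 8) [(nat_lit 3398), (nat_lit 8780), (nat_lit 9626), (nat_lit 3407), (nat_lit 9617)])))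 (.node (.leaf (.cyc (nat_lit 8) [(nat_lit 5498), (nat_lit 889), (nat_lit 295), (nat_lit 293), (nat_lit 882)])) (.leaf .df))) (.node (.node (.leaf .df) (.leaf (.cyc (nat_lit 11) [(nat_lit 3987), (nat_lit 6187), (nat_lit 1976), (nat_lit 691), (nat_lit 692), (nat_lit 1980), (nat_lit 3996)]))) (.node (.leaf (.cyc (nat_lit 1) [(nat_lit 7554), (nat_lit 3206)])) (.leaf .df))))) (.node (.node (.node (.node (.leaf .df) (.leaf (.cyc (nat_lit 35) [(nat_lit 8338), (nat_lit 8350), (nat_lit 7397), (nat_lit 2976), (nat_lit 9105), (nat_lit 9109), (nat_lit 9107), (nat_lit 5260), (nat_lit 2833), (nat_lit 7192)]))) (.node (.leaf (.cyc (nat_lit 2) [(nat_lit 793), (nat_lit 792)])) (.leaf (.cyc (nat_lit 6) [(nat_lit 4336), (nat_lit 12672)])))) (.node (.node (.leaf .df) (.leaf (.cyc (nat_lit 7) [(nat_lit 1756), (nat_lit 4860), (nat_lit 1759), (nat_lit 6915), (nat_lit 6951), (nat_lit 11162), (nat_lit 11161)]))) (.node (.leaf (.cyc (nat_lit 2) [(nat_lit 2727), (nat_lit 2726)]))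 (.leaf .df)))) (.node (.node (.node (.leaf .df) (.leaf (.cyc (nat_lit 22) [(nat_lit 10139), (nat_lit 3572), (nat_lit 9990), (nat_lit 4771), (nat_lit 1287), (nat_lit 3351), (nat_lit 9504)]))) (.node (.leaf (.cyc (nat_lit 6) [(nat_lit 1820), (nat_lit 5464)])) (.leaf .df))) (.node (.node (.leaf .df) (.leaf (.cyc (nat_lit 22) [(nat_lit 4123), (nat_lit 10158), (nat_lit 3626), (nat_lit 10216), (nat_lit 9404), (nat_lit 9400), (nat_lit 9399)]))) (.node (.leaf (.cyc (nat_lit 28) [(nat_lit 6120), (nat_lit 8091)])) (.leaf .df))))))))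
noncomputable def c4P0011101 : BT Pf := (.node (.node (.node (.node (.node (.node (.node (.leaf .df) (.leaf (.cyc (nat_lit 17) [(nat_lit 2783), (nat_lit 8277)]))) (.node (.leaf .df) (.leaf (.cyc (nat_lit 8) [(nat_lit 12378), (nat_lit 12095), (nat_lit 12093), (nat_lit 12090), (nat_lit 10415)])))) (.node (.node (.leaf .df) (.leaf (.cyc (nat_lit 13) [(nat_lit 5894), (nat_lit 1747), (nat_lit 9441), (nat_lit 5854), (nat_lit 6506), (nat_lit 6504), (nat_lit 3664)]))) (.node (.leaf (.cyc (nat_lit 5) [(nat_lit 2024), (nat_lit 5440)])) (.leaf .df)))) (.node (.node (.node (.leaf .df) (.leaf (.cyc (nat_lit 17) [(nat_lit 3115), (nat_lit 9307)]))) (.node (.leaf (.cyc (nat_lit 3) [(nat_lit 807), (nat_lit 4562), (nat_lit 4780), (nat_lit 4619), (nat_lit 996)])) (.leaf .df))) (.node (.node (.leaf .df) (.leaf (.cyc (nat_lit 8) [(nat_lit 6555), (nat_lit 8878), (nat_lit 2588), (nat_lit 8879), (nat_lit 3911)]))) (.node (.leaf (.cyc (nat_lit 14) [(nat_lit 6407), (nat_lit 2919)]))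 (.leaf .df))))) (.node (.node (.node (.node (.leaf .df) (.leaf (.cyc (nat_lit 29) [(nat_lit 7537), (nat_lit 8791)]))) (.node (.leaf (.cyc (nat_lit 24) [(nat_lit 301), (nat_lit 4420), (nat_lit 304), (nat_lit 4595), (nat_lit 137), (nat_lit 136), (nat_lit 428), (nat_lit 4699), (nat_lit 195), (nat_lit 193)])) (.leaf (.cyc (nat_lit 0) [(nat_lit 11270), (nat_lit 12891)])))) (.node (.node (.leaf .df) (.leaf (.cyc (nat_lit 19) [(nat_lit 9508), (nat_lit 10843), (nat_lit 3694)]))) (.node (.leaf (.cyc (nat_lit 2) [(nat_lit 2496), (nat_lit 2495)])) (.leaf .df)))) (.node (.node (.node (.leaf .df) (.leaf (.cyc (nat_lit 2) [(nat_lit 3493), (nat_lit 3492)]))) (.node (.leaf (.cyc (nat_lit 18) [(nat_lit 1464), (nat_lit 5723)])) (.leaf .df))) (.node (.node (.leaf .df) (.leaf (.cyc (nat_lit 29) [(nat_lit 11766), (nat_lit 11866)]))) (.node (.leaf (.cyc (nat_lit 28) [(nat_lit 7664), (nat_lit 7766), (nat_lit 2166)])) (.leaf .df)))))) (.node (.node (.node (.node (.node (.leaf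 .df) (.leaf (.cyc (nat_lit 29) [(nat_lit 6625), (nat_lit 8535)]))) (.node (.leaf (.cyc (nat_lit 2) [(nat_lit 122), (nat_lit 121)])) (.leaf (.cyc (nat_lit 4) [(nat_lit 2649), (nat_lit 2646), (nat_lit 4217), (nat_lit 12634), (nat_lit 12635)])))) (.node (.node (.leaf .df) (.leaf (.cyc (nat_lit 28) [(nat_lit 3499), (nat_lit 10587)]))) (.node (.leaf (.cyc (nat_lit 2) [(nat_lit 2293), (nat_lit 2292)])) (.leaf .df)))) (.node (.node (.node (.leaf .df) (.leaf (.cyc (nat_lit 13) [(nat_lit 7416), (nat_lit 2998), (nat_lit 5322), (nat_lit 7930), (nat_lit 8190), (nat_lit 1323), (nat_lit 3389)]))) (.node (.leaf (.cyc (nat_lit 5) [(nat_lit 1262), (nat_lit 1261)])) (.leaf .df))) (.node (.node (.leaf .df) (.leaf (.cyc (nat_lit 4) [(nat_lit 3945), (nat_lit 1866), (nat_lit 1864), (nat_lit 3941), (nat_lit 11610)]))) (.node (.leaf (.cyc (nat_lit 2) [(nat_lit 3141), (nat_lit 3140)])) (.leaf .df))))) (.node (.node (.node (.node (.leaf .df) (.leaf (.cyc (nat_lit 29) [(nat_lit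 7541), (nat_lit 9050)]))) (.node (.leaf (.cyc (nat_lit 0) [(nat_lit 4942), (nat_lit 725)])) (.leaf (.cyc (nat_lit 9) [(nat_lit 4207), (nat_lit 2622), (nat_lit 2623), (nat_lit 10077), (nat_lit 4323)])))) (.node (.node (.leaf .df) (.leaf (.cyc (nat_lit 5) [(nat_lit 11099), (nat_lit 8541)]))) (.node (.leaf (.cyc (nat_lit 5) [(nat_lit 7003), (nat_lit 5857)])) (.leaf .df)))) (.node (.node (.node (.leaf .df) (.leaf (.cyc (nat_lit 3) [(nat_lit 2623), (nat_lit 2622), (nat_lit 10075), (nat_lit 10072), (nat_lit 10074), (nat_lit 3427)]))) (.node (.leaf (.cyc (nat_lit 6) [(nat_lit 1757), (nat_lit 5526)])) (.leaf .df))) (.node (.node (.leaf .df) (.leaf (.cyc (nat_lit 8) [(nat_lit 12061), (nat_lit 12062), (nat_lit 12123), (nat_lit 11477), (nat_lit 3785)]))) (.node (.leaf (.cyc (nat_lit 29) [(nat_lit 7236), (nat_lit 8024)])) (.leaf .df))))))) (.node (.node (.node (.node (.node (.node (.leaf .df) (.leaf (.cyc (nat_lit 28) [(nat_lit 5876), (nat_lit 8408), (nat_lit 1258)])))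 (.node (.leaf .df) (.leaf (.cyc (nat_lit 5) [(nat_lit 12505), (nat_lit 9872)])))) (.node (.node (.leaf .df) (.leaf (.cyc (nat_lit 8) [(nat_lit 10205), (nat_lit 3689), (nat_lit 10458), (nat_lit 2466), (nat_lit 2468)]))) (.node (.leaf (.cyc (nat_lit 2) [(nat_lit 2169), (nat_lit 2168)])) (.leaf .df)))) (.node (.node (.node (.leaf .df) (.leaf (.cyc (nat_lit 19) [(nat_lit 7431), (nat_lit 9435), (nat_lit 9348)]))) (.node (.leaf (.cyc (nat_lit 5) [(nat_lit 1141), (nat_lit 1140)])) (.leaf .df))) (.node (.node (.leaf .df) (.leaf (.cyc (nat_lit 20) [(nat_lit 2723), (nat_lit 5212), (nat_lit 5038), (nat_lit 2278), (nat_lit 10266), (nat_lit 8668), (nat_lit 3936)]))) (.node (.leaf (.cyc (nat_lit 4) [(nat_lit 2450), (nat_lit 2449), (nat_lit 6662), (nat_lit 6226), (nat_lit 7385)])) (.leaf .df))))) (.node (.node (.node (.node (.leaf .df) (.leaf (.cyc (nat_lit 17) [(nat_lit 2505), (nat_lit 8920)]))) (.node (.leaf (.cyc (nat_lit 6) [(nat_lit 578), (nat_lit 577)])) (.leaf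 (.cyc (nat_lit 20) [(nat_lit 9866), (nat_lit 6179), (nat_lit 9869), (nat_lit 13019), (nat_lit 13017), (nat_lit 11922), (nat_lit 4066)])))) (.node (.node (.leaf .df) (.leaf (.cyc (nat_lit 8) [(nat_lit 10970), (nat_lit 9565), (nat_lit 9566), (nat_lit 10525), (nat_lit 6527)]))) (.node (.leaf (.cyc (nat_lit 4) [(nat_lit 5662), (nat_lit 6358), (nat_lit 2162), (nat_lit 2164), (nat_lit 6875)])) (.leaf .df)))) (.node (.node (.node (.leaf .df) (.leaf (.cyc (nat_lit 10) [(nat_lit 6145), (nat_lit 884), (nat_lit 881), (nat_lit 2460), (nat_lit 9947)]))) (.node (.leaf (.cyc (nat_lit 29) [(nat_lit 5771), (nat_lit 5850)])) (.leaf .df))) (.node (.node (.leaf .df) (.leaf (.cyc (nat_lit 4) [(nat_lit 11934), (nat_lit 11935), (nat_lit 10709), (nat_lit 6378), (nat_lit 4081)]))) (.node (.leaf (.cyc (nat_lit 29) [(nat_lit 5381), (nat_lit 7895), (nat_lit 1243)])) (.leaf .df)))))) (.node (.node (.node (.node (.node (.leaf .df) (.leaf (.cyc (nat_lit 1) [(nat_lit 6089), (nat_lit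 8667)]))) (.node (.leaf (.cyc (nat_lit 5) [(nat_lit 274), (nat_lit 273)])) (.leaf (.cyc (nat_lit 0) [(nat_lit 4246), (nat_lit 12763)])))) (.node (.node (.leaf .df) (.leaf (.cyc (nat_lit 14) [(nat_lit 8751), (nat_lit 3738)]))) (.node (.leaf (.cyc (nat_lit 5) [(nat_lit 2412), (nat_lit 2411)])) (.leaf .df)))) (.node (.node (.node (.leaf .df) (.leaf (.cyc (nat_lit 17) [(nat_lit 6538), (nat_lit 9690), (nat_lit 5615)]))) (.node (.leaf (.cyc (nat_lit 10) [(nat_lit 1339), (nat_lit 457), (nat_lit 4463), (nat_lit 459), (nat_lit 1344)])) (.leaf .df))) (.node (.node (.leaf .df) (.leaf (.cyc (nat_lit 9) [(nat_lit 10878), (nat_lit 10881), (nat_lit 2108), (nat_lit 2109), (nat_lit 11738)]))) (.node (.leaf (.cyc (nat_lit 6) [(nat_lit 7643), (nat_lit 5905)])) (.leaf .df))))) (.node (.node (.node (.node (.leaf .df) (.leaf (.cyc (nat_lit 33) [(nat_lit 6053), (nat_lit 1840), (nat_lit 9178), (nat_lit 662), (nat_lit 214), (nat_lit 212), (nat_lit 657), (nat_lit 1882)]))) (.node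 (.leaf (.cyc (nat_lit 2) [(nat_lit 848), (nat_lit 847)])) (.leaf (.cyc (nat_lit 20) [(nat_lit 13120), (nat_lit 12386), (nat_lit 13035), (nat_lit 12385), (nat_lit 13227), (nat_lit 13224), (nat_lit 13275)])))) (.node (.node (.leaf .df) (.leaf (.cyc (nat_lit 24) [(nat_lit 5093), (nat_lit 4859), (nat_lit 1752), (nat_lit 5976), (nat_lit 1748), (nat_lit 1747), (nat_lit 3882), (nat_lit 11227), (nat_lit 3800), (nat_lit 3799)]))) (.node (.leaf (.cyc (nat_lit 6) [(nat_lit 2780), (nat_lit 2779)])) (.leaf .df)))) (.node (.node (.node (.leaf .df) (.leaf (.cyc (nat_lit 4) [(nat_lit 10201), (nat_lit 9809), (nat_lit 7191), (nat_lit 5494), (nat_lit 2870)]))) (.node (.leaf (.cyc (nat_lit 8) [(nat_lit 1888), (nat_lit 1886), (nat_lit 6106), (nat_lit 1674), (nat_lit 1676)])) (.leaf .df))) (.node (.node (.leaf .df) (.leaf (.cyc (nat_lit 2) [(nat_lit 4138), (nat_lit 4137)]))) (.node (.leaf (.cyc (nat_lit 28) [(nat_lit 7993), (nat_lit 8154), (nat_lit 2830)])) (.leaf .df))))))))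
noncomputable def c4P001110 : BT Pf := .node c4P0011100 c4P0011101
noncomputable def c4P0011110 : BT Pf := (.node (.node (.node (.node (.node (.node (.node (.leaf .df) (.leaf (.cyc (nat_lit 35) [(nat_lit 2412), (nat_lit 5756), (nat_lit 992), (nat_lit 993), (nat_lit 2716), (nat_lit 8248), (nat_lit 5248), (nat_lit 7159), (nat_lit 3034), (nat_lit 7403)]))) (.node (.leaf .df) (.leaf (.cyc (nat_lit 14) [(nat_lit 11775), (nat_lit 4151)])))) (.node (.node (.leaf .df) (.leaf (.cyc (nat_lit 28) [(nat_lit 3581), (nat_lit 10299)]))) (.node (.leaf (.cyc (nat_lit 5) [(nat_lit 1991), (nat_lit 1990)])) (.leaf .df)))) (.node (.node (.node (.leaf .df) (.leaf (.cyc (nat_lit 28) [(nat_lit 5633), (nat_lit 9275)]))) (.node (.leaf (.cyc (nat_lit 4) [(nat_lit 959), (nat_lit 320), (nat_lit 319), (nat_lit 5174), (nat_lit 5175)])) (.leaf .df))) (.node (.node (.leaf .df) (.leaf (.cyc (nat_lit 7) [(nat_lit 10891), (nat_lit 7508), (nat_lit 9945), (nat_lit 10031), (nat_lit 10030),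 (nat_lit 11101), (nat_lit 3901)]))) (.node (.leaf (.cyc (nat_lit 5) [(nat_lit 2894), (nat_lit 2893)])) (.leaf .df))))) (.node (.node (.node (.node (.leaf .df) (.leaf (.cyc (nat_lit 19) [(nat_lit 1808), (nat_lit 8760)]))) (.node (.leaf (.cyc (nat_lit 2) [(nat_lit 391), (nat_lit 390)])) (.leaf (.cyc (nat_lit 0) [(nat_lit 11258), (nat_lit 12858)])))) (.node (.node (.leaf .df) (.leaf (.cyc (nat_lit 2) [(nat_lit 3762), (nat_lit 3761)]))) (.node (.leaf (.cyc (nat_lit 6) [(nat_lit 6715), (nat_lit 5667)])) (.leaf .df)))) (.node (.node (.node (.leaf .df) (.leaf (.cyc (nat_lit 22) [(nat_lit 9787), (nat_lit 2446), (nat_lit 874), (nat_lit 4587), (nat_lit 876), (nat_lit 2451), (nat_lit 6670)]))) (.node (.leaf (.cyc (nat_lit 2) [(nat_lit 1460), (nat_lit 1459)])) (.leaf .df))) (.node (.node (.leaf .df) (.leaf (.cyc (nat_lit 20) [(nat_lit 2530), (nat_lit 5135), (nat_lit 5625), (nat_lit 9650), (nat_lit 8903), (nat_lit 6375), (nat_lit 11833)]))) (.node (.leaf (.cyc (nat_lit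 17) [(nat_lit 3282), (nat_lit 7739)])) (.leaf .df)))))) (.node (.node (.node (.node (.node (.leaf .df) (.leaf (.cyc (nat_lit 29) [(nat_lit 2237), (nat_lit 8506)]))) (.node (.leaf (.cyc (nat_lit 6) [(nat_lit 82), (nat_lit 81)])) (.leaf (.cyc (nat_lit 13) [(nat_lit 11804), (nat_lit 11632), (nat_lit 11713), (nat_lit 3593), (nat_lit 6901), (nat_lit 6904), (nat_lit 4210)])))) (.node (.node (.leaf .df) (.leaf (.cyc (nat_lit 13) [(nat_lit 10554), (nat_lit 2871), (nat_lit 1058), (nat_lit 1056), (nat_lit 7956), (nat_lit 5444), (nat_lit 3273)]))) (.node (.leaf (.cyc (nat_lit 28) [(nat_lit 1423), (nat_lit 6459)])) (.leaf .df)))) (.node (.node (.node (.leaf .df) (.leaf (.cyc (nat_lit 14) [(nat_lit 5751), (nat_lit 3371)]))) (.node (.leaf (.cyc (nat_lit 8) [(nat_lit 1175), (nat_lit 4673), (nat_lit 5432), (nat_lit 5021), (nat_lit 5430)])) (.leaf .df))) (.node (.node (.leaf .df) (.leaf (.cyc (nat_lit 10) [(nat_lit 9055), (nat_lit 9369), (nat_lit 8871), (nat_lit 3422),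 (nat_lit 11579)]))) (.node (.leaf (.cyc (nat_lit 6) [(nat_lit 3109), (nat_lit 7468)])) (.leaf .df))))) (.node (.node (.node (.node (.leaf .df) (.leaf (.cyc (nat_lit 3) [(nat_lit 7865), (nat_lit 9018), (nat_lit 1629), (nat_lit 4822), (nat_lit 4790), (nat_lit 1522)]))) (.node (.leaf (.cyc (nat_lit 6) [(nat_lit 685), (nat_lit 684)])) (.leaf (.cyc (nat_lit 20) [(nat_lit 4083), (nat_lit 4085), (nat_lit 13082), (nat_lit 3869), (nat_lit 5957), (nat_lit 3865), (nat_lit 13114)])))) (.node (.node (.leaf .df) (.leaf (.cyc (nat_lit 14) [(nat_lit 9992), (nat_lit 11067)]))) (.node (.leaf (.cyc (nat_lit 18) [(nat_lit 2635), (nat_lit 6971), (nat_lit 1505)])) (.leaf .df)))) (.node (.node (.node (.leaf .df) (.leaf (.cyc (nat_lit 0) [(nat_lit 10006), (nat_lit 10042)]))) (.node (.leaf (.cyc (nat_lit 1) [(nat_lit 5928), (nat_lit 1717)])) (.leaf .df))) (.node (.node (.leaf .df) (.leaf (.cyc (nat_lit 8) [(nat_lit 3350), (nat_lit 10622), (nat_lit 2010), (nat_lit 10625), (nat_lit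 4106)]))) (.node (.leaf (.cyc (nat_lit 18) [(nat_lit 7260), (nat_lit 7990)])) (.leaf .df))))))) (.node (.node (.node (.node (.node (.node (.leaf .df) (.leaf (.cyc (nat_lit 20) [(nat_lit 697), (nat_lit 226), (nat_lit 228), (nat_lit 702), (nat_lit 2005), (nat_lit 8304), (nat_lit 2247), (nat_lit 2245)]))) (.node (.leaf .df) (.leaf (.cyc (nat_lit 18) [(nat_lit 3820), (nat_lit 12475)])))) (.node (.node (.leaf .df) (.leaf (.cyc (nat_lit 8) [(nat_lit 3683), (nat_lit 3682), (nat_lit 10425), (nat_lit 3587), (nat_lit 3589)]))) (.node (.leaf (.cyc (nat_lit 28) [(nat_lit 6259), (nat_lit 6331)])) (.leaf .df)))) (.node (.node (.node (.leaf .df) (.leaf (.cyc (nat_lit 10) [(nat_lit 2922), (nat_lit 5289), (nat_lit 2926), (nat_lit 9399), (nat_lit 9400)]))) (.node (.leaf (.cyc (nat_lit 6) [(nat_lit 1104), (nat_lit 1103)])) (.leaf .df))) (.node (.node (.leaf .df) (.leaf (.cyc (nat_lit 4) [(nat_lit 3285), (nat_lit 6156), (nat_lit 9243), (nat_lit 2105), (nat_lit 11449)])))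 (.node (.leaf (.cyc (nat_lit 5) [(nat_lit 2994), (nat_lit 2993)])) (.leaf .df))))) (.node (.node (.node (.node (.leaf .df) (.leaf (.cyc (nat_lit 8) [(nat_lit 7411), (nat_lit 8661), (nat_lit 3015), (nat_lit 3014), (nat_lit 8881)]))) (.node (.leaf (.cyc (nat_lit 6) [(nat_lit 536), (nat_lit 535)])) (.leaf (.cyc (nat_lit 5) [(nat_lit 4291), (nat_lit 4290)])))) (.node (.node (.leaf .df) (.leaf (.cyc (nat_lit 18) [(nat_lit 2706), (nat_lit 10938), (nat_lit 3794)]))) (.node (.leaf (.cyc (nat_lit 5) [(nat_lit 2586), (nat_lit 2585)])) (.leaf .df)))) (.node (.node (.node (.leaf .df) (.leaf (.cyc (nat_lit 28) [(nat_lit 3451), (nat_lit 9915), (nat_lit 6420)]))) (.node (.leaf (.cyc (nat_lit 5) [(nat_lit 1571), (nat_lit 1570)])) (.leaf .df))) (.node (.node (.leaf .df) (.leaf (.cyc (nat_lit 4) [(nat_lit 4069), (nat_lit 10231), (nat_lit 3629), (nat_lit 11452), (nat_lit 11659)]))) (.node (.leaf (.cyc (nat_lit 18) [(nat_lit 6137), (nat_lit 7861), (nat_lit 1145)])) (.leaf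 .df)))))) (.node (.node (.node (.node (.node (.leaf .df) (.leaf (.cyc (nat_lit 11) [(nat_lit 1342), (nat_lit 458), (nat_lit 146), (nat_lit 143), (nat_lit 450), (nat_lit 1312), (nat_lit 8635)]))) (.node (.leaf (.cyc (nat_lit 1) [(nat_lit 4525), (nat_lit 242)])) (.leaf (.cyc (nat_lit 22) [(nat_lit 12246), (nat_lit 4142), (nat_lit 12729), (nat_lit 4237), (nat_lit 7015), (nat_lit 5415), (nat_lit 3023)])))) (.node (.node (.leaf .df) (.leaf (.cyc (nat_lit 25) [(nat_lit 3715), (nat_lit 10682)]))) (.node (.leaf (.cyc (nat_lit 7) [(nat_lit 2379), (nat_lit 848), (nat_lit 280), (nat_lit 282), (nat_lit 5076), (nat_lit 4650), (nat_lit 1111)])) (.leaf .df)))) (.node (.node (.node (.leaf .df) (.leaf (.cyc (nat_lit 8) [(nat_lit 7242), (nat_lit 9386), (nat_lit 6525), (nat_lit 9659), (nat_lit 9657)]))) (.node (.leaf (.cyc (nat_lit 10) [(nat_lit 502), (nat_lit 161), (nat_lit 159), (nat_lit 4727), (nat_lit 5563)])) (.leaf .df))) (.node (.node (.leaf .df) (.leaf (.cyc (nat_lit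 18) [(nat_lit 3968), (nat_lit 11707), (nat_lit 10320)]))) (.node (.leaf (.cyc (nat_lit 2) [(nat_lit 3232), (nat_lit 3231)])) (.leaf .df))))) (.node (.node (.node (.node (.leaf .df) (.leaf (.cyc (nat_lit 8) [(nat_lit 9147), (nat_lit 8463), (nat_lit 7336), (nat_lit 7338), (nat_lit 6226)]))) (.node (.leaf (.cyc (nat_lit 1) [(nat_lit 4738), (nat_lit 817)])) (.leaf (.cyc (nat_lit 7) [(nat_lit 12017), (nat_lit 12462), (nat_lit 12047), (nat_lit 3568), (nat_lit 12561), (nat_lit 12975), (nat_lit 4343)])))) (.node (.node (.leaf .df) (.leaf (.cyc (nat_lit 13) [(nat_lit 6387), (nat_lit 2188), (nat_lit 5004), (nat_lit 5942), (nat_lit 1709), (nat_lit 5959), (nat_lit 3872)]))) (.node (.leaf (.cyc (nat_lit 2) [(nat_lit 2747), (nat_lit 2746)])) (.leaf .df)))) (.node (.node (.node (.leaf .df) (.leaf (.cyc (nat_lit 25) [(nat_lit 9876), (nat_lit 10167)]))) (.node (.leaf (.cyc (nat_lit 1) [(nat_lit 6073), (nat_lit 1849)])) (.leaf .df))) (.node (.node (.leaf .df) (.leaf (.cyc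 (nat_lit 14) [(nat_lit 12160), (nat_lit 4132)]))) (.node (.leaf (.cyc (nat_lit 28) [(nat_lit 2311), (nat_lit 8122)])) (.leaf .df))))))))
noncomputable def c4P0011111 : BT Pf := (.node (.node (.node (.node (.node (.node (.node (.leaf .df) (.leaf (.cyc (nat_lit 17) [(nat_lit 6627), (nat_lit 8300)]))) (.node (.leaf .df) (.leaf (.cyc (nat_lit 10) [(nat_lit 4168), (nat_lit 2444), (nat_lit 11788), (nat_lit 11867), (nat_lit 11869)])))) (.node (.node (.leaf .df) (.leaf (.cyc (nat_lit 0) [(nat_lit 3672), (nat_lit 10363)]))) (.node (.leaf (.cyc (nat_lit 1) [(nat_lit 6251), (nat_lit 2061)])) (.leaf .df)))) (.node (.node (.node (.leaf .df) (.leaf (.cyc (nat_lit 13) [(nat_lit 7235), (nat_lit 9338), (nat_lit 1626), (nat_lit 565), (nat_lit 4488), (nat_lit 560), (nat_lit 5184), (nat_lit 2642)]))) (.node (.leaf (.cyc (nat_lit 29) [(nat_lit 749), (nat_lit 5242)])) (.leaf .df))) (.node (.node (.leaf .df) (.leaf (.cyc (nat_lit 18) [(nat_lit 7639), (nat_lit 11384)]))) (.node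 (.leaf (.cyc (nat_lit 6) [(nat_lit 7291), (nat_lit 5967)])) (.leaf .df))))) (.node (.node (.node (.node (.leaf .df) (.leaf (.cyc (nat_lit 17) [(nat_lit 2322), (nat_lit 8826)]))) (.node (.leaf (.cyc (nat_lit 5) [(nat_lit 463), (nat_lit 462)])) (.leaf (.cyc (nat_lit 8) [(nat_lit 4280), (nat_lit 12615), (nat_lit 12616), (nat_lit 12617), (nat_lit 10312)])))) (.node (.node (.leaf .df) (.leaf (.cyc (nat_lit 20) [(nat_lit 2036), (nat_lit 4946), (nat_lit 8934), (nat_lit 8931), (nat_lit 10446), (nat_lit 3301), (nat_lit 10875), (nat_lit 10874)]))) (.node (.leaf (.cyc (nat_lit 22) [(nat_lit 1755), (nat_lit 5526), (nat_lit 6778), (nat_lit 852), (nat_lit 4578), (nat_lit 845), (nat_lit 2369)])) (.leaf .df)))) (.node (.node (.node (.leaf .df) (.leaf (.cyc (nat_lit 9) [(nat_lit 9767), (nat_lit 9851), (nat_lit 3518), (nat_lit 5745), (nat_lit 9485), (nat_lit 9486)]))) (.node (.leaf (.cyc (nat_lit 6) [(nat_lit 5755), (nat_lit 5206)])) (.leaf .df))) (.node (.node (.leaf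 .df) (.leaf (.cyc (nat_lit 23) [(nat_lit 10838), (nat_lit 10869), (nat_lit 3778), (nat_lit 3779), (nat_lit 10877), (nat_lit 10879), (nat_lit 3703), (nat_lit 10883), (nat_lit 4055)]))) (.node (.leaf (.cyc (nat_lit 3) [(nat_lit 6360), (nat_lit 6358), (nat_lit 7803), (nat_lit 1661), (nat_lit 1663)])) (.leaf .df)))))) (.node (.node (.node (.node (.node (.leaf .df) (.leaf (.cyc (nat_lit 2) [(nat_lit 8571), (nat_lit 8162)]))) (.node (.leaf (.cyc (nat_lit 2) [(nat_lit 161), (nat_lit 160)])) (.leaf (.cyc (nat_lit 20) [(nat_lit 3821), (nat_lit 5915), (nat_lit 9204), (nat_lit 4025), (nat_lit 12667), (nat_lit 9794), (nat_lit 3532)])))) (.node (.node (.leaf .df) (.leaf (.cyc (nat_lit 28) [(nat_lit 3348), (nat_lit 10619), (nat_lit 6222)]))) (.node (.leaf (.cyc (nat_lit 9) [(nat_lit 1461), (nat_lit 4765), (nat_lit 4766), (nat_lit 820), (nat_lit 2312)])) (.leaf .df)))) (.node (.node (.node (.leaf .df) (.leaf (.cyc (nat_lit 19) [(nat_lit 5968), (nat_lit 9593)]))) (.node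 (.leaf (.cyc (nat_lit 0) [(nat_lit 4977), (nat_lit 5499)])) (.leaf .df))) (.node (.node (.leaf .df) (.leaf (.cyc (nat_lit 4) [(nat_lit 2434), (nat_lit 6649), (nat_lit 1970), (nat_lit 1973), (nat_lit 3988)]))) (.node (.leaf (.cyc (nat_lit 1) [(nat_lit 7539), (nat_lit 3179)])) (.leaf .df))))) (.node (.node (.node (.node (.leaf .df) (.leaf (.cyc (nat_lit 28) [(nat_lit 3145), (nat_lit 9083)]))) (.node (.leaf (.cyc (nat_lit 2) [(nat_lit 760), (nat_lit 4647)])) (.leaf (.cyc (nat_lit 3) [(nat_lit 12853), (nat_lit 4309), (nat_lit 13089), (nat_lit 13090), (nat_lit 4330)])))) (.node (.node (.leaf .df) (.leaf (.cyc (nat_lit 6) [(nat_lit 3845), (nat_lit 3844)]))) (.node (.leaf (.cyc (nat_lit 9) [(nat_lit 2720), (nat_lit 995), (nat_lit 333), (nat_lit 335), (nat_lit 999)])) (.leaf .df)))) (.node (.node (.node (.leaf .df) (.leaf (.cyc (nat_lit 8) [(nat_lit 6160), (nat_lit 7023), (nat_lit 2702), (nat_lit 6978), (nat_lit 10107), (nat_lit 3612)]))) (.node (.leaf (.cyc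 (nat_lit 2) [(nat_lit 1776), (nat_lit 1775)])) (.leaf .df))) (.node (.node (.leaf .df) (.leaf (.cyc (nat_lit 18) [(nat_lit 4114), (nat_lit 12154)]))) (.node (.leaf (.cyc (nat_lit 17) [(nat_lit 6843), (nat_lit 8057), (nat_lit 2799)])) (.leaf .df))))))) (.node (.node (.node (.node (.node (.node (.leaf .df) (.leaf (.cyc (nat_lit 19) [(nat_lit 2088), (nat_lit 8442)]))) (.node (.leaf .df) (.leaf (.cyc (nat_lit 11) [(nat_lit 3434), (nat_lit 5610), (nat_lit 6567), (nat_lit 3895), (nat_lit 11363), (nat_lit 11362), (nat_lit 4196)])))) (.node (.node (.leaf .df) (.leaf (.cyc (nat_lit 13) [(nat_lit 5741), (nat_lit 3633), (nat_lit 10491), (nat_lit 2148), (nat_lit 759), (nat_lit 4550), (nat_lit 761), (nat_lit 2154)]))) (.node (.leaf (.cyc (nat_lit 2) [(nat_lit 2194), (nat_lit 2193)])) (.leaf .df)))) (.node (.node (.node (.leaf .df) (.leaf (.cyc (nat_lit 10) [(nat_lit 2304), (nat_lit 5053), (nat_lit 5165), (nat_lit 2599), (nat_lit 7912)]))) (.node (.leaf (.cyc (nat_lit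 6) [(nat_lit 1175), (nat_lit 1174)])) (.leaf .df))) (.node (.node (.leaf .df) (.leaf (.cyc (nat_lit 22) [(nat_lit 3955), (nat_lit 6099), (nat_lit 7721), (nat_lit 919), (nat_lit 4597), (nat_lit 912), (nat_lit 2530)]))) (.node (.leaf (.cyc (nat_lit 6) [(nat_lit 3053), (nat_lit 3052)])) (.leaf .df))))) (.node (.node (.node (.node (.leaf .df) (.leaf (.cyc (nat_lit 31) [(nat_lit 1197), (nat_lit 4682), (nat_lit 1200), (nat_lit 8754), (nat_lit 5294), (nat_lit 5490), (nat_lit 5013), (nat_lit 2210)]))) (.node (.leaf (.cyc (nat_lit 2) [(nat_lit 612), (nat_lit 611)])) (.leaf (.cyc (nat_lit 22) [(nat_lit 13050), (nat_lit 11327), (nat_lit 3531), (nat_lit 5657), (nat_lit 9793), (nat_lit 9795), (nat_lit 12670)])))) (.node (.node (.leaf .df) (.leaf (.cyc (nat_lit 17) [(nat_lit 10208), (nat_lit 11001)]))) (.node (.leaf (.cyc (nat_lit 27) [(nat_lit 2632), (nat_lit 960), (nat_lit 4610), (nat_lit 4815), (nat_lit 1612), (nat_lit 5984), (nat_lit 5958)])) (.leaf .df)))) (.node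 (.node (.node (.leaf .df) (.leaf (.cyc (nat_lit 8) [(nat_lit 3561), (nat_lit 3559), (nat_lit 9972), (nat_lit 2163), (nat_lit 2164)]))) (.node (.leaf (.cyc (nat_lit 10) [(nat_lit 1637), (nat_lit 568), (nat_lit 4489), (nat_lit 570), (nat_lit 1642)])) (.leaf .df))) (.node (.node (.leaf .df) (.leaf (.cyc (nat_lit 2) [(nat_lit 4090), (nat_lit 11630)]))) (.node (.leaf (.cyc (nat_lit 29) [(nat_lit 1923), (nat_lit 7929)])) (.leaf .df)))))) (.node (.node (.node (.node (.node (.leaf .df) (.leaf (.cyc (nat_lit 29) [(nat_lit 8566), (nat_lit 8698)]))) (.node (.leaf (.cyc (nat_lit 8) [(nat_lit 314), (nat_lit 312), (nat_lit 4602), (nat_lit 262), (nat_lit 264)])) (.leaf (.cyc (nat_lit 10) [(nat_lit 12016), (nat_lit 2957), (nat_lit 5303), (nat_lit 2869), (nat_lit 4253)])))) (.node (.node (.leaf .df) (.leaf (.cyc (nat_lit 29) [(nat_lit 3747), (nat_lit 10746)]))) (.node (.leaf (.cyc (nat_lit 2) [(nat_lit 2438), (nat_lit 2437)])) (.leaf .df)))) (.node (.node (.node (.leaf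 .df) (.leaf (.cyc (nat_lit 17) [(nat_lit 2342), (nat_lit 9723)]))) (.node (.leaf (.cyc (nat_lit 2) [(nat_lit 1382), (nat_lit 5626)])) (.leaf .df))) (.node (.node (.leaf .df) (.leaf (.cyc (nat_lit 22) [(nat_lit 6988), (nat_lit 11770), (nat_lit 9228), (nat_lit 7430), (nat_lit 9424), (nat_lit 9421), (nat_lit 7391)]))) (.node (.leaf (.cyc (nat_lit 8) [(nat_lit 3292), (nat_lit 1252), (nat_lit 1254), (nat_lit 7606), (nat_lit 7605)])) (.leaf .df))))) (.node (.node (.node (.node (.leaf .df) (.leaf (.cyc (nat_lit 21) [(nat_lit 6225), (nat_lit 9209), (nat_lit 2055), (nat_lit 720), (nat_lit 717), (nat_lit 2043)]))) (.node (.leaf (.cyc (nat_lit 3) [(nat_lit 4712), (nat_lit 5114), (nat_lit 5113), (nat_lit 869), (nat_lit 871)])) (.leaf .df))) (.node (.node (.leaf .df) (.leaf (.cyc (nat_lit 15) [(nat_lit 11259), (nat_lit 7413), (nat_lit 8577), (nat_lit 7123), (nat_lit 6511), (nat_lit 998), (nat_lit 1000), (nat_lit 2728), (nat_lit 8601)]))) (.node (.leaf (.cyc (nat_lit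 3) [(nat_lit 7161), (nat_lit 2804), (nat_lit 1034), (nat_lit 1036), (nat_lit 2809)])) (.leaf .df)))) (.node (.node (.node (.leaf .df) (.leaf (.cyc (nat_lit 5) [(nat_lit 10234), (nat_lit 9426)]))) (.node (.leaf (.cyc (nat_lit 3) [(nat_lit 6139), (nat_lit 1928), (nat_lit 674), (nat_lit 4695), (nat_lit 1241)])) (.leaf .df))) (.node (.node (.leaf .df) (.leaf (.cyc (nat_lit 31) [(nat_lit 12104), (nat_lit 3542), (nat_lit 3540), (nat_lit 12064), (nat_lit 12062), (nat_lit 12282), (nat_lit 12283), (nat_lit 11371)]))) (.node (.leaf (.cyc (nat_lit 19) [(nat_lit 6064), (nat_lit 8183), (nat_lit 2813)])) (.leaf .df))))))))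
noncomputable def c4P001111 : BT Pf := .node c4P0011110 c4P0011111
noncomputable def c4P00111 : BT Pf := .node c4P001110 c4P001111
noncomputable def c4P0011 : BT Pf := .node c4P00110 c4P00111
noncomputable def c4P001 : BT Pf := .node c4P0010 c4P0011
noncomputable def c4P00 : BT Pf := .node c4P000 c4P001
noncomputable def c4P0100000 : BT Pf := (.node (.node (.node (.node (.node (.node (.node (.leaf .df) (.leaf (.cyc (nat_lit 25) [(nat_lit 6377), (nat_lit 8189)]))) (.node (.leaf .df) (.leaf (.cyc (nat_lit 1) [(nat_lit 7172), (nat_lit 4145)])))) (.node (.node (.leaf .df) (.leaf (.cyc (nat_lit 0) [(nat_lit 8804), (nat_lit 10241)]))) (.node (.leaf (.cyc (nat_lit 0) [(nat_lit 4954), (nat_lit 1933)])) (.leaf .df)))) (.node (.node (.node (.leaf .df) (.leaf (.cyc (nat_lit 17) [(nat_lit 7387), (nat_lit 9215), (nat_lit 2052)]))) (.node (.leaf (.cyc (nat_lit 2) [(nat_lit 895), (nat_lit 894)])) (.leaf .df))) (.node (.node (.leaf .df) (.leaf (.cyc (nat_lit 6) [(nat_lit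 3890), (nat_lit 3889)]))) (.node (.leaf (.cyc (nat_lit 0) [(nat_lit 6606), (nat_lit 2816)])) (.leaf .df))))) (.node (.node (.node (.node (.leaf .df) (.leaf (.cyc (nat_lit 18) [(nat_lit 6285), (nat_lit 8702), (nat_lit 3006)]))) (.node (.leaf (.cyc (nat_lit 6) [(nat_lit 322), (nat_lit 321)])) (.leaf (.cyc (nat_lit 6) [(nat_lit 12801), (nat_lit 11359)])))) (.node (.node (.leaf .df) (.leaf (.cyc (nat_lit 21) [(nat_lit 8910), (nat_lit 10753), (nat_lit 3749), (nat_lit 1602), (nat_lit 1600), (nat_lit 3744)]))) (.node (.leaf (.cyc (nat_lit 3) [(nat_lit 6657), (nat_lit 2445), (nat_lit 874), (nat_lit 4745), (nat_lit 1386)])) (.leaf .df)))) (.node (.node (.node (.leaf .df) (.leaf (.cyc (nat_lit 18) [(nat_lit 7509), (nat_lit 9729)]))) (.node (.leaf (.cyc (nat_lit 6) [(nat_lit 1393), (nat_lit 1392)])) (.leaf .df))) (.node (.node (.leaf .df) (.leaf (.cyc (nat_lit 0) [(nat_lit 11588), (nat_lit 11777)]))) (.node (.leaf (.cyc (nat_lit 0) [(nat_lit 3296), (nat_lit 7680)]))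 (.leaf .df)))))) (.node (.node (.node (.node (.node (.leaf .df) (.leaf (.cyc (nat_lit 19) [(nat_lit 2343), (nat_lit 8446)]))) (.node (.leaf (.cyc (nat_lit 2) [(nat_lit 4), (nat_lit 3)])) (.leaf (.cyc (nat_lit 20) [(nat_lit 10604), (nat_lit 3002), (nat_lit 10611), (nat_lit 8255), (nat_lit 6620), (nat_lit 10308), (nat_lit 12543)])))) (.node (.node (.leaf .df) (.leaf (.cyc (nat_lit 3) [(nat_lit 10487), (nat_lit 10489), (nat_lit 10485), (nat_lit 10409), (nat_lit 3400), (nat_lit 3402)]))) (.node (.leaf (.cyc (nat_lit 4) [(nat_lit 5497), (nat_lit 507), (nat_lit 4985), (nat_lit 781), (nat_lit 2202)])) (.leaf .df)))) (.node (.node (.node (.leaf .df) (.leaf (.cyc (nat_lit 6) [(nat_lit 9473), (nat_lit 9188)]))) (.node (.leaf (.cyc (nat_lit 2) [(nat_lit 1184), (nat_lit 1183)])) (.leaf .df))) (.node (.node (.leaf .df) (.leaf (.cyc (nat_lit 0) [(nat_lit 6853), (nat_lit 11520)]))) (.node (.leaf (.cyc (nat_lit 30) [(nat_lit 3054), (nat_lit 5340), (nat_lit 3058), (nat_lit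 7425), (nat_lit 2397), (nat_lit 5091), (nat_lit 2399), (nat_lit 6607), (nat_lit 2395), (nat_lit 2393)])) (.leaf .df))))) (.node (.node (.node (.node (.leaf .df) (.leaf (.cyc (nat_lit 19) [(nat_lit 7341), (nat_lit 8957)]))) (.node (.leaf (.cyc (nat_lit 2) [(nat_lit 620), (nat_lit 619)])) (.leaf (.cyc (nat_lit 6) [(nat_lit 13057), (nat_lit 13055)])))) (.node (.node (.leaf .df) (.leaf (.cyc (nat_lit 5) [(nat_lit 3810), (nat_lit 3809)]))) (.node (.leaf (.cyc (nat_lit 6) [(nat_lit 2639), (nat_lit 2638)])) (.leaf .df)))) (.node (.node (.node (.leaf .df) (.leaf (.cyc (nat_lit 6) [(nat_lit 3569), (nat_lit 3568)]))) (.node (.leaf (.cyc (nat_lit 6) [(nat_lit 1650), (nat_lit 1649)])) (.leaf .df))) (.node (.node (.leaf .df) (.leaf (.cyc (nat_lit 19) [(nat_lit 3215), (nat_lit 12032)]))) (.node (.leaf (.cyc (nat_lit 19) [(nat_lit 5265), (nat_lit 7934), (nat_lit 5445)])) (.leaf .df))))))) (.node (.node (.node (.node (.node (.node (.leaf .df) (.leaf (.cyc (nat_lit 25)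 [(nat_lit 6595), (nat_lit 8315), (nat_lit 6233)]))) (.node (.leaf .df) (.leaf (.cyc (nat_lit 18) [(nat_lit 4026), (nat_lit 12417)])))) (.node (.node (.leaf .df) (.leaf (.cyc (nat_lit 19) [(nat_lit 7324), (nat_lit 10366)]))) (.node (.leaf (.cyc (nat_lit 10) [(nat_lit 2064), (nat_lit 727), (nat_lit 4537), (nat_lit 729), (nat_lit 2070)])) (.leaf .df)))) (.node (.node (.node (.leaf .df) (.leaf (.cyc (nat_lit 18) [(nat_lit 2643), (nat_lit 9345)]))) (.node (.leaf (.cyc (nat_lit 5) [(nat_lit 1038), (nat_lit 1037)])) (.leaf .df))) (.node (.node (.leaf .df) (.leaf (.cyc (nat_lit 7) [(nat_lit 11393), (nat_lit 2867), (nat_lit 5266), (nat_lit 2862), (nat_lit 7967), (nat_lit 9628), (nat_lit 10784)]))) (.node (.leaf (.cyc (nat_lit 29) [(nat_lit 2853), (nat_lit 7296)])) (.leaf .df))))) (.node (.node (.node (.node (.leaf .df) (.leaf (.cyc (nat_lit 28) [(nat_lit 8076), (nat_lit 8831), (nat_lit 2317)]))) (.node (.leaf (.cyc (nat_lit 4) [(nat_lit 465), (nat_lit 4465), (nat_lit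 4737), (nat_lit 271), (nat_lit 269)])) (.leaf (.cyc (nat_lit 4) [(nat_lit 11441), (nat_lit 9080), (nat_lit 9081), (nat_lit 7477), (nat_lit 4281)])))) (.node (.node (.leaf .df) (.leaf (.cyc (nat_lit 8) [(nat_lit 10875), (nat_lit 10880), (nat_lit 2108), (nat_lit 4972), (nat_lit 2112)]))) (.node (.leaf (.cyc (nat_lit 5) [(nat_lit 2531), (nat_lit 2530)])) (.leaf .df)))) (.node (.node (.node (.leaf .df) (.leaf (.cyc (nat_lit 2) [(nat_lit 9857), (nat_lit 9752)]))) (.node (.leaf (.cyc (nat_lit 17) [(nat_lit 1481), (nat_lit 5761)])) (.leaf .df))) (.node (.node (.leaf .df) (.leaf (.cyc (nat_lit 29) [(nat_lit 11899), (nat_lit 11904)]))) (.node (.leaf (.cyc (nat_lit 19) [(nat_lit 3250), (nat_lit 7808)])) (.leaf .df)))))) (.node (.node (.node (.node (.node (.leaf .df) (.leaf (.cyc (nat_lit 3) [(nat_lit 3047), (nat_lit 3045), (nat_lit 8577), (nat_lit 7123), (nat_lit 6511), (nat_lit 2726)]))) (.node (.leaf (.cyc (nat_lit 2) [(nat_lit 171), (nat_lit 170)])) (.leaf (.cyc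 (nat_lit 3) [(nat_lit 9795), (nat_lit 12673), (nat_lit 12672), (nat_lit 12531), (nat_lit 8424), (nat_lit 3770)])))) (.node (.node (.leaf .df) (.leaf (.cyc (nat_lit 1) [(nat_lit 9582), (nat_lit 3710)]))) (.node (.leaf (.cyc (nat_lit 9) [(nat_lit 2321), (nat_lit 825), (nat_lit 4571), (nat_lit 822), (nat_lit 2315)])) (.leaf .df)))) (.node (.node (.node (.leaf .df) (.leaf (.cyc (nat_lit 8) [(nat_lit 9599), (nat_lit 9597), (nat_lit 5750), (nat_lit 5210), (nat_lit 7042)]))) (.node (.leaf (.cyc (nat_lit 17) [(nat_lit 5116), (nat_lit 5502)])) (.leaf .df))) (.node (.node (.leaf .df) (.leaf (.cyc (nat_lit 0) [(nat_lit 3988), (nat_lit 11649)]))) (.node (.leaf (.cyc (nat_lit 4) [(nat_lit 3186), (nat_lit 5402), (nat_lit 5411), (nat_lit 1213), (nat_lit 1211)])) (.leaf .df))))) (.node (.node (.node (.node (.leaf .df) (.leaf (.cyc (nat_lit 13) [(nat_lit 9085), (nat_lit 9087), (nat_lit 2641), (nat_lit 963), (nat_lit 961), (nat_lit 2633), (nat_lit 6909), (nat_lit 2655)])))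 (.node (.leaf (.cyc (nat_lit 29) [(nat_lit 483), (nat_lit 4992)])) (.leaf (.cyc (nat_lit 13) [(nat_lit 11127), (nat_lit 11837), (nat_lit 3523), (nat_lit 6392), (nat_lit 1966), (nat_lit 9866), (nat_lit 4331)])))) (.node (.node (.leaf .df) (.leaf (.cyc (nat_lit 2) [(nat_lit 3847), (nat_lit 3846)]))) (.node (.leaf (.cyc (nat_lit 1) [(nat_lit 2720), (nat_lit 7041)])) (.leaf .df)))) (.node (.node (.node (.leaf .df) (.leaf (.cyc (nat_lit 8) [(nat_lit 3529), (nat_lit 3527), (nat_lit 10113), (nat_lit 5729), (nat_lit 3613)]))) (.node (.leaf (.cyc (nat_lit 5) [(nat_lit 1785), (nat_lit 5548)])) (.leaf .df))) (.node (.node (.leaf .df) (.leaf (.cyc (nat_lit 13) [(nat_lit 4117), (nat_lit 6469), (nat_lit 11152), (nat_lit 7170), (nat_lit 7171), (nat_lit 6579), (nat_lit 11801)]))) (.node (.leaf (.cyc (nat_lit 19) [(nat_lit 7652), (nat_lit 8063)])) (.leaf .df))))))))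
noncomputable def c4P0100001 : BT Pf := (.node (.node (.node (.node (.node (.node (.node (.leaf .df) (.leaf (.cyc (nat_lit 28) [(nat_lit 3035), (nat_lit 8257)]))) (.node (.leaf .df) (.leaf (.cyc (nat_lit 13) [(nat_lit 3953), (nat_lit 11507), (nat_lit 8572), (nat_lit 7424), (nat_lit 7429), (nat_lit 7425), (nat_lit 4153)])))) (.node (.node (.leaf .df) (.leaf (.cyc (nat_lit 8) [(nat_lit 1906), (nat_lit 1905), (nat_lit 9452), (nat_lit 3580), (nat_lit 10304)]))) (.node (.leaf (.cyc (nat_lit 20) [(nat_lit 1956), (nat_lit 685), (nat_lit 223), (nat_lit 4402), (nat_lit 227), (nat_lit 698), (nat_lit 1996)])) (.leaf .df)))) (.node (.node (.node (.leaf .df) (.leaf (.cyc (nat_lit 20) [(nat_lit 3230), (nat_lit 5420), (nat_lit 8747), (nat_lit 628), (nat_lit 629), (nat_lit 1811), (nat_lit 9280), (nat_lit 7498)]))) (.node (.leaf (.cyc (nat_lit 2) [(nat_lit 965), (nat_lit 5047)])) (.leaf .df))) (.node (.node (.leaf .df) (.leaf (.cyc (nat_lit 9) [(nat_lit 10041), (nat_lit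 11003), (nat_lit 11005), (nat_lit 9802), (nat_lit 3903)]))) (.node (.leaf (.cyc (nat_lit 5) [(nat_lit 2902), (nat_lit 2901)])) (.leaf .df))))) (.node (.node (.node (.node (.leaf .df) (.leaf (.cyc (nat_lit 29) [(nat_lit 1836), (nat_lit 8766)]))) (.node (.leaf (.cyc (nat_lit 6) [(nat_lit 400), (nat_lit 399)])) (.leaf (.cyc (nat_lit 0) [(nat_lit 12014), (nat_lit 4266)])))) (.node (.node (.leaf .df) (.leaf (.cyc (nat_lit 8) [(nat_lit 10815), (nat_lit 3558), (nat_lit 3561), (nat_lit 10412), (nat_lit 9968)]))) (.node (.leaf (.cyc (nat_lit 20) [(nat_lit 1115), (nat_lit 4659), (nat_lit 4450), (nat_lit 5392), (nat_lit 4589), (nat_lit 881), (nat_lit 2459)])) (.leaf .df)))) (.node (.node (.node (.leaf .df) (.leaf (.cyc (nat_lit 3) [(nat_lit 9793), (nat_lit 3478), (nat_lit 1389), (nat_lit 5193), (nat_lit 2667)]))) (.node (.leaf (.cyc (nat_lit 18) [(nat_lit 821), (nat_lit 5697)])) (.leaf .df))) (.node (.node (.leaf .df) (.leaf (.cyc (nat_lit 1) [(nat_lit 8717), (nat_lit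 4040)]))) (.node (.leaf (.cyc (nat_lit 17) [(nat_lit 7644), (nat_lit 7744), (nat_lit 1149)])) (.leaf .df)))))) (.node (.node (.node (.node (.node (.leaf .df) (.leaf (.cyc (nat_lit 19) [(nat_lit 6821), (nat_lit 8510)]))) (.node (.leaf (.cyc (nat_lit 6) [(nat_lit 90), (nat_lit 89)])) (.leaf (.cyc (nat_lit 2) [(nat_lit 4212), (nat_lit 10521)])))) (.node (.node (.leaf .df) (.leaf (.cyc (nat_lit 6) [(nat_lit 10560), (nat_lit 6322)]))) (.node (.leaf (.cyc (nat_lit 0) [(nat_lit 5585), (nat_lit 2269)])) (.leaf .df)))) (.node (.node (.node (.leaf .df) (.leaf (.cyc (nat_lit 14) [(nat_lit 8679), (nat_lit 3374)]))) (.node (.leaf (.cyc (nat_lit 2) [(nat_lit 1237), (nat_lit 1236)])) (.leaf .df))) (.node (.node (.leaf .df) (.leaf (.cyc (nat_lit 4) [(nat_lit 3971), (nat_lit 9193), (nat_lit 5912), (nat_lit 6089), (nat_lit 3936)]))) (.node (.leaf (.cyc (nat_lit 4) [(nat_lit 5378), (nat_lit 5379), (nat_lit 5373), (nat_lit 5372), (nat_lit 3120)])) (.leaf .df))))) (.node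 (.node (.node (.node (.leaf .df) (.leaf (.cyc (nat_lit 25) [(nat_lit 7456), (nat_lit 9025), (nat_lit 5785)]))) (.node (.leaf (.cyc (nat_lit 6) [(nat_lit 695), (nat_lit 694)])) (.leaf (.cyc (nat_lit 22) [(nat_lit 4317), (nat_lit 3388), (nat_lit 3386), (nat_lit 11458), (nat_lit 2062), (nat_lit 2064), (nat_lit 11618)])))) (.node (.node (.leaf .df) (.leaf (.cyc (nat_lit 16) [(nat_lit 10277), (nat_lit 5980), (nat_lit 6778), (nat_lit 2392), (nat_lit 6782), (nat_lit 1739), (nat_lit 8179), (nat_lit 3413), (nat_lit 11072), (nat_lit 11073)]))) (.node (.leaf (.cyc (nat_lit 3) [(nat_lit 6965), (nat_lit 2650), (nat_lit 967), (nat_lit 969), (nat_lit 2659)])) (.leaf .df)))) (.node (.node (.node (.leaf .df) (.leaf (.cyc (nat_lit 13) [(nat_lit 3582), (nat_lit 7313), (nat_lit 10049), (nat_lit 3469), (nat_lit 1385), (nat_lit 4745), (nat_lit 873), (nat_lit 2443)]))) (.node (.leaf (.cyc (nat_lit 5) [(nat_lit 1724), (nat_lit 5530)])) (.leaf .df))) (.node (.node (.leaf .df)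 (.leaf (.cyc (nat_lit 9) [(nat_lit 9555), (nat_lit 12089), (nat_lit 4105), (nat_lit 6412), (nat_lit 4107)]))) (.node (.leaf (.cyc (nat_lit 28) [(nat_lit 2850), (nat_lit 7999)])) (.leaf .df))))))) (.node (.node (.node (.node (.node (.node (.leaf .df) (.leaf (.cyc (nat_lit 28) [(nat_lit 1993), (nat_lit 8382)]))) (.node (.leaf .df) (.leaf (.cyc (nat_lit 1) [(nat_lit 11979), (nat_lit 12481)])))) (.node (.node (.leaf .df) (.leaf (.cyc (nat_lit 1) [(nat_lit 8484), (nat_lit 3684)]))) (.node (.leaf (.cyc (nat_lit 6) [(nat_lit 2144), (nat_lit 2143)])) (.leaf .df)))) (.node (.node (.node (.leaf .df) (.leaf (.cyc (nat_lit 20) [(nat_lit 7117), (nat_lit 9372), (nat_lit 1192), (nat_lit 4680), (nat_lit 1195), (nat_lit 3172), (nat_lit 9408), (nat_lit 7126)]))) (.node (.leaf (.cyc (nat_lit 3) [(nat_lit 4694), (nat_lit 4693), (nat_lit 671), (nat_lit 4911), (nat_lit 1109)])) (.leaf .df))) (.node (.node (.leaf .df) (.leaf (.cyc (nat_lit 19) [(nat_lit 11224), (nat_lit 11456)])))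 (.node (.leaf (.cyc (nat_lit 8) [(nat_lit 2010), (nat_lit 2008), (nat_lit 7359), (nat_lit 3000), (nat_lit 3002)])) (.leaf .df))))) (.node (.node (.node (.node (.leaf .df) (.leaf (.cyc (nat_lit 28) [(nat_lit 8068), (nat_lit 8897)]))) (.node (.leaf (.cyc (nat_lit 5) [(nat_lit 544), (nat_lit 543)])) (.leaf (.cyc (nat_lit 20) [(nat_lit 3733), (nat_lit 1589), (nat_lit 8610), (nat_lit 3371), (nat_lit 12946), (nat_lit 12948), (nat_lit 12992)])))) (.node (.node (.leaf .df) (.leaf (.cyc (nat_lit 25) [(nat_lit 9515), (nat_lit 10943)]))) (.node (.leaf (.cyc (nat_lit 13) [(nat_lit 6849), (nat_lit 2198), (nat_lit 779), (nat_lit 4982), (nat_lit 4983), (nat_lit 4708), (nat_lit 1282)])) (.leaf .df)))) (.node (.node (.node (.leaf .df) (.leaf (.cyc (nat_lit 25) [(nat_lit 3452), (nat_lit 9919)]))) (.node (.leaf (.cyc (nat_lit 6) [(nat_lit 1580), (nat_lit 1579)])) (.leaf .df))) (.node (.node (.leaf .df) (.leaf (.cyc (nat_lit 21) [(nat_lit 11325), (nat_lit 11323), (nat_lit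 11254), (nat_lit 6378), (nat_lit 4071)]))) (.node (.leaf (.cyc (nat_lit 28) [(nat_lit 3077), (nat_lit 7872)])) (.leaf .df)))))) (.node (.node (.node (.node (.node (.leaf .df) (.leaf (.cyc (nat_lit 25) [(nat_lit 3027), (nat_lit 8641), (nat_lit 8618)]))) (.node (.leaf (.cyc (nat_lit 2) [(nat_lit 244), (nat_lit 243)])) (.leaf (.cyc (nat_lit 14) [(nat_lit 12584), (nat_lit 4240)])))) (.node (.node (.leaf .df) (.leaf (.cyc (nat_lit 29) [(nat_lit 10643), (nat_lit 10688)]))) (.node (.leaf (.cyc (nat_lit 5) [(nat_lit 2383), (nat_lit 2382)])) (.leaf .df)))) (.node (.node (.node (.leaf .df) (.leaf (.cyc (nat_lit 2) [(nat_lit 3428), (nat_lit 3427)]))) (.node (.leaf (.cyc (nat_lit 6) [(nat_lit 1318), (nat_lit 1317)])) (.leaf .df))) (.node (.node (.leaf .df) (.leaf (.cyc (nat_lit 1) [(nat_lit 10047), (nat_lit 11712)]))) (.node (.leaf (.cyc (nat_lit 23) [(nat_lit 1240), (nat_lit 422), (nat_lit 4453), (nat_lit 4445), (nat_lit 388), (nat_lit 4664), (nat_lit 417), (nat_lit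 1225), (nat_lit 3241)])) (.leaf .df))))) (.node (.node (.node (.node (.leaf .df) (.leaf (.cyc (nat_lit 30) [(nat_lit 2840), (nat_lit 2842), (nat_lit 9153), (nat_lit 1544), (nat_lit 534), (nat_lit 536), (nat_lit 1548), (nat_lit 5802), (nat_lit 2475)]))) (.node (.leaf (.cyc (nat_lit 5) [(nat_lit 825), (nat_lit 824)])) (.leaf (.cyc (nat_lit 13) [(nat_lit 13007), (nat_lit 10442), (nat_lit 9978), (nat_lit 10410), (nat_lit 5826), (nat_lit 3731), (nat_lit 4344)])))) (.node (.node (.leaf .df) (.leaf (.cyc (nat_lit 1) [(nat_lit 10660), (nat_lit 11200)]))) (.node (.leaf (.cyc (nat_lit 6) [(nat_lit 2753), (nat_lit 2752)])) (.leaf .df)))) (.node (.node (.node (.leaf .df) (.leaf (.cyc (nat_lit 31) [(nat_lit 10162), (nat_lit 9291), (nat_lit 10165), (nat_lit 904), (nat_lit 4592), (nat_lit 907), (nat_lit 2515)]))) (.node (.leaf (.cyc (nat_lit 5) [(nat_lit 1859), (nat_lit 1858)])) (.leaf .df))) (.node (.node (.leaf .df) (.leaf (.cyc (nat_lit 6) [(nat_lit 12225), (nat_lit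 7052)]))) (.node (.leaf (.cyc (nat_lit 8) [(nat_lit 5593), (nat_lit 8129), (nat_lit 2824), (nat_lit 8128), (nat_lit 7309)])) (.leaf .df))))))))
noncomputable def c4P010000 : BT Pf := .node c4P0100000 c4P0100001
noncomputable def c4P0100010 : BT Pf := (.node (.node (.node (.node (.node (.node (.node (.leaf .df) (.leaf (.cyc (nat_lit 25) [(nat_lit 1130), (nat_lit 8218)]))) (.node (.leaf .df) (.leaf (.cyc (nat_lit 2) [(nat_lit 12318), (nat_lit 11994)])))) (.node (.node (.leaf .df) (.leaf (.cyc (nat_lit 14) [(nat_lit 6544), (nat_lit 3645)]))) (.node (.leaf (.cyc (nat_lit 5) [(nat_lit 1965), (nat_lit 1964)])) (.leaf .df)))) (.node (.node (.node (.leaf .df) (.leaf (.cyc (nat_lit 19) [(nat_lit 6319), (nat_lit 9245)]))) (.node (.leaf (.cyc (nat_lit 2) [(nat_lit 929), (nat_lit 928)])) (.leaf .df))) (.node (.node (.leaf .df) (.leaf (.cyc (nat_lit 29) [(nat_lit 3524), (nat_lit 11296)]))) (.node (.leaf (.cyc (nat_lit 5) [(nat_lit 2869), (nat_lit 2868)])) (.leaf .df)))))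 (.node (.node (.node (.node (.leaf .df) (.leaf (.cyc (nat_lit 19) [(nat_lit 3229), (nat_lit 8729)]))) (.node (.leaf (.cyc (nat_lit 1) [(nat_lit 4577), (nat_lit 366)])) (.leaf (.cyc (nat_lit 4) [(nat_lit 3850), (nat_lit 7154), (nat_lit 12791), (nat_lit 12789), (nat_lit 12832)])))) (.node (.node (.leaf .df) (.leaf (.cyc (nat_lit 20) [(nat_lit 9760), (nat_lit 6406), (nat_lit 5294), (nat_lit 8148), (nat_lit 6893), (nat_lit 9588), (nat_lit 10781)]))) (.node (.leaf (.cyc (nat_lit 0) [(nat_lit 6273), (nat_lit 6689)])) (.leaf .df)))) (.node (.node (.node (.leaf .df) (.leaf (.cyc (nat_lit 11) [(nat_lit 1379), (nat_lit 1377), (nat_lit 3459), (nat_lit 9742), (nat_lit 9754), (nat_lit 6000), (nat_lit 6340)]))) (.node (.leaf (.cyc (nat_lit 14) [(nat_lit 5647), (nat_lit 1429)])) (.leaf .df))) (.node (.node (.leaf .df) (.leaf (.cyc (nat_lit 8) [(nat_lit 3953), (nat_lit 3951), (nat_lit 11807), (nat_lit 4030), (nat_lit 4031)]))) (.node (.leaf (.cyc (nat_lit 6) [(nat_lit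 3318), (nat_lit 3317)])) (.leaf .df)))))) (.node (.node (.node (.node (.node (.leaf .df) (.leaf (.cyc (nat_lit 7) [(nat_lit 2340), (nat_lit 831), (nat_lit 4572), (nat_lit 5043), (nat_lit 613), (nat_lit 1761), (nat_lit 8480)]))) (.node (.leaf (.cyc (nat_lit 5) [(nat_lit 49), (nat_lit 48)])) (.leaf (.cyc (nat_lit 19) [(nat_lit 11138), (nat_lit 12576)])))) (.node (.node (.leaf .df) (.leaf (.cyc (nat_lit 25) [(nat_lit 8377), (nat_lit 10527)]))) (.node (.leaf (.cyc (nat_lit 5) [(nat_lit 2244), (nat_lit 2243)])) (.leaf .df)))) (.node (.node (.node (.leaf .df) (.leaf (.cyc (nat_lit 6) [(nat_lit 3352), (nat_lit 3351)]))) (.node (.leaf (.cyc (nat_lit 9) [(nat_lit 983), (nat_lit 5401), (nat_lit 410), (nat_lit 411), (nat_lit 1213)])) (.leaf .df))) (.node (.node (.leaf .df) (.leaf (.cyc (nat_lit 6) [(nat_lit 11552), (nat_lit 7434)]))) (.node (.leaf (.cyc (nat_lit 4) [(nat_lit 3079), (nat_lit 1152), (nat_lit 5351), (nat_lit 5352), (nat_lit 5365)])) (.leaf .df)))))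 (.node (.node (.node (.node (.leaf .df) (.leaf (.cyc (nat_lit 19) [(nat_lit 8689), (nat_lit 8987), (nat_lit 1585)]))) (.node (.leaf (.cyc (nat_lit 1) [(nat_lit 4810), (nat_lit 659)])) (.leaf (.cyc (nat_lit 3) [(nat_lit 13089), (nat_lit 13087), (nat_lit 12651), (nat_lit 12649), (nat_lit 12457)])))) (.node (.node (.leaf .df) (.leaf (.cyc (nat_lit 19) [(nat_lit 6487), (nat_lit 11040)]))) (.node (.leaf (.cyc (nat_lit 19) [(nat_lit 6694), (nat_lit 6944)])) (.leaf .df)))) (.node (.node (.node (.leaf .df) (.leaf (.cyc (nat_lit 8) [(nat_lit 3324), (nat_lit 1270), (nat_lit 5148), (nat_lit 2545), (nat_lit 10017)]))) (.node (.leaf (.cyc (nat_lit 5) [(nat_lit 1689), (nat_lit 1688)])) (.leaf .df))) (.node (.node (.leaf .df) (.leaf (.cyc (nat_lit 1) [(nat_lit 9772), (nat_lit 4099)]))) (.node (.leaf (.cyc (nat_lit 3) [(nat_lit 2896), (nat_lit 2894), (nat_lit 7969), (nat_lit 2869), (nat_lit 5303), (nat_lit 2956)])) (.leaf .df))))))) (.node (.node (.node (.node (.node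 (.node (.leaf .df) (.leaf (.cyc (nat_lit 3) [(nat_lit 775), (nat_lit 773), (nat_lit 6320), (nat_lit 8334), (nat_lit 5086), (nat_lit 2381)]))) (.node (.leaf .df) (.leaf (.cyc (nat_lit 3) [(nat_lit 12449), (nat_lit 10145), (nat_lit 6122), (nat_lit 7647), (nat_lit 11534)])))) (.node (.node (.leaf .df) (.leaf (.cyc (nat_lit 8) [(nat_lit 9970), (nat_lit 10398), (nat_lit 2236), (nat_lit 10400), (nat_lit 7198)]))) (.node (.leaf (.cyc (nat_lit 2) [(nat_lit 2110), (nat_lit 2109)])) (.leaf .df)))) (.node (.node (.node (.leaf .df) (.leaf (.cyc (nat_lit 34) [(nat_lit 6344), (nat_lit 8143), (nat_lit 8138), (nat_lit 5997), (nat_lit 8753), (nat_lit 8741), (nat_lit 1801), (nat_lit 8746), (nat_lit 3177), (nat_lit 3175)]))) (.node (.leaf (.cyc (nat_lit 8) [(nat_lit 5172), (nat_lit 5173), (nat_lit 361), (nat_lit 360), (nat_lit 1075)])) (.leaf .df))) (.node (.node (.leaf .df) (.leaf (.cyc (nat_lit 3) [(nat_lit 3429), (nat_lit 5609), (nat_lit 5058), (nat_lit 8828), (nat_lit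 11424)]))) (.node (.leaf (.cyc (nat_lit 8) [(nat_lit 2979), (nat_lit 6234), (nat_lit 6233), (nat_lit 6208), (nat_lit 6669)])) (.leaf .df))))) (.node (.node (.node (.node (.leaf .df) (.leaf (.cyc (nat_lit 22) [(nat_lit 6827), (nat_lit 8863), (nat_lit 2238), (nat_lit 793), (nat_lit 4559), (nat_lit 786), (nat_lit 2219)]))) (.node (.leaf (.cyc (nat_lit 5) [(nat_lit 505), (nat_lit 504)])) (.leaf (.cyc (nat_lit 31) [(nat_lit 5632), (nat_lit 3474), (nat_lit 12264), (nat_lit 12961), (nat_lit 11754), (nat_lit 3995), (nat_lit 6190), (nat_lit 3998)])))) (.node (.node (.leaf .df) (.leaf (.cyc (nat_lit 2) [(nat_lit 10912), (nat_lit 10176)]))) (.node (.leaf (.cyc (nat_lit 0) [(nat_lit 5620), (nat_lit 2566)])) (.leaf .df)))) (.node (.node (.node (.leaf .df) (.leaf (.cyc (nat_lit 6) [(nat_lit 3539), (nat_lit 6394)]))) (.node (.leaf (.cyc (nat_lit 5) [(nat_lit 1541), (nat_lit 1540)])) (.leaf .df))) (.node (.node (.leaf .df) (.leaf (.cyc (nat_lit 9) [(nat_lit 9879), (nat_lit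 3530), (nat_lit 10175), (nat_lit 10914), (nat_lit 11937)]))) (.node (.leaf (.cyc (nat_lit 33) [(nat_lit 4756), (nat_lit 947), (nat_lit 7755), (nat_lit 1232), (nat_lit 419), (nat_lit 417), (nat_lit 1226), (nat_lit 3243)])) (.leaf .df)))))) (.node (.node (.node (.node (.node (.leaf .df) (.leaf (.cyc (nat_lit 28) [(nat_lit 5739), (nat_lit 8609)]))) (.node (.leaf (.cyc (nat_lit 3) [(nat_lit 215), (nat_lit 66), (nat_lit 4364), (nat_lit 4373), (nat_lit 113)])) (.leaf (.cyc (nat_lit 20) [(nat_lit 11471), (nat_lit 11467), (nat_lit 6556), (nat_lit 3781), (nat_lit 12704), (nat_lit 4233), (nat_lit 12366)])))) (.node (.node (.leaf .df) (.leaf (.cyc (nat_lit 2) [(nat_lit 3728), (nat_lit 3727)]))) (.node (.leaf (.cyc (nat_lit 4) [(nat_lit 5611), (nat_lit 5744), (nat_lit 1493), (nat_lit 5071), (nat_lit 2357)])) (.leaf .df)))) (.node (.node (.node (.leaf .df) (.leaf (.cyc (nat_lit 2) [(nat_lit 3410), (nat_lit 3409)]))) (.node (.leaf (.cyc (nat_lit 5) [(nat_lit 1296),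 (nat_lit 1295)])) (.leaf .df))) (.node (.node (.leaf .df) (.leaf (.cyc (nat_lit 17) [(nat_lit 11678), (nat_lit 11680)]))) (.node (.leaf (.cyc (nat_lit 8) [(nat_lit 2683), (nat_lit 6960), (nat_lit 1012), (nat_lit 2748), (nat_lit 7585)])) (.leaf .df))))) (.node (.node (.node (.node (.leaf .df) (.leaf (.cyc (nat_lit 27) [(nat_lit 7380), (nat_lit 9121), (nat_lit 5260), (nat_lit 2837), (nat_lit 8971), (nat_lit 6730), (nat_lit 6739)]))) (.node (.leaf (.cyc (nat_lit 8) [(nat_lit 4809), (nat_lit 212), (nat_lit 214), (nat_lit 662), (nat_lit 5025)])) (.leaf (.cyc (nat_lit 21) [(nat_lit 12273), (nat_lit 3763), (nat_lit 11893), (nat_lit 11560), (nat_lit 4338)])))) (.node (.node (.leaf .df) (.leaf (.cyc (nat_lit 2) [(nat_lit 3864), (nat_lit 3863)]))) (.node (.leaf (.cyc (nat_lit 9) [(nat_lit 2735), (nat_lit 1006), (nat_lit 337), (nat_lit 339), (nat_lit 1011)])) (.leaf .df)))) (.node (.node (.node (.leaf .df) (.leaf (.cyc (nat_lit 8) [(nat_lit 3622), (nat_lit 9230),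 (nat_lit 1883), (nat_lit 9185), (nat_lit 1593)]))) (.node (.leaf (.cyc (nat_lit 9) [(nat_lit 1828), (nat_lit 4879), (nat_lit 549), (nat_lit 551), (nat_lit 1588)])) (.leaf .df))) (.node (.node (.leaf .df) (.leaf (.cyc (nat_lit 7) [(nat_lit 3117), (nat_lit 1173), (nat_lit 397), (nat_lit 399), (nat_lit 1178), (nat_lit 6928), (nat_lit 4125)]))) (.node (.leaf (.cyc (nat_lit 4) [(nat_lit 1483), (nat_lit 1480), (nat_lit 8097), (nat_lit 4902), (nat_lit 1907)])) (.leaf .df))))))))
noncomputable def c4P0100011 : BT Pf := (.node (.node (.node (.node (.node (.node (.node (.leaf .df) (.leaf (.cyc (nat_lit 18) [(nat_lit 1958), (nat_lit 8280), (nat_lit 1077)]))) (.node (.leaf .df) (.leaf (.cyc (nat_lit 4) [(nat_lit 4162), (nat_lit 6650), (nat_lit 11657), (nat_lit 11664), (nat_lit 11665)])))) (.node (.node (.leaf .df) (.leaf (.cyc (nat_lit 28) [(nat_lit 6792), (nat_lit 10337)]))) (.node (.leaf (.cyc (nat_lit 8) [(nat_lit 2030), (nat_lit 712), (nat_lit 714), (nat_lit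 5243), (nat_lit 5000)])) (.leaf .df)))) (.node (.node (.node (.leaf .df) (.leaf (.cyc (nat_lit 29) [(nat_lit 3112), (nat_lit 9312)]))) (.node (.leaf (.cyc (nat_lit 20) [(nat_lit 975), (nat_lit 326), (nat_lit 103), (nat_lit 4372), (nat_lit 106), (nat_lit 337), (nat_lit 1005)])) (.leaf .df))) (.node (.node (.leaf .df) (.leaf (.cyc (nat_lit 11) [(nat_lit 11356), (nat_lit 6558), (nat_lit 6560), (nat_lit 6559), (nat_lit 5874), (nat_lit 10311), (nat_lit 11361)]))) (.node (.leaf (.cyc (nat_lit 6) [(nat_lit 2927), (nat_lit 2926)])) (.leaf .df))))) (.node (.node (.node (.node (.leaf .df) (.leaf (.cyc (nat_lit 28) [(nat_lit 3192), (nat_lit 8801)]))) (.node (.leaf (.cyc (nat_lit 2) [(nat_lit 433), (nat_lit 432)])) (.leaf (.cyc (nat_lit 22) [(nat_lit 11274), (nat_lit 12896), (nat_lit 12272), (nat_lit 12273), (nat_lit 12144), (nat_lit 9562), (nat_lit 12867), (nat_lit 12866)])))) (.node (.node (.leaf .df) (.leaf (.cyc (nat_lit 2) [(nat_lit 3773), (nat_lit 3772)])))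 (.node (.leaf (.cyc (nat_lit 2) [(nat_lit 2507), (nat_lit 2506)])) (.leaf .df)))) (.node (.node (.node (.leaf .df) (.leaf (.cyc (nat_lit 1) [(nat_lit 6387), (nat_lit 9824)]))) (.node (.leaf (.cyc (nat_lit 6) [(nat_lit 1473), (nat_lit 1472)])) (.leaf .df))) (.node (.node (.leaf .df) (.leaf (.cyc (nat_lit 3) [(nat_lit 11856), (nat_lit 4047), (nat_lit 2083), (nat_lit 2085), (nat_lit 4050)]))) (.node (.leaf (.cyc (nat_lit 29) [(nat_lit 6362), (nat_lit 7772)])) (.leaf .df)))))) (.node (.node (.node (.node (.node (.leaf .df) (.leaf (.cyc (nat_lit 25) [(nat_lit 8517), (nat_lit 8538), (nat_lit 2419)]))) (.node (.leaf (.cyc (nat_lit 5) [(nat_lit 131), (nat_lit 130)])) (.leaf (.cyc (nat_lit 11) [(nat_lit 3947), (nat_lit 7724), (nat_lit 2544), (nat_lit 7720), (nat_lit 1860), (nat_lit 3934), (nat_lit 12641)])))) (.node (.node (.leaf .df) (.leaf (.cyc (nat_lit 8) [(nat_lit 6066), (nat_lit 3299), (nat_lit 7690), (nat_lit 7691), (nat_lit 3705)]))) (.node (.leaf (.cyc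 (nat_lit 6) [(nat_lit 2296), (nat_lit 5185)])) (.leaf .df)))) (.node (.node (.node (.leaf .df) (.leaf (.cyc (nat_lit 27) [(nat_lit 3392), (nat_lit 1327), (nat_lit 1329), (nat_lit 9442), (nat_lit 6720), (nat_lit 8902), (nat_lit 6271)]))) (.node (.leaf (.cyc (nat_lit 7) [(nat_lit 1253), (nat_lit 426), (nat_lit 4522), (nat_lit 4596), (nat_lit 4595), (nat_lit 432), (nat_lit 1268)])) (.leaf .df))) (.node (.node (.leaf .df) (.leaf (.cyc (nat_lit 5) [(nat_lit 3980), (nat_lit 8906)]))) (.node (.leaf (.cyc (nat_lit 1) [(nat_lit 7477), (nat_lit 7521)])) (.leaf .df))))) (.node (.node (.node (.node (.leaf .df) (.leaf (.cyc (nat_lit 28) [(nat_lit 2509), (nat_lit 9057)]))) (.node (.leaf (.cyc (nat_lit 5) [(nat_lit 729), (nat_lit 728)])) (.leaf (.cyc (nat_lit 11) [(nat_lit 12736), (nat_lit 12435), (nat_lit 11790), (nat_lit 2472), (nat_lit 2473), (nat_lit 9854), (nat_lit 4324)])))) (.node (.node (.leaf .df) (.leaf (.cyc (nat_lit 3) [(nat_lit 10177), (nat_lit 5929), (nat_lit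 11105), (nat_lit 7287), (nat_lit 8554), (nat_lit 6395)]))) (.node (.leaf (.cyc (nat_lit 6) [(nat_lit 7009), (nat_lit 5856)])) (.leaf .df)))) (.node (.node (.node (.leaf .df) (.leaf (.cyc (nat_lit 8) [(nat_lit 10068), (nat_lit 9891), (nat_lit 9890), (nat_lit 1965), (nat_lit 1967)]))) (.node (.leaf (.cyc (nat_lit 20) [(nat_lit 5951), (nat_lit 1721), (nat_lit 597), (nat_lit 598), (nat_lit 5983), (nat_lit 5981), (nat_lit 5985)])) (.leaf .df))) (.node (.node (.leaf .df) (.leaf (.cyc (nat_lit 4) [(nat_lit 11699), (nat_lit 9923), (nat_lit 9918), (nat_lit 2225), (nat_lit 4111)]))) (.node (.leaf (.cyc (nat_lit 25) [(nat_lit 2911), (nat_lit 8032)])) (.leaf .df))))))) (.node (.node (.node (.node (.node (.node (.leaf .df) (.leaf (.cyc (nat_lit 25) [(nat_lit 6093), (nat_lit 8411), (nat_lit 1637)]))) (.node (.leaf .df) (.leaf (.cyc (nat_lit 6) [(nat_lit 4190), (nat_lit 10282)])))) (.node (.node (.leaf .df) (.leaf (.cyc (nat_lit 28) [(nat_lit 6726), (nat_lit 10465)])))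 (.node (.leaf (.cyc (nat_lit 1) [(nat_lit 5029), (nat_lit 2174)])) (.leaf .df)))) (.node (.node (.node (.leaf .df) (.leaf (.cyc (nat_lit 0) [(nat_lit 7966), (nat_lit 8195)]))) (.node (.leaf (.cyc (nat_lit 9) [(nat_lit 422), (nat_lit 4453), (nat_lit 4445), (nat_lit 390), (nat_lit 1149)])) (.leaf .df))) (.node (.node (.leaf .df) (.leaf (.cyc (nat_lit 2) [(nat_lit 3940), (nat_lit 10665)]))) (.node (.leaf (.cyc (nat_lit 2) [(nat_lit 3030), (nat_lit 3029)])) (.leaf .df))))) (.node (.node (.node (.node (.leaf .df) (.leaf (.cyc (nat_lit 20) [(nat_lit 1815), (nat_lit 630), (nat_lit 4505), (nat_lit 543), (nat_lit 1562), (nat_lit 8926), (nat_lit 2523), (nat_lit 8929)]))) (.node (.leaf (.cyc (nat_lit 2) [(nat_lit 582), (nat_lit 581)])) (.leaf (.cyc (nat_lit 3) [(nat_lit 7707), (nat_lit 5568), (nat_lit 7682), (nat_lit 3297), (nat_lit 4298)])))) (.node (.node (.leaf .df) (.leaf (.cyc (nat_lit 8) [(nat_lit 10977), (nat_lit 7267), (nat_lit 6994), (nat_lit 9161), (nat_lit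 9162)]))) (.node (.leaf (.cyc (nat_lit 5) [(nat_lit 2610), (nat_lit 5307)])) (.leaf .df)))) (.node (.node (.node (.leaf .df) (.leaf (.cyc (nat_lit 20) [(nat_lit 7648), (nat_lit 9908), (nat_lit 9901), (nat_lit 9953), (nat_lit 1527), (nat_lit 1529), (nat_lit 6102)]))) (.node (.leaf (.cyc (nat_lit 3) [(nat_lit 566), (nat_lit 181), (nat_lit 179), (nat_lit 561), (nat_lit 1615)])) (.leaf .df))) (.node (.node (.leaf .df) (.leaf (.cyc (nat_lit 7) [(nat_lit 4084), (nat_lit 2184), (nat_lit 772), (nat_lit 774), (nat_lit 5003), (nat_lit 2161), (nat_lit 4072)]))) (.node (.leaf (.cyc (nat_lit 25) [(nat_lit 3278), (nat_lit 7900), (nat_lit 3152)])) (.leaf .df)))))) (.node (.node (.node (.node (.node (.leaf .df) (.leaf (.cyc (nat_lit 16) [(nat_lit 6612), (nat_lit 8335), (nat_lit 2125), (nat_lit 750), (nat_lit 752), (nat_lit 5941), (nat_lit 5943), (nat_lit 8659), (nat_lit 6804)]))) (.node (.leaf (.cyc (nat_lit 5) [(nat_lit 281), (nat_lit 280)])) (.leaf (.cyc (nat_lit 0)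 [(nat_lit 11374), (nat_lit 12768)])))) (.node (.node (.leaf .df) (.leaf (.cyc (nat_lit 4) [(nat_lit 1834), (nat_lit 4880), (nat_lit 1608), (nat_lit 8982), (nat_lit 10721)]))) (.node (.leaf (.cyc (nat_lit 10) [(nat_lit 2423), (nat_lit 864), (nat_lit 4713), (nat_lit 1293), (nat_lit 6024)])) (.leaf .df)))) (.node (.node (.node (.leaf .df) (.leaf (.cyc (nat_lit 25) [(nat_lit 1369), (nat_lit 9692)]))) (.node (.leaf (.cyc (nat_lit 13) [(nat_lit 5011), (nat_lit 484), (nat_lit 154), (nat_lit 4384), (nat_lit 147), (nat_lit 462), (nat_lit 1352)])) (.leaf .df))) (.node (.node (.leaf .df) (.leaf (.cyc (nat_lit 5) [(nat_lit 4013), (nat_lit 4012)]))) (.node (.leaf (.cyc (nat_lit 7) [(nat_lit 3267), (nat_lit 1235), (nat_lit 1233), (nat_lit 5430), (nat_lit 795), (nat_lit 796), (nat_lit 2244)])) (.leaf .df))))) (.node (.node (.node (.node (.leaf .df) (.leaf (.cyc (nat_lit 29) [(nat_lit 6125), (nat_lit 9184), (nat_lit 1885)]))) (.node (.leaf (.cyc (nat_lit 2) [(nat_lit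 854), (nat_lit 853)])) (.leaf (.cyc (nat_lit 13) [(nat_lit 12958), (nat_lit 12957), (nat_lit 11810), (nat_lit 12264), (nat_lit 9791), (nat_lit 12915), (nat_lit 13281)])))) (.node (.node (.leaf .df) (.leaf (.cyc (nat_lit 10) [(nat_lit 10952), (nat_lit 11233), (nat_lit 8577), (nat_lit 7413), (nat_lit 8575)]))) (.node (.leaf (.cyc (nat_lit 15) [(nat_lit 7034), (nat_lit 7137), (nat_lit 2787), (nat_lit 5234), (nat_lit 5219), (nat_lit 2736), (nat_lit 7080), (nat_lit 1015), (nat_lit 1013), (nat_lit 2753)])) (.leaf .df)))) (.node (.node (.node (.leaf .df) (.leaf (.cyc (nat_lit 23) [(nat_lit 8683), (nat_lit 8687), (nat_lit 5577), (nat_lit 3393), (nat_lit 9576), (nat_lit 9587), (nat_lit 9834), (nat_lit 10160), (nat_lit 3625)]))) (.node (.leaf (.cyc (nat_lit 5) [(nat_lit 1898), (nat_lit 1897)])) (.leaf .df))) (.node (.node (.leaf .df) (.leaf (.cyc (nat_lit 10) [(nat_lit 6983), (nat_lit 12158), (nat_lit 5868), (nat_lit 9019), (nat_lit 12256)]))) (.node (.leaf (.cyc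 (nat_lit 18) [(nat_lit 8022), (nat_lit 8157)])) (.leaf .df))))))))
noncomputable def c4P010001 : BT Pf := .node c4P0100010 c4P0100011
noncomputable def c4P01000 : BT Pf := .node c4P010000 c4P010001
noncomputable def c4P0100100 : BT Pf := (.node (.node (.node (.node (.node (.node (.node (.leaf .df) (.leaf (.cyc (nat_lit 17) [(nat_lit 7070), (nat_lit 8203)]))) (.node (.leaf .df) (.leaf (.cyc (nat_lit 29) [(nat_lit 12294), (nat_lit 12304)])))) (.node (.node (.leaf .df) (.leaf (.cyc (nat_lit 9) [(nat_lit 5998), (nat_lit 8105), (nat_lit 5590), (nat_lit 3399), (nat_lit 10256)]))) (.node (.leaf (.cyc (nat_lit 1) [(nat_lit 4959), (nat_lit 1940)])) (.leaf .df)))) (.node (.node (.node (.leaf .df) (.leaf (.cyc (nat_lit 3) [(nat_lit 9168), (nat_lit 9174), (nat_lit 9172), (nat_lit 6294), (nat_lit 6235)]))) (.node (.leaf (.cyc (nat_lit 6) [(nat_lit 917), (nat_lit 916)])) (.leaf .df))) (.node (.node (.leaf .df) (.leaf (.cyc (nat_lit 28) [(nat_lit 10260), (nat_lit 11281)])))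 (.node (.leaf (.cyc (nat_lit 5) [(nat_lit 2838), (nat_lit 2837)])) (.leaf .df))))) (.node (.node (.node (.node (.leaf .df) (.leaf (.cyc (nat_lit 18) [(nat_lit 7013), (nat_lit 8719)]))) (.node (.leaf (.cyc (nat_lit 2) [(nat_lit 345), (nat_lit 344)])) (.leaf (.cyc (nat_lit 21) [(nat_lit 12817), (nat_lit 9861), (nat_lit 9839), (nat_lit 11992), (nat_lit 11993)])))) (.node (.node (.leaf .df) (.leaf (.cyc (nat_lit 29) [(nat_lit 2775), (nat_lit 10768)]))) (.node (.leaf (.cyc (nat_lit 6) [(nat_lit 2455), (nat_lit 2454)])) (.leaf .df)))) (.node (.node (.node (.leaf .df) (.leaf (.cyc (nat_lit 15) [(nat_lit 9745), (nat_lit 9742), (nat_lit 3454), (nat_lit 8451), (nat_lit 6124), (nat_lit 6198), (nat_lit 4930), (nat_lit 8874), (nat_lit 8875)]))) (.node (.leaf (.cyc (nat_lit 18) [(nat_lit 1402), (nat_lit 5649)])) (.leaf .df))) (.node (.node (.leaf .df) (.leaf (.cyc (nat_lit 6) [(nat_lit 11793), (nat_lit 8910)]))) (.node (.leaf (.cyc (nat_lit 5) [(nat_lit 7695), (nat_lit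 5950)])) (.leaf .df)))))) (.node (.node (.node (.node (.node (.leaf .df) (.leaf (.cyc (nat_lit 31) [(nat_lit 3110), (nat_lit 5433), (nat_lit 5021), (nat_lit 5028), (nat_lit 8439), (nat_lit 637), (nat_lit 634), (nat_lit 1822)]))) (.node (.leaf (.cyc (nat_lit 4) [(nat_lit 4361), (nat_lit 4366), (nat_lit 22), (nat_lit 4357), (nat_lit 27)])) (.leaf (.cyc (nat_lit 11) [(nat_lit 12117), (nat_lit 12115), (nat_lit 3618), (nat_lit 12211), (nat_lit 12207), (nat_lit 11607), (nat_lit 4201)])))) (.node (.node (.leaf .df) (.leaf (.cyc (nat_lit 13) [(nat_lit 10509), (nat_lit 7595), (nat_lit 9097), (nat_lit 2716), (nat_lit 993), (nat_lit 991), (nat_lit 2712)]))) (.node (.leaf (.cyc (nat_lit 14) [(nat_lit 5259), (nat_lit 2221)])) (.leaf .df)))) (.node (.node (.node (.leaf .df) (.leaf (.cyc (nat_lit 5) [(nat_lit 3336), (nat_lit 7217)]))) (.node (.leaf (.cyc (nat_lit 4) [(nat_lit 426), (nat_lit 4454), (nat_lit 421), (nat_lit 5314), (nat_lit 5393)])) (.leaf .df))) (.node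 (.node (.leaf .df) (.leaf (.cyc (nat_lit 0) [(nat_lit 11531), (nat_lit 3963)]))) (.node (.leaf (.cyc (nat_lit 28) [(nat_lit 6491), (nat_lit 7441)])) (.leaf .df))))) (.node (.node (.node (.node (.leaf .df) (.leaf (.cyc (nat_lit 3) [(nat_lit 6413), (nat_lit 8969), (nat_lit 2472), (nat_lit 5112), (nat_lit 2469)]))) (.node (.leaf (.cyc (nat_lit 14) [(nat_lit 4843), (nat_lit 642)])) (.leaf (.cyc (nat_lit 3) [(nat_lit 13072), (nat_lit 12643), (nat_lit 4101), (nat_lit 7024), (nat_lit 12071)])))) (.node (.node (.leaf .df) (.leaf (.cyc (nat_lit 5) [(nat_lit 11025), (nat_lit 6187)]))) (.node (.leaf (.cyc (nat_lit 15) [(nat_lit 6918), (nat_lit 5947), (nat_lit 6926), (nat_lit 6713), (nat_lit 5375), (nat_lit 5344), (nat_lit 5342), (nat_lit 395), (nat_lit 393), (nat_lit 1156)])) (.leaf .df)))) (.node (.node (.node (.leaf .df) (.leaf (.cyc (nat_lit 29) [(nat_lit 3126), (nat_lit 10001), (nat_lit 1893)]))) (.node (.leaf (.cyc (nat_lit 8) [(nat_lit 1580), (nat_lit 1578),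 (nat_lit 5905), (nat_lit 5904), (nat_lit 4832)])) (.leaf .df))) (.node (.node (.leaf .df) (.leaf (.cyc (nat_lit 8) [(nat_lit 3882), (nat_lit 1747), (nat_lit 5894), (nat_lit 10332), (nat_lit 12049)]))) (.node (.leaf (.cyc (nat_lit 17) [(nat_lit 2861), (nat_lit 7946)])) (.leaf .df))))))) (.node (.node (.node (.node (.node (.node (.leaf .df) (.leaf (.cyc (nat_lit 5) [(nat_lit 8337), (nat_lit 8329)]))) (.node (.leaf .df) (.leaf (.cyc (nat_lit 4) [(nat_lit 9663), (nat_lit 6270), (nat_lit 11447), (nat_lit 11192), (nat_lit 12432)])))) (.node (.node (.leaf .df) (.leaf (.cyc (nat_lit 6) [(nat_lit 10385), (nat_lit 10015)]))) (.node (.leaf (.cyc (nat_lit 6) [(nat_lit 2094), (nat_lit 2093)])) (.leaf .df)))) (.node (.node (.node (.leaf .df) (.leaf (.cyc (nat_lit 18) [(nat_lit 6096), (nat_lit 9361)]))) (.node (.leaf (.cyc (nat_lit 5) [(nat_lit 1056), (nat_lit 1055)])) (.leaf .df))) (.node (.node (.leaf .df) (.leaf (.cyc (nat_lit 20) [(nat_lit 3598), (nat_lit 10583),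 (nat_lit 11407), (nat_lit 11409), (nat_lit 10117), (nat_lit 2672), (nat_lit 2669)]))) (.node (.leaf (.cyc (nat_lit 26) [(nat_lit 2790), (nat_lit 1028), (nat_lit 4639), (nat_lit 5173), (nat_lit 5172), (nat_lit 5307), (nat_lit 1103), (nat_lit 1101), (nat_lit 2964)])) (.leaf .df))))) (.node (.node (.node (.node (.leaf .df) (.leaf (.cyc (nat_lit 18) [(nat_lit 1440), (nat_lit 8849)]))) (.node (.leaf (.cyc (nat_lit 5) [(nat_lit 484), (nat_lit 483)])) (.leaf (.cyc (nat_lit 28) [(nat_lit 12758), (nat_lit 12945)])))) (.node (.node (.leaf .df) (.leaf (.cyc (nat_lit 10) [(nat_lit 1679), (nat_lit 582), (nat_lit 579), (nat_lit 5892), (nat_lit 10896)]))) (.node (.leaf (.cyc (nat_lit 5) [(nat_lit 2553), (nat_lit 2552)])) (.leaf .df)))) (.node (.node (.node (.leaf .df) (.leaf (.cyc (nat_lit 28) [(nat_lit 9868), (nat_lit 9873)]))) (.node (.leaf (.cyc (nat_lit 2) [(nat_lit 1523), (nat_lit 1522)])) (.leaf .df))) (.node (.node (.leaf .df) (.leaf (.cyc (nat_lit 17) [(nat_lit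 10576), (nat_lit 11921)]))) (.node (.leaf (.cyc (nat_lit 29) [(nat_lit 2984), (nat_lit 7822)])) (.leaf .df)))))) (.node (.node (.node (.node (.node (.leaf .df) (.leaf (.cyc (nat_lit 19) [(nat_lit 1814), (nat_lit 8586)]))) (.node (.leaf (.cyc (nat_lit 5) [(nat_lit 194), (nat_lit 193)])) (.leaf (.cyc (nat_lit 27) [(nat_lit 4229), (nat_lit 8428), (nat_lit 1819), (nat_lit 8427), (nat_lit 12263), (nat_lit 12355), (nat_lit 12489)])))) (.node (.node (.leaf .df) (.leaf (.cyc (nat_lit 1) [(nat_lit 9530), (nat_lit 10641)]))) (.node (.leaf (.cyc (nat_lit 5) [(nat_lit 2340), (nat_lit 2339)])) (.leaf .df)))) (.node (.node (.node (.leaf .df) (.leaf (.cyc (nat_lit 11) [(nat_lit 2899), (nat_lit 1070), (nat_lit 359), (nat_lit 357), (nat_lit 1064), (nat_lit 2883), (nat_lit 9611)]))) (.node (.leaf (.cyc (nat_lit 20) [(nat_lit 524), (nat_lit 168), (nat_lit 4388), (nat_lit 172), (nat_lit 5508), (nat_lit 4586), (nat_lit 4598), (nat_lit 920)])) (.leaf .df))) (.node (.node (.leaf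 .df) (.leaf (.cyc (nat_lit 5) [(nat_lit 3993), (nat_lit 10863)]))) (.node (.leaf (.cyc (nat_lit 0) [(nat_lit 5425), (nat_lit 3198)])) (.leaf .df))))) (.node (.node (.node (.node (.leaf .df) (.leaf (.cyc (nat_lit 17) [(nat_lit 8240), (nat_lit 9103), (nat_lit 7210)]))) (.node (.leaf (.cyc (nat_lit 14) [(nat_lit 4958), (nat_lit 780)])) (.leaf (.cyc (nat_lit 8) [(nat_lit 4334), (nat_lit 3532), (nat_lit 9794), (nat_lit 12667), (nat_lit 12007)])))) (.node (.node (.leaf .df) (.leaf (.cyc (nat_lit 3) [(nat_lit 2868), (nat_lit 5303), (nat_lit 7284), (nat_lit 5948), (nat_lit 3854)]))) (.node (.leaf (.cyc (nat_lit 29) [(nat_lit 2573), (nat_lit 7056)])) (.leaf .df)))) (.node (.node (.node (.leaf .df) (.leaf (.cyc (nat_lit 13) [(nat_lit 6059), (nat_lit 3615), (nat_lit 10128), (nat_lit 8477), (nat_lit 8564), (nat_lit 6168), (nat_lit 8700), (nat_lit 3009)]))) (.node (.leaf (.cyc (nat_lit 6) [(nat_lit 1807), (nat_lit 1806)])) (.leaf .df))) (.node (.node (.leaf .df) (.leaf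 (.cyc (nat_lit 7) [(nat_lit 9948), (nat_lit 9194), (nat_lit 5912), (nat_lit 8667), (nat_lit 10266), (nat_lit 6478), (nat_lit 4121)]))) (.node (.leaf (.cyc (nat_lit 24) [(nat_lit 3238), (nat_lit 1224), (nat_lit 4691), (nat_lit 1229), (nat_lit 3252), (nat_lit 7635), (nat_lit 8081), (nat_lit 2224), (nat_lit 2222)])) (.leaf .df))))))))
noncomputable def c4P0100101 : BT Pf := (.node (.node (.node (.node (.node (.node (.node (.leaf .df) (.leaf (.cyc (nat_lit 29) [(nat_lit 8028), (nat_lit 8272)]))) (.node (.leaf .df) (.leaf (.cyc (nat_lit 20) [(nat_lit 11679), (nat_lit 10808), (nat_lit 10807), (nat_lit 5871), (nat_lit 10618), (nat_lit 10101), (nat_lit 12369)])))) (.node (.node (.leaf .df) (.leaf (.cyc (nat_lit 22) [(nat_lit 6887), (nat_lit 10081), (nat_lit 10317), (nat_lit 1513), (nat_lit 4785), (nat_lit 5722), (nat_lit 2619)]))) (.node (.leaf (.cyc (nat_lit 1) [(nat_lit 6202), (nat_lit 2012)])) (.leaf .df)))) (.node (.node (.node (.leaf .df) (.leaf (.cyc (nat_lit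 28) [(nat_lit 3111), (nat_lit 9297)]))) (.node (.leaf (.cyc (nat_lit 2) [(nat_lit 988), (nat_lit 5062)])) (.leaf .df))) (.node (.node (.leaf .df) (.leaf (.cyc (nat_lit 11) [(nat_lit 2600), (nat_lit 2599), (nat_lit 7911), (nat_lit 7904), (nat_lit 11322), (nat_lit 6279), (nat_lit 11345)]))) (.node (.leaf (.cyc (nat_lit 18) [(nat_lit 1196), (nat_lit 7248)])) (.leaf .df))))) (.node (.node (.node (.node (.leaf .df) (.leaf (.cyc (nat_lit 17) [(nat_lit 3166), (nat_lit 8783)]))) (.node (.leaf (.cyc (nat_lit 2) [(nat_lit 416), (nat_lit 415)])) (.leaf (.cyc (nat_lit 13) [(nat_lit 4270), (nat_lit 12617), (nat_lit 9526), (nat_lit 10750), (nat_lit 2085), (nat_lit 2082), (nat_lit 4045)])))) (.node (.node (.leaf .df) (.leaf (.cyc (nat_lit 8) [(nat_lit 7952), (nat_lit 1735), (nat_lit 5281), (nat_lit 2903), (nat_lit 10828)]))) (.node (.leaf (.cyc (nat_lit 5) [(nat_lit 2479), (nat_lit 2478)])) (.leaf .df)))) (.node (.node (.node (.leaf .df) (.leaf (.cyc (nat_lit 5) [(nat_lit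 3489), (nat_lit 3488)]))) (.node (.leaf (.cyc (nat_lit 25) [(nat_lit 5686), (nat_lit 5712)])) (.leaf .df))) (.node (.node (.leaf .df) (.leaf (.cyc (nat_lit 8) [(nat_lit 11259), (nat_lit 11260), (nat_lit 10751), (nat_lit 6282), (nat_lit 4048)]))) (.node (.leaf (.cyc (nat_lit 17) [(nat_lit 6877), (nat_lit 7753)])) (.leaf .df)))))) (.node (.node (.node (.node (.node (.leaf .df) (.leaf (.cyc (nat_lit 17) [(nat_lit 1297), (nat_lit 8526), (nat_lit 2565)]))) (.node (.leaf (.cyc (nat_lit 5) [(nat_lit 106), (nat_lit 105)])) (.leaf (.cyc (nat_lit 2) [(nat_lit 4216), (nat_lit 11731)])))) (.node (.node (.leaf .df) (.leaf (.cyc (nat_lit 28) [(nat_lit 6772), (nat_lit 10577), (nat_lit 3599)]))) (.node (.leaf (.cyc (nat_lit 5) [(nat_lit 6480), (nat_lit 5231)])) (.leaf .df)))) (.node (.node (.node (.leaf .df) (.leaf (.cyc (nat_lit 4) [(nat_lit 8977), (nat_lit 5920), (nat_lit 9496), (nat_lit 9497), (nat_lit 9553)]))) (.node (.leaf (.cyc (nat_lit 6) [(nat_lit 1254), (nat_lit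 5394)])) (.leaf .df))) (.node (.node (.leaf .df) (.leaf (.cyc (nat_lit 0) [(nat_lit 11210), (nat_lit 3975)]))) (.node (.leaf (.cyc (nat_lit 1) [(nat_lit 6433), (nat_lit 3136)])) (.leaf .df))))) (.node (.node (.node (.node (.leaf .df) (.leaf (.cyc (nat_lit 28) [(nat_lit 3277), (nat_lit 9041)]))) (.node (.leaf (.cyc (nat_lit 5) [(nat_lit 713), (nat_lit 712)])) (.leaf (.cyc (nat_lit 8) [(nat_lit 4321), (nat_lit 12810), (nat_lit 12808), (nat_lit 12811), (nat_lit 12808)])))) (.node (.node (.leaf .df) (.leaf (.cyc (nat_lit 3) [(nat_lit 5955), (nat_lit 11089), (nat_lit 11088), (nat_lit 3823), (nat_lit 3824)]))) (.node (.leaf (.cyc (nat_lit 3) [(nat_lit 6993), (nat_lit 1084), (nat_lit 363), (nat_lit 365), (nat_lit 1090)])) (.leaf .df)))) (.node (.node (.node (.leaf .df) (.leaf (.cyc (nat_lit 5) [(nat_lit 3597), (nat_lit 3596)]))) (.node (.leaf (.cyc (nat_lit 8) [(nat_lit 1716), (nat_lit 1714), (nat_lit 5969), (nat_lit 1744), (nat_lit 1746)])) (.leaf .df))) (.node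 (.node (.leaf .df) (.leaf (.cyc (nat_lit 28) [(nat_lit 10138), (nat_lit 12113)]))) (.node (.leaf (.cyc (nat_lit 28) [(nat_lit 5496), (nat_lit 8017)])) (.leaf .df))))))) (.node (.node (.node (.node (.node (.node (.leaf .df) (.leaf (.cyc (nat_lit 33) [(nat_lit 1991), (nat_lit 4931), (nat_lit 8386), (nat_lit 5286), (nat_lit 8399), (nat_lit 1543), (nat_lit 1541)]))) (.node (.leaf .df) (.leaf (.cyc (nat_lit 14) [(nat_lit 11220), (nat_lit 12497)])))) (.node (.node (.leaf .df) (.leaf (.cyc (nat_lit 20) [(nat_lit 6766), (nat_lit 2518), (nat_lit 908), (nat_lit 909), (nat_lit 2522), (nat_lit 10445), (nat_lit 10449)]))) (.node (.leaf (.cyc (nat_lit 4) [(nat_lit 2160), (nat_lit 4995), (nat_lit 5003), (nat_lit 774), (nat_lit 772)])) (.leaf .df)))) (.node (.node (.node (.leaf .df) (.leaf (.cyc (nat_lit 13) [(nat_lit 2431), (nat_lit 9425), (nat_lit 2057), (nat_lit 6146), (nat_lit 9360), (nat_lit 9358), (nat_lit 9260)]))) (.node (.leaf (.cyc (nat_lit 2) [(nat_lit 1129),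 (nat_lit 1128)])) (.leaf .df))) (.node (.node (.leaf .df) (.leaf (.cyc (nat_lit 24) [(nat_lit 5691), (nat_lit 5069), (nat_lit 2353), (nat_lit 6559), (nat_lit 5882), (nat_lit 2349), (nat_lit 11467), (nat_lit 11471), (nat_lit 3784), (nat_lit 3783)]))) (.node (.leaf (.cyc (nat_lit 7) [(nat_lit 2375), (nat_lit 5084), (nat_lit 2379), (nat_lit 6838), (nat_lit 6839), (nat_lit 5327), (nat_lit 3017)])) (.leaf .df))))) (.node (.node (.node (.node (.leaf .df) (.leaf (.cyc (nat_lit 29) [(nat_lit 2483), (nat_lit 8912)]))) (.node (.leaf (.cyc (nat_lit 2) [(nat_lit 562), (nat_lit 4816)])) (.leaf (.cyc (nat_lit 6) [(nat_lit 13009), (nat_lit 13007)])))) (.node (.node (.leaf .df) (.leaf (.cyc (nat_lit 20) [(nat_lit 8081), (nat_lit 7635), (nat_lit 8899), (nat_lit 1664), (nat_lit 4827), (nat_lit 1658), (nat_lit 3805)]))) (.node (.leaf (.cyc (nat_lit 2) [(nat_lit 2600), (nat_lit 6578)])) (.leaf .df)))) (.node (.node (.node (.leaf .df) (.leaf (.cyc (nat_lit 31) [(nat_lit 3440),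 (nat_lit 1366), (nat_lit 4739), (nat_lit 1371), (nat_lit 9928), (nat_lit 5812), (nat_lit 8497), (nat_lit 7087)]))) (.node (.leaf (.cyc (nat_lit 10) [(nat_lit 1598), (nat_lit 555), (nat_lit 4487), (nat_lit 557), (nat_lit 1604)])) (.leaf .df))) (.node (.node (.leaf .df) (.leaf (.cyc (nat_lit 2) [(nat_lit 4078), (nat_lit 4077)]))) (.node (.leaf (.cyc (nat_lit 19) [(nat_lit 3103), (nat_lit 7888)])) (.leaf .df)))))) (.node (.node (.node (.node (.node (.leaf .df) (.leaf (.cyc (nat_lit 28) [(nat_lit 8175), (nat_lit 8657)]))) (.node (.leaf (.cyc (nat_lit 6) [(nat_lit 264), (nat_lit 263)])) (.leaf (.cyc (nat_lit 8) [(nat_lit 12093), (nat_lit 12096), (nat_lit 11141), (nat_lit 12100), (nat_lit 4244)])))) (.node (.node (.leaf .df) (.leaf (.cyc (nat_lit 8) [(nat_lit 10704), (nat_lit 9815), (nat_lit 5862), (nat_lit 5182), (nat_lit 2634)]))) (.node (.leaf (.cyc (nat_lit 5) [(nat_lit 2403), (nat_lit 2402)])) (.leaf .df)))) (.node (.node (.node (.leaf .df) (.leaf (.cyc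 (nat_lit 18) [(nat_lit 2354), (nat_lit 9681), (nat_lit 1406)]))) (.node (.leaf (.cyc (nat_lit 4) [(nat_lit 616), (nat_lit 4502), (nat_lit 521), (nat_lit 5584), (nat_lit 5585)])) (.leaf .df))) (.node (.node (.leaf .df) (.leaf (.cyc (nat_lit 13) [(nat_lit 11728), (nat_lit 4008), (nat_lit 6235), (nat_lit 9256), (nat_lit 1879), (nat_lit 9357), (nat_lit 10007)]))) (.node (.leaf (.cyc (nat_lit 2) [(nat_lit 3251), (nat_lit 3250)])) (.leaf .df))))) (.node (.node (.node (.node (.leaf .df) (.leaf (.cyc (nat_lit 17) [(nat_lit 6327), (nat_lit 9167), (nat_lit 6292)]))) (.node (.leaf (.cyc (nat_lit 9) [(nat_lit 841), (nat_lit 278), (nat_lit 85), (nat_lit 87), (nat_lit 282)])) (.leaf (.cyc (nat_lit 22) [(nat_lit 4347), (nat_lit 10953), (nat_lit 9507), (nat_lit 10502), (nat_lit 10489), (nat_lit 12139), (nat_lit 12779)])))) (.node (.node (.leaf .df) (.leaf (.cyc (nat_lit 2) [(nat_lit 3880), (nat_lit 3879)]))) (.node (.leaf (.cyc (nat_lit 4) [(nat_lit 2440), (nat_lit 5103),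 (nat_lit 5128), (nat_lit 5227), (nat_lit 2771)])) (.leaf .df)))) (.node (.node (.node (.leaf .df) (.leaf (.cyc (nat_lit 25) [(nat_lit 7188), (nat_lit 10189), (nat_lit 2487)]))) (.node (.leaf (.cyc (nat_lit 14) [(nat_lit 6085), (nat_lit 1874)])) (.leaf .df))) (.node (.node (.leaf .df) (.leaf (.cyc (nat_lit 13) [(nat_lit 3565), (nat_lit 6850), (nat_lit 5492), (nat_lit 10622), (nat_lit 2009), (nat_lit 4004), (nat_lit 12241)]))) (.node (.leaf (.cyc (nat_lit 18) [(nat_lit 2942), (nat_lit 8145)])) (.leaf .df))))))))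
noncomputable def c4P010010 : BT Pf := .node c4P0100100 c4P0100101
noncomputable def c4P0100110 : BT Pf := (.node (.node (.node (.node (.node (.node (.node (.leaf .df) (.leaf (.cyc (nat_lit 28) [(nat_lit 3037), (nat_lit 8231)]))) (.node (.leaf .df) (.leaf (.cyc (nat_lit 31) [(nat_lit 9995), (nat_lit 9038), (nat_lit 3856), (nat_lit 12337), (nat_lit 12335), (nat_lit 2442), (nat_lit 5104), (nat_lit 2447)])))) (.node (.node (.leaf .df) (.leaf (.cyc (nat_lit 3) [(nat_lit 10289), (nat_lit 10285), (nat_lit 2537), (nat_lit 5138), (nat_lit 2534)]))) (.node (.leaf (.cyc (nat_lit 2) [(nat_lit 1986), (nat_lit 1985)])) (.leaf .df)))) (.node (.node (.node (.leaf .df) (.leaf (.cyc (nat_lit 29) [(nat_lit 7206), (nat_lit 9265)]))) (.node (.leaf (.cyc (nat_lit 8) [(nat_lit 842), (nat_lit 4575), (nat_lit 4574), (nat_lit 318), (nat_lit 950)])) (.leaf .df))) (.node (.node (.leaf .df) (.leaf (.cyc (nat_lit 1) [(nat_lit 11169), (nat_lit 11313)]))) (.node (.leaf (.cyc (nat_lit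 22) [(nat_lit 7217), (nat_lit 1276), (nat_lit 435), (nat_lit 4457), (nat_lit 437), (nat_lit 5012), (nat_lit 2202)])) (.leaf .df))))) (.node (.node (.node (.node (.leaf .df) (.leaf (.cyc (nat_lit 19) [(nat_lit 3180), (nat_lit 8743)]))) (.node (.leaf (.cyc (nat_lit 2) [(nat_lit 379), (nat_lit 378)])) (.leaf (.cyc (nat_lit 22) [(nat_lit 11095), (nat_lit 12849), (nat_lit 3944), (nat_lit 7713), (nat_lit 9462), (nat_lit 9461), (nat_lit 7579)])))) (.node (.node (.leaf .df) (.leaf (.cyc (nat_lit 13) [(nat_lit 5861), (nat_lit 3757), (nat_lit 10799), (nat_lit 2535), (nat_lit 5478), (nat_lit 3323), (nat_lit 10693), (nat_lit 6056)]))) (.node (.leaf (.cyc (nat_lit 19) [(nat_lit 6449), (nat_lit 6702)])) (.leaf .df)))) (.node (.node (.node (.leaf .df) (.leaf (.cyc (nat_lit 6) [(nat_lit 3467), (nat_lit 6785)]))) (.node (.leaf (.cyc (nat_lit 4) [(nat_lit 1447), (nat_lit 495), (nat_lit 494), (nat_lit 5619), (nat_lit 5620)])) (.leaf .df))) (.node (.node (.leaf .df) (.leaf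 (.cyc (nat_lit 14) [(nat_lit 6301), (nat_lit 4036)]))) (.node (.leaf (.cyc (nat_lit 5) [(nat_lit 3329), (nat_lit 3328)])) (.leaf .df)))))) (.node (.node (.node (.node (.node (.leaf .df) (.leaf (.cyc (nat_lit 5) [(nat_lit 8497), (nat_lit 7083)]))) (.node (.leaf (.cyc (nat_lit 2) [(nat_lit 69), (nat_lit 68)])) (.leaf (.cyc (nat_lit 4) [(nat_lit 3075), (nat_lit 5463), (nat_lit 3300), (nat_lit 8758), (nat_lit 12593)])))) (.node (.node (.leaf .df) (.leaf (.cyc (nat_lit 4) [(nat_lit 9902), (nat_lit 10541), (nat_lit 10539), (nat_lit 7571), (nat_lit 10544)]))) (.node (.leaf (.cyc (nat_lit 4) [(nat_lit 2261), (nat_lit 802), (nat_lit 4561), (nat_lit 799), (nat_lit 2252)])) (.leaf .df)))) (.node (.node (.node (.leaf .df) (.leaf (.cyc (nat_lit 0) [(nat_lit 6050), (nat_lit 9521)]))) (.node (.leaf (.cyc (nat_lit 6) [(nat_lit 1229), (nat_lit 1228)])) (.leaf .df))) (.node (.node (.leaf .df) (.leaf (.cyc (nat_lit 9) [(nat_lit 3808), (nat_lit 3807), (nat_lit 10996), (nat_lit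 11350), (nat_lit 11569)]))) (.node (.leaf (.cyc (nat_lit 10) [(nat_lit 3098), (nat_lit 1165), (nat_lit 4672), (nat_lit 1167), (nat_lit 6940)])) (.leaf .df))))) (.node (.node (.node (.node (.leaf .df) (.leaf (.cyc (nat_lit 25) [(nat_lit 3202), (nat_lit 8995)]))) (.node (.leaf (.cyc (nat_lit 6) [(nat_lit 672), (nat_lit 4693)])) (.leaf (.cyc (nat_lit 6) [(nat_lit 4314), (nat_lit 4313)])))) (.node (.node (.leaf .df) (.leaf (.cyc (nat_lit 6) [(nat_lit 11057), (nat_lit 10673)]))) (.node (.leaf (.cyc (nat_lit 3) [(nat_lit 6961), (nat_lit 6953), (nat_lit 6954), (nat_lit 1202), (nat_lit 1204)])) (.leaf .df)))) (.node (.node (.node (.leaf .df) (.leaf (.cyc (nat_lit 10) [(nat_lit 3588), (nat_lit 1456), (nat_lit 4764), (nat_lit 1458), (nat_lit 3590)]))) (.node (.leaf (.cyc (nat_lit 5) [(nat_lit 1708), (nat_lit 1707)])) (.leaf .df))) (.node (.node (.leaf .df) (.leaf (.cyc (nat_lit 19) [(nat_lit 11853), (nat_lit 12079)]))) (.node (.leaf (.cyc (nat_lit 25) [(nat_lit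 2952), (nat_lit 7983)])) (.leaf .df))))))) (.node (.node (.node (.node (.node (.node (.leaf .df) (.leaf (.cyc (nat_lit 29) [(nat_lit 6598), (nat_lit 8368)]))) (.node (.leaf .df) (.leaf (.cyc (nat_lit 14) [(nat_lit 12215), (nat_lit 12465)])))) (.node (.node (.leaf .df) (.leaf (.cyc (nat_lit 8) [(nat_lit 9554), (nat_lit 9553), (nat_lit 10415), (nat_lit 3679), (nat_lit 3680)]))) (.node (.leaf (.cyc (nat_lit 3) [(nat_lit 5959), (nat_lit 1709), (nat_lit 5942), (nat_lit 4978), (nat_lit 2128)])) (.leaf .df)))) (.node (.node (.node (.leaf .df) (.leaf (.cyc (nat_lit 14) [(nat_lit 6027), (nat_lit 9393)]))) (.node (.leaf (.cyc (nat_lit 14) [(nat_lit 4920), (nat_lit 1093)])) (.leaf .df))) (.node (.node (.leaf .df) (.leaf (.cyc (nat_lit 8) [(nat_lit 11432), (nat_lit 7391), (nat_lit 9421), (nat_lit 9424), (nat_lit 6636)]))) (.node (.leaf (.cyc (nat_lit 3) [(nat_lit 6685), (nat_lit 5639), (nat_lit 7343), (nat_lit 7344), (nat_lit 2321), (nat_lit 2323)])) (.leaf .df)))))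 (.node (.node (.node (.node (.leaf .df) (.leaf (.cyc (nat_lit 33) [(nat_lit 2574), (nat_lit 5158), (nat_lit 2578), (nat_lit 8880), (nat_lit 6553), (nat_lit 8841), (nat_lit 7570)]))) (.node (.leaf (.cyc (nat_lit 1) [(nat_lit 4493), (nat_lit 522)])) (.leaf (.cyc (nat_lit 20) [(nat_lit 12779), (nat_lit 12137), (nat_lit 10409), (nat_lit 10832), (nat_lit 5866), (nat_lit 9055), (nat_lit 4287)])))) (.node (.node (.leaf .df) (.leaf (.cyc (nat_lit 28) [(nat_lit 7641), (nat_lit 10929)]))) (.node (.leaf (.cyc (nat_lit 3) [(nat_lit 6829), (nat_lit 6831), (nat_lit 6832), (nat_lit 1684), (nat_lit 1686)])) (.leaf .df)))) (.node (.node (.node (.leaf .df) (.leaf (.cyc (nat_lit 3) [(nat_lit 7648), (nat_lit 9899), (nat_lit 3543), (nat_lit 8896), (nat_lit 9904)]))) (.node (.leaf (.cyc (nat_lit 6) [(nat_lit 1556), (nat_lit 1555)])) (.leaf .df))) (.node (.node (.leaf .df) (.leaf (.cyc (nat_lit 5) [(nat_lit 11953), (nat_lit 11659)]))) (.node (.leaf (.cyc (nat_lit 17) [(nat_lit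 3249), (nat_lit 7854)])) (.leaf .df)))))) (.node (.node (.node (.node (.node (.leaf .df) (.leaf (.cyc (nat_lit 29) [(nat_lit 2733), (nat_lit 8624)]))) (.node (.leaf (.cyc (nat_lit 5) [(nat_lit 227), (nat_lit 226)])) (.leaf (.cyc (nat_lit 7) [(nat_lit 12720), (nat_lit 3075), (nat_lit 1151), (nat_lit 4915), (nat_lit 4916), (nat_lit 1929), (nat_lit 11185)])))) (.node (.node (.leaf .df) (.leaf (.cyc (nat_lit 20) [(nat_lit 3728), (nat_lit 10627), (nat_lit 10626), (nat_lit 9583), (nat_lit 3729), (nat_lit 10672), (nat_lit 2623), (nat_lit 2621)]))) (.node (.leaf (.cyc (nat_lit 8) [(nat_lit 2363), (nat_lit 2361), (nat_lit 6575), (nat_lit 943), (nat_lit 944)])) (.leaf .df)))) (.node (.node (.node (.leaf .df) (.leaf (.cyc (nat_lit 8) [(nat_lit 6271), (nat_lit 8904), (nat_lit 9647), (nat_lit 9649), (nat_lit 5627)]))) (.node (.leaf (.cyc (nat_lit 10) [(nat_lit 510), (nat_lit 163), (nat_lit 4461), (nat_lit 446), (nat_lit 1304)])) (.leaf .df))) (.node (.node (.leaf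 .df) (.leaf (.cyc (nat_lit 22) [(nat_lit 11696), (nat_lit 3584), (nat_lit 10052), (nat_lit 6656), (nat_lit 10289), (nat_lit 3650), (nat_lit 3649)]))) (.node (.leaf (.cyc (nat_lit 5) [(nat_lit 3223), (nat_lit 6906)])) (.leaf .df))))) (.node (.node (.node (.node (.leaf .df) (.leaf (.cyc (nat_lit 17) [(nat_lit 7389), (nat_lit 9135)]))) (.node (.leaf (.cyc (nat_lit 24) [(nat_lit 512), (nat_lit 4478), (nat_lit 4616), (nat_lit 330), (nat_lit 4433), (nat_lit 265), (nat_lit 810), (nat_lit 5041), (nat_lit 275), (nat_lit 273)])) (.leaf (.cyc (nat_lit 14) [(nat_lit 13196), (nat_lit 13233)])))) (.node (.node (.leaf .df) (.leaf (.cyc (nat_lit 4) [(nat_lit 2691), (nat_lit 980), (nat_lit 978), (nat_lit 2683), (nat_lit 11184)]))) (.node (.leaf (.cyc (nat_lit 5) [(nat_lit 2743), (nat_lit 2742)])) (.leaf .df)))) (.node (.node (.node (.leaf .df) (.leaf (.cyc (nat_lit 3) [(nat_lit 9292), (nat_lit 2257), (nat_lit 9449), (nat_lit 10161), (nat_lit 3515)]))) (.node (.leaf (.cyc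 (nat_lit 1) [(nat_lit 5460), (nat_lit 1842)])) (.leaf .df))) (.node (.node (.leaf .df) (.leaf (.cyc (nat_lit 13) [(nat_lit 12208), (nat_lit 4103), (nat_lit 2208), (nat_lit 782), (nat_lit 784), (nat_lit 2212), (nat_lit 10125)]))) (.node (.leaf (.cyc (nat_lit 8) [(nat_lit 1892), (nat_lit 4898), (nat_lit 8096), (nat_lit 1480), (nat_lit 4773), (nat_lit 8111)])) (.leaf .df))))))))
noncomputable def c4P0100111 : BT Pf := (.node (.node (.node (.node (.node (.node (.node (.leaf .df) (.leaf (.cyc (nat_lit 25) [(nat_lit 2779), (nat_lit 8293)]))) (.node (.leaf .df) (.leaf (.cyc (nat_lit 8) [(nat_lit 11714), (nat_lit 10049), (nat_lit 7313), (nat_lit 10052), (nat_lit 4167)])))) (.node (.node (.leaf .df) (.leaf (.cyc (nat_lit 8) [(nat_lit 3671), (nat_lit 3669), (nat_lit 10350), (nat_lit 10348), (nat_lit 1896)]))) (.node (.leaf (.cyc (nat_lit 5) [(nat_lit 2050), (nat_lit 2049)])) (.leaf .df)))) (.node (.node (.node (.leaf .df) (.leaf (.cyc (nat_lit 28) [(nat_lit 1778),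 (nat_lit 9327)]))) (.node (.leaf (.cyc (nat_lit 6) [(nat_lit 1026), (nat_lit 5217)])) (.leaf .df))) (.node (.node (.leaf .df) (.leaf (.cyc (nat_lit 8) [(nat_lit 11376), (nat_lit 10393), (nat_lit 2235), (nat_lit 10398), (nat_lit 9970)]))) (.node (.leaf (.cyc (nat_lit 6) [(nat_lit 2947), (nat_lit 7249)])) (.leaf .df))))) (.node (.node (.node (.node (.leaf .df) (.leaf (.cyc (nat_lit 20) [(nat_lit 959), (nat_lit 5544), (nat_lit 1300), (nat_lit 6572), (nat_lit 8813), (nat_lit 7350), (nat_lit 6493), (nat_lit 2314)]))) (.node (.leaf (.cyc (nat_lit 13) [(nat_lit 4721), (nat_lit 144), (nat_lit 44), (nat_lit 4360), (nat_lit 4369), (nat_lit 93), (nat_lit 302)])) (.leaf (.cyc (nat_lit 7) [(nat_lit 3810), (nat_lit 1660), (nat_lit 575), (nat_lit 577), (nat_lit 7757), (nat_lit 3072), (nat_lit 4276)])))) (.node (.node (.leaf .df) (.leaf (.cyc (nat_lit 16) [(nat_lit 2286), (nat_lit 812), (nat_lit 814), (nat_lit 7443), (nat_lit 9071), (nat_lit 6130), (nat_lit 9077), (nat_lit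 10863), (nat_lit 6886)]))) (.node (.leaf (.cyc (nat_lit 6) [(nat_lit 2523), (nat_lit 6745)])) (.leaf .df)))) (.node (.node (.node (.leaf .df) (.leaf (.cyc (nat_lit 14) [(nat_lit 9825), (nat_lit 3509)]))) (.node (.leaf (.cyc (nat_lit 0) [(nat_lit 5685), (nat_lit 1494)])) (.leaf .df))) (.node (.node (.leaf .df) (.leaf (.cyc (nat_lit 10) [(nat_lit 11888), (nat_lit 9808), (nat_lit 11561), (nat_lit 2498), (nat_lit 2501)]))) (.node (.leaf (.cyc (nat_lit 18) [(nat_lit 5921), (nat_lit 7792), (nat_lit 1409)])) (.leaf .df)))))) (.node (.node (.node (.node (.node (.leaf .df) (.leaf (.cyc (nat_lit 31) [(nat_lit 6394), (nat_lit 1965), (nat_lit 687), (nat_lit 4528), (nat_lit 680), (nat_lit 8279), (nat_lit 2906)]))) (.node (.leaf (.cyc (nat_lit 2) [(nat_lit 150), (nat_lit 149)])) (.leaf (.cyc (nat_lit 0) [(nat_lit 11983), (nat_lit 12656)])))) (.node (.node (.leaf .df) (.leaf (.cyc (nat_lit 28) [(nat_lit 7360), (nat_lit 10609)]))) (.node (.leaf (.cyc (nat_lit 2) [(nat_lit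 2301), (nat_lit 2300)])) (.leaf .df)))) (.node (.node (.node (.leaf .df) (.leaf (.cyc (nat_lit 2) [(nat_lit 3397), (nat_lit 3396)]))) (.node (.leaf (.cyc (nat_lit 24) [(nat_lit 5294), (nat_lit 5293), (nat_lit 762), (nat_lit 4550), (nat_lit 759), (nat_lit 5488), (nat_lit 5489), (nat_lit 784), (nat_lit 782)])) (.leaf .df))) (.node (.node (.leaf .df) (.leaf (.cyc (nat_lit 0) [(nat_lit 11603), (nat_lit 11633)]))) (.node (.leaf (.cyc (nat_lit 2) [(nat_lit 3162), (nat_lit 6871)])) (.leaf .df))))) (.node (.node (.node (.node (.leaf .df) (.leaf (.cyc (nat_lit 20) [(nat_lit 7297), (nat_lit 1920), (nat_lit 1918), (nat_lit 9073), (nat_lit 6482), (nat_lit 5226), (nat_lit 2280)]))) (.node (.leaf (.cyc (nat_lit 6) [(nat_lit 752), (nat_lit 751)])) (.leaf (.cyc (nat_lit 6) [(nat_lit 13168), (nat_lit 12643)])))) (.node (.node (.leaf .df) (.leaf (.cyc (nat_lit 5) [(nat_lit 11121), (nat_lit 10663)]))) (.node (.leaf (.cyc (nat_lit 6) [(nat_lit 2705), (nat_lit 2704)])) (.leaf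 .df)))) (.node (.node (.node (.leaf .df) (.leaf (.cyc (nat_lit 19) [(nat_lit 3231), (nat_lit 10096)]))) (.node (.leaf (.cyc (nat_lit 4) [(nat_lit 758), (nat_lit 4547), (nat_lit 4503), (nat_lit 618), (nat_lit 1774)])) (.leaf .df))) (.node (.node (.leaf .df) (.leaf (.cyc (nat_lit 2) [(nat_lit 12145), (nat_lit 12143)]))) (.node (.leaf (.cyc (nat_lit 4) [(nat_lit 2782), (nat_lit 2779), (nat_lit 8045), (nat_lit 6437), (nat_lit 6427)])) (.leaf .df))))))) (.node (.node (.node (.node (.node (.node (.leaf .df) (.leaf (.cyc (nat_lit 19) [(nat_lit 1985), (nat_lit 8431)]))) (.node (.leaf .df) (.leaf (.cyc (nat_lit 20) [(nat_lit 3548), (nat_lit 1427), (nat_lit 1428), (nat_lit 3549), (nat_lit 11111), (nat_lit 12529), (nat_lit 12527), (nat_lit 11517)])))) (.node (.node (.leaf .df) (.leaf (.cyc (nat_lit 9) [(nat_lit 10481), (nat_lit 2960), (nat_lit 7306), (nat_lit 5768), (nat_lit 3658)]))) (.node (.leaf (.cyc (nat_lit 5) [(nat_lit 2188), (nat_lit 2187)])) (.leaf .df))))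 (.node (.node (.node (.leaf .df) (.leaf (.cyc (nat_lit 3) [(nat_lit 9457), (nat_lit 2551), (nat_lit 2550), (nat_lit 7863), (nat_lit 3083)]))) (.node (.leaf (.cyc (nat_lit 8) [(nat_lit 414), (nat_lit 4450), (nat_lit 4659), (nat_lit 1115), (nat_lit 5361)])) (.leaf .df))) (.node (.node (.leaf .df) (.leaf (.cyc (nat_lit 28) [(nat_lit 11501), (nat_lit 11505)]))) (.node (.leaf (.cyc (nat_lit 3) [(nat_lit 2816), (nat_lit 5251), (nat_lit 5335), (nat_lit 5333), (nat_lit 3042)])) (.leaf .df))))) (.node (.node (.node (.node (.leaf .df) (.leaf (.cyc (nat_lit 18) [(nat_lit 7609), (nat_lit 8941)]))) (.node (.leaf (.cyc (nat_lit 6) [(nat_lit 603), (nat_lit 602)])) (.leaf (.cyc (nat_lit 6) [(nat_lit 4300), (nat_lit 12057)])))) (.node (.node (.leaf .df) (.leaf (.cyc (nat_lit 25) [(nat_lit 6021), (nat_lit 10988)]))) (.node (.leaf (.cyc (nat_lit 1) [(nat_lit 5703), (nat_lit 2624)])) (.leaf .df)))) (.node (.node (.node (.leaf .df) (.leaf (.cyc (nat_lit 7) [(nat_lit 7806),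 (nat_lit 5487), (nat_lit 3341), (nat_lit 9962), (nat_lit 3555), (nat_lit 5670), (nat_lit 3559)]))) (.node (.leaf (.cyc (nat_lit 8) [(nat_lit 1599), (nat_lit 1597), (nat_lit 5872), (nat_lit 1633), (nat_lit 1635)])) (.leaf .df))) (.node (.node (.leaf .df) (.leaf (.cyc (nat_lit 20) [(nat_lit 7812), (nat_lit 1646), (nat_lit 4825), (nat_lit 1651), (nat_lit 3797), (nat_lit 11655), (nat_lit 4088)]))) (.node (.leaf (.cyc (nat_lit 29) [(nat_lit 3269), (nat_lit 7918)])) (.leaf .df)))))) (.node (.node (.node (.node (.node (.leaf .df) (.leaf (.cyc (nat_lit 4) [(nat_lit 6787), (nat_lit 6788), (nat_lit 2452), (nat_lit 8656), (nat_lit 5922)]))) (.node (.leaf (.cyc (nat_lit 2) [(nat_lit 303), (nat_lit 302)])) (.leaf (.cyc (nat_lit 22) [(nat_lit 4251), (nat_lit 2795), (nat_lit 8659), (nat_lit 9575), (nat_lit 9584), (nat_lit 7452), (nat_lit 4123)])))) (.node (.node (.leaf .df) (.leaf (.cyc (nat_lit 6) [(nat_lit 10737), (nat_lit 10334)]))) (.node (.leaf (.cyc (nat_lit 11)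 [(nat_lit 1489), (nat_lit 5554), (nat_lit 1304), (nat_lit 446), (nat_lit 4583), (nat_lit 868), (nat_lit 2435)])) (.leaf .df)))) (.node (.node (.node (.leaf .df) (.leaf (.cyc (nat_lit 6) [(nat_lit 3443), (nat_lit 8627)]))) (.node (.leaf (.cyc (nat_lit 12) [(nat_lit 5617), (nat_lit 1354), (nat_lit 463), (nat_lit 147), (nat_lit 4384), (nat_lit 152), (nat_lit 476), (nat_lit 4747), (nat_lit 493)])) (.leaf .df))) (.node (.node (.leaf .df) (.leaf (.cyc (nat_lit 20) [(nat_lit 10511), (nat_lit 10507), (nat_lit 10514), (nat_lit 11761), (nat_lit 2360), (nat_lit 2362), (nat_lit 9529)]))) (.node (.leaf (.cyc (nat_lit 6) [(nat_lit 3282), (nat_lit 3281)])) (.leaf .df))))) (.node (.node (.node (.node (.leaf .df) (.leaf (.cyc (nat_lit 17) [(nat_lit 7783), (nat_lit 9198)]))) (.node (.leaf (.cyc (nat_lit 9) [(nat_lit 4743), (nat_lit 472), (nat_lit 4744), (nat_lit 4587), (nat_lit 877)])) (.leaf .df))) (.node (.node (.leaf .df) (.leaf (.cyc (nat_lit 28) [(nat_lit 11235),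 (nat_lit 11249)]))) (.node (.leaf (.cyc (nat_lit 6) [(nat_lit 2795), (nat_lit 5943)])) (.leaf .df)))) (.node (.node (.node (.leaf .df) (.leaf (.cyc (nat_lit 8) [(nat_lit 8008), (nat_lit 10121), (nat_lit 10122), (nat_lit 10124), (nat_lit 10224)]))) (.node (.leaf (.cyc (nat_lit 5) [(nat_lit 1919), (nat_lit 1918)])) (.leaf .df))) (.node (.node (.leaf .df) (.leaf (.cyc (nat_lit 22) [(nat_lit 9580), (nat_lit 10817), (nat_lit 12271), (nat_lit 4141), (nat_lit 2349), (nat_lit 5882), (nat_lit 3774)]))) (.node (.leaf (.cyc (nat_lit 29) [(nat_lit 1346), (nat_lit 8176)])) (.leaf .df))))))))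
noncomputable def c4P010011 : BT Pf := .node c4P0100110 c4P0100111
noncomputable def c4P01001 : BT Pf := .node c4P010010 c4P010011
noncomputable def c4P0100 : BT Pf := .node c4P01000 c4P01001
noncomputable def c4P0101000 : BT Pf := (.node (.node (.node (.node (.node (.node (.node (.leaf .df) (.leaf (.cyc (nat_lit 29) [(nat_lit 3040), (nat_lit 8198)]))) (.node (.leaf .df) (.leaf (.cyc (nat_lit 25) [(nat_lit 11984), (nat_lit 12295)])))) (.node (.node (.leaf .df) (.leaf (.cyc (nat_lit 19) [(nat_lit 9646), (nat_lit 10248)]))) (.node (.leaf (.cyc (nat_lit 19) [(nat_lit 723), (nat_lit 6152)])) (.leaf .df)))) (.node (.node (.node (.leaf .df) (.leaf (.cyc (nat_lit 3) [(nat_lit 6258), (nat_lit 9220), (nat_lit 7386), (nat_lit 2012), (nat_lit 2013)]))) (.node (.leaf (.cyc (nat_lit 5) [(nat_lit 908), (nat_lit 907)])) (.leaf .df))) (.node (.node (.leaf .df) (.leaf (.cyc (nat_lit 2) [(nat_lit 3893), (nat_lit 3892)]))) (.node (.leaf (.cyc (nat_lit 6) [(nat_lit 2822),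 (nat_lit 2821)])) (.leaf .df))))) (.node (.node (.node (.node (.leaf .df) (.leaf (.cyc (nat_lit 19) [(nat_lit 7367), (nat_lit 8706)]))) (.node (.leaf (.cyc (nat_lit 2) [(nat_lit 332), (nat_lit 331)])) (.leaf (.cyc (nat_lit 13) [(nat_lit 4256), (nat_lit 7213), (nat_lit 9463), (nat_lit 10582), (nat_lit 12328), (nat_lit 12501), (nat_lit 9640)])))) (.node (.node (.leaf .df) (.leaf (.cyc (nat_lit 20) [(nat_lit 2194), (nat_lit 5008), (nat_lit 486), (nat_lit 4994), (nat_lit 770), (nat_lit 10758), (nat_lit 5839), (nat_lit 3724)]))) (.node (.leaf (.cyc (nat_lit 18) [(nat_lit 6231), (nat_lit 6665)])) (.leaf .df)))) (.node (.node (.node (.leaf .df) (.leaf (.cyc (nat_lit 6) [(nat_lit 3450), (nat_lit 3449)]))) (.node (.leaf (.cyc (nat_lit 11) [(nat_lit 1364), (nat_lit 466), (nat_lit 148), (nat_lit 4384), (nat_lit 153), (nat_lit 480), (nat_lit 1403)])) (.leaf .df))) (.node (.node (.leaf .df) (.leaf (.cyc (nat_lit 17) [(nat_lit 4019), (nat_lit 11785), (nat_lit 6655)])))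 (.node (.leaf (.cyc (nat_lit 3) [(nat_lit 7689), (nat_lit 7684), (nat_lit 7685), (nat_lit 1751), (nat_lit 1753)])) (.leaf .df)))))) (.node (.node (.node (.node (.node (.leaf .df) (.leaf (.cyc (nat_lit 28) [(nat_lit 2146), (nat_lit 8455)]))) (.node (.leaf (.cyc (nat_lit 5) [(nat_lit 15), (nat_lit 14)])) (.leaf (.cyc (nat_lit 14) [(nat_lit 11780), (nat_lit 12553)])))) (.node (.node (.leaf .df) (.leaf (.cyc (nat_lit 2) [(nat_lit 3696), (nat_lit 10365)]))) (.node (.leaf (.cyc (nat_lit 2) [(nat_lit 2211), (nat_lit 2210)])) (.leaf .df)))) (.node (.node (.node (.leaf .df) (.leaf (.cyc (nat_lit 29) [(nat_lit 7708), (nat_lit 9480)]))) (.node (.leaf (.cyc (nat_lit 0) [(nat_lit 4687), (nat_lit 1197)])) (.leaf .df))) (.node (.node (.leaf .df) (.leaf (.cyc (nat_lit 6) [(nat_lit 11529), (nat_lit 9145)]))) (.node (.leaf (.cyc (nat_lit 4) [(nat_lit 3063), (nat_lit 5344), (nat_lit 5375), (nat_lit 6431), (nat_lit 6710)])) (.leaf .df))))) (.node (.node (.node (.node (.leaf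 .df) (.leaf (.cyc (nat_lit 18) [(nat_lit 2940), (nat_lit 8968)]))) (.node (.leaf (.cyc (nat_lit 2) [(nat_lit 633), (nat_lit 632)])) (.leaf (.cyc (nat_lit 3) [(nat_lit 13065), (nat_lit 10160), (nat_lit 3625), (nat_lit 10210), (nat_lit 4172)])))) (.node (.node (.leaf .df) (.leaf (.cyc (nat_lit 20) [(nat_lit 2091), (nat_lit 2093), (nat_lit 10916), (nat_lit 10919), (nat_lit 11017), (nat_lit 11015), (nat_lit 6314)]))) (.node (.leaf (.cyc (nat_lit 29) [(nat_lit 1713), (nat_lit 6920)])) (.leaf .df)))) (.node (.node (.node (.leaf .df) (.leaf (.cyc (nat_lit 2) [(nat_lit 3574), (nat_lit 3573)]))) (.node (.leaf (.cyc (nat_lit 8) [(nat_lit 1225), (nat_lit 417), (nat_lit 419), (nat_lit 1232), (nat_lit 5896)])) (.leaf .df))) (.node (.node (.leaf .df) (.leaf (.cyc (nat_lit 18) [(nat_lit 3211), (nat_lit 12037)]))) (.node (.leaf (.cyc (nat_lit 17) [(nat_lit 5275), (nat_lit 7938), (nat_lit 2861)])) (.leaf .df))))))) (.node (.node (.node (.node (.node (.node (.leaf .df)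 (.leaf (.cyc (nat_lit 30) [(nat_lit 2372), (nat_lit 5083), (nat_lit 8326), (nat_lit 6233), (nat_lit 6208), (nat_lit 6669), (nat_lit 6670), (nat_lit 2002), (nat_lit 2000)]))) (.node (.leaf .df) (.leaf (.cyc (nat_lit 8) [(nat_lit 12424), (nat_lit 3900), (nat_lit 1783), (nat_lit 1781), (nat_lit 11085)])))) (.node (.node (.leaf .df) (.leaf (.cyc (nat_lit 3) [(nat_lit 5783), (nat_lit 3673), (nat_lit 10375), (nat_lit 1603), (nat_lit 1605)]))) (.node (.leaf (.cyc (nat_lit 5) [(nat_lit 2083), (nat_lit 2082)])) (.leaf .df)))) (.node (.node (.node (.leaf .df) (.leaf (.cyc (nat_lit 4) [(nat_lit 6031), (nat_lit 9352), (nat_lit 9256), (nat_lit 6101), (nat_lit 9258)]))) (.node (.leaf (.cyc (nat_lit 2) [(nat_lit 1044), (nat_lit 1043)])) (.leaf .df))) (.node (.node (.leaf .df) (.leaf (.cyc (nat_lit 14) [(nat_lit 9628), (nat_lit 11401)]))) (.node (.leaf (.cyc (nat_lit 3) [(nat_lit 2960), (nat_lit 7305), (nat_lit 2620), (nat_lit 5722), (nat_lit 1509)])) (.leaf .df)))))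 (.node (.node (.node (.node (.leaf .df) (.leaf (.cyc (nat_lit 19) [(nat_lit 7809), (nat_lit 8839)]))) (.node (.leaf (.cyc (nat_lit 2) [(nat_lit 475), (nat_lit 474)])) (.leaf (.cyc (nat_lit 0) [(nat_lit 12583), (nat_lit 12937)])))) (.node (.node (.leaf .df) (.leaf (.cyc (nat_lit 4) [(nat_lit 3069), (nat_lit 3066), (nat_lit 7812), (nat_lit 5887), (nat_lit 3786)]))) (.node (.leaf (.cyc (nat_lit 6) [(nat_lit 2544), (nat_lit 2543)])) (.leaf .df)))) (.node (.node (.node (.leaf .df) (.leaf (.cyc (nat_lit 9) [(nat_lit 1966), (nat_lit 6392), (nat_lit 1414), (nat_lit 1415), (nat_lit 3525)]))) (.node (.leaf (.cyc (nat_lit 2) [(nat_lit 1513), (nat_lit 1512)])) (.leaf .df))) (.node (.node (.leaf .df) (.leaf (.cyc (nat_lit 1) [(nat_lit 11015), (nat_lit 4058)]))) (.node (.leaf (.cyc (nat_lit 33) [(nat_lit 3092), (nat_lit 6937), (nat_lit 5985), (nat_lit 7815), (nat_lit 5893), (nat_lit 7785), (nat_lit 2132)])) (.leaf .df)))))) (.node (.node (.node (.node (.node (.leaf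 .df) (.leaf (.cyc (nat_lit 29) [(nat_lit 7063), (nat_lit 8584), (nat_lit 6074)]))) (.node (.leaf (.cyc (nat_lit 2) [(nat_lit 184), (nat_lit 183)])) (.leaf (.cyc (nat_lit 8) [(nat_lit 7429), (nat_lit 9228), (nat_lit 11770), (nat_lit 6988), (nat_lit 4227)])))) (.node (.node (.leaf .df) (.leaf (.cyc (nat_lit 5) [(nat_lit 3718), (nat_lit 3717)]))) (.node (.leaf (.cyc (nat_lit 4) [(nat_lit 5070), (nat_lit 5071), (nat_lit 5063), (nat_lit 5061), (nat_lit 2331)])) (.leaf .df)))) (.node (.node (.node (.leaf .df) (.leaf (.cyc (nat_lit 28) [(nat_lit 9604), (nat_lit 9609), (nat_lit 7222)]))) (.node (.leaf (.cyc (nat_lit 28) [(nat_lit 893), (nat_lit 5512)])) (.leaf .df))) (.node (.node (.leaf .df) (.leaf (.cyc (nat_lit 14) [(nat_lit 11118), (nat_lit 3990)]))) (.node (.leaf (.cyc (nat_lit 5) [(nat_lit 3192), (nat_lit 3191)])) (.leaf .df))))) (.node (.node (.node (.node (.leaf .df) (.leaf (.cyc (nat_lit 3) [(nat_lit 7113), (nat_lit 9096), (nat_lit 3218), (nat_lit 9093),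 (nat_lit 6976)]))) (.node (.leaf (.cyc (nat_lit 9) [(nat_lit 485), (nat_lit 4994), (nat_lit 251), (nat_lit 252), (nat_lit 774)])) (.leaf (.cyc (nat_lit 0) [(nat_lit 13191), (nat_lit 13193)])))) (.node (.node (.leaf .df) (.leaf (.cyc (nat_lit 0) [(nat_lit 11062), (nat_lit 11145)]))) (.node (.leaf (.cyc (nat_lit 3) [(nat_lit 5235), (nat_lit 6884), (nat_lit 7037), (nat_lit 2720), (nat_lit 2721)])) (.leaf .df)))) (.node (.node (.node (.leaf .df) (.leaf (.cyc (nat_lit 3) [(nat_lit 10120), (nat_lit 9268), (nat_lit 5269), (nat_lit 5245), (nat_lit 2796)]))) (.node (.leaf (.cyc (nat_lit 7) [(nat_lit 1768), (nat_lit 616), (nat_lit 4507), (nat_lit 4509), (nat_lit 4508), (nat_lit 625), (nat_lit 1799)])) (.leaf .df))) (.node (.node (.leaf .df) (.leaf (.cyc (nat_lit 4) [(nat_lit 4119), (nat_lit 7028), (nat_lit 10545), (nat_lit 10546), (nat_lit 7432)]))) (.node (.leaf (.cyc (nat_lit 19) [(nat_lit 6425), (nat_lit 8070)])) (.leaf .df))))))))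
noncomputable def c4P0101001 : BT Pf := (.node (.node (.node (.node (.node (.node (.node (.leaf .df) (.leaf (.cyc (nat_lit 28) [(nat_lit 2739), (nat_lit 8264), (nat_lit 2808)]))) (.node (.leaf .df) (.leaf (.cyc (nat_lit 5) [(nat_lit 4156), (nat_lit 12200)])))) (.node (.node (.leaf .df) (.leaf (.cyc (nat_lit 14) [(nat_lit 10137), (nat_lit 10313)]))) (.node (.leaf (.cyc (nat_lit 15) [(nat_lit 2004), (nat_lit 4937), (nat_lit 4909), (nat_lit 4904), (nat_lit 224), (nat_lit 222), (nat_lit 681), (nat_lit 1947), (nat_lit 6175)])) (.leaf .df)))) (.node (.node (.node (.leaf .df) (.leaf (.cyc (nat_lit 25) [(nat_lit 3131), (nat_lit 9287)]))) (.node (.leaf (.cyc (nat_lit 2) [(nat_lit 974), (nat_lit 973)])) (.leaf .df))) (.node (.node (.leaf .df) (.leaf (.cyc (nat_lit 13) [(nat_lit 3905), (nat_lit 1793), (nat_lit 623), (nat_lit 4503), (nat_lit 617), (nat_lit 1770), (nat_lit 3896)]))) (.node (.leaf (.cyc (nat_lit 7) [(nat_lit 2915), (nat_lit 1079), (nat_lit 4644), (nat_lit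 4646), (nat_lit 4645), (nat_lit 4988), (nat_lit 2150)])) (.leaf .df))))) (.node (.node (.node (.node (.leaf .df) (.leaf (.cyc (nat_lit 33) [(nat_lit 6891), (nat_lit 6893), (nat_lit 8755), (nat_lit 1200), (nat_lit 407), (nat_lit 404), (nat_lit 1193), (nat_lit 3164)]))) (.node (.leaf (.cyc (nat_lit 6) [(nat_lit 407), (nat_lit 406)])) (.leaf (.cyc (nat_lit 6) [(nat_lit 4268), (nat_lit 4267)])))) (.node (.node (.leaf .df) (.leaf (.cyc (nat_lit 6) [(nat_lit 10825), (nat_lit 10821)]))) (.node (.leaf (.cyc (nat_lit 5) [(nat_lit 2472), (nat_lit 2471)])) (.leaf .df)))) (.node (.node (.node (.leaf .df) (.leaf (.cyc (nat_lit 20) [(nat_lit 6018), (nat_lit 6037), (nat_lit 7833), (nat_lit 9801), (nat_lit 3382), (nat_lit 5570), (nat_lit 3384)]))) (.node (.leaf (.cyc (nat_lit 8) [(nat_lit 1301), (nat_lit 5545), (nat_lit 5703), (nat_lit 5702), (nat_lit 5579)])) (.leaf .df))) (.node (.node (.leaf .df) (.leaf (.cyc (nat_lit 3) [(nat_lit 11845), (nat_lit 4041), (nat_lit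 2079), (nat_lit 2081), (nat_lit 4043)]))) (.node (.leaf (.cyc (nat_lit 18) [(nat_lit 6880), (nat_lit 7748)])) (.leaf .df)))))) (.node (.node (.node (.node (.node (.leaf .df) (.leaf (.cyc (nat_lit 4) [(nat_lit 6808), (nat_lit 6807), (nat_lit 6798), (nat_lit 8519), (nat_lit 2415), (nat_lit 2413)]))) (.node (.leaf (.cyc (nat_lit 15) [(nat_lit 99), (nat_lit 28), (nat_lit 7), (nat_lit 4352), (nat_lit 4353), (nat_lit 10), (nat_lit 4359), (nat_lit 24), (nat_lit 86)])) (.leaf (.cyc (nat_lit 14) [(nat_lit 9743), (nat_lit 4215)])))) (.node (.node (.leaf .df) (.leaf (.cyc (nat_lit 6) [(nat_lit 10568), (nat_lit 9780)]))) (.node (.leaf (.cyc (nat_lit 2) [(nat_lit 2275), (nat_lit 2274)])) (.leaf .df)))) (.node (.node (.node (.leaf .df) (.leaf (.cyc (nat_lit 6) [(nat_lit 9545), (nat_lit 5924)]))) (.node (.leaf (.cyc (nat_lit 7) [(nat_lit 1248), (nat_lit 424), (nat_lit 134), (nat_lit 135), (nat_lit 4523), (nat_lit 220), (nat_lit 677)])) (.leaf .df))) (.node (.node (.leaf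 .df) (.leaf (.cyc (nat_lit 13) [(nat_lit 7234), (nat_lit 11592), (nat_lit 11593), (nat_lit 3932), (nat_lit 1858), (nat_lit 4889), (nat_lit 1862), (nat_lit 3938)]))) (.node (.leaf (.cyc (nat_lit 5) [(nat_lit 3130), (nat_lit 3129)])) (.leaf .df))))) (.node (.node (.node (.node (.leaf .df) (.leaf (.cyc (nat_lit 25) [(nat_lit 3303), (nat_lit 9032)]))) (.node (.leaf (.cyc (nat_lit 2) [(nat_lit 704), (nat_lit 703)])) (.leaf (.cyc (nat_lit 14) [(nat_lit 12274), (nat_lit 4319)])))) (.node (.node (.leaf .df) (.leaf (.cyc (nat_lit 0) [(nat_lit 11072), (nat_lit 11081)]))) (.node (.leaf (.cyc (nat_lit 0) [(nat_lit 6910), (nat_lit 2666)])) (.leaf .df)))) (.node (.node (.node (.leaf .df) (.leaf (.cyc (nat_lit 29) [(nat_lit 8913), (nat_lit 10056)]))) (.node (.leaf (.cyc (nat_lit 4) [(nat_lit 1734), (nat_lit 4850), (nat_lit 5773), (nat_lit 5856), (nat_lit 5857)])) (.leaf .df))) (.node (.node (.leaf .df) (.leaf (.cyc (nat_lit 2) [(nat_lit 4109), (nat_lit 8866)]))) (.node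 (.leaf (.cyc (nat_lit 19) [(nat_lit 2875), (nat_lit 8009), (nat_lit 1280)])) (.leaf .df))))))) (.node (.node (.node (.node (.node (.node (.leaf .df) (.leaf (.cyc (nat_lit 19) [(nat_lit 2781), (nat_lit 8384)]))) (.node (.leaf .df) (.leaf (.cyc (nat_lit 0) [(nat_lit 11852), (nat_lit 4186)])))) (.node (.node (.leaf .df) (.leaf (.cyc (nat_lit 0) [(nat_lit 10412), (nat_lit 10441)]))) (.node (.leaf (.cyc (nat_lit 2) [(nat_lit 2155), (nat_lit 2154)])) (.leaf .df)))) (.node (.node (.node (.leaf .df) (.leaf (.cyc (nat_lit 18) [(nat_lit 7715), (nat_lit 9417)]))) (.node (.leaf (.cyc (nat_lit 8) [(nat_lit 672), (nat_lit 4913), (nat_lit 382), (nat_lit 380), (nat_lit 1118)])) (.leaf .df))) (.node (.node (.leaf .df) (.leaf (.cyc (nat_lit 20) [(nat_lit 3517), (nat_lit 5653), (nat_lit 3435), (nat_lit 10142), (nat_lit 10153), (nat_lit 10238), (nat_lit 11463)]))) (.node (.leaf (.cyc (nat_lit 3) [(nat_lit 2993), (nat_lit 1117), (nat_lit 4660), (nat_lit 1122), (nat_lit 3009)]))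 (.leaf .df))))) (.node (.node (.node (.node (.leaf .df) (.leaf (.cyc (nat_lit 28) [(nat_lit 6274), (nat_lit 8905)]))) (.node (.leaf (.cyc (nat_lit 3) [(nat_lit 4512), (nat_lit 4809), (nat_lit 4808), (nat_lit 525), (nat_lit 527)])) (.leaf (.cyc (nat_lit 3) [(nat_lit 4259), (nat_lit 9619), (nat_lit 3408), (nat_lit 9633), (nat_lit 4293)])))) (.node (.node (.leaf .df) (.leaf (.cyc (nat_lit 2) [(nat_lit 3803), (nat_lit 3802)]))) (.node (.leaf (.cyc (nat_lit 8) [(nat_lit 2596), (nat_lit 5164), (nat_lit 6684), (nat_lit 1398), (nat_lit 5601)])) (.leaf .df)))) (.node (.node (.node (.leaf .df) (.leaf (.cyc (nat_lit 21) [(nat_lit 9929), (nat_lit 1559), (nat_lit 542), (nat_lit 540), (nat_lit 5792)]))) (.node (.leaf (.cyc (nat_lit 6) [(nat_lit 1593), (nat_lit 1592)])) (.leaf .df))) (.node (.node (.leaf .df) (.leaf (.cyc (nat_lit 5) [(nat_lit 4073), (nat_lit 6875)]))) (.node (.leaf (.cyc (nat_lit 25) [(nat_lit 3097), (nat_lit 7877)])) (.leaf .df)))))) (.node (.node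 (.node (.node (.node (.leaf .df) (.leaf (.cyc (nat_lit 10) [(nat_lit 7377), (nat_lit 8649), (nat_lit 7679), (nat_lit 3296), (nat_lit 3297)]))) (.node (.leaf (.cyc (nat_lit 2) [(nat_lit 253), (nat_lit 252)])) (.leaf (.cyc (nat_lit 8) [(nat_lit 11919), (nat_lit 12744), (nat_lit 12745), (nat_lit 4238), (nat_lit 11842)])))) (.node (.node (.leaf .df) (.leaf (.cyc (nat_lit 20) [(nat_lit 10170), (nat_lit 10168), (nat_lit 7796), (nat_lit 6734), (nat_lit 5159), (nat_lit 2582), (nat_lit 10681), (nat_lit 3713)]))) (.node (.leaf (.cyc (nat_lit 5) [(nat_lit 2394), (nat_lit 2393)])) (.leaf .df)))) (.node (.node (.node (.leaf .df) (.leaf (.cyc (nat_lit 10) [(nat_lit 3248), (nat_lit 1227), (nat_lit 1224), (nat_lit 3238), (nat_lit 9672)]))) (.node (.leaf (.cyc (nat_lit 6) [(nat_lit 1330), (nat_lit 1329)])) (.leaf .df))) (.node (.node (.leaf .df) (.leaf (.cyc (nat_lit 20) [(nat_lit 3918), (nat_lit 8433), (nat_lit 8452), (nat_lit 5621), (nat_lit 3456), (nat_lit 11715),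 (nat_lit 11721)]))) (.node (.leaf (.cyc (nat_lit 28) [(nat_lit 2932), (nat_lit 7625)])) (.leaf .df))))) (.node (.node (.node (.node (.leaf .df) (.leaf (.cyc (nat_lit 25) [(nat_lit 8955), (nat_lit 9159)]))) (.node (.leaf (.cyc (nat_lit 3) [(nat_lit 832), (nat_lit 275), (nat_lit 273), (nat_lit 5044), (nat_lit 513)])) (.leaf (.cyc (nat_lit 21) [(nat_lit 11944), (nat_lit 4060), (nat_lit 11018), (nat_lit 10908), (nat_lit 4346)])))) (.node (.node (.leaf .df) (.leaf (.cyc (nat_lit 11) [(nat_lit 1922), (nat_lit 671), (nat_lit 4693), (nat_lit 4694), (nat_lit 7947), (nat_lit 7951), (nat_lit 3877)]))) (.node (.leaf (.cyc (nat_lit 2) [(nat_lit 2766), (nat_lit 2765)])) (.leaf .df)))) (.node (.node (.node (.leaf .df) (.leaf (.cyc (nat_lit 17) [(nat_lit 9128), (nat_lit 10183)]))) (.node (.leaf (.cyc (nat_lit 5) [(nat_lit 1864), (nat_lit 1863)])) (.leaf .df))) (.node (.node (.leaf .df) (.leaf (.cyc (nat_lit 7) [(nat_lit 12232), (nat_lit 12233), (nat_lit 3894), (nat_lit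 11075), (nat_lit 11073), (nat_lit 11081), (nat_lit 11691), (nat_lit 6990)]))) (.node (.leaf (.cyc (nat_lit 17) [(nat_lit 2892), (nat_lit 8136)])) (.leaf .df))))))))
noncomputable def c4P010100 : BT Pf := .node c4P0101000 c4P0101001
noncomputable def c4P0101010 : BT Pf := (.node (.node (.node (.node (.node (.node (.node (.leaf .df) (.leaf (.cyc (nat_lit 28) [(nat_lit 7689), (nat_lit 8222)]))) (.node (.leaf .df) (.leaf (.cyc (nat_lit 5) [(nat_lit 4149), (nat_lit 4148)])))) (.node (.node (.leaf .df) (.leaf (.cyc (nat_lit 4) [(nat_lit 2535), (nat_lit 5138), (nat_lit 2537), (nat_lit 8521), (nat_lit 3649)]))) (.node (.leaf (.cyc (nat_lit 9) [(nat_lit 1975), (nat_lit 691), (nat_lit 4529), (nat_lit 688), (nat_lit 1969)])) (.leaf .df)))) (.node (.node (.node (.leaf .df) (.leaf (.cyc (nat_lit 13) [(nat_lit 6101), (nat_lit 9256), (nat_lit 2023), (nat_lit 4956), (nat_lit 4957), (nat_lit 4919), (nat_lit 1941)]))) (.node (.leaf (.cyc (nat_lit 2) [(nat_lit 940), (nat_lit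 939)])) (.leaf .df))) (.node (.node (.leaf .df) (.leaf (.cyc (nat_lit 19) [(nat_lit 9730), (nat_lit 11304)]))) (.node (.leaf (.cyc (nat_lit 6) [(nat_lit 7209), (nat_lit 7207)])) (.leaf .df))))) (.node (.node (.node (.node (.leaf .df) (.leaf (.cyc (nat_lit 28) [(nat_lit 7550), (nat_lit 8735)]))) (.node (.leaf (.cyc (nat_lit 2) [(nat_lit 376), (nat_lit 375)])) (.leaf (.cyc (nat_lit 4) [(nat_lit 4263), (nat_lit 11105), (nat_lit 1695), (nat_lit 1698), (nat_lit 3837)])))) (.node (.node (.leaf .df) (.leaf (.cyc (nat_lit 21) [(nat_lit 10699), (nat_lit 9152), (nat_lit 9155), (nat_lit 6623), (nat_lit 10793)]))) (.node (.leaf (.cyc (nat_lit 28) [(nat_lit 6440), (nat_lit 6696), (nat_lit 2025)])) (.leaf .df)))) (.node (.node (.node (.leaf .df) (.leaf (.cyc (nat_lit 6) [(nat_lit 3464), (nat_lit 5716)]))) (.node (.leaf (.cyc (nat_lit 2) [(nat_lit 1437), (nat_lit 1436)])) (.leaf .df))) (.node (.node (.leaf .df) (.leaf (.cyc (nat_lit 20) [(nat_lit 9977), (nat_lit 2240),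 (nat_lit 8508), (nat_lit 3552), (nat_lit 11263), (nat_lit 11266), (nat_lit 11817)]))) (.node (.leaf (.cyc (nat_lit 6) [(nat_lit 3324), (nat_lit 3323)])) (.leaf .df)))))) (.node (.node (.node (.node (.node (.leaf .df) (.leaf (.cyc (nat_lit 7) [(nat_lit 1558), (nat_lit 542), (nat_lit 4483), (nat_lit 537), (nat_lit 4977), (nat_lit 2128), (nat_lit 8489)]))) (.node (.leaf (.cyc (nat_lit 12) [(nat_lit 4393), (nat_lit 41), (nat_lit 11), (nat_lit 2), (nat_lit 1), (nat_lit 4355), (nat_lit 22), (nat_lit 4366), (nat_lit 48)])) (.leaf (.cyc (nat_lit 10) [(nat_lit 4207), (nat_lit 11034), (nat_lit 11483), (nat_lit 12403), (nat_lit 12409)])))) (.node (.node (.leaf .df) (.leaf (.cyc (nat_lit 28) [(nat_lit 7648), (nat_lit 10537)]))) (.node (.leaf (.cyc (nat_lit 6) [(nat_lit 2257), (nat_lit 2256)])) (.leaf .df)))) (.node (.node (.node (.leaf .df) (.leaf (.cyc (nat_lit 5) [(nat_lit 3358), (nat_lit 3357)]))) (.node (.leaf (.cyc (nat_lit 14) [(nat_lit 5362), (nat_lit 1219)]))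 (.leaf .df))) (.node (.node (.leaf .df) (.leaf (.cyc (nat_lit 2) [(nat_lit 3965), (nat_lit 11203)]))) (.node (.leaf (.cyc (nat_lit 3) [(nat_lit 3089), (nat_lit 7465), (nat_lit 5404), (nat_lit 4689), (nat_lit 1217)])) (.leaf .df))))) (.node (.node (.node (.node (.leaf .df) (.leaf (.cyc (nat_lit 17) [(nat_lit 8960), (nat_lit 8993)]))) (.node (.leaf (.cyc (nat_lit 5) [(nat_lit 4905), (nat_lit 4904)])) (.leaf (.cyc (nat_lit 1) [(nat_lit 10276), (nat_lit 4312)])))) (.node (.node (.leaf .df) (.leaf (.cyc (nat_lit 1) [(nat_lit 6265), (nat_lit 11048)]))) (.node (.leaf (.cyc (nat_lit 16) [(nat_lit 1202), (nat_lit 4683), (nat_lit 325), (nat_lit 103), (nat_lit 104), (nat_lit 329), (nat_lit 5187), (nat_lit 2644), (nat_lit 6953)])) (.leaf .df)))) (.node (.node (.node (.leaf .df) (.leaf (.cyc (nat_lit 5) [(nat_lit 3581), (nat_lit 3580)]))) (.node (.leaf (.cyc (nat_lit 6) [(nat_lit 1698), (nat_lit 1697)])) (.leaf .df))) (.node (.node (.leaf .df) (.leaf (.cyc (nat_lit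 2) [(nat_lit 12073), (nat_lit 11636)]))) (.node (.leaf (.cyc (nat_lit 18) [(nat_lit 3280), (nat_lit 7977)])) (.leaf .df))))))) (.node (.node (.node (.node (.node (.node (.leaf .df) (.leaf (.cyc (nat_lit 29) [(nat_lit 6191), (nat_lit 8360)]))) (.node (.leaf .df) (.leaf (.cyc (nat_lit 8) [(nat_lit 10353), (nat_lit 10355), (nat_lit 11560), (nat_lit 6751), (nat_lit 4179)])))) (.node (.node (.leaf .df) (.leaf (.cyc (nat_lit 5) [(nat_lit 10407), (nat_lit 9583)]))) (.node (.leaf (.cyc (nat_lit 5) [(nat_lit 2120), (nat_lit 2119)])) (.leaf .df)))) (.node (.node (.node (.leaf .df) (.leaf (.cyc (nat_lit 28) [(nat_lit 7241), (nat_lit 9385)]))) (.node (.leaf (.cyc (nat_lit 1) [(nat_lit 4679), (nat_lit 1084)])) (.leaf .df))) (.node (.node (.leaf .df) (.leaf (.cyc (nat_lit 4) [(nat_lit 3216), (nat_lit 5415), (nat_lit 3024), (nat_lit 11432), (nat_lit 3927)]))) (.node (.leaf (.cyc (nat_lit 0) [(nat_lit 6662), (nat_lit 7337)])) (.leaf .df))))) (.node (.node (.node (.node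 (.leaf .df) (.leaf (.cyc (nat_lit 29) [(nat_lit 1984), (nat_lit 8872)]))) (.node (.leaf (.cyc (nat_lit 9) [(nat_lit 515), (nat_lit 165), (nat_lit 4387), (nat_lit 79), (nat_lit 263)])) (.leaf (.cyc (nat_lit 1) [(nat_lit 9626), (nat_lit 4286)])))) (.node (.node (.leaf .df) (.leaf (.cyc (nat_lit 16) [(nat_lit 2574), (nat_lit 8887), (nat_lit 8889), (nat_lit 2094), (nat_lit 10893), (nat_lit 1645), (nat_lit 4825), (nat_lit 1650), (nat_lit 3795), (nat_lit 10920)]))) (.node (.leaf (.cyc (nat_lit 6) [(nat_lit 2576), (nat_lit 2575)])) (.leaf .df)))) (.node (.node (.node (.leaf .df) (.leaf (.cyc (nat_lit 5) [(nat_lit 3543), (nat_lit 7803)]))) (.node (.leaf (.cyc (nat_lit 4) [(nat_lit 891), (nat_lit 4590), (nat_lit 5514), (nat_lit 536), (nat_lit 1548)])) (.leaf .df))) (.node (.node (.leaf .df) (.leaf (.cyc (nat_lit 23) [(nat_lit 3662), (nat_lit 7775), (nat_lit 7778), (nat_lit 5482), (nat_lit 7781), (nat_lit 7782), (nat_lit 11312), (nat_lit 11313), (nat_lit 4067)])))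 (.node (.leaf (.cyc (nat_lit 25) [(nat_lit 3244), (nat_lit 7846)])) (.leaf .df)))))) (.node (.node (.node (.node (.node (.leaf .df) (.leaf (.cyc (nat_lit 24) [(nat_lit 6291), (nat_lit 7041), (nat_lit 7036), (nat_lit 999), (nat_lit 997), (nat_lit 8589), (nat_lit 645), (nat_lit 647), (nat_lit 1854)]))) (.node (.leaf (.cyc (nat_lit 9) [(nat_lit 4519), (nat_lit 94), (nat_lit 4369), (nat_lit 39), (nat_lit 135)])) (.leaf (.cyc (nat_lit 4) [(nat_lit 12590), (nat_lit 3976), (nat_lit 11185), (nat_lit 11186), (nat_lit 4235)])))) (.node (.node (.leaf .df) (.leaf (.cyc (nat_lit 5) [(nat_lit 3732), (nat_lit 3731)]))) (.node (.leaf (.cyc (nat_lit 0) [(nat_lit 5126), (nat_lit 2358)])) (.leaf .df)))) (.node (.node (.node (.leaf .df) (.leaf (.cyc (nat_lit 13) [(nat_lit 7400), (nat_lit 5338), (nat_lit 8349), (nat_lit 8674), (nat_lit 6804), (nat_lit 8658), (nat_lit 3416)]))) (.node (.leaf (.cyc (nat_lit 6) [(nat_lit 1301), (nat_lit 1300)])) (.leaf .df))) (.node (.node (.leaf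 .df) (.leaf (.cyc (nat_lit 18) [(nat_lit 11170), (nat_lit 11687)]))) (.node (.leaf (.cyc (nat_lit 2) [(nat_lit 3216), (nat_lit 3215)])) (.leaf .df))))) (.node (.node (.node (.node (.leaf .df) (.leaf (.cyc (nat_lit 24) [(nat_lit 7418), (nat_lit 7389), (nat_lit 2375), (nat_lit 2377), (nat_lit 9120), (nat_lit 9124), (nat_lit 7008), (nat_lit 9129), (nat_lit 6296)]))) (.node (.leaf (.cyc (nat_lit 6) [(nat_lit 802), (nat_lit 4602)])) (.leaf (.cyc (nat_lit 3) [(nat_lit 13225), (nat_lit 13119), (nat_lit 12900), (nat_lit 12902), (nat_lit 4264)])))) (.node (.node (.leaf .df) (.leaf (.cyc (nat_lit 18) [(nat_lit 3537), (nat_lit 11177)]))) (.node (.leaf (.cyc (nat_lit 3) [(nat_lit 6740), (nat_lit 6750), (nat_lit 7075), (nat_lit 2735), (nat_lit 2737)])) (.leaf .df)))) (.node (.node (.node (.leaf .df) (.leaf (.cyc (nat_lit 0) [(nat_lit 3623), (nat_lit 10153)]))) (.node (.leaf (.cyc (nat_lit 2) [(nat_lit 1834), (nat_lit 1833)])) (.leaf .df))) (.node (.node (.leaf .df)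 (.leaf (.cyc (nat_lit 15) [(nat_lit 4127), (nat_lit 2303), (nat_lit 2305), (nat_lit 12077), (nat_lit 12075), (nat_lit 7101), (nat_lit 12039), (nat_lit 12038), (nat_lit 11125)]))) (.node (.leaf (.cyc (nat_lit 25) [(nat_lit 6467), (nat_lit 8103), (nat_lit 1337)])) (.leaf .df))))))))
noncomputable def c4P0101011 : BT Pf := (.node (.node (.node (.node (.node (.node (.node (.leaf .df) (.leaf (.cyc (nat_lit 28) [(nat_lit 7673), (nat_lit 8289), (nat_lit 2910)]))) (.node (.leaf .df) (.leaf (.cyc (nat_lit 22) [(nat_lit 4164), (nat_lit 7122), (nat_lit 7121), (nat_lit 5780), (nat_lit 10364), (nat_lit 5810), (nat_lit 3697)])))) (.node (.node (.leaf .df) (.leaf (.cyc (nat_lit 23) [(nat_lit 6556), (nat_lit 1641), (nat_lit 570), (nat_lit 4489), (nat_lit 566), (nat_lit 5858), (nat_lit 10345), (nat_lit 3670), (nat_lit 3668)]))) (.node (.leaf (.cyc (nat_lit 2) [(nat_lit 2041), (nat_lit 2040)])) (.leaf .df)))) (.node (.node (.node (.leaf .df) (.leaf (.cyc (nat_lit 29) [(nat_lit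 9300), (nat_lit 9319)]))) (.node (.leaf (.cyc (nat_lit 1) [(nat_lit 5040), (nat_lit 1018)])) (.leaf .df))) (.node (.node (.leaf .df) (.leaf (.cyc (nat_lit 11) [(nat_lit 1834), (nat_lit 6040), (nat_lit 1816), (nat_lit 631), (nat_lit 632), (nat_lit 1818), (nat_lit 3913)]))) (.node (.leaf (.cyc (nat_lit 2) [(nat_lit 2940), (nat_lit 2939)])) (.leaf .df))))) (.node (.node (.node (.node (.leaf .df) (.leaf (.cyc (nat_lit 29) [(nat_lit 2524), (nat_lit 8807)]))) (.node (.leaf (.cyc (nat_lit 2) [(nat_lit 444), (nat_lit 443)])) (.leaf (.cyc (nat_lit 5) [(nat_lit 4274), (nat_lit 9642)])))) (.node (.node (.leaf .df) (.leaf (.cyc (nat_lit 4) [(nat_lit 6492), (nat_lit 6493), (nat_lit 6484), (nat_lit 6486), (nat_lit 10857)]))) (.node (.leaf (.cyc (nat_lit 8) [(nat_lit 6761), (nat_lit 6508), (nat_lit 6511), (nat_lit 998), (nat_lit 1000)])) (.leaf .df)))) (.node (.node (.node (.leaf .df) (.leaf (.cyc (nat_lit 13) [(nat_lit 9587), (nat_lit 9585), (nat_lit 3073), (nat_lit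 7757), (nat_lit 4828), (nat_lit 1668), (nat_lit 9832)]))) (.node (.leaf (.cyc (nat_lit 2) [(nat_lit 1486), (nat_lit 1485)])) (.leaf .df))) (.node (.node (.leaf .df) (.leaf (.cyc (nat_lit 14) [(nat_lit 11451), (nat_lit 4052)]))) (.node (.leaf (.cyc (nat_lit 19) [(nat_lit 6329), (nat_lit 7784)])) (.leaf .df)))))) (.node (.node (.node (.node (.node (.leaf .df) (.leaf (.cyc (nat_lit 3) [(nat_lit 7287), (nat_lit 8552), (nat_lit 8549), (nat_lit 2189), (nat_lit 2191)]))) (.node (.leaf (.cyc (nat_lit 14) [(nat_lit 4415), (nat_lit 140)])) (.leaf (.cyc (nat_lit 13) [(nat_lit 12648), (nat_lit 3652), (nat_lit 6974), (nat_lit 5182), (nat_lit 5862), (nat_lit 9815), (nat_lit 11927)])))) (.node (.node (.leaf .df) (.leaf (.cyc (nat_lit 4) [(nat_lit 1848), (nat_lit 8101), (nat_lit 8614), (nat_lit 3356), (nat_lit 10601)]))) (.node (.leaf (.cyc (nat_lit 25) [(nat_lit 6501), (nat_lit 6503)])) (.leaf .df)))) (.node (.node (.node (.leaf .df) (.leaf (.cyc (nat_lit 2) [(nat_lit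 9577), (nat_lit 7805)]))) (.node (.leaf (.cyc (nat_lit 6) [(nat_lit 1273), (nat_lit 1272)])) (.leaf .df))) (.node (.node (.leaf .df) (.leaf (.cyc (nat_lit 27) [(nat_lit 11622), (nat_lit 11624), (nat_lit 9420), (nat_lit 6167), (nat_lit 11442), (nat_lit 11433), (nat_lit 9503)]))) (.node (.leaf (.cyc (nat_lit 14) [(nat_lit 5412), (nat_lit 3158)])) (.leaf .df))))) (.node (.node (.node (.node (.leaf .df) (.leaf (.cyc (nat_lit 28) [(nat_lit 2476), (nat_lit 9060)]))) (.node (.leaf (.cyc (nat_lit 0) [(nat_lit 4943), (nat_lit 740)])) (.leaf (.cyc (nat_lit 8) [(nat_lit 12912), (nat_lit 3975), (nat_lit 9644), (nat_lit 11781), (nat_lit 4326)])))) (.node (.node (.leaf .df) (.leaf (.cyc (nat_lit 6) [(nat_lit 11113), (nat_lit 11035)]))) (.node (.leaf (.cyc (nat_lit 2) [(nat_lit 2701), (nat_lit 2700)])) (.leaf .df)))) (.node (.node (.node (.leaf .df) (.leaf (.cyc (nat_lit 8) [(nat_lit 10089), (nat_lit 2179), (nat_lit 8193), (nat_lit 5575), (nat_lit 8762)]))) (.node (.leaf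 (.cyc (nat_lit 2) [(nat_lit 1765), (nat_lit 1764)])) (.leaf .df))) (.node (.node (.leaf .df) (.leaf (.cyc (nat_lit 13) [(nat_lit 8268), (nat_lit 2740), (nat_lit 5220), (nat_lit 7095), (nat_lit 2886), (nat_lit 10401), (nat_lit 4112)]))) (.node (.leaf (.cyc (nat_lit 19) [(nat_lit 7131), (nat_lit 8039), (nat_lit 2965)])) (.leaf .df))))))) (.node (.node (.node (.node (.node (.node (.leaf .df) (.leaf (.cyc (nat_lit 28) [(nat_lit 6042), (nat_lit 8425)]))) (.node (.leaf .df) (.leaf (.cyc (nat_lit 2) [(nat_lit 4193), (nat_lit 12070)])))) (.node (.node (.leaf .df) (.leaf (.cyc (nat_lit 25) [(nat_lit 2467), (nat_lit 10471)]))) (.node (.leaf (.cyc (nat_lit 1) [(nat_lit 6354), (nat_lit 2182)])) (.leaf .df)))) (.node (.node (.node (.leaf .df) (.leaf (.cyc (nat_lit 10) [(nat_lit 1899), (nat_lit 661), (nat_lit 659), (nat_lit 1890), (nat_lit 8094)]))) (.node (.leaf (.cyc (nat_lit 5) [(nat_lit 1154), (nat_lit 1153)])) (.leaf .df))) (.node (.node (.leaf .df) (.leaf (.cyc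 (nat_lit 2) [(nat_lit 3947), (nat_lit 3946)]))) (.node (.leaf (.cyc (nat_lit 4) [(nat_lit 3033), (nat_lit 1131), (nat_lit 384), (nat_lit 387), (nat_lit 1140)])) (.leaf .df))))) (.node (.node (.node (.node (.leaf .df) (.leaf (.cyc (nat_lit 19) [(nat_lit 7068), (nat_lit 8936)]))) (.node (.leaf (.cyc (nat_lit 12) [(nat_lit 4841), (nat_lit 427), (nat_lit 4455), (nat_lit 55), (nat_lit 15), (nat_lit 17), (nat_lit 62), (nat_lit 4485), (nat_lit 543)])) (.leaf (.cyc (nat_lit 0) [(nat_lit 12985), (nat_lit 13032)])))) (.node (.node (.leaf .df) (.leaf (.cyc (nat_lit 29) [(nat_lit 5804), (nat_lit 10984)]))) (.node (.leaf (.cyc (nat_lit 1) [(nat_lit 6889), (nat_lit 2618)])) (.leaf .df)))) (.node (.node (.node (.leaf .df) (.leaf (.cyc (nat_lit 6) [(nat_lit 9960), (nat_lit 9636)]))) (.node (.leaf (.cyc (nat_lit 5) [(nat_lit 1626), (nat_lit 1625)])) (.leaf .df))) (.node (.node (.leaf .df) (.leaf (.cyc (nat_lit 10) [(nat_lit 6577), (nat_lit 8967), (nat_lit 6409), (nat_lit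 11297), (nat_lit 12009)]))) (.node (.leaf (.cyc (nat_lit 29) [(nat_lit 7662), (nat_lit 7906)])) (.leaf .df)))))) (.node (.node (.node (.node (.node (.leaf .df) (.leaf (.cyc (nat_lit 28) [(nat_lit 2453), (nat_lit 8681)]))) (.node (.leaf (.cyc (nat_lit 5) [(nat_lit 289), (nat_lit 288)])) (.leaf (.cyc (nat_lit 7) [(nat_lit 12001), (nat_lit 12421), (nat_lit 9889), (nat_lit 8037), (nat_lit 8570), (nat_lit 7107), (nat_lit 4249)])))) (.node (.node (.leaf .df) (.leaf (.cyc (nat_lit 11) [(nat_lit 10455), (nat_lit 3688), (nat_lit 5798), (nat_lit 5800), (nat_lit 4811), (nat_lit 1597), (nat_lit 3740)]))) (.node (.leaf (.cyc (nat_lit 7) [(nat_lit 2394), (nat_lit 854), (nat_lit 5074), (nat_lit 5078), (nat_lit 5077), (nat_lit 866), (nat_lit 2429)])) (.leaf .df)))) (.node (.node (.node (.leaf .df) (.leaf (.cyc (nat_lit 1) [(nat_lit 6901), (nat_lit 9705)]))) (.node (.leaf (.cyc (nat_lit 5) [(nat_lit 1362), (nat_lit 1361)])) (.leaf .df))) (.node (.node (.leaf .df) (.leaf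 (.cyc (nat_lit 5) [(nat_lit 4015), (nat_lit 11675)]))) (.node (.leaf (.cyc (nat_lit 10) [(nat_lit 1249), (nat_lit 424), (nat_lit 422), (nat_lit 1240), (nat_lit 3275)])) (.leaf .df))))) (.node (.node (.node (.node (.leaf .df) (.leaf (.cyc (nat_lit 19) [(nat_lit 6144), (nat_lit 9191)]))) (.node (.leaf (.cyc (nat_lit 0) [(nat_lit 5077), (nat_lit 865)])) (.leaf .df))) (.node (.node (.leaf .df) (.leaf (.cyc (nat_lit 11) [(nat_lit 11226), (nat_lit 2393), (nat_lit 2395), (nat_lit 11151), (nat_lit 11147), (nat_lit 9598), (nat_lit 3884)]))) (.node (.leaf (.cyc (nat_lit 8) [(nat_lit 7145), (nat_lit 7038), (nat_lit 999), (nat_lit 997), (nat_lit 2725)])) (.leaf .df)))) (.node (.node (.node (.leaf .df) (.leaf (.cyc (nat_lit 5) [(nat_lit 3627), (nat_lit 3626)]))) (.node (.leaf (.cyc (nat_lit 5) [(nat_lit 1908), (nat_lit 1907)])) (.leaf .df))) (.node (.node (.leaf .df) (.leaf (.cyc (nat_lit 2) [(nat_lit 12265), (nat_lit 11510)]))) (.node (.leaf (.cyc (nat_lit 25) [(nat_lit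 7174), (nat_lit 8168), (nat_lit 5598)])) (.leaf .df))))))))
noncomputable def c4P010101 : BT Pf := .node c4P0101010 c4P0101011
noncomputable def c4P01010 : BT Pf := .node c4P010100 c4P010101
noncomputable def c4P0101100 : BT Pf := (.node (.node (.node (.node (.node (.node (.node (.leaf .df) (.leaf (.cyc (nat_lit 25) [(nat_lit 2757), (nat_lit 8207), (nat_lit 1130)]))) (.node (.leaf .df) (.leaf (.cyc (nat_lit 21) [(nat_lit 7265), (nat_lit 8003), (nat_lit 12313), (nat_lit 3504), (nat_lit 3502)])))) (.node (.node (.leaf .df) (.leaf (.cyc (nat_lit 29) [(nat_lit 6543), (nat_lit 10264)]))) (.node (.leaf (.cyc (nat_lit 2) [(nat_lit 1955), (nat_lit 1954)])) (.leaf .df)))) (.node (.node (.node (.leaf .df) (.leaf (.cyc (nat_lit 29) [(nat_lit 6300), (nat_lit 9241), (nat_lit 6317)]))) (.node (.leaf (.cyc (nat_lit 8) [(nat_lit 5144), (nat_lit 342), (nat_lit 4436), (nat_lit 4566), (nat_lit 4819)])) (.leaf .df))) (.node (.node (.leaf .df) (.leaf (.cyc (nat_lit 19) [(nat_lit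 7581), (nat_lit 11289), (nat_lit 3833)]))) (.node (.leaf (.cyc (nat_lit 4) [(nat_lit 2848), (nat_lit 1050), (nat_lit 4633), (nat_lit 1046), (nat_lit 2837)])) (.leaf .df))))) (.node (.node (.node (.node (.leaf .df) (.leaf (.cyc (nat_lit 18) [(nat_lit 7678), (nat_lit 8724), (nat_lit 3230)]))) (.node (.leaf (.cyc (nat_lit 6) [(nat_lit 355), (nat_lit 354)])) (.leaf (.cyc (nat_lit 0) [(nat_lit 9618), (nat_lit 4259)])))) (.node (.node (.leaf .df) (.leaf (.cyc (nat_lit 5) [(nat_lit 3751), (nat_lit 3750)]))) (.node (.leaf (.cyc (nat_lit 29) [(nat_lit 2456), (nat_lit 6680)])) (.leaf .df)))) (.node (.node (.node (.leaf .df) (.leaf (.cyc (nat_lit 14) [(nat_lit 9317), (nat_lit 9753)]))) (.node (.leaf (.cyc (nat_lit 5) [(nat_lit 1419), (nat_lit 5008)])) (.leaf .df))) (.node (.node (.leaf .df) (.leaf (.cyc (nat_lit 19) [(nat_lit 3741), (nat_lit 11800)]))) (.node (.leaf (.cyc (nat_lit 2) [(nat_lit 3310), (nat_lit 3309)])) (.leaf .df)))))) (.node (.node (.node (.node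 (.node (.leaf .df) (.leaf (.cyc (nat_lit 17) [(nat_lit 8358), (nat_lit 8471), (nat_lit 2116)]))) (.node (.leaf (.cyc (nat_lit 6) [(nat_lit 38), (nat_lit 37)])) (.leaf (.cyc (nat_lit 13) [(nat_lit 12568), (nat_lit 3567), (nat_lit 1437), (nat_lit 4760), (nat_lit 1430), (nat_lit 8507), (nat_lit 12155)])))) (.node (.node (.leaf .df) (.leaf (.cyc (nat_lit 27) [(nat_lit 2715), (nat_lit 5205), (nat_lit 2711), (nat_lit 10519), (nat_lit 6687), (nat_lit 5639), (nat_lit 3491)]))) (.node (.leaf (.cyc (nat_lit 2) [(nat_lit 2231), (nat_lit 2230)])) (.leaf .df)))) (.node (.node (.node (.leaf .df) (.leaf (.cyc (nat_lit 22) [(nat_lit 3344), (nat_lit 9110), (nat_lit 9107), (nat_lit 5259), (nat_lit 2220), (nat_lit 8064), (nat_lit 8081)]))) (.node (.leaf (.cyc (nat_lit 6) [(nat_lit 1203), (nat_lit 1202)])) (.leaf .df))) (.node (.node (.leaf .df) (.leaf (.cyc (nat_lit 18) [(nat_lit 11537), (nat_lit 11544), (nat_lit 8269)]))) (.node (.leaf (.cyc (nat_lit 3) [(nat_lit 7446),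 (nat_lit 3066), (nat_lit 1148), (nat_lit 1150), (nat_lit 3072)])) (.leaf .df))))) (.node (.node (.node (.node (.leaf .df) (.leaf (.cyc (nat_lit 17) [(nat_lit 7525), (nat_lit 8984), (nat_lit 1829)]))) (.node (.leaf (.cyc (nat_lit 2) [(nat_lit 651), (nat_lit 650)])) (.leaf (.cyc (nat_lit 5) [(nat_lit 13081), (nat_lit 12357)])))) (.node (.node (.leaf .df) (.leaf (.cyc (nat_lit 22) [(nat_lit 3817), (nat_lit 1676), (nat_lit 1673), (nat_lit 10250), (nat_lit 6214), (nat_lit 6894), (nat_lit 6896)]))) (.node (.leaf (.cyc (nat_lit 2) [(nat_lit 6937), (nat_lit 5986)])) (.leaf .df)))) (.node (.node (.node (.leaf .df) (.leaf (.cyc (nat_lit 14) [(nat_lit 9451), (nat_lit 10009)]))) (.node (.leaf (.cyc (nat_lit 5) [(nat_lit 1678), (nat_lit 1677)])) (.leaf .df))) (.node (.node (.leaf .df) (.leaf (.cyc (nat_lit 2) [(nat_lit 4094), (nat_lit 4093)]))) (.node (.leaf (.cyc (nat_lit 17) [(nat_lit 7219), (nat_lit 7958)])) (.leaf .df))))))) (.node (.node (.node (.node (.node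 (.node (.leaf .df) (.leaf (.cyc (nat_lit 29) [(nat_lit 2971), (nat_lit 8341)]))) (.node (.leaf .df) (.leaf (.cyc (nat_lit 15) [(nat_lit 12440), (nat_lit 12436), (nat_lit 12030), (nat_lit 3024), (nat_lit 5415), (nat_lit 7015), (nat_lit 9422), (nat_lit 4029), (nat_lit 11806)])))) (.node (.node (.leaf .df) (.leaf (.cyc (nat_lit 8) [(nat_lit 3087), (nat_lit 9299), (nat_lit 8469), (nat_lit 10392), (nat_lit 10390)]))) (.node (.leaf (.cyc (nat_lit 2) [(nat_lit 2101), (nat_lit 2100)])) (.leaf .df)))) (.node (.node (.node (.leaf .df) (.leaf (.cyc (nat_lit 20) [(nat_lit 2768), (nat_lit 1017), (nat_lit 1018), (nat_lit 6482), (nat_lit 9065), (nat_lit 2508), (nat_lit 8792), (nat_lit 3160)]))) (.node (.leaf (.cyc (nat_lit 11) [(nat_lit 1041), (nat_lit 350), (nat_lit 110), (nat_lit 4374), (nat_lit 113), (nat_lit 358), (nat_lit 1066)])) (.leaf .df))) (.node (.node (.leaf .df) (.leaf (.cyc (nat_lit 13) [(nat_lit 11201), (nat_lit 3874), (nat_lit 5961), (nat_lit 10699),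 (nat_lit 10794), (nat_lit 10793), (nat_lit 11417)]))) (.node (.leaf (.cyc (nat_lit 5) [(nat_lit 2972), (nat_lit 2971)])) (.leaf .df))))) (.node (.node (.node (.node (.leaf .df) (.leaf (.cyc (nat_lit 22) [(nat_lit 2665), (nat_lit 5190), (nat_lit 2661), (nat_lit 8856), (nat_lit 5629), (nat_lit 8650), (nat_lit 3297), (nat_lit 3296)]))) (.node (.leaf (.cyc (nat_lit 6) [(nat_lit 495), (nat_lit 4747)])) (.leaf (.cyc (nat_lit 2) [(nat_lit 4285), (nat_lit 11335)])))) (.node (.node (.leaf .df) (.leaf (.cyc (nat_lit 25) [(nat_lit 3446), (nat_lit 10903)]))) (.node (.leaf (.cyc (nat_lit 12) [(nat_lit 2557), (nat_lit 927), (nat_lit 309), (nat_lit 310), (nat_lit 4654), (nat_lit 4443), (nat_lit 373), (nat_lit 4670), (nat_lit 1153)])) (.leaf .df)))) (.node (.node (.node (.leaf .df) (.leaf (.cyc (nat_lit 0) [(nat_lit 9793), (nat_lit 3532)]))) (.node (.leaf (.cyc (nat_lit 26) [(nat_lit 694), (nat_lit 4530), (nat_lit 699), (nat_lit 4933), (nat_lit 4799), (nat_lit 4800),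 (nat_lit 531), (nat_lit 529), (nat_lit 1532)])) (.leaf .df))) (.node (.node (.leaf .df) (.leaf (.cyc (nat_lit 3) [(nat_lit 3885), (nat_lit 11190), (nat_lit 11455), (nat_lit 10503), (nat_lit 4062)]))) (.node (.leaf (.cyc (nat_lit 4) [(nat_lit 1794), (nat_lit 623), (nat_lit 621), (nat_lit 1785), (nat_lit 7831), (nat_lit 6232)])) (.leaf .df)))))) (.node (.node (.node (.node (.node (.leaf .df) (.leaf (.cyc (nat_lit 9) [(nat_lit 1592), (nat_lit 1590), (nat_lit 6054), (nat_lit 8594), (nat_lit 5730)]))) (.node (.leaf (.cyc (nat_lit 2) [(nat_lit 205), (nat_lit 204)])) (.leaf (.cyc (nat_lit 2) [(nat_lit 4231), (nat_lit 11947)])))) (.node (.node (.leaf .df) (.leaf (.cyc (nat_lit 3) [(nat_lit 5846), (nat_lit 10649), (nat_lit 10645), (nat_lit 3710), (nat_lit 3711)]))) (.node (.leaf (.cyc (nat_lit 8) [(nat_lit 2319), (nat_lit 2317), (nat_lit 6552), (nat_lit 2346), (nat_lit 2348)])) (.leaf .df)))) (.node (.node (.node (.leaf .df) (.leaf (.cyc (nat_lit 7) [(nat_lit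 8780), (nat_lit 1333), (nat_lit 455), (nat_lit 4463), (nat_lit 458), (nat_lit 1341), (nat_lit 3407)]))) (.node (.leaf (.cyc (nat_lit 11) [(nat_lit 1285), (nat_lit 4709), (nat_lit 4525), (nat_lit 4405), (nat_lit 140), (nat_lit 441), (nat_lit 5529)])) (.leaf .df))) (.node (.node (.leaf .df) (.leaf (.cyc (nat_lit 8) [(nat_lit 3995), (nat_lit 1979), (nat_lit 5007), (nat_lit 5658), (nat_lit 3535)]))) (.node (.leaf (.cyc (nat_lit 6) [(nat_lit 3203), (nat_lit 3202)])) (.leaf .df))))) (.node (.node (.node (.node (.leaf .df) (.leaf (.cyc (nat_lit 19) [(nat_lit 3122), (nat_lit 9112)]))) (.node (.leaf (.cyc (nat_lit 11) [(nat_lit 769), (nat_lit 4556), (nat_lit 255), (nat_lit 77), (nat_lit 78), (nat_lit 259), (nat_lit 790)])) (.leaf (.cyc (nat_lit 8) [(nat_lit 11132), (nat_lit 13188), (nat_lit 13187), (nat_lit 12532), (nat_lit 4336)])))) (.node (.node (.leaf .df) (.leaf (.cyc (nat_lit 8) [(nat_lit 11160), (nat_lit 1777), (nat_lit 1780), (nat_lit 9321), (nat_lit 9088)])))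 (.node (.leaf (.cyc (nat_lit 18) [(nat_lit 2653), (nat_lit 7065)])) (.leaf .df)))) (.node (.node (.node (.leaf .df) (.leaf (.cyc (nat_lit 5) [(nat_lit 3617), (nat_lit 3616)]))) (.node (.leaf (.cyc (nat_lit 5) [(nat_lit 1818), (nat_lit 1817)])) (.leaf .df))) (.node (.node (.leaf .df) (.leaf (.cyc (nat_lit 0) [(nat_lit 7448), (nat_lit 4123)]))) (.node (.leaf (.cyc (nat_lit 2) [(nat_lit 8089), (nat_lit 8066)])) (.leaf .df))))))))
noncomputable def c4P0101101 : BT Pf := (.node (.node (.node (.node (.node (.node (.node (.leaf .df) (.leaf (.cyc (nat_lit 28) [(nat_lit 5306), (nat_lit 8275), (nat_lit 1948)]))) (.node (.leaf .df) (.leaf (.cyc (nat_lit 21) [(nat_lit 4159), (nat_lit 6648), (nat_lit 11028), (nat_lit 11141), (nat_lit 11140)])))) (.node (.node (.leaf .df) (.leaf (.cyc (nat_lit 5) [(nat_lit 3662), (nat_lit 3661)]))) (.node (.leaf (.cyc (nat_lit 11) [(nat_lit 1107), (nat_lit 373), (nat_lit 4443), (nat_lit 377), (nat_lit 1112), (nat_lit 6208), (nat_lit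 6233)])) (.leaf .df)))) (.node (.node (.node (.leaf .df) (.leaf (.cyc (nat_lit 2) [(nat_lit 9305), (nat_lit 7832)]))) (.node (.leaf (.cyc (nat_lit 5) [(nat_lit 995), (nat_lit 994)])) (.leaf .df))) (.node (.node (.leaf .df) (.leaf (.cyc (nat_lit 14) [(nat_lit 11243), (nat_lit 11353)]))) (.node (.leaf (.cyc (nat_lit 25) [(nat_lit 1080), (nat_lit 7255)])) (.leaf .df))))) (.node (.node (.node (.node (.leaf .df) (.leaf (.cyc (nat_lit 18) [(nat_lit 7531), (nat_lit 8789)]))) (.node (.leaf (.cyc (nat_lit 9) [(nat_lit 427), (nat_lit 4455), (nat_lit 55), (nat_lit 57), (nat_lit 191)])) (.leaf (.cyc (nat_lit 4) [(nat_lit 4272), (nat_lit 4271), (nat_lit 12886), (nat_lit 11079), (nat_lit 11172)])))) (.node (.node (.leaf .df) (.leaf (.cyc (nat_lit 29) [(nat_lit 7855), (nat_lit 10840)]))) (.node (.leaf (.cyc (nat_lit 20) [(nat_lit 2471), (nat_lit 886), (nat_lit 294), (nat_lit 4419), (nat_lit 298), (nat_lit 900), (nat_lit 2493)])) (.leaf .df)))) (.node (.node (.node (.leaf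 .df) (.leaf (.cyc (nat_lit 1) [(nat_lit 7343), (nat_lit 3491)]))) (.node (.leaf (.cyc (nat_lit 6) [(nat_lit 5720), (nat_lit 5537)])) (.leaf .df))) (.node (.node (.leaf .df) (.leaf (.cyc (nat_lit 20) [(nat_lit 3428), (nat_lit 5608), (nat_lit 3423), (nat_lit 9658), (nat_lit 6077), (nat_lit 3929), (nat_lit 11863), (nat_lit 11766)]))) (.node (.leaf (.cyc (nat_lit 25) [(nat_lit 7659), (nat_lit 7765)])) (.leaf .df)))))) (.node (.node (.node (.node (.node (.leaf .df) (.leaf (.cyc (nat_lit 18) [(nat_lit 8376), (nat_lit 8534), (nat_lit 5097)]))) (.node (.leaf (.cyc (nat_lit 5) [(nat_lit 118), (nat_lit 117)])) (.leaf (.cyc (nat_lit 6) [(nat_lit 12632), (nat_lit 12523)])))) (.node (.node (.leaf .df) (.leaf (.cyc (nat_lit 18) [(nat_lit 3410), (nat_lit 10585)]))) (.node (.leaf (.cyc (nat_lit 4) [(nat_lit 5060), (nat_lit 637), (nat_lit 635), (nat_lit 5993), (nat_lit 6489)])) (.leaf .df)))) (.node (.node (.node (.leaf .df) (.leaf (.cyc (nat_lit 5) [(nat_lit 3387), (nat_lit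 3386)]))) (.node (.leaf (.cyc (nat_lit 5) [(nat_lit 1259), (nat_lit 1258)])) (.leaf .df))) (.node (.node (.leaf .df) (.leaf (.cyc (nat_lit 27) [(nat_lit 3978), (nat_lit 6143), (nat_lit 7882), (nat_lit 7700), (nat_lit 5473), (nat_lit 3315), (nat_lit 11491)]))) (.node (.leaf (.cyc (nat_lit 8) [(nat_lit 1642), (nat_lit 4824), (nat_lit 5860), (nat_lit 7512), (nat_lit 7511)])) (.leaf .df))))) (.node (.node (.node (.node (.leaf .df) (.leaf (.cyc (nat_lit 11) [(nat_lit 3168), (nat_lit 1194), (nat_lit 404), (nat_lit 406), (nat_lit 1197), (nat_lit 9005), (nat_lit 5829), (nat_lit 5847)]))) (.node (.leaf (.cyc (nat_lit 11) [(nat_lit 676), (nat_lit 219), (nat_lit 67), (nat_lit 4364), (nat_lit 71), (nat_lit 235), (nat_lit 721)])) (.leaf (.cyc (nat_lit 20) [(nat_lit 9885), (nat_lit 3535), (nat_lit 1419), (nat_lit 1420), (nat_lit 3538), (nat_lit 12126), (nat_lit 13143)])))) (.node (.node (.leaf .df) (.leaf (.cyc (nat_lit 6) [(nat_lit 11097), (nat_lit 10175)]))) (.node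 (.leaf (.cyc (nat_lit 2) [(nat_lit 2681), (nat_lit 2680)])) (.leaf .df)))) (.node (.node (.node (.leaf .df) (.leaf (.cyc (nat_lit 25) [(nat_lit 3426), (nat_lit 10070)]))) (.node (.leaf (.cyc (nat_lit 2) [(nat_lit 1754), (nat_lit 1753)])) (.leaf .df))) (.node (.node (.leaf .df) (.leaf (.cyc (nat_lit 22) [(nat_lit 2589), (nat_lit 6368), (nat_lit 12112), (nat_lit 9684), (nat_lit 5069), (nat_lit 5691), (nat_lit 3591)]))) (.node (.leaf (.cyc (nat_lit 18) [(nat_lit 2946), (nat_lit 8023), (nat_lit 2907)])) (.leaf .df))))))) (.node (.node (.node (.node (.node (.node (.leaf .df) (.leaf (.cyc (nat_lit 18) [(nat_lit 4874), (nat_lit 8407), (nat_lit 1537)]))) (.node (.leaf .df) (.leaf (.cyc (nat_lit 6) [(nat_lit 4188), (nat_lit 4187)])))) (.node (.node (.leaf .df) (.leaf (.cyc (nat_lit 7) [(nat_lit 3689), (nat_lit 1547), (nat_lit 5513), (nat_lit 296), (nat_lit 293), (nat_lit 883), (nat_lit 2466)]))) (.node (.leaf (.cyc (nat_lit 5) [(nat_lit 2166), (nat_lit 2165)]))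 (.leaf .df)))) (.node (.node (.node (.leaf .df) (.leaf (.cyc (nat_lit 8) [(nat_lit 5977), (nat_lit 9431), (nat_lit 7427), (nat_lit 6602), (nat_lit 6634)]))) (.node (.leaf (.cyc (nat_lit 0) [(nat_lit 5311), (nat_lit 1138)])) (.leaf .df))) (.node (.node (.leaf .df) (.leaf (.cyc (nat_lit 5) [(nat_lit 3934), (nat_lit 3933)]))) (.node (.leaf (.cyc (nat_lit 29) [(nat_lit 3016), (nat_lit 7384)])) (.leaf .df))))) (.node (.node (.node (.node (.leaf .df) (.leaf (.cyc (nat_lit 28) [(nat_lit 2503), (nat_lit 8918)]))) (.node (.leaf (.cyc (nat_lit 6) [(nat_lit 574), (nat_lit 573)])) (.leaf (.cyc (nat_lit 11) [(nat_lit 12216), (nat_lit 3788), (nat_lit 10894), (nat_lit 8890), (nat_lit 5427), (nat_lit 3259), (nat_lit 4296)])))) (.node (.node (.leaf .df) (.leaf (.cyc (nat_lit 7) [(nat_lit 8574), (nat_lit 7417), (nat_lit 10539), (nat_lit 5438), (nat_lit 3198), (nat_lit 10966), (nat_lit 7271)]))) (.node (.leaf (.cyc (nat_lit 2) [(nat_lit 2605), (nat_lit 2604)])) (.leaf .df))))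 (.node (.node (.node (.leaf .df) (.leaf (.cyc (nat_lit 14) [(nat_lit 9856), (nat_lit 3550)]))) (.node (.leaf (.cyc (nat_lit 16) [(nat_lit 1515), (nat_lit 522), (nat_lit 4481), (nat_lit 526), (nat_lit 4789), (nat_lit 181), (nat_lit 179), (nat_lit 561), (nat_lit 1614), (nat_lit 5849)])) (.leaf .df))) (.node (.node (.leaf .df) (.leaf (.cyc (nat_lit 20) [(nat_lit 9654), (nat_lit 11577), (nat_lit 11578), (nat_lit 11990), (nat_lit 11993), (nat_lit 10105), (nat_lit 10104)]))) (.node (.leaf (.cyc (nat_lit 29) [(nat_lit 6513), (nat_lit 7894), (nat_lit 7626)])) (.leaf .df)))))) (.node (.node (.node (.node (.node (.leaf .df) (.leaf (.cyc (nat_lit 8) [(nat_lit 6545), (nat_lit 8664), (nat_lit 7377), (nat_lit 8661), (nat_lit 7411)]))) (.node (.leaf (.cyc (nat_lit 5) [(nat_lit 270), (nat_lit 269)])) (.leaf (.cyc (nat_lit 3) [(nat_lit 11574), (nat_lit 11572), (nat_lit 10964), (nat_lit 10965), (nat_lit 12761)])))) (.node (.node (.leaf .df) (.leaf (.cyc (nat_lit 2) [(nat_lit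 3737), (nat_lit 10146)]))) (.node (.leaf (.cyc (nat_lit 4) [(nat_lit 1508), (nat_lit 519), (nat_lit 518), (nat_lit 5755), (nat_lit 2411)])) (.leaf .df)))) (.node (.node (.node (.leaf .df) (.leaf (.cyc (nat_lit 28) [(nat_lit 6540), (nat_lit 9688), (nat_lit 5715)]))) (.node (.leaf (.cyc (nat_lit 2) [(nat_lit 1342), (nat_lit 1341)])) (.leaf .df))) (.node (.node (.leaf .df) (.leaf (.cyc (nat_lit 17) [(nat_lit 6752), (nat_lit 11736)]))) (.node (.leaf (.cyc (nat_lit 6) [(nat_lit 3261), (nat_lit 3260)])) (.leaf .df))))) (.node (.node (.node (.node (.leaf .df) (.leaf (.cyc (nat_lit 18) [(nat_lit 1902), (nat_lit 9171)]))) (.node (.leaf (.cyc (nat_lit 2) [(nat_lit 844), (nat_lit 843)])) (.leaf (.cyc (nat_lit 7) [(nat_lit 13121), (nat_lit 10439), (nat_lit 7692), (nat_lit 6147), (nat_lit 2073), (nat_lit 4039), (nat_lit 4349)])))) (.node (.node (.leaf .df) (.leaf (.cyc (nat_lit 8) [(nat_lit 7427), (nat_lit 9432), (nat_lit 1748), (nat_lit 1747), (nat_lit 3882)])))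 (.node (.leaf (.cyc (nat_lit 8) [(nat_lit 2778), (nat_lit 2776), (nat_lit 7127), (nat_lit 2499), (nat_lit 2501)])) (.leaf .df)))) (.node (.node (.node (.leaf .df) (.leaf (.cyc (nat_lit 3) [(nat_lit 2485), (nat_lit 10199), (nat_lit 2839), (nat_lit 9150), (nat_lit 5801)]))) (.node (.leaf (.cyc (nat_lit 7) [(nat_lit 1886), (nat_lit 658), (nat_lit 212), (nat_lit 4491), (nat_lit 4492), (nat_lit 581), (nat_lit 1674)])) (.leaf .df))) (.node (.node (.leaf .df) (.leaf (.cyc (nat_lit 6) [(nat_lit 12249), (nat_lit 9848)]))) (.node (.leaf (.cyc (nat_lit 20) [(nat_lit 1044), (nat_lit 4632), (nat_lit 4951), (nat_lit 5382), (nat_lit 8151), (nat_lit 2742), (nat_lit 2744), (nat_lit 7993)])) (.leaf .df))))))))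
noncomputable def c4P010110 : BT Pf := .node c4P0101100 c4P0101101
noncomputable def c4P0101110 : BT Pf := (.node (.node (.node (.node (.node (.node (.node (.leaf .df) (.leaf (.cyc (nat_lit 18) [(nat_lit 2803), (nat_lit 8247)]))) (.node (.leaf .df) (.leaf (.cyc (nat_lit 25) [(nat_lit 11726), (nat_lit 12342)])))) (.node (.node (.leaf .df) (.leaf (.cyc (nat_lit 7) [(nat_lit 3655), (nat_lit 1508), (nat_lit 1507), (nat_lit 5760), (nat_lit 1445), (nat_lit 1446), (nat_lit 3581)]))) (.node (.leaf (.cyc (nat_lit 4) [(nat_lit 1989), (nat_lit 695), (nat_lit 226), (nat_lit 229), (nat_lit 705)])) (.leaf .df)))) (.node (.node (.node (.leaf .df) (.leaf (.cyc (nat_lit 34) [(nat_lit 7801), (nat_lit 4835), (nat_lit 1685), (nat_lit 8013), (nat_lit 8015), (nat_lit 9104), (nat_lit 5372), (nat_lit 3120), (nat_lit 7490), (nat_lit 3142)]))) (.node (.leaf (.cyc (nat_lit 5) [(nat_lit 957), (nat_lit 956)])) (.leaf .df))) (.node (.node (.leaf .df) (.leaf (.cyc (nat_lit 19) [(nat_lit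 2300), (nat_lit 11320)]))) (.node (.leaf (.cyc (nat_lit 5) [(nat_lit 2890), (nat_lit 2889)])) (.leaf .df))))) (.node (.node (.node (.node (.leaf .df) (.leaf (.cyc (nat_lit 25) [(nat_lit 8757), (nat_lit 8760)]))) (.node (.leaf (.cyc (nat_lit 22) [(nat_lit 388), (nat_lit 4445), (nat_lit 4446), (nat_lit 4379), (nat_lit 4390), (nat_lit 4391), (nat_lit 185)])) (.leaf (.cyc (nat_lit 13) [(nat_lit 11764), (nat_lit 12011), (nat_lit 4086), (nat_lit 8549), (nat_lit 8552), (nat_lit 7287), (nat_lit 4264)])))) (.node (.node (.leaf .df) (.leaf (.cyc (nat_lit 8) [(nat_lit 1619), (nat_lit 1618), (nat_lit 3759), (nat_lit 10807), (nat_lit 10638)]))) (.node (.leaf (.cyc (nat_lit 31) [(nat_lit 5667), (nat_lit 6461), (nat_lit 804), (nat_lit 4561), (nat_lit 798), (nat_lit 6711), (nat_lit 6432)])) (.leaf .df)))) (.node (.node (.node (.leaf .df) (.leaf (.cyc (nat_lit 1) [(nat_lit 9669), (nat_lit 3473)]))) (.node (.leaf (.cyc (nat_lit 3) [(nat_lit 5685), (nat_lit 1452), (nat_lit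 497), (nat_lit 499), (nat_lit 1459)])) (.leaf .df))) (.node (.node (.leaf .df) (.leaf (.cyc (nat_lit 22) [(nat_lit 11833), (nat_lit 2178), (nat_lit 2175), (nat_lit 11798), (nat_lit 5873), (nat_lit 8424), (nat_lit 3955)]))) (.node (.leaf (.cyc (nat_lit 19) [(nat_lit 1666), (nat_lit 7736)])) (.leaf .df)))))) (.node (.node (.node (.node (.node (.leaf .df) (.leaf (.cyc (nat_lit 24) [(nat_lit 1430), (nat_lit 4760), (nat_lit 1435), (nat_lit 6371), (nat_lit 2174), (nat_lit 2173), (nat_lit 8396), (nat_lit 8505), (nat_lit 2239), (nat_lit 2237)]))) (.node (.leaf (.cyc (nat_lit 11) [(nat_lit 80), (nat_lit 22), (nat_lit 4355), (nat_lit 4352), (nat_lit 5), (nat_lit 23), (nat_lit 81)])) (.leaf (.cyc (nat_lit 22) [(nat_lit 12600), (nat_lit 11058), (nat_lit 11633), (nat_lit 3403), (nat_lit 1338), (nat_lit 1339), (nat_lit 3404)])))) (.node (.node (.leaf .df) (.leaf (.cyc (nat_lit 4) [(nat_lit 3699), (nat_lit 8491), (nat_lit 10203), (nat_lit 10205), (nat_lit 7203)])))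 (.node (.leaf (.cyc (nat_lit 23) [(nat_lit 487), (nat_lit 4470), (nat_lit 490), (nat_lit 4758), (nat_lit 313), (nat_lit 311), (nat_lit 933), (nat_lit 6457), (nat_lit 2267), (nat_lit 2266)])) (.leaf .df)))) (.node (.node (.node (.leaf .df) (.leaf (.cyc (nat_lit 3) [(nat_lit 9521), (nat_lit 1588), (nat_lit 8610), (nat_lit 5555), (nat_lit 3369)]))) (.node (.leaf (.cyc (nat_lit 8) [(nat_lit 787), (nat_lit 258), (nat_lit 260), (nat_lit 794), (nat_lit 5433)])) (.leaf .df))) (.node (.node (.leaf .df) (.leaf (.cyc (nat_lit 0) [(nat_lit 9301), (nat_lit 11576)]))) (.node (.leaf (.cyc (nat_lit 5) [(nat_lit 3106), (nat_lit 3105)])) (.leaf .df))))) (.node (.node (.node (.node (.leaf .df) (.leaf (.cyc (nat_lit 5) [(nat_lit 9008), (nat_lit 5869)]))) (.node (.leaf (.cyc (nat_lit 2) [(nat_lit 683), (nat_lit 682)])) (.leaf (.cyc (nat_lit 9) [(nat_lit 3865), (nat_lit 5957), (nat_lit 11136), (nat_lit 12578), (nat_lit 4315)])))) (.node (.node (.leaf .df) (.leaf (.cyc (nat_lit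 5) [(nat_lit 3826), (nat_lit 9781)]))) (.node (.leaf (.cyc (nat_lit 12) [(nat_lit 6969), (nat_lit 2633), (nat_lit 961), (nat_lit 321), (nat_lit 4432), (nat_lit 326), (nat_lit 975), (nat_lit 5195), (nat_lit 991)])) (.leaf .df)))) (.node (.node (.node (.leaf .df) (.leaf (.cyc (nat_lit 9) [(nat_lit 6030), (nat_lit 9356), (nat_lit 9364), (nat_lit 7610), (nat_lit 10040)]))) (.node (.leaf (.cyc (nat_lit 1) [(nat_lit 5910), (nat_lit 1712)])) (.leaf .df))) (.node (.node (.leaf .df) (.leaf (.cyc (nat_lit 11) [(nat_lit 2836), (nat_lit 2834), (nat_lit 10191), (nat_lit 2486), (nat_lit 5124), (nat_lit 10624), (nat_lit 4105)]))) (.node (.leaf (.cyc (nat_lit 28) [(nat_lit 7310), (nat_lit 7990)])) (.leaf .df))))))) (.node (.node (.node (.node (.node (.node (.leaf .df) (.leaf (.cyc (nat_lit 10) [(nat_lit 2618), (nat_lit 952), (nat_lit 949), (nat_lit 2610), (nat_lit 8377)]))) (.node (.leaf .df) (.leaf (.cyc (nat_lit 8) [(nat_lit 10826), (nat_lit 10349), (nat_lit 3128),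 (nat_lit 12473), (nat_lit 12471)])))) (.node (.node (.leaf .df) (.leaf (.cyc (nat_lit 8) [(nat_lit 10088), (nat_lit 3607), (nat_lit 10423), (nat_lit 3682), (nat_lit 3683)]))) (.node (.leaf (.cyc (nat_lit 4) [(nat_lit 1787), (nat_lit 4867), (nat_lit 4548), (nat_lit 754), (nat_lit 2135)])) (.leaf .df)))) (.node (.node (.node (.leaf .df) (.leaf (.cyc (nat_lit 28) [(nat_lit 7543), (nat_lit 9401)]))) (.node (.leaf (.cyc (nat_lit 5) [(nat_lit 1102), (nat_lit 1101)])) (.leaf .df))) (.node (.node (.leaf .df) (.leaf (.cyc (nat_lit 29) [(nat_lit 3628), (nat_lit 11448)]))) (.node (.leaf (.cyc (nat_lit 14) [(nat_lit 6722), (nat_lit 2989)])) (.leaf .df))))) (.node (.node (.node (.node (.leaf .df) (.leaf (.cyc (nat_lit 28) [(nat_lit 3256), (nat_lit 8886)]))) (.node (.leaf (.cyc (nat_lit 5) [(nat_lit 534), (nat_lit 533)])) (.leaf (.cyc (nat_lit 6) [(nat_lit 12984), (nat_lit 12930)])))) (.node (.node (.leaf .df) (.leaf (.cyc (nat_lit 3) [(nat_lit 5890), (nat_lit 10934),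 (nat_lit 10937), (nat_lit 10931), (nat_lit 2704), (nat_lit 2706)]))) (.node (.leaf (.cyc (nat_lit 4) [(nat_lit 2584), (nat_lit 5161), (nat_lit 875), (nat_lit 5520), (nat_lit 1998)])) (.leaf .df)))) (.node (.node (.node (.leaf .df) (.leaf (.cyc (nat_lit 10) [(nat_lit 3452), (nat_lit 1372), (nat_lit 9698), (nat_lit 9700), (nat_lit 3546)]))) (.node (.leaf (.cyc (nat_lit 5) [(nat_lit 1567), (nat_lit 1566)])) (.leaf .df))) (.node (.node (.leaf .df) (.leaf (.cyc (nat_lit 14) [(nat_lit 11575), (nat_lit 11961)]))) (.node (.leaf (.cyc (nat_lit 25) [(nat_lit 7323), (nat_lit 7861)])) (.leaf .df)))))) (.node (.node (.node (.node (.node (.leaf .df) (.leaf (.cyc (nat_lit 30) [(nat_lit 5567), (nat_lit 8633), (nat_lit 8631), (nat_lit 2624), (nat_lit 5545), (nat_lit 1301), (nat_lit 6576), (nat_lit 2362), (nat_lit 2360)]))) (.node (.leaf (.cyc (nat_lit 5) [(nat_lit 239), (nat_lit 238)])) (.leaf (.cyc (nat_lit 3) [(nat_lit 12729), (nat_lit 4142), (nat_lit 12246), (nat_lit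 9984), (nat_lit 4093)])))) (.node (.node (.leaf .df) (.leaf (.cyc (nat_lit 17) [(nat_lit 10633), (nat_lit 10680), (nat_lit 7124)]))) (.node (.leaf (.cyc (nat_lit 6) [(nat_lit 2377), (nat_lit 2376)])) (.leaf .df)))) (.node (.node (.node (.leaf .df) (.leaf (.cyc (nat_lit 13) [(nat_lit 9657), (nat_lit 9656), (nat_lit 8119), (nat_lit 6070), (nat_lit 1846), (nat_lit 4885), (nat_lit 1850)]))) (.node (.leaf (.cyc (nat_lit 5) [(nat_lit 1308), (nat_lit 4886)])) (.leaf .df))) (.node (.node (.leaf .df) (.leaf (.cyc (nat_lit 14) [(nat_lit 11543), (nat_lit 11705)]))) (.node (.leaf (.cyc (nat_lit 2) [(nat_lit 3227), (nat_lit 3226)])) (.leaf .df))))) (.node (.node (.node (.node (.leaf .df) (.leaf (.cyc (nat_lit 8) [(nat_lit 9140), (nat_lit 9133), (nat_lit 3053), (nat_lit 9144), (nat_lit 9145)]))) (.node (.leaf (.cyc (nat_lit 6) [(nat_lit 814), (nat_lit 813)])) (.leaf (.cyc (nat_lit 13) [(nat_lit 13042), (nat_lit 13041), (nat_lit 12983), (nat_lit 13034), (nat_lit 13039),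 (nat_lit 13120), (nat_lit 13241)])))) (.node (.node (.leaf .df) (.leaf (.cyc (nat_lit 14) [(nat_lit 10564), (nat_lit 3872)]))) (.node (.leaf (.cyc (nat_lit 6) [(nat_lit 2745), (nat_lit 2744)])) (.leaf .df)))) (.node (.node (.node (.leaf .df) (.leaf (.cyc (nat_lit 19) [(nat_lit 9535), (nat_lit 10164)]))) (.node (.leaf (.cyc (nat_lit 13) [(nat_lit 6073), (nat_lit 645), (nat_lit 209), (nat_lit 4398), (nat_lit 203), (nat_lit 630), (nat_lit 1814)])) (.leaf .df))) (.node (.node (.leaf .df) (.leaf (.cyc (nat_lit 6) [(nat_lit 4131), (nat_lit 4130)]))) (.node (.leaf (.cyc (nat_lit 29) [(nat_lit 6523), (nat_lit 8121), (nat_lit 6476)])) (.leaf .df))))))))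
noncomputable def c4P0101111 : BT Pf := (.node (.node (.node (.node (.node (.node (.node (.leaf .df) (.leaf (.cyc (nat_lit 18) [(nat_lit 2385), (nat_lit 8299)]))) (.node (.leaf .df) (.leaf (.cyc (nat_lit 25) [(nat_lit 4166), (nat_lit 12408)])))) (.node (.node (.leaf .df) (.leaf (.cyc (nat_lit 1) [(nat_lit 9930), (nat_lit 10358)]))) (.node (.leaf (.cyc (nat_lit 2) [(nat_lit 2060), (nat_lit 2059)])) (.leaf .df)))) (.node (.node (.node (.leaf .df) (.leaf (.cyc (nat_lit 21) [(nat_lit 7235), (nat_lit 9336), (nat_lit 9165), (nat_lit 1628), (nat_lit 1626)]))) (.node (.leaf (.cyc (nat_lit 30) [(nat_lit 4947), (nat_lit 4629), (nat_lit 1031), (nat_lit 5241), (nat_lit 356), (nat_lit 4544), (nat_lit 4797), (nat_lit 4977), (nat_lit 751), (nat_lit 749)])) (.leaf .df))) (.node (.node (.leaf .df) (.leaf (.cyc (nat_lit 29) [(nat_lit 11380), (nat_lit 11384)]))) (.node (.leaf (.cyc (nat_lit 2) [(nat_lit 2951), (nat_lit 2950)])) (.leaf .df))))) (.node (.node (.node (.node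 (.leaf .df) (.leaf (.cyc (nat_lit 30) [(nat_lit 6532), (nat_lit 6530), (nat_lit 2315), (nat_lit 8823), (nat_lit 5663), (nat_lit 6463), (nat_lit 5157), (nat_lit 6455), (nat_lit 2264), (nat_lit 2262)]))) (.node (.leaf (.cyc (nat_lit 2) [(nat_lit 461), (nat_lit 460)])) (.leaf (.cyc (nat_lit 2) [(nat_lit 4279), (nat_lit 12085)])))) (.node (.node (.leaf .df) (.leaf (.cyc (nat_lit 10) [(nat_lit 3704), (nat_lit 5817), (nat_lit 3706), (nat_lit 10596), (nat_lit 3779)]))) (.node (.leaf (.cyc (nat_lit 29) [(nat_lit 5960), (nat_lit 6776)])) (.leaf .df)))) (.node (.node (.node (.leaf .df) (.leaf (.cyc (nat_lit 5) [(nat_lit 3518), (nat_lit 3517)]))) (.node (.leaf (.cyc (nat_lit 5) [(nat_lit 5752), (nat_lit 5539)])) (.leaf .df))) (.node (.node (.leaf .df) (.leaf (.cyc (nat_lit 4) [(nat_lit 11896), (nat_lit 2518), (nat_lit 5130), (nat_lit 5229), (nat_lit 2772)]))) (.node (.leaf (.cyc (nat_lit 8) [(nat_lit 1393), (nat_lit 1391), (nat_lit 7801), (nat_lit 4835), (nat_lit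 1685)])) (.leaf .df)))))) (.node (.node (.node (.node (.node (.leaf .df) (.leaf (.cyc (nat_lit 5) [(nat_lit 8263), (nat_lit 8161)]))) (.node (.leaf (.cyc (nat_lit 9) [(nat_lit 159), (nat_lit 4386), (nat_lit 4395), (nat_lit 4383), (nat_lit 145)])) (.leaf (.cyc (nat_lit 28) [(nat_lit 12662), (nat_lit 12665)])))) (.node (.node (.leaf .df) (.leaf (.cyc (nat_lit 15) [(nat_lit 10617), (nat_lit 10223), (nat_lit 2435), (nat_lit 868), (nat_lit 4582), (nat_lit 865), (nat_lit 6615), (nat_lit 10100), (nat_lit 10101)]))) (.node (.leaf (.cyc (nat_lit 26) [(nat_lit 5072), (nat_lit 5065), (nat_lit 5046), (nat_lit 4736), (nat_lit 271), (nat_lit 269), (nat_lit 4738), (nat_lit 1361), (nat_lit 6521)])) (.leaf .df)))) (.node (.node (.node (.leaf .df) (.leaf (.cyc (nat_lit 17) [(nat_lit 9591), (nat_lit 9593)]))) (.node (.leaf (.cyc (nat_lit 1) [(nat_lit 5114), (nat_lit 1289)])) (.leaf .df))) (.node (.node (.leaf .df) (.leaf (.cyc (nat_lit 4) [(nat_lit 3986), (nat_lit 7361),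 (nat_lit 10610), (nat_lit 7216), (nat_lit 9490)]))) (.node (.leaf (.cyc (nat_lit 5) [(nat_lit 3176), (nat_lit 3175)])) (.leaf .df))))) (.node (.node (.node (.node (.leaf .df) (.leaf (.cyc (nat_lit 13) [(nat_lit 9077), (nat_lit 1919), (nat_lit 670), (nat_lit 4515), (nat_lit 4637), (nat_lit 1070), (nat_lit 2898)]))) (.node (.leaf (.cyc (nat_lit 29) [(nat_lit 4770), (nat_lit 4984)])) (.leaf (.cyc (nat_lit 13) [(nat_lit 12068), (nat_lit 13171), (nat_lit 4327), (nat_lit 3501), (nat_lit 3503), (nat_lit 12305), (nat_lit 13177)])))) (.node (.node (.leaf .df) (.leaf (.cyc (nat_lit 8) [(nat_lit 9639), (nat_lit 11082), (nat_lit 5956), (nat_lit 5933), (nat_lit 3845)]))) (.node (.leaf (.cyc (nat_lit 5) [(nat_lit 2717), (nat_lit 2716)])) (.leaf .df)))) (.node (.node (.node (.leaf .df) (.leaf (.cyc (nat_lit 11) [(nat_lit 10091), (nat_lit 6454), (nat_lit 8828), (nat_lit 825), (nat_lit 4768), (nat_lit 1471), (nat_lit 3612)]))) (.node (.leaf (.cyc (nat_lit 3) [(nat_lit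 624), (nat_lit 201), (nat_lit 199), (nat_lit 618), (nat_lit 1775)])) (.leaf .df))) (.node (.node (.leaf .df) (.leaf (.cyc (nat_lit 18) [(nat_lit 3722), (nat_lit 12152), (nat_lit 4114)]))) (.node (.leaf (.cyc (nat_lit 28) [(nat_lit 2568), (nat_lit 8057)])) (.leaf .df))))))) (.node (.node (.node (.node (.node (.node (.leaf .df) (.leaf (.cyc (nat_lit 19) [(nat_lit 6001), (nat_lit 8440), (nat_lit 2088)]))) (.node (.leaf .df) (.leaf (.cyc (nat_lit 1) [(nat_lit 11361), (nat_lit 4196)])))) (.node (.node (.leaf .df) (.leaf (.cyc (nat_lit 22) [(nat_lit 7215), (nat_lit 10487), (nat_lit 3692), (nat_lit 5807), (nat_lit 7778), (nat_lit 7775), (nat_lit 3661)]))) (.node (.leaf (.cyc (nat_lit 4) [(nat_lit 5659), (nat_lit 5660), (nat_lit 5602), (nat_lit 5655), (nat_lit 6391)])) (.leaf .df)))) (.node (.node (.node (.leaf .df) (.leaf (.cyc (nat_lit 29) [(nat_lit 3034), (nat_lit 9464)]))) (.node (.leaf (.cyc (nat_lit 6) [(nat_lit 1171), (nat_lit 1170)])) (.leaf .df))) (.node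 (.node (.leaf .df) (.leaf (.cyc (nat_lit 0) [(nat_lit 10598), (nat_lit 11513)]))) (.node (.leaf (.cyc (nat_lit 0) [(nat_lit 7390), (nat_lit 3051)])) (.leaf .df))))) (.node (.node (.node (.node (.leaf .df) (.leaf (.cyc (nat_lit 25) [(nat_lit 6614), (nat_lit 8951)]))) (.node (.leaf (.cyc (nat_lit 4) [(nat_lit 303), (nat_lit 4702), (nat_lit 193), (nat_lit 196), (nat_lit 609)])) (.leaf (.cyc (nat_lit 9) [(nat_lit 11328), (nat_lit 10171), (nat_lit 7797), (nat_lit 9418), (nat_lit 4302)])))) (.node (.node (.leaf .df) (.leaf (.cyc (nat_lit 28) [(nat_lit 10032), (nat_lit 11001)]))) (.node (.leaf (.cyc (nat_lit 13) [(nat_lit 5419), (nat_lit 982), (nat_lit 328), (nat_lit 4432), (nat_lit 321), (nat_lit 960), (nat_lit 2631)])) (.leaf .df)))) (.node (.node (.node (.leaf .df) (.leaf (.cyc (nat_lit 8) [(nat_lit 3339), (nat_lit 7806), (nat_lit 9970), (nat_lit 3559), (nat_lit 3561)]))) (.node (.leaf (.cyc (nat_lit 17) [(nat_lit 5875), (nat_lit 5881)])) (.leaf .df))) (.node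 (.node (.leaf .df) (.leaf (.cyc (nat_lit 8) [(nat_lit 4089), (nat_lit 6397), (nat_lit 11057), (nat_lit 11633), (nat_lit 12004)]))) (.node (.leaf (.cyc (nat_lit 29) [(nat_lit 5250), (nat_lit 7928)])) (.leaf .df)))))) (.node (.node (.node (.node (.node (.leaf .df) (.leaf (.cyc (nat_lit 29) [(nat_lit 3008), (nat_lit 8697), (nat_lit 8566)]))) (.node (.leaf (.cyc (nat_lit 7) [(nat_lit 312), (nat_lit 98), (nat_lit 27), (nat_lit 4357), (nat_lit 22), (nat_lit 79), (nat_lit 262)])) (.leaf (.cyc (nat_lit 20) [(nat_lit 3345), (nat_lit 3346), (nat_lit 12391), (nat_lit 12387), (nat_lit 9507), (nat_lit 12268), (nat_lit 12793)])))) (.node (.node (.leaf .df) (.leaf (.cyc (nat_lit 7) [(nat_lit 6889), (nat_lit 2616), (nat_lit 10319), (nat_lit 8093), (nat_lit 6109), (nat_lit 6111), (nat_lit 10744), (nat_lit 10740)]))) (.node (.leaf (.cyc (nat_lit 6) [(nat_lit 2436), (nat_lit 2435)])) (.leaf .df)))) (.node (.node (.node (.leaf .df) (.leaf (.cyc (nat_lit 19) [(nat_lit 9704),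 (nat_lit 9720)]))) (.node (.leaf (.cyc (nat_lit 8) [(nat_lit 917), (nat_lit 4597), (nat_lit 913), (nat_lit 5625), (nat_lit 1380)])) (.leaf .df))) (.node (.node (.leaf .df) (.leaf (.cyc (nat_lit 1) [(nat_lit 4020), (nat_lit 11769)]))) (.node (.leaf (.cyc (nat_lit 3) [(nat_lit 7672), (nat_lit 2004), (nat_lit 4937), (nat_lit 4909), (nat_lit 1915)])) (.leaf .df))))) (.node (.node (.node (.node (.leaf .df) (.leaf (.cyc (nat_lit 8) [(nat_lit 6230), (nat_lit 9208), (nat_lit 2055), (nat_lit 9205), (nat_lit 5915)]))) (.node (.leaf (.cyc (nat_lit 12) [(nat_lit 5113), (nat_lit 869), (nat_lit 289), (nat_lit 89), (nat_lit 25), (nat_lit 26), (nat_lit 93), (nat_lit 4459), (nat_lit 440)])) (.leaf .df))) (.node (.node (.leaf .df) (.leaf (.cyc (nat_lit 13) [(nat_lit 3887), (nat_lit 7691), (nat_lit 5817), (nat_lit 9875), (nat_lit 3528), (nat_lit 9870), (nat_lit 9552)]))) (.node (.leaf (.cyc (nat_lit 2) [(nat_lit 2806), (nat_lit 2805)])) (.leaf .df)))) (.node (.node (.node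 (.leaf .df) (.leaf (.cyc (nat_lit 10) [(nat_lit 6644), (nat_lit 1489), (nat_lit 4774), (nat_lit 1491), (nat_lit 3635)]))) (.node (.leaf (.cyc (nat_lit 1) [(nat_lit 5470), (nat_lit 1928)])) (.leaf .df))) (.node (.node (.leaf .df) (.leaf (.cyc (nat_lit 6) [(nat_lit 12281), (nat_lit 12123)]))) (.node (.leaf (.cyc (nat_lit 19) [(nat_lit 7409), (nat_lit 8180)])) (.leaf .df))))))))
noncomputable def c4P010111 : BT Pf := .node c4P0101110 c4P0101111
noncomputable def c4P01011 : BT Pf := .node c4P010110 c4P010111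
noncomputable def c4P0101 : BT Pf := .node c4P01010 c4P01011
noncomputable def c4P010 : BT Pf := .node c4P0100 c4P0101
noncomputable def c4P0110000 : BT Pf := (.node (.node (.node (.node (.node (.node (.node (.leaf .df) (.leaf (.cyc (nat_lit 28) [(nat_lit 7408), (nat_lit 8196), (nat_lit 1744)]))) (.node (.leaf .df) (.leaf (.cyc (nat_lit 0) [(nat_lit 12184), (nat_lit 12292)])))) (.node (.node (.leaf .df) (.leaf (.cyc (nat_lit 6) [(nat_lit 3640), (nat_lit 6213)]))) (.node (.leaf (.cyc (nat_lit 9) [(nat_lit 6146), (nat_lit 6149), (nat_lit 6029), (nat_lit 652), (nat_lit 654), (nat_lit 1875)])) (.leaf .df)))) (.node (.node (.node (.leaf .df) (.leaf (.cyc (nat_lit 25) [(nat_lit 2051), (nat_lit 9217)]))) (.node (.leaf (.cyc (nat_lit 13) [(nat_lit 901), (nat_lit 298), (nat_lit 92), (nat_lit 4368), (nat_lit 85), (nat_lit 277), (nat_lit 839)])) (.leaf .df))) (.node (.node (.leaf .df) (.leaf (.cyc (nat_lit 11) [(nat_lit 3883), (nat_lit 5976), (nat_lit 1752), (nat_lit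 610), (nat_lit 611), (nat_lit 1756), (nat_lit 3891)]))) (.node (.leaf (.cyc (nat_lit 7) [(nat_lit 2794), (nat_lit 1029), (nat_lit 346), (nat_lit 4438), (nat_lit 350), (nat_lit 1040), (nat_lit 2820)])) (.leaf .df))))) (.node (.node (.node (.node (.leaf .df) (.leaf (.cyc (nat_lit 18) [(nat_lit 1124), (nat_lit 8704)]))) (.node (.leaf (.cyc (nat_lit 2) [(nat_lit 328), (nat_lit 327)])) (.leaf (.cyc (nat_lit 11) [(nat_lit 10275), (nat_lit 10375), (nat_lit 3673), (nat_lit 5783), (nat_lit 3674), (nat_lit 12549), (nat_lit 12805)])))) (.node (.node (.leaf .df) (.leaf (.cyc (nat_lit 29) [(nat_lit 3743), (nat_lit 10756)]))) (.node (.leaf (.cyc (nat_lit 15) [(nat_lit 2449), (nat_lit 5105), (nat_lit 5317), (nat_lit 5516), (nat_lit 698), (nat_lit 227), (nat_lit 229), (nat_lit 705), (nat_lit 6202)])) (.leaf .df)))) (.node (.node (.node (.leaf .df) (.leaf (.cyc (nat_lit 4) [(nat_lit 6985), (nat_lit 9541), (nat_lit 9559), (nat_lit 9732), (nat_lit 3445)]))) (.node (.leaf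 (.cyc (nat_lit 2) [(nat_lit 1396), (nat_lit 1395)])) (.leaf .df))) (.node (.node (.leaf .df) (.leaf (.cyc (nat_lit 0) [(nat_lit 9638), (nat_lit 11781)]))) (.node (.leaf (.cyc (nat_lit 5) [(nat_lit 7685), (nat_lit 5975)])) (.leaf .df)))))) (.node (.node (.node (.node (.node (.leaf .df) (.leaf (.cyc (nat_lit 30) [(nat_lit 7233), (nat_lit 6197), (nat_lit 1910), (nat_lit 8441), (nat_lit 4878), (nat_lit 6008), (nat_lit 4865), (nat_lit 1770), (nat_lit 5999), (nat_lit 2145)]))) (.node (.leaf (.cyc (nat_lit 2) [(nat_lit 9), (nat_lit 8)])) (.leaf (.cyc (nat_lit 0) [(nat_lit 12227), (nat_lit 4199)])))) (.node (.node (.leaf .df) (.leaf (.cyc (nat_lit 8) [(nat_lit 10488), (nat_lit 9516), (nat_lit 3333), (nat_lit 8018), (nat_lit 3352)]))) (.node (.leaf (.cyc (nat_lit 1) [(nat_lit 5490), (nat_lit 2206)])) (.leaf .df)))) (.node (.node (.node (.leaf .df) (.leaf (.cyc (nat_lit 3) [(nat_lit 7708), (nat_lit 9476), (nat_lit 3300), (nat_lit 5463), (nat_lit 3074)]))) (.node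 (.leaf (.cyc (nat_lit 9) [(nat_lit 4951), (nat_lit 4632), (nat_lit 4677), (nat_lit 4678), (nat_lit 1189)])) (.leaf .df))) (.node (.node (.leaf .df) (.leaf (.cyc (nat_lit 19) [(nat_lit 5359), (nat_lit 11524)]))) (.node (.leaf (.cyc (nat_lit 8) [(nat_lit 6634), (nat_lit 6602), (nat_lit 7428), (nat_lit 5340), (nat_lit 3058)])) (.leaf .df))))) (.node (.node (.node (.node (.leaf .df) (.leaf (.cyc (nat_lit 29) [(nat_lit 2478), (nat_lit 8963)]))) (.node (.leaf (.cyc (nat_lit 2) [(nat_lit 626), (nat_lit 625)])) (.leaf (.cyc (nat_lit 4) [(nat_lit 13061), (nat_lit 12914), (nat_lit 11010), (nat_lit 12133), (nat_lit 12129)])))) (.node (.node (.leaf .df) (.leaf (.cyc (nat_lit 2) [(nat_lit 3812), (nat_lit 3811)]))) (.node (.leaf (.cyc (nat_lit 29) [(nat_lit 6496), (nat_lit 6916)])) (.leaf .df)))) (.node (.node (.node (.leaf .df) (.leaf (.cyc (nat_lit 28) [(nat_lit 1479), (nat_lit 9989)]))) (.node (.leaf (.cyc (nat_lit 3) [(nat_lit 5889), (nat_lit 1649), (nat_lit 572),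 (nat_lit 574), (nat_lit 1656)])) (.leaf .df))) (.node (.node (.leaf .df) (.leaf (.cyc (nat_lit 28) [(nat_lit 11124), (nat_lit 12036)]))) (.node (.leaf (.cyc (nat_lit 28) [(nat_lit 7200), (nat_lit 7937), (nat_lit 5444)])) (.leaf .df))))))) (.node (.node (.node (.node (.node (.node (.leaf .df) (.leaf (.cyc (nat_lit 28) [(nat_lit 7328), (nat_lit 8324)]))) (.node (.leaf .df) (.leaf (.cyc (nat_lit 20) [(nat_lit 3591), (nat_lit 5690), (nat_lit 1494), (nat_lit 10079), (nat_lit 3472), (nat_lit 3473), (nat_lit 12415)])))) (.node (.node (.leaf .df) (.leaf (.cyc (nat_lit 20) [(nat_lit 9917), (nat_lit 9922), (nat_lit 9674), (nat_lit 10372), (nat_lit 9276), (nat_lit 7490), (nat_lit 7493)]))) (.node (.leaf (.cyc (nat_lit 6) [(nat_lit 2075), (nat_lit 6264)])) (.leaf .df)))) (.node (.node (.node (.leaf .df) (.leaf (.cyc (nat_lit 28) [(nat_lit 3092), (nat_lit 9349)]))) (.node (.leaf (.cyc (nat_lit 11) [(nat_lit 683), (nat_lit 222), (nat_lit 224), (nat_lit 4906), (nat_lit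 4576), (nat_lit 351), (nat_lit 1042)])) (.leaf .df))) (.node (.node (.leaf .df) (.leaf (.cyc (nat_lit 28) [(nat_lit 6280), (nat_lit 11397)]))) (.node (.leaf (.cyc (nat_lit 2) [(nat_lit 2957), (nat_lit 2956)])) (.leaf .df))))) (.node (.node (.node (.node (.leaf .df) (.leaf (.cyc (nat_lit 28) [(nat_lit 2317), (nat_lit 8834)]))) (.node (.leaf (.cyc (nat_lit 7) [(nat_lit 472), (nat_lit 150), (nat_lit 45), (nat_lit 4370), (nat_lit 4371), (nat_lit 4428), (nat_lit 292)])) (.leaf (.cyc (nat_lit 6) [(nat_lit 12933), (nat_lit 10835)])))) (.node (.node (.leaf .df) (.leaf (.cyc (nat_lit 3) [(nat_lit 10813), (nat_lit 1869), (nat_lit 8422), (nat_lit 5885), (nat_lit 3781)]))) (.node (.leaf (.cyc (nat_lit 4) [(nat_lit 923), (nat_lit 307), (nat_lit 306), (nat_lit 917), (nat_lit 2536)])) (.leaf .df)))) (.node (.node (.node (.leaf .df) (.leaf (.cyc (nat_lit 2) [(nat_lit 3523), (nat_lit 3522)]))) (.node (.leaf (.cyc (nat_lit 8) [(nat_lit 5588), (nat_lit 4773), (nat_lit 5762),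 (nat_lit 5680), (nat_lit 5760)])) (.leaf .df))) (.node (.node (.leaf .df) (.leaf (.cyc (nat_lit 14) [(nat_lit 11813), (nat_lit 4056)]))) (.node (.leaf (.cyc (nat_lit 19) [(nat_lit 7515), (nat_lit 7811)])) (.leaf .df)))))) (.node (.node (.node (.node (.node (.leaf .df) (.leaf (.cyc (nat_lit 25) [(nat_lit 8236), (nat_lit 8578)]))) (.node (.leaf (.cyc (nat_lit 5) [(nat_lit 176), (nat_lit 175)])) (.leaf (.cyc (nat_lit 9) [(nat_lit 12440), (nat_lit 12436), (nat_lit 12030), (nat_lit 11772), (nat_lit 4226)])))) (.node (.node (.leaf .df) (.leaf (.cyc (nat_lit 3) [(nat_lit 10629), (nat_lit 3291), (nat_lit 8768), (nat_lit 8771), (nat_lit 8775)]))) (.node (.leaf (.cyc (nat_lit 5) [(nat_lit 2326), (nat_lit 2325)])) (.leaf .df)))) (.node (.node (.node (.leaf .df) (.leaf (.cyc (nat_lit 28) [(nat_lit 9494), (nat_lit 9605)]))) (.node (.leaf (.cyc (nat_lit 30) [(nat_lit 4590), (nat_lit 889), (nat_lit 5498), (nat_lit 5500), (nat_lit 537), (nat_lit 4483), (nat_lit 4545),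 (nat_lit 4795), (nat_lit 535), (nat_lit 533)])) (.leaf .df))) (.node (.node (.leaf .df) (.leaf (.cyc (nat_lit 14) [(nat_lit 10382), (nat_lit 11652)]))) (.node (.leaf (.cyc (nat_lit 4) [(nat_lit 2701), (nat_lit 5200), (nat_lit 2645), (nat_lit 6962), (nat_lit 3188)])) (.leaf .df))))) (.node (.node (.node (.node (.leaf .df) (.leaf (.cyc (nat_lit 25) [(nat_lit 3090), (nat_lit 9090)]))) (.node (.leaf (.cyc (nat_lit 2) [(nat_lit 769), (nat_lit 768)])) (.leaf (.cyc (nat_lit 4) [(nat_lit 4332), (nat_lit 9871), (nat_lit 12505), (nat_lit 12506), (nat_lit 12495)])))) (.node (.node (.leaf .df) (.leaf (.cyc (nat_lit 2) [(nat_lit 3850), (nat_lit 3849)]))) (.node (.leaf (.cyc (nat_lit 25) [(nat_lit 2097), (nat_lit 7044)])) (.leaf .df)))) (.node (.node (.node (.leaf .df) (.leaf (.cyc (nat_lit 2) [(nat_lit 3614), (nat_lit 5989)]))) (.node (.leaf (.cyc (nat_lit 5) [(nat_lit 1793), (nat_lit 1792)])) (.leaf .df))) (.node (.node (.leaf .df) (.leaf (.cyc (nat_lit 14) [(nat_lit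 9621), (nat_lit 4118)]))) (.node (.leaf (.cyc (nat_lit 25) [(nat_lit 7807), (nat_lit 8067), (nat_lit 6424)])) (.leaf .df))))))))
noncomputable def c4P0110001 : BT Pf := (.node (.node (.node (.node (.node (.node (.node (.leaf .df) (.leaf (.cyc (nat_lit 4) [(nat_lit 2755), (nat_lit 8245), (nat_lit 1033), (nat_lit 1036), (nat_lit 2807)]))) (.node (.leaf .df) (.leaf (.cyc (nat_lit 22) [(nat_lit 12357), (nat_lit 12356), (nat_lit 11248), (nat_lit 12024), (nat_lit 11936), (nat_lit 11935), (nat_lit 11971)])))) (.node (.node (.leaf .df) (.leaf (.cyc (nat_lit 13) [(nat_lit 9906), (nat_lit 3265), (nat_lit 5439), (nat_lit 8391), (nat_lit 1995), (nat_lit 1992), (nat_lit 10309)]))) (.node (.leaf (.cyc (nat_lit 5) [(nat_lit 1999), (nat_lit 1998)])) (.leaf .df)))) (.node (.node (.node (.leaf .df) (.leaf (.cyc (nat_lit 8) [(nat_lit 2842), (nat_lit 2840), (nat_lit 9151), (nat_lit 9160), (nat_lit 9281)]))) (.node (.leaf (.cyc (nat_lit 5) [(nat_lit 971), (nat_lit 970)]))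 (.leaf .df))) (.node (.node (.leaf .df) (.leaf (.cyc (nat_lit 9) [(nat_lit 11277), (nat_lit 9331), (nat_lit 7829), (nat_lit 10010), (nat_lit 3904)]))) (.node (.leaf (.cyc (nat_lit 5) [(nat_lit 2908), (nat_lit 7091)])) (.leaf .df))))) (.node (.node (.node (.node (.leaf .df) (.leaf (.cyc (nat_lit 18) [(nat_lit 8192), (nat_lit 8769), (nat_lit 3322)]))) (.node (.leaf (.cyc (nat_lit 2) [(nat_lit 403), (nat_lit 402)])) (.leaf (.cyc (nat_lit 11) [(nat_lit 2969), (nat_lit 5307), (nat_lit 5172), (nat_lit 5171), (nat_lit 1098), (nat_lit 2958), (nat_lit 4267)])))) (.node (.node (.leaf .df) (.leaf (.cyc (nat_lit 7) [(nat_lit 10821), (nat_lit 10820), (nat_lit 3063), (nat_lit 5360), (nat_lit 5361), (nat_lit 5321), (nat_lit 9023), (nat_lit 3669)]))) (.node (.leaf (.cyc (nat_lit 5) [(nat_lit 2466), (nat_lit 2465)])) (.leaf .df)))) (.node (.node (.node (.leaf .df) (.leaf (.cyc (nat_lit 0) [(nat_lit 5635), (nat_lit 3484)]))) (.node (.leaf (.cyc (nat_lit 0) [(nat_lit 5564),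 (nat_lit 1467)])) (.leaf .df))) (.node (.node (.leaf .df) (.leaf (.cyc (nat_lit 8) [(nat_lit 9588), (nat_lit 10784), (nat_lit 10783), (nat_lit 11398), (nat_lit 4042)]))) (.node (.leaf (.cyc (nat_lit 28) [(nat_lit 1665), (nat_lit 7745), (nat_lit 3071)])) (.leaf .df)))))) (.node (.node (.node (.node (.node (.leaf .df) (.leaf (.cyc (nat_lit 16) [(nat_lit 1500), (nat_lit 4783), (nat_lit 5755), (nat_lit 2411), (nat_lit 6618), (nat_lit 8256), (nat_lit 8285), (nat_lit 2548), (nat_lit 2549)]))) (.node (.leaf (.cyc (nat_lit 13) [(nat_lit 90), (nat_lit 25), (nat_lit 6), (nat_lit 4352), (nat_lit 7), (nat_lit 27), (nat_lit 97)])) (.leaf (.cyc (nat_lit 27) [(nat_lit 4214), (nat_lit 6913), (nat_lit 2296), (nat_lit 6932), (nat_lit 7352), (nat_lit 7875), (nat_lit 7712)])))) (.node (.node (.leaf .df) (.leaf (.cyc (nat_lit 28) [(nat_lit 3603), (nat_lit 10565)]))) (.node (.leaf (.cyc (nat_lit 7) [(nat_lit 2271), (nat_lit 806), (nat_lit 4778), (nat_lit 4777), (nat_lit 330),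 (nat_lit 331), (nat_lit 990)])) (.leaf .df)))) (.node (.node (.node (.leaf .df) (.leaf (.cyc (nat_lit 8) [(nat_lit 3375), (nat_lit 5562), (nat_lit 646), (nat_lit 644), (nat_lit 1846)]))) (.node (.leaf (.cyc (nat_lit 5) [(nat_lit 1240), (nat_lit 5346)])) (.leaf .df))) (.node (.node (.leaf .df) (.leaf (.cyc (nat_lit 3) [(nat_lit 11588), (nat_lit 3972), (nat_lit 1919), (nat_lit 1920), (nat_lit 3973)]))) (.node (.leaf (.cyc (nat_lit 14) [(nat_lit 5436), (nat_lit 3124)])) (.leaf .df))))) (.node (.node (.node (.node (.leaf .df) (.leaf (.cyc (nat_lit 18) [(nat_lit 6485), (nat_lit 9026)]))) (.node (.leaf (.cyc (nat_lit 5) [(nat_lit 4933), (nat_lit 4795)])) (.leaf (.cyc (nat_lit 7) [(nat_lit 11211), (nat_lit 10280), (nat_lit 12885), (nat_lit 12884), (nat_lit 9564), (nat_lit 9567), (nat_lit 4318)])))) (.node (.node (.leaf .df) (.leaf (.cyc (nat_lit 13) [(nat_lit 3648), (nat_lit 11076), (nat_lit 3417), (nat_lit 8658), (nat_lit 2555), (nat_lit 8678), (nat_lit 3374)])))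 (.node (.leaf (.cyc (nat_lit 8) [(nat_lit 1435), (nat_lit 4760), (nat_lit 1431), (nat_lit 6981), (nat_lit 2661)])) (.leaf .df)))) (.node (.node (.node (.leaf .df) (.leaf (.cyc (nat_lit 5) [(nat_lit 3594), (nat_lit 3593)]))) (.node (.leaf (.cyc (nat_lit 6) [(nat_lit 1730), (nat_lit 5531)])) (.leaf .df))) (.node (.node (.leaf .df) (.leaf (.cyc (nat_lit 0) [(nat_lit 11647), (nat_lit 12100)]))) (.node (.leaf (.cyc (nat_lit 18) [(nat_lit 7274), (nat_lit 8004)])) (.leaf .df))))))) (.node (.node (.node (.node (.node (.node (.leaf .df) (.leaf (.cyc (nat_lit 19) [(nat_lit 8083), (nat_lit 8383)]))) (.node (.leaf .df) (.leaf (.cyc (nat_lit 3) [(nat_lit 9955), (nat_lit 7506), (nat_lit 12479), (nat_lit 12481), (nat_lit 12485)])))) (.node (.node (.leaf .df) (.leaf (.cyc (nat_lit 8) [(nat_lit 10434), (nat_lit 3308), (nat_lit 1263), (nat_lit 1261), (nat_lit 3304)]))) (.node (.leaf (.cyc (nat_lit 4) [(nat_lit 2148), (nat_lit 4983), (nat_lit 436), (nat_lit 439), (nat_lit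 1286)])) (.leaf .df)))) (.node (.node (.node (.leaf .df) (.leaf (.cyc (nat_lit 3) [(nat_lit 3318), (nat_lit 1267), (nat_lit 8731), (nat_lit 1221), (nat_lit 1223), (nat_lit 3235)]))) (.node (.leaf (.cyc (nat_lit 13) [(nat_lit 5317), (nat_lit 876), (nat_lit 291), (nat_lit 289), (nat_lit 869), (nat_lit 5101), (nat_lit 890)])) (.leaf .df))) (.node (.node (.leaf .df) (.leaf (.cyc (nat_lit 1) [(nat_lit 11120), (nat_lit 3930)]))) (.node (.leaf (.cyc (nat_lit 1) [(nat_lit 6140), (nat_lit 3004)])) (.leaf .df))))) (.node (.node (.node (.node (.leaf .df) (.leaf (.cyc (nat_lit 27) [(nat_lit 8074), (nat_lit 5823), (nat_lit 8896), (nat_lit 7803), (nat_lit 6945), (nat_lit 4962), (nat_lit 2066)]))) (.node (.leaf (.cyc (nat_lit 6) [(nat_lit 550), (nat_lit 549)])) (.leaf (.cyc (nat_lit 11) [(nat_lit 11495), (nat_lit 12853), (nat_lit 11926), (nat_lit 12651), (nat_lit 12652), (nat_lit 12993), (nat_lit 4292)])))) (.node (.node (.leaf .df) (.leaf (.cyc (nat_lit 6) [(nat_lit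 3798), (nat_lit 10946)]))) (.node (.leaf (.cyc (nat_lit 20) [(nat_lit 6476), (nat_lit 2277), (nat_lit 808), (nat_lit 4604), (nat_lit 942), (nat_lit 2593), (nat_lit 6853)])) (.leaf .df)))) (.node (.node (.node (.leaf .df) (.leaf (.cyc (nat_lit 5) [(nat_lit 9921), (nat_lit 9674)]))) (.node (.leaf (.cyc (nat_lit 3) [(nat_lit 1566), (nat_lit 545), (nat_lit 4486), (nat_lit 550), (nat_lit 1585)])) (.leaf .df))) (.node (.node (.leaf .df) (.leaf (.cyc (nat_lit 29) [(nat_lit 11325), (nat_lit 11972)]))) (.node (.leaf (.cyc (nat_lit 18) [(nat_lit 3079), (nat_lit 7873)])) (.leaf .df)))))) (.node (.node (.node (.node (.node (.leaf .df) (.leaf (.cyc (nat_lit 25) [(nat_lit 8618), (nat_lit 8642)]))) (.node (.leaf (.cyc (nat_lit 6) [(nat_lit 248), (nat_lit 247)])) (.leaf (.cyc (nat_lit 21) [(nat_lit 11919), (nat_lit 11920), (nat_lit 11922), (nat_lit 9048), (nat_lit 12740), (nat_lit 12739)])))) (.node (.node (.leaf .df) (.leaf (.cyc (nat_lit 17) [(nat_lit 6793), (nat_lit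 10691)]))) (.node (.leaf (.cyc (nat_lit 5) [(nat_lit 2387), (nat_lit 2386)])) (.leaf .df)))) (.node (.node (.node (.leaf .df) (.leaf (.cyc (nat_lit 2) [(nat_lit 3431), (nat_lit 3430)]))) (.node (.leaf (.cyc (nat_lit 2) [(nat_lit 1322), (nat_lit 1321)])) (.leaf .df))) (.node (.node (.leaf .df) (.leaf (.cyc (nat_lit 1) [(nat_lit 9783), (nat_lit 11715)]))) (.node (.leaf (.cyc (nat_lit 22) [(nat_lit 1243), (nat_lit 1245), (nat_lit 7621), (nat_lit 5422), (nat_lit 5375), (nat_lit 6713), (nat_lit 6929)])) (.leaf .df))))) (.node (.node (.node (.node (.leaf .df) (.leaf (.cyc (nat_lit 8) [(nat_lit 5867), (nat_lit 9067), (nat_lit 9154), (nat_lit 2840), (nat_lit 2842)]))) (.node (.leaf (.cyc (nat_lit 8) [(nat_lit 829), (nat_lit 4572), (nat_lit 5044), (nat_lit 4478), (nat_lit 4616)])) (.leaf (.cyc (nat_lit 9) [(nat_lit 12287), (nat_lit 12285), (nat_lit 9015), (nat_lit 3752), (nat_lit 4345)])))) (.node (.node (.leaf .df) (.leaf (.cyc (nat_lit 10) [(nat_lit 11205),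 (nat_lit 11204), (nat_lit 6147), (nat_lit 2074), (nat_lit 8717)]))) (.node (.leaf (.cyc (nat_lit 2) [(nat_lit 2759), (nat_lit 2758)])) (.leaf .df)))) (.node (.node (.node (.leaf .df) (.leaf (.cyc (nat_lit 21) [(nat_lit 3121), (nat_lit 1174), (nat_lit 1176), (nat_lit 10181), (nat_lit 10178)]))) (.node (.leaf (.cyc (nat_lit 9) [(nat_lit 6084), (nat_lit 5892), (nat_lit 579), (nat_lit 581), (nat_lit 1675)])) (.leaf .df))) (.node (.node (.leaf .df) (.leaf (.cyc (nat_lit 14) [(nat_lit 10978), (nat_lit 4134)]))) (.node (.leaf (.cyc (nat_lit 28) [(nat_lit 7304), (nat_lit 8133)])) (.leaf .df))))))))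
noncomputable def c4P011000 : BT Pf := .node c4P0110000 c4P0110001
noncomputable def c4P0110010 : BT Pf := (.node (.node (.node (.node (.node (.node (.node (.leaf .df) (.leaf (.cyc (nat_lit 29) [(nat_lit 2787), (nat_lit 8220), (nat_lit 3036)]))) (.node (.leaf .df) (.leaf (.cyc (nat_lit 0) [(nat_lit 9742), (nat_lit 12325)])))) (.node (.node (.leaf .df) (.leaf (.cyc (nat_lit 4) [(nat_lit 8695), (nat_lit 6797), (nat_lit 6796), (nat_lit 8520), (nat_lit 3647)]))) (.node (.leaf (.cyc (nat_lit 8) [(nat_lit 1264), (nat_lit 1262), (nat_lit 6181), (nat_lit 6180), (nat_lit 6138)])) (.leaf .df)))) (.node (.node (.node (.leaf .df) (.leaf (.cyc (nat_lit 20) [(nat_lit 2598), (nat_lit 944), (nat_lit 4960), (nat_lit 4961), (nat_lit 2063), (nat_lit 9249), (nat_lit 2121)]))) (.node (.leaf (.cyc (nat_lit 2) [(nat_lit 935), (nat_lit 934)])) (.leaf .df))) (.node (.node (.leaf .df) (.leaf (.cyc (nat_lit 6) [(nat_lit 3897), (nat_lit 9316)]))) (.node (.leaf (.cyc (nat_lit 15)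 [(nat_lit 2873), (nat_lit 5269), (nat_lit 5245), (nat_lit 5237), (nat_lit 354), (nat_lit 352), (nat_lit 1046), (nat_lit 2837), (nat_lit 7194)])) (.leaf .df))))) (.node (.node (.node (.node (.leaf .df) (.leaf (.cyc (nat_lit 25) [(nat_lit 6026), (nat_lit 8733), (nat_lit 3179)]))) (.node (.leaf (.cyc (nat_lit 6) [(nat_lit 370), (nat_lit 369)])) (.leaf (.cyc (nat_lit 6) [(nat_lit 4262), (nat_lit 10965)])))) (.node (.node (.leaf .df) (.leaf (.cyc (nat_lit 3) [(nat_lit 10700), (nat_lit 10681), (nat_lit 2582), (nat_lit 6506), (nat_lit 3755)]))) (.node (.leaf (.cyc (nat_lit 19) [(nat_lit 2250), (nat_lit 6692)])) (.leaf .df)))) (.node (.node (.node (.leaf .df) (.leaf (.cyc (nat_lit 14) [(nat_lit 9295), (nat_lit 3461)]))) (.node (.leaf (.cyc (nat_lit 2) [(nat_lit 1433), (nat_lit 1432)])) (.leaf .df))) (.node (.node (.leaf .df) (.leaf (.cyc (nat_lit 8) [(nat_lit 10616), (nat_lit 3632), (nat_lit 6645), (nat_lit 9425), (nat_lit 4032)]))) (.node (.leaf (.cyc (nat_lit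 24) [(nat_lit 648), (nat_lit 4511), (nat_lit 653), (nat_lit 5480), (nat_lit 1271), (nat_lit 1270), (nat_lit 3324), (nat_lit 7717), (nat_lit 2543), (nat_lit 2542)])) (.leaf .df)))))) (.node (.node (.node (.node (.node (.leaf .df) (.leaf (.cyc (nat_lit 3) [(nat_lit 5794), (nat_lit 8484), (nat_lit 7705), (nat_lit 1561), (nat_lit 1562)]))) (.node (.leaf (.cyc (nat_lit 11) [(nat_lit 40), (nat_lit 10), (nat_lit 4353), (nat_lit 4351), (nat_lit 3), (nat_lit 15), (nat_lit 55)])) (.leaf (.cyc (nat_lit 1) [(nat_lit 12009), (nat_lit 4206)])))) (.node (.node (.leaf .df) (.leaf (.cyc (nat_lit 18) [(nat_lit 7357), (nat_lit 10533)]))) (.node (.leaf (.cyc (nat_lit 8) [(nat_lit 2247), (nat_lit 2246), (nat_lit 6436), (nat_lit 1905), (nat_lit 1906)])) (.leaf .df)))) (.node (.node (.node (.leaf .df) (.leaf (.cyc (nat_lit 4) [(nat_lit 1513), (nat_lit 1511), (nat_lit 6070), (nat_lit 8100), (nat_lit 9509)]))) (.node (.leaf (.cyc (nat_lit 0) [(nat_lit 5325), (nat_lit 1215)]))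 (.leaf .df))) (.node (.node (.leaf .df) (.leaf (.cyc (nat_lit 18) [(nat_lit 11139), (nat_lit 11557)]))) (.node (.leaf (.cyc (nat_lit 2) [(nat_lit 3084), (nat_lit 3083)])) (.leaf .df))))) (.node (.node (.node (.node (.leaf .df) (.leaf (.cyc (nat_lit 18) [(nat_lit 1582), (nat_lit 8990)]))) (.node (.leaf (.cyc (nat_lit 4) [(nat_lit 665), (nat_lit 214), (nat_lit 213), (nat_lit 4810), (nat_lit 4863)])) (.leaf (.cyc (nat_lit 13) [(nat_lit 12781), (nat_lit 3929), (nat_lit 1851), (nat_lit 4885), (nat_lit 8101), (nat_lit 9509), (nat_lit 4310)])))) (.node (.node (.leaf .df) (.leaf (.cyc (nat_lit 13) [(nat_lit 11045), (nat_lit 11044), (nat_lit 10895), (nat_lit 1758), (nat_lit 4861), (nat_lit 1518), (nat_lit 3663)]))) (.node (.leaf (.cyc (nat_lit 8) [(nat_lit 5601), (nat_lit 1398), (nat_lit 6685), (nat_lit 6689), (nat_lit 6947)])) (.leaf .df)))) (.node (.node (.node (.leaf .df) (.leaf (.cyc (nat_lit 1) [(nat_lit 5760), (nat_lit 3579)]))) (.node (.leaf (.cyc (nat_lit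 5) [(nat_lit 1693), (nat_lit 1692)])) (.leaf .df))) (.node (.node (.leaf .df) (.leaf (.cyc (nat_lit 8) [(nat_lit 12066), (nat_lit 11830), (nat_lit 11831), (nat_lit 2539), (nat_lit 2541)]))) (.node (.leaf (.cyc (nat_lit 28) [(nat_lit 3157), (nat_lit 7973), (nat_lit 7228)])) (.leaf .df))))))) (.node (.node (.node (.node (.node (.node (.leaf .df) (.leaf (.cyc (nat_lit 3) [(nat_lit 1981), (nat_lit 1983), (nat_lit 8320), (nat_lit 6632), (nat_lit 6633)]))) (.node (.leaf .df) (.leaf (.cyc (nat_lit 4) [(nat_lit 11762), (nat_lit 12361), (nat_lit 12362), (nat_lit 12198), (nat_lit 4178)])))) (.node (.node (.leaf .df) (.leaf (.cyc (nat_lit 20) [(nat_lit 2868), (nat_lit 5267), (nat_lit 1096), (nat_lit 10405), (nat_lit 10389), (nat_lit 3677), (nat_lit 8505)]))) (.node (.leaf (.cyc (nat_lit 2) [(nat_lit 2114), (nat_lit 2113)])) (.leaf .df)))) (.node (.node (.node (.leaf .df) (.leaf (.cyc (nat_lit 18) [(nat_lit 3274), (nat_lit 9379)]))) (.node (.leaf (.cyc (nat_lit 3)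 [(nat_lit 5285), (nat_lit 5019), (nat_lit 5018), (nat_lit 5029), (nat_lit 5030)])) (.leaf .df))) (.node (.node (.leaf .df) (.leaf (.cyc (nat_lit 20) [(nat_lit 9822), (nat_lit 10252), (nat_lit 3925), (nat_lit 11425), (nat_lit 9659), (nat_lit 6525), (nat_lit 9386)]))) (.node (.leaf (.cyc (nat_lit 2) [(nat_lit 2983), (nat_lit 2982)])) (.leaf .df))))) (.node (.node (.node (.node (.leaf .df) (.leaf (.cyc (nat_lit 17) [(nat_lit 2003), (nat_lit 8869)]))) (.node (.leaf (.cyc (nat_lit 6) [(nat_lit 511), (nat_lit 510)])) (.leaf (.cyc (nat_lit 29) [(nat_lit 12763), (nat_lit 12963)])))) (.node (.node (.leaf .df) (.leaf (.cyc (nat_lit 22) [(nat_lit 10916), (nat_lit 6290), (nat_lit 10893), (nat_lit 7838), (nat_lit 8427), (nat_lit 5728), (nat_lit 7693)]))) (.node (.leaf (.cyc (nat_lit 4) [(nat_lit 2571), (nat_lit 5157), (nat_lit 6463), (nat_lit 1426), (nat_lit 5305)])) (.leaf .df)))) (.node (.node (.node (.leaf .df) (.leaf (.cyc (nat_lit 8) [(nat_lit 7722), (nat_lit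 7725), (nat_lit 1865), (nat_lit 1863), (nat_lit 9892)]))) (.node (.leaf (.cyc (nat_lit 6) [(nat_lit 1545), (nat_lit 1544)])) (.leaf .df))) (.node (.node (.leaf .df) (.leaf (.cyc (nat_lit 22) [(nat_lit 11940), (nat_lit 2406), (nat_lit 2404), (nat_lit 8343), (nat_lit 5335), (nat_lit 5251), (nat_lit 2816)]))) (.node (.leaf (.cyc (nat_lit 25) [(nat_lit 6716), (nat_lit 7843), (nat_lit 3244)])) (.leaf .df)))))) (.node (.node (.node (.node (.node (.leaf .df) (.leaf (.cyc (nat_lit 32) [(nat_lit 8101), (nat_lit 4885), (nat_lit 6073), (nat_lit 8591), (nat_lit 1472), (nat_lit 4986), (nat_lit 781), (nat_lit 2202), (nat_lit 6402)]))) (.node (.leaf (.cyc (nat_lit 16) [(nat_lit 94), (nat_lit 4369), (nat_lit 4360), (nat_lit 42), (nat_lit 4381), (nat_lit 20), (nat_lit 18), (nat_lit 67), (nat_lit 219), (nat_lit 4517)])) (.leaf (.cyc (nat_lit 7) [(nat_lit 4033), (nat_lit 6266), (nat_lit 6296), (nat_lit 10187), (nat_lit 10184), (nat_lit 2690), (nat_lit 4234)])))) (.node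 (.node (.leaf .df) (.leaf (.cyc (nat_lit 14) [(nat_lit 10411), (nat_lit 10661)]))) (.node (.leaf (.cyc (nat_lit 3) [(nat_lit 6561), (nat_lit 6562), (nat_lit 6564), (nat_lit 1763), (nat_lit 1764)])) (.leaf .df)))) (.node (.node (.node (.leaf .df) (.leaf (.cyc (nat_lit 11) [(nat_lit 7961), (nat_lit 5596), (nat_lit 1344), (nat_lit 459), (nat_lit 460), (nat_lit 1347), (nat_lit 3412)]))) (.node (.leaf (.cyc (nat_lit 23) [(nat_lit 4609), (nat_lit 4575), (nat_lit 842), (nat_lit 5077), (nat_lit 286), (nat_lit 284), (nat_lit 860), (nat_lit 5541), (nat_lit 1300), (nat_lit 1299)])) (.leaf .df))) (.node (.node (.leaf .df) (.leaf (.cyc (nat_lit 0) [(nat_lit 11671), (nat_lit 11685)]))) (.node (.leaf (.cyc (nat_lit 28) [(nat_lit 7373), (nat_lit 7589)])) (.leaf .df))))) (.node (.node (.node (.node (.leaf .df) (.leaf (.cyc (nat_lit 1) [(nat_lit 7105), (nat_lit 9124)]))) (.node (.leaf (.cyc (nat_lit 2) [(nat_lit 797), (nat_lit 796)])) (.leaf (.cyc (nat_lit 22) [(nat_lit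 13220), (nat_lit 3671), (nat_lit 3668), (nat_lit 11470), (nat_lit 9257), (nat_lit 6338), (nat_lit 11913)])))) (.node (.node (.leaf .df) (.leaf (.cyc (nat_lit 31) [(nat_lit 1979), (nat_lit 4928), (nat_lit 776), (nat_lit 2191), (nat_lit 11173), (nat_lit 11171), (nat_lit 11146), (nat_lit 7726)]))) (.node (.leaf (.cyc (nat_lit 18) [(nat_lit 2685), (nat_lit 7077)])) (.leaf .df)))) (.node (.node (.node (.leaf .df) (.leaf (.cyc (nat_lit 28) [(nat_lit 1855), (nat_lit 10149)]))) (.node (.leaf (.cyc (nat_lit 25) [(nat_lit 1813), (nat_lit 6052)])) (.leaf .df))) (.node (.node (.leaf .df) (.leaf (.cyc (nat_lit 6) [(nat_lit 4126), (nat_lit 12080)]))) (.node (.leaf (.cyc (nat_lit 22) [(nat_lit 1907), (nat_lit 4902), (nat_lit 8097), (nat_lit 5764), (nat_lit 1373), (nat_lit 4740), (nat_lit 1376)])) (.leaf .df))))))))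
noncomputable def c4P0110011 : BT Pf := (.node (.node (.node (.node (.node (.node (.node (.leaf .df) (.leaf (.cyc (nat_lit 25) [(nat_lit 7239), (nat_lit 8283), (nat_lit 684)]))) (.node (.leaf .df) (.leaf (.cyc (nat_lit 8) [(nat_lit 4163), (nat_lit 10613), (nat_lit 9487), (nat_lit 9516), (nat_lit 10488)])))) (.node (.node (.leaf .df) (.leaf (.cyc (nat_lit 3) [(nat_lit 10340), (nat_lit 10334), (nat_lit 10335), (nat_lit 3323), (nat_lit 3325)]))) (.node (.leaf (.cyc (nat_lit 2) [(nat_lit 2036), (nat_lit 2035)])) (.leaf .df)))) (.node (.node (.node (.leaf .df) (.leaf (.cyc (nat_lit 9) [(nat_lit 3113), (nat_lit 9316), (nat_lit 1771), (nat_lit 617), (nat_lit 619), (nat_lit 1779)]))) (.node (.leaf (.cyc (nat_lit 6) [(nat_lit 1012), (nat_lit 1011)])) (.leaf .df))) (.node (.node (.leaf .df) (.leaf (.cyc (nat_lit 13) [(nat_lit 2416), (nat_lit 8524), (nat_lit 1447), (nat_lit 1445), (nat_lit 3579), (nat_lit 10024), (nat_lit 3912)]))) (.node (.leaf (.cyc (nat_lit 6)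 [(nat_lit 2934), (nat_lit 2933)])) (.leaf .df))))) (.node (.node (.node (.node (.leaf .df) (.leaf (.cyc (nat_lit 22) [(nat_lit 910), (nat_lit 908), (nat_lit 2517), (nat_lit 8795), (nat_lit 6871), (nat_lit 6869), (nat_lit 5806), (nat_lit 1594)]))) (.node (.leaf (.cyc (nat_lit 6) [(nat_lit 439), (nat_lit 438)])) (.leaf (.cyc (nat_lit 25) [(nat_lit 12013), (nat_lit 12898)])))) (.node (.node (.leaf .df) (.leaf (.cyc (nat_lit 0) [(nat_lit 10753), (nat_lit 10852)]))) (.node (.leaf (.cyc (nat_lit 6) [(nat_lit 2511), (nat_lit 2510)])) (.leaf .df)))) (.node (.node (.node (.leaf .df) (.leaf (.cyc (nat_lit 13) [(nat_lit 9829), (nat_lit 3499), (nat_lit 7764), (nat_lit 1668), (nat_lit 578), (nat_lit 575), (nat_lit 1659)]))) (.node (.leaf (.cyc (nat_lit 5) [(nat_lit 1479), (nat_lit 1478)])) (.leaf .df))) (.node (.node (.leaf .df) (.leaf (.cyc (nat_lit 3) [(nat_lit 7000), (nat_lit 11876), (nat_lit 11877), (nat_lit 4013), (nat_lit 6245), (nat_lit 4010)]))) (.node (.leaf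 (.cyc (nat_lit 25) [(nat_lit 7728), (nat_lit 7779)])) (.leaf .df)))))) (.node (.node (.node (.node (.node (.leaf .df) (.leaf (.cyc (nat_lit 25) [(nat_lit 2419), (nat_lit 8546)]))) (.node (.leaf (.cyc (nat_lit 1) [(nat_lit 4452), (nat_lit 135)])) (.leaf (.cyc (nat_lit 9) [(nat_lit 10776), (nat_lit 10778), (nat_lit 10777), (nat_lit 10097), (nat_lit 12645)])))) (.node (.node (.leaf .df) (.leaf (.cyc (nat_lit 13) [(nat_lit 1884), (nat_lit 9185), (nat_lit 552), (nat_lit 4486), (nat_lit 545), (nat_lit 1566), (nat_lit 3708)]))) (.node (.leaf (.cyc (nat_lit 8) [(nat_lit 6481), (nat_lit 6482), (nat_lit 1018), (nat_lit 1017), (nat_lit 6500)])) (.leaf .df)))) (.node (.node (.node (.leaf .df) (.leaf (.cyc (nat_lit 6) [(nat_lit 3393), (nat_lit 9006)]))) (.node (.leaf (.cyc (nat_lit 0) [(nat_lit 5137), (nat_lit 1270)])) (.leaf .df))) (.node (.node (.leaf .df) (.leaf (.cyc (nat_lit 2) [(nat_lit 3984), (nat_lit 3983)]))) (.node (.leaf (.cyc (nat_lit 9) [(nat_lit 7340),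 (nat_lit 2457), (nat_lit 6677), (nat_lit 5380), (nat_lit 3150)])) (.leaf .df))))) (.node (.node (.node (.node (.leaf .df) (.leaf (.cyc (nat_lit 17) [(nat_lit 3133), (nat_lit 9059)]))) (.node (.leaf (.cyc (nat_lit 2) [(nat_lit 735), (nat_lit 734)])) (.leaf (.cyc (nat_lit 5) [(nat_lit 4325), (nat_lit 12087)])))) (.node (.node (.leaf .df) (.leaf (.cyc (nat_lit 3) [(nat_lit 10031), (nat_lit 3585), (nat_lit 8550), (nat_lit 2417), (nat_lit 11104), (nat_lit 3830)]))) (.node (.leaf (.cyc (nat_lit 2) [(nat_lit 2696), (nat_lit 2695)])) (.leaf .df)))) (.node (.node (.node (.leaf .df) (.leaf (.cyc (nat_lit 7) [(nat_lit 3587), (nat_lit 1456), (nat_lit 5580), (nat_lit 5579), (nat_lit 5564), (nat_lit 1468), (nat_lit 3607)]))) (.node (.leaf (.cyc (nat_lit 2) [(nat_lit 1762), (nat_lit 1761)])) (.leaf .df))) (.node (.node (.leaf .df) (.leaf (.cyc (nat_lit 13) [(nat_lit 12130), (nat_lit 12129), (nat_lit 3563), (nat_lit 6847), (nat_lit 6848), (nat_lit 6398), (nat_lit 4093)])))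 (.node (.leaf (.cyc (nat_lit 9) [(nat_lit 2967), (nat_lit 1102), (nat_lit 8034), (nat_lit 5284), (nat_lit 2913)])) (.leaf .df))))))) (.node (.node (.node (.node (.node (.node (.leaf .df) (.leaf (.cyc (nat_lit 29) [(nat_lit 1867), (nat_lit 8421)]))) (.node (.leaf .df) (.leaf (.cyc (nat_lit 4) [(nat_lit 4191), (nat_lit 10285), (nat_lit 10287), (nat_lit 9045), (nat_lit 7560)])))) (.node (.node (.leaf .df) (.leaf (.cyc (nat_lit 6) [(nat_lit 10469), (nat_lit 10458)]))) (.node (.leaf (.cyc (nat_lit 20) [(nat_lit 6317), (nat_lit 1935), (nat_lit 677), (nat_lit 4526), (nat_lit 679), (nat_lit 1940), (nat_lit 6373)])) (.leaf .df)))) (.node (.node (.node (.leaf .df) (.leaf (.cyc (nat_lit 20) [(nat_lit 1683), (nat_lit 583), (nat_lit 4493), (nat_lit 4481), (nat_lit 527), (nat_lit 8096), (nat_lit 5763), (nat_lit 5680)]))) (.node (.leaf (.cyc (nat_lit 11) [(nat_lit 884), (nat_lit 293), (nat_lit 295), (nat_lit 889), (nat_lit 5115), (nat_lit 4705), (nat_lit 5349)])) (.leaf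 .df))) (.node (.node (.leaf .df) (.leaf (.cyc (nat_lit 13) [(nat_lit 7230), (nat_lit 10480), (nat_lit 10478), (nat_lit 5845), (nat_lit 9015), (nat_lit 9896), (nat_lit 11492)]))) (.node (.leaf (.cyc (nat_lit 0) [(nat_lit 3031), (nat_lit 7397)])) (.leaf .df))))) (.node (.node (.node (.node (.leaf .df) (.leaf (.cyc (nat_lit 25) [(nat_lit 2029), (nat_lit 8930)]))) (.node (.leaf (.cyc (nat_lit 11) [(nat_lit 539), (nat_lit 172), (nat_lit 52), (nat_lit 4362), (nat_lit 57), (nat_lit 190), (nat_lit 589)])) (.leaf (.cyc (nat_lit 5) [(nat_lit 13028), (nat_lit 12604)])))) (.node (.node (.leaf .df) (.leaf (.cyc (nat_lit 14) [(nat_lit 9765), (nat_lit 10981)]))) (.node (.leaf (.cyc (nat_lit 6) [(nat_lit 2615), (nat_lit 2614)])) (.leaf .df)))) (.node (.node (.node (.leaf .df) (.leaf (.cyc (nat_lit 2) [(nat_lit 3553), (nat_lit 3552)]))) (.node (.leaf (.cyc (nat_lit 6) [(nat_lit 1619), (nat_lit 5181)])) (.leaf .df))) (.node (.node (.leaf .df) (.leaf (.cyc (nat_lit 20)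 [(nat_lit 2197), (nat_lit 2199), (nat_lit 11977), (nat_lit 12005), (nat_lit 10666), (nat_lit 11200), (nat_lit 11198)]))) (.node (.leaf (.cyc (nat_lit 25) [(nat_lit 7654), (nat_lit 7901), (nat_lit 1189)])) (.leaf .df)))))) (.node (.node (.node (.node (.node (.leaf .df) (.leaf (.cyc (nat_lit 29) [(nat_lit 2552), (nat_lit 8676)]))) (.node (.leaf (.cyc (nat_lit 6) [(nat_lit 287), (nat_lit 286)])) (.leaf (.cyc (nat_lit 22) [(nat_lit 12772), (nat_lit 11661), (nat_lit 11625), (nat_lit 7709), (nat_lit 7365), (nat_lit 10660), (nat_lit 10666)])))) (.node (.node (.leaf .df) (.leaf (.cyc (nat_lit 9) [(nat_lit 2646), (nat_lit 5188), (nat_lit 2651), (nat_lit 8947), (nat_lit 3739)]))) (.node (.leaf (.cyc (nat_lit 15) [(nat_lit 2425), (nat_lit 5098), (nat_lit 5078), (nat_lit 5074), (nat_lit 282), (nat_lit 280), (nat_lit 846), (nat_lit 2371), (nat_lit 6597)])) (.leaf .df)))) (.node (.node (.node (.leaf .df) (.leaf (.cyc (nat_lit 28) [(nat_lit 9685), (nat_lit 9701)])))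 (.node (.leaf (.cyc (nat_lit 6) [(nat_lit 1355), (nat_lit 1354)])) (.leaf .df))) (.node (.node (.leaf .df) (.leaf (.cyc (nat_lit 4) [(nat_lit 4011), (nat_lit 6245), (nat_lit 4013), (nat_lit 11748), (nat_lit 11749)]))) (.node (.leaf (.cyc (nat_lit 7) [(nat_lit 3270), (nat_lit 1237), (nat_lit 420), (nat_lit 4452), (nat_lit 134), (nat_lit 423), (nat_lit 1244)])) (.leaf .df))))) (.node (.node (.node (.node (.leaf .df) (.leaf (.cyc (nat_lit 29) [(nat_lit 6105), (nat_lit 9187)]))) (.node (.leaf (.cyc (nat_lit 2) [(nat_lit 858), (nat_lit 857)])) (.leaf .df))) (.node (.node (.leaf .df) (.leaf (.cyc (nat_lit 0) [(nat_lit 11234), (nat_lit 11235)]))) (.node (.leaf (.cyc (nat_lit 8) [(nat_lit 7140), (nat_lit 2716), (nat_lit 5207), (nat_lit 5196), (nat_lit 2679)])) (.leaf .df)))) (.node (.node (.node (.leaf .df) (.leaf (.cyc (nat_lit 1) [(nat_lit 6788), (nat_lit 10210)]))) (.node (.leaf (.cyc (nat_lit 4) [(nat_lit 1902), (nat_lit 5024), (nat_lit 238), (nat_lit 241),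 (nat_lit 743)])) (.leaf .df))) (.node (.node (.leaf .df) (.leaf (.cyc (nat_lit 18) [(nat_lit 10868), (nat_lit 12261)]))) (.node (.leaf (.cyc (nat_lit 8) [(nat_lit 1344), (nat_lit 4729), (nat_lit 5566), (nat_lit 8165), (nat_lit 7655)])) (.leaf .df))))))))
noncomputable def c4P011001 : BT Pf := .node c4P0110010 c4P0110011
noncomputable def c4P01100 : BT Pf := .node c4P011000 c4P011001
noncomputable def c4P0110100 : BT Pf := (.node (.node (.node (.node (.node (.node (.node (.leaf .df) (.leaf (.cyc (nat_lit 28) [(nat_lit 2972), (nat_lit 8206)]))) (.node (.leaf .df) (.leaf (.cyc (nat_lit 28) [(nat_lit 4014), (nat_lit 12307)])))) (.node (.node (.leaf .df) (.leaf (.cyc (nat_lit 3) [(nat_lit 10261), (nat_lit 7472), (nat_lit 10260), (nat_lit 6567), (nat_lit 3432)]))) (.node (.leaf (.cyc (nat_lit 5) [(nat_lit 1948), (nat_lit 1947)])) (.leaf .df)))) (.node (.node (.node (.leaf .df) (.leaf (.cyc (nat_lit 29) [(nat_lit 6337), (nat_lit 9237), (nat_lit 6307)]))) (.node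 (.leaf (.cyc (nat_lit 15) [(nat_lit 4625), (nat_lit 5141), (nat_lit 921), (nat_lit 4598), (nat_lit 4586), (nat_lit 870), (nat_lit 5102), (nat_lit 299), (nat_lit 297), (nat_lit 897)])) (.leaf .df))) (.node (.node (.leaf .df) (.leaf (.cyc (nat_lit 14) [(nat_lit 9764), (nat_lit 3896)]))) (.node (.leaf (.cyc (nat_lit 2) [(nat_lit 2845), (nat_lit 2844)])) (.leaf .df))))) (.node (.node (.node (.node (.leaf .df) (.leaf (.cyc (nat_lit 18) [(nat_lit 3184), (nat_lit 8720), (nat_lit 4870)]))) (.node (.leaf (.cyc (nat_lit 2) [(nat_lit 349), (nat_lit 348)])) (.leaf (.cyc (nat_lit 13) [(nat_lit 12290), (nat_lit 8558), (nat_lit 8559), (nat_lit 11613), (nat_lit 11612), (nat_lit 11611), (nat_lit 4258)])))) (.node (.node (.leaf .df) (.leaf (.cyc (nat_lit 4) [(nat_lit 10724), (nat_lit 6527), (nat_lit 10525), (nat_lit 10532), (nat_lit 3750)]))) (.node (.leaf (.cyc (nat_lit 1) [(nat_lit 6677), (nat_lit 2458)])) (.leaf .df)))) (.node (.node (.node (.leaf .df) (.leaf (.cyc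 (nat_lit 17) [(nat_lit 3458), (nat_lit 9749)]))) (.node (.leaf (.cyc (nat_lit 2) [(nat_lit 1413), (nat_lit 1412)])) (.leaf .df))) (.node (.node (.leaf .df) (.leaf (.cyc (nat_lit 18) [(nat_lit 3773), (nat_lit 11797)]))) (.node (.leaf (.cyc (nat_lit 17) [(nat_lit 6181), (nat_lit 7699)])) (.leaf .df)))))) (.node (.node (.node (.node (.node (.leaf .df) (.leaf (.cyc (nat_lit 34) [(nat_lit 1760), (nat_lit 4862), (nat_lit 4875), (nat_lit 635), (nat_lit 637), (nat_lit 8439), (nat_lit 4967), (nat_lit 2086), (nat_lit 6284), (nat_lit 2115)]))) (.node (.leaf (.cyc (nat_lit 5) [(nat_lit 32), (nat_lit 31)])) (.leaf (.cyc (nat_lit 0) [(nat_lit 10124), (nat_lit 12565)])))) (.node (.node (.leaf .df) (.leaf (.cyc (nat_lit 17) [(nat_lit 10296), (nat_lit 10516), (nat_lit 6860)]))) (.node (.leaf (.cyc (nat_lit 5) [(nat_lit 2227), (nat_lit 2226)])) (.leaf .df)))) (.node (.node (.node (.leaf .df) (.leaf (.cyc (nat_lit 5) [(nat_lit 3341), (nat_lit 3340)]))) (.node (.leaf (.cyc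 (nat_lit 10) [(nat_lit 983), (nat_lit 328), (nat_lit 325), (nat_lit 4683), (nat_lit 1203)])) (.leaf .df))) (.node (.node (.leaf .df) (.leaf (.cyc (nat_lit 8) [(nat_lit 10710), (nat_lit 10711), (nat_lit 8933), (nat_lit 8931), (nat_lit 11540)]))) (.node (.leaf (.cyc (nat_lit 11) [(nat_lit 1180), (nat_lit 5343), (nat_lit 1144), (nat_lit 389), (nat_lit 390), (nat_lit 1148), (nat_lit 3066)])) (.leaf .df))))) (.node (.node (.node (.node (.leaf .df) (.leaf (.cyc (nat_lit 3) [(nat_lit 5845), (nat_lit 8981), (nat_lit 2479), (nat_lit 5167), (nat_lit 2604)]))) (.node (.leaf (.cyc (nat_lit 9) [(nat_lit 448), (nat_lit 4462), (nat_lit 4721), (nat_lit 4510), (nat_lit 646)])) (.leaf (.cyc (nat_lit 2) [(nat_lit 4308), (nat_lit 12953)])))) (.node (.node (.leaf .df) (.leaf (.cyc (nat_lit 13) [(nat_lit 11012), (nat_lit 9470), (nat_lit 1672), (nat_lit 5892), (nat_lit 6084), (nat_lit 6086), (nat_lit 3816)]))) (.node (.leaf (.cyc (nat_lit 19) [(nat_lit 6563), (nat_lit 6930)]))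 (.leaf .df)))) (.node (.node (.node (.leaf .df) (.leaf (.cyc (nat_lit 11) [(nat_lit 1776), (nat_lit 6008), (nat_lit 4878), (nat_lit 8439), (nat_lit 2090), (nat_lit 10000), (nat_lit 6113)]))) (.node (.leaf (.cyc (nat_lit 4) [(nat_lit 1671), (nat_lit 578), (nat_lit 576), (nat_lit 1662), (nat_lit 5902)])) (.leaf .df))) (.node (.node (.leaf .df) (.leaf (.cyc (nat_lit 8) [(nat_lit 11988), (nat_lit 4079), (nat_lit 6368), (nat_lit 2589), (nat_lit 12043)]))) (.node (.leaf (.cyc (nat_lit 19) [(nat_lit 2880), (nat_lit 7949), (nat_lit 2866)])) (.leaf .df))))))) (.node (.node (.node (.node (.node (.node (.leaf .df) (.leaf (.cyc (nat_lit 17) [(nat_lit 8216), (nat_lit 8339)]))) (.node (.leaf .df) (.leaf (.cyc (nat_lit 2) [(nat_lit 12437), (nat_lit 11772)])))) (.node (.node (.leaf .df) (.leaf (.cyc (nat_lit 6) [(nat_lit 3677), (nat_lit 8396)]))) (.node (.leaf (.cyc (nat_lit 3) [(nat_lit 6293), (nat_lit 2099), (nat_lit 4970), (nat_lit 4944), (nat_lit 2022)])) (.leaf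 .df)))) (.node (.node (.node (.leaf .df) (.leaf (.cyc (nat_lit 20) [(nat_lit 2145), (nat_lit 5999), (nat_lit 6000), (nat_lit 9317), (nat_lit 8142), (nat_lit 2891), (nat_lit 8134)]))) (.node (.leaf (.cyc (nat_lit 2) [(nat_lit 1061), (nat_lit 1060)])) (.leaf .df))) (.node (.node (.leaf .df) (.leaf (.cyc (nat_lit 8) [(nat_lit 8332), (nat_lit 10128), (nat_lit 3615), (nat_lit 6059), (nat_lit 3923)]))) (.node (.leaf (.cyc (nat_lit 2) [(nat_lit 2966), (nat_lit 2965)])) (.leaf .df))))) (.node (.node (.node (.node (.leaf .df) (.leaf (.cyc (nat_lit 17) [(nat_lit 6590), (nat_lit 8852)]))) (.node (.leaf (.cyc (nat_lit 10) [(nat_lit 313), (nat_lit 98), (nat_lit 4385), (nat_lit 156), (nat_lit 490)])) (.leaf (.cyc (nat_lit 1) [(nat_lit 12792), (nat_lit 4284)])))) (.node (.node (.leaf .df) (.leaf (.cyc (nat_lit 1) [(nat_lit 9686), (nat_lit 10899)]))) (.node (.leaf (.cyc (nat_lit 4) [(nat_lit 5155), (nat_lit 5156), (nat_lit 5081), (nat_lit 5153), (nat_lit 2556)])) (.leaf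 .df)))) (.node (.node (.node (.leaf .df) (.leaf (.cyc (nat_lit 4) [(nat_lit 3317), (nat_lit 9419), (nat_lit 7797), (nat_lit 3513), (nat_lit 9876), (nat_lit 3531)]))) (.node (.leaf (.cyc (nat_lit 5) [(nat_lit 1526), (nat_lit 4863)])) (.leaf .df))) (.node (.node (.leaf .df) (.leaf (.cyc (nat_lit 3) [(nat_lit 11925), (nat_lit 4061), (nat_lit 6315), (nat_lit 6316), (nat_lit 10847)]))) (.node (.leaf (.cyc (nat_lit 25) [(nat_lit 7484), (nat_lit 7828)])) (.leaf .df)))))) (.node (.node (.node (.node (.node (.leaf .df) (.leaf (.cyc (nat_lit 18) [(nat_lit 6080), (nat_lit 8592), (nat_lit 1475)]))) (.node (.leaf (.cyc (nat_lit 1) [(nat_lit 4480), (nat_lit 198)])) (.leaf (.cyc (nat_lit 10) [(nat_lit 8243), (nat_lit 11311), (nat_lit 11689), (nat_lit 6990), (nat_lit 4230)])))) (.node (.node (.leaf .df) (.leaf (.cyc (nat_lit 4) [(nat_lit 2320), (nat_lit 5609), (nat_lit 8894), (nat_lit 5824), (nat_lit 3726)]))) (.node (.leaf (.cyc (nat_lit 4) [(nat_lit 2301), (nat_lit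 5052), (nat_lit 1362), (nat_lit 6548), (nat_lit 6549)])) (.leaf .df)))) (.node (.node (.node (.leaf .df) (.leaf (.cyc (nat_lit 2) [(nat_lit 3403), (nat_lit 3402)]))) (.node (.leaf (.cyc (nat_lit 3) [(nat_lit 5525), (nat_lit 602), (nat_lit 194), (nat_lit 196), (nat_lit 611)])) (.leaf .df))) (.node (.node (.leaf .df) (.leaf (.cyc (nat_lit 22) [(nat_lit 10338), (nat_lit 11667), (nat_lit 3993), (nat_lit 6189), (nat_lit 9081), (nat_lit 7521), (nat_lit 7523)]))) (.node (.leaf (.cyc (nat_lit 20) [(nat_lit 5996), (nat_lit 5769), (nat_lit 5585), (nat_lit 5037), (nat_lit 2271), (nat_lit 7028), (nat_lit 7572)])) (.leaf .df))))) (.node (.node (.node (.node (.leaf .df) (.leaf (.cyc (nat_lit 25) [(nat_lit 8014), (nat_lit 9106)]))) (.node (.leaf (.cyc (nat_lit 6) [(nat_lit 785), (nat_lit 784)])) (.leaf (.cyc (nat_lit 4) [(nat_lit 12358), (nat_lit 12007), (nat_lit 12667), (nat_lit 9883), (nat_lit 4335)])))) (.node (.node (.leaf .df) (.leaf (.cyc (nat_lit 6) [(nat_lit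 11156), (nat_lit 11154)]))) (.node (.leaf (.cyc (nat_lit 8) [(nat_lit 2094), (nat_lit 2092), (nat_lit 7061), (nat_lit 7055), (nat_lit 6473)])) (.leaf .df)))) (.node (.node (.node (.leaf .df) (.leaf (.cyc (nat_lit 20) [(nat_lit 1853), (nat_lit 4886), (nat_lit 4719), (nat_lit 4718), (nat_lit 640), (nat_lit 1835), (nat_lit 10131), (nat_lit 7356)]))) (.node (.leaf (.cyc (nat_lit 1) [(nat_lit 4883), (nat_lit 1813)])) (.leaf .df))) (.node (.node (.leaf .df) (.leaf (.cyc (nat_lit 2) [(nat_lit 4122), (nat_lit 9409)]))) (.node (.leaf (.cyc (nat_lit 29) [(nat_lit 8080), (nat_lit 8084)])) (.leaf .df))))))))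
noncomputable def c4P0110101 : BT Pf := (.node (.node (.node (.node (.node (.node (.node (.leaf .df) (.leaf (.cyc (nat_lit 18) [(nat_lit 2791), (nat_lit 8272), (nat_lit 1946)]))) (.node (.leaf .df) (.leaf (.cyc (nat_lit 22) [(nat_lit 4158), (nat_lit 6617), (nat_lit 5100), (nat_lit 2437), (nat_lit 10842), (nat_lit 3248), (nat_lit 9926)])))) (.node (.node (.leaf .df) (.leaf (.cyc (nat_lit 27) [(nat_lit 3660), (nat_lit 1514), (nat_lit 4786), (nat_lit 583), (nat_lit 1682), (nat_lit 9292), (nat_lit 2256)]))) (.node (.leaf (.cyc (nat_lit 6) [(nat_lit 2016), (nat_lit 2015)])) (.leaf .df)))) (.node (.node (.node (.leaf .df) (.leaf (.cyc (nat_lit 4) [(nat_lit 3118), (nat_lit 1173), (nat_lit 1170), (nat_lit 9298), (nat_lit 3087), (nat_lit 9301)]))) (.node (.leaf (.cyc (nat_lit 7) [(nat_lit 992), (nat_lit 332), (nat_lit 330), (nat_lit 4616), (nat_lit 165), (nat_lit 166), (nat_lit 518)])) (.leaf .df))) (.node (.node (.leaf .df) (.leaf (.cyc (nat_lit 22) [(nat_lit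 3909), (nat_lit 9354), (nat_lit 9359), (nat_lit 3236), (nat_lit 3234), (nat_lit 10774), (nat_lit 10778)]))) (.node (.leaf (.cyc (nat_lit 29) [(nat_lit 5937), (nat_lit 7253)])) (.leaf .df))))) (.node (.node (.node (.node (.leaf .df) (.leaf (.cyc (nat_lit 25) [(nat_lit 1191), (nat_lit 8787)]))) (.node (.leaf (.cyc (nat_lit 5) [(nat_lit 421), (nat_lit 420)])) (.leaf (.cyc (nat_lit 10) [(nat_lit 4271), (nat_lit 11952), (nat_lit 11059), (nat_lit 11116), (nat_lit 11117)])))) (.node (.node (.leaf .df) (.leaf (.cyc (nat_lit 0) [(nat_lit 10618), (nat_lit 3769)]))) (.node (.leaf (.cyc (nat_lit 6) [(nat_lit 2488), (nat_lit 2487)])) (.leaf .df)))) (.node (.node (.node (.leaf .df) (.leaf (.cyc (nat_lit 23) [(nat_lit 5862), (nat_lit 5182), (nat_lit 2634), (nat_lit 6910), (nat_lit 972), (nat_lit 970), (nat_lit 2662), (nat_lit 9813), (nat_lit 3490), (nat_lit 3488)]))) (.node (.leaf (.cyc (nat_lit 18) [(nat_lit 5687), (nat_lit 5717)])) (.leaf .df))) (.node (.node (.leaf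 .df) (.leaf (.cyc (nat_lit 8) [(nat_lit 2085), (nat_lit 2083), (nat_lit 4048), (nat_lit 11860), (nat_lit 11783)]))) (.node (.leaf (.cyc (nat_lit 17) [(nat_lit 2167), (nat_lit 7761), (nat_lit 7741)])) (.leaf .df)))))) (.node (.node (.node (.node (.node (.leaf .df) (.leaf (.cyc (nat_lit 22) [(nat_lit 864), (nat_lit 4580), (nat_lit 859), (nat_lit 8528), (nat_lit 929), (nat_lit 4599), (nat_lit 924), (nat_lit 6580)]))) (.node (.leaf (.cyc (nat_lit 6) [(nat_lit 110), (nat_lit 109)])) (.leaf (.cyc (nat_lit 10) [(nat_lit 12629), (nat_lit 3335), (nat_lit 5486), (nat_lit 3336), (nat_lit 11642)])))) (.node (.node (.leaf .df) (.leaf (.cyc (nat_lit 29) [(nat_lit 10083), (nat_lit 10578)]))) (.node (.leaf (.cyc (nat_lit 1) [(nat_lit 6483), (nat_lit 2286)])) (.leaf .df)))) (.node (.node (.node (.leaf .df) (.leaf (.cyc (nat_lit 2) [(nat_lit 3381), (nat_lit 8543)]))) (.node (.leaf (.cyc (nat_lit 3) [(nat_lit 431), (nat_lit 137), (nat_lit 136), (nat_lit 428), (nat_lit 1257)]))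 (.leaf .df))) (.node (.node (.leaf .df) (.leaf (.cyc (nat_lit 6) [(nat_lit 3977), (nat_lit 11201)]))) (.node (.leaf (.cyc (nat_lit 10) [(nat_lit 3135), (nat_lit 1180), (nat_lit 4674), (nat_lit 1182), (nat_lit 3139)])) (.leaf .df))))) (.node (.node (.node (.node (.leaf .df) (.leaf (.cyc (nat_lit 20) [(nat_lit 3288), (nat_lit 7767), (nat_lit 7769), (nat_lit 1240), (nat_lit 1241), (nat_lit 9042), (nat_lit 7558), (nat_lit 7560)]))) (.node (.leaf (.cyc (nat_lit 3) [(nat_lit 4948), (nat_lit 401), (nat_lit 4448), (nat_lit 4430), (nat_lit 315)])) (.leaf (.cyc (nat_lit 1) [(nat_lit 11579), (nat_lit 4322)])))) (.node (.node (.leaf .df) (.leaf (.cyc (nat_lit 2) [(nat_lit 3836), (nat_lit 11061)]))) (.node (.leaf (.cyc (nat_lit 25) [(nat_lit 2671), (nat_lit 6996)])) (.leaf .df)))) (.node (.node (.node (.leaf .df) (.leaf (.cyc (nat_lit 3) [(nat_lit 9664), (nat_lit 3597), (nat_lit 10067), (nat_lit 2910), (nat_lit 8035), (nat_lit 2968)]))) (.node (.leaf (.cyc (nat_lit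 2) [(nat_lit 1750), (nat_lit 1749)])) (.leaf .df))) (.node (.node (.leaf .df) (.leaf (.cyc (nat_lit 6) [(nat_lit 12107), (nat_lit 9677)]))) (.node (.leaf (.cyc (nat_lit 8) [(nat_lit 2927), (nat_lit 2925), (nat_lit 8003), (nat_lit 2854), (nat_lit 2856)])) (.leaf .df))))))) (.node (.node (.node (.node (.node (.node (.leaf .df) (.leaf (.cyc (nat_lit 9) [(nat_lit 1991), (nat_lit 8402), (nat_lit 1541), (nat_lit 4793), (nat_lit 5465), (nat_lit 6044)]))) (.node (.leaf .df) (.leaf (.cyc (nat_lit 17) [(nat_lit 12487), (nat_lit 12499)])))) (.node (.node (.leaf .df) (.leaf (.cyc (nat_lit 20) [(nat_lit 1990), (nat_lit 5788), (nat_lit 530), (nat_lit 4482), (nat_lit 534), (nat_lit 1544), (nat_lit 3688)]))) (.node (.leaf (.cyc (nat_lit 4) [(nat_lit 1425), (nat_lit 4756), (nat_lit 948), (nat_lit 5648), (nat_lit 2162)])) (.leaf .df)))) (.node (.node (.node (.leaf .df) (.leaf (.cyc (nat_lit 25) [(nat_lit 7372), (nat_lit 9427)]))) (.node (.leaf (.cyc (nat_lit 13) [(nat_lit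 1135), (nat_lit 385), (nat_lit 122), (nat_lit 35), (nat_lit 37), (nat_lit 127), (nat_lit 402)])) (.leaf .df))) (.node (.node (.leaf .df) (.leaf (.cyc (nat_lit 2) [(nat_lit 3932), (nat_lit 3931)]))) (.node (.leaf (.cyc (nat_lit 9) [(nat_lit 3020), (nat_lit 1127), (nat_lit 4661), (nat_lit 1125), (nat_lit 3015)])) (.leaf .df))))) (.node (.node (.node (.node (.leaf .df) (.leaf (.cyc (nat_lit 28) [(nat_lit 7385), (nat_lit 8916), (nat_lit 2503)]))) (.node (.leaf (.cyc (nat_lit 0) [(nat_lit 4789), (nat_lit 566)])) (.leaf (.cyc (nat_lit 27) [(nat_lit 4295), (nat_lit 3241), (nat_lit 1225), (nat_lit 4691), (nat_lit 1230), (nat_lit 8890), (nat_lit 10908)])))) (.node (.node (.leaf .df) (.leaf (.cyc (nat_lit 8) [(nat_lit 10965), (nat_lit 10964), (nat_lit 10961), (nat_lit 10924), (nat_lit 10925)]))) (.node (.leaf (.cyc (nat_lit 5) [(nat_lit 6869), (nat_lit 6868)])) (.leaf .df)))) (.node (.node (.node (.leaf .df) (.leaf (.cyc (nat_lit 25) [(nat_lit 9705), (nat_lit 9938)])))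 (.node (.leaf (.cyc (nat_lit 5) [(nat_lit 1610), (nat_lit 1609)])) (.leaf .df))) (.node (.node (.leaf .df) (.leaf (.cyc (nat_lit 2) [(nat_lit 4080), (nat_lit 10394)]))) (.node (.leaf (.cyc (nat_lit 25) [(nat_lit 6519), (nat_lit 7893), (nat_lit 5448)])) (.leaf .df)))))) (.node (.node (.node (.node (.node (.leaf .df) (.leaf (.cyc (nat_lit 0) [(nat_lit 7382), (nat_lit 8661)]))) (.node (.leaf (.cyc (nat_lit 5) [(nat_lit 268), (nat_lit 4435)])) (.leaf (.cyc (nat_lit 11) [(nat_lit 9532), (nat_lit 8527), (nat_lit 8532), (nat_lit 3364), (nat_lit 11824), (nat_lit 10515), (nat_lit 4245)])))) (.node (.node (.leaf .df) (.leaf (.cyc (nat_lit 21) [(nat_lit 6169), (nat_lit 1042), (nat_lit 1043), (nat_lit 9013), (nat_lit 3736)]))) (.node (.leaf (.cyc (nat_lit 4) [(nat_lit 2408), (nat_lit 5095), (nat_lit 6573), (nat_lit 2359), (nat_lit 2358)])) (.leaf .df)))) (.node (.node (.node (.leaf .df) (.leaf (.cyc (nat_lit 21) [(nat_lit 3437), (nat_lit 1365), (nat_lit 1367), (nat_lit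 8627), (nat_lit 6546)]))) (.node (.leaf (.cyc (nat_lit 6) [(nat_lit 1337), (nat_lit 1336)])) (.leaf .df))) (.node (.node (.leaf .df) (.leaf (.cyc (nat_lit 6) [(nat_lit 4009), (nat_lit 8925)]))) (.node (.leaf (.cyc (nat_lit 5) [(nat_lit 3253), (nat_lit 3252)])) (.leaf .df))))) (.node (.node (.node (.node (.leaf .df) (.leaf (.cyc (nat_lit 17) [(nat_lit 6292), (nat_lit 9170)]))) (.node (.leaf (.cyc (nat_lit 6) [(nat_lit 842), (nat_lit 841)])) (.leaf (.cyc (nat_lit 20) [(nat_lit 13154), (nat_lit 13152), (nat_lit 3518), (nat_lit 5654), (nat_lit 3520), (nat_lit 12835), (nat_lit 4348)])))) (.node (.node (.leaf .df) (.leaf (.cyc (nat_lit 8) [(nat_lit 3413), (nat_lit 8179), (nat_lit 1740), (nat_lit 3881), (nat_lit 11221)]))) (.node (.leaf (.cyc (nat_lit 5) [(nat_lit 2776), (nat_lit 2775)])) (.leaf .df)))) (.node (.node (.node (.leaf .df) (.leaf (.cyc (nat_lit 19) [(nat_lit 9286), (nat_lit 10194)]))) (.node (.leaf (.cyc (nat_lit 5) [(nat_lit 1880), (nat_lit 5784)]))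 (.leaf .df))) (.node (.node (.leaf .df) (.leaf (.cyc (nat_lit 5) [(nat_lit 12242), (nat_lit 12239)]))) (.node (.leaf (.cyc (nat_lit 18) [(nat_lit 7529), (nat_lit 8149)])) (.leaf .df))))))))
noncomputable def c4P011010 : BT Pf := .node c4P0110100 c4P0110101
noncomputable def c4P0110110 : BT Pf := (.node (.node (.node (.node (.node (.node (.node (.leaf .df) (.leaf (.cyc (nat_lit 19) [(nat_lit 7141), (nat_lit 8237), (nat_lit 2802)]))) (.node (.leaf .df) (.leaf (.cyc (nat_lit 19) [(nat_lit 11566), (nat_lit 12338), (nat_lit 6660)])))) (.node (.node (.leaf .df) (.leaf (.cyc (nat_lit 9) [(nat_lit 2711), (nat_lit 5205), (nat_lit 5206), (nat_lit 1504), (nat_lit 3653)]))) (.node (.leaf (.cyc (nat_lit 0) [(nat_lit 1987), (nat_lit 6197)])) (.leaf .df)))) (.node (.node (.node (.leaf .df) (.leaf (.cyc (nat_lit 28) [(nat_lit 3329), (nat_lit 9269)]))) (.node (.leaf (.cyc (nat_lit 3) [(nat_lit 4608), (nat_lit 950), (nat_lit 5171), (nat_lit 369), (nat_lit 371)])) (.leaf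 .df))) (.node (.node (.leaf .df) (.leaf (.cyc (nat_lit 3) [(nat_lit 9995), (nat_lit 1899), (nat_lit 1897), (nat_lit 10016), (nat_lit 11316)]))) (.node (.leaf (.cyc (nat_lit 5) [(nat_lit 2883), (nat_lit 2882)])) (.leaf .df))))) (.node (.node (.node (.node (.leaf .df) (.leaf (.cyc (nat_lit 4) [(nat_lit 2694), (nat_lit 8716), (nat_lit 2073), (nat_lit 6147), (nat_lit 7692)]))) (.node (.leaf (.cyc (nat_lit 5) [(nat_lit 385), (nat_lit 384)])) (.leaf (.cyc (nat_lit 17) [(nat_lit 12247), (nat_lit 12851)])))) (.node (.node (.leaf .df) (.leaf (.cyc (nat_lit 9) [(nat_lit 10765), (nat_lit 10763), (nat_lit 10694), (nat_lit 10804), (nat_lit 3758)]))) (.node (.leaf (.cyc (nat_lit 28) [(nat_lit 6439), (nat_lit 6709)])) (.leaf .df)))) (.node (.node (.node (.leaf .df) (.leaf (.cyc (nat_lit 2) [(nat_lit 3469), (nat_lit 3468)]))) (.node (.leaf (.cyc (nat_lit 6) [(nat_lit 1453), (nat_lit 1452)])) (.leaf .df))) (.node (.node (.leaf .df) (.leaf (.cyc (nat_lit 0) [(nat_lit 9773),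 (nat_lit 4037)]))) (.node (.leaf (.cyc (nat_lit 1) [(nat_lit 5919), (nat_lit 7733)])) (.leaf .df)))))) (.node (.node (.node (.node (.node (.leaf .df) (.leaf (.cyc (nat_lit 20) [(nat_lit 2032), (nat_lit 712), (nat_lit 4628), (nat_lit 4629), (nat_lit 5240), (nat_lit 8398), (nat_lit 6203), (nat_lit 6204)]))) (.node (.leaf (.cyc (nat_lit 2) [(nat_lit 75), (nat_lit 74)])) (.leaf (.cyc (nat_lit 0) [(nat_lit 12593), (nat_lit 12597)])))) (.node (.node (.leaf .df) (.leaf (.cyc (nat_lit 8) [(nat_lit 10513), (nat_lit 10512), (nat_lit 10517), (nat_lit 6861), (nat_lit 7912)]))) (.node (.leaf (.cyc (nat_lit 5) [(nat_lit 2263), (nat_lit 2262)])) (.leaf .df)))) (.node (.node (.node (.leaf .df) (.leaf (.cyc (nat_lit 2) [(nat_lit 3366), (nat_lit 3365)]))) (.node (.leaf (.cyc (nat_lit 21) [(nat_lit 1233), (nat_lit 4692), (nat_lit 4665), (nat_lit 4560), (nat_lit 795)])) (.leaf .df))) (.node (.node (.leaf .df) (.leaf (.cyc (nat_lit 13) [(nat_lit 3967), (nat_lit 10924), (nat_lit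 1657), (nat_lit 1655), (nat_lit 9273), (nat_lit 9270), (nat_lit 3330)]))) (.node (.leaf (.cyc (nat_lit 2) [(nat_lit 3101), (nat_lit 3100)])) (.leaf .df))))) (.node (.node (.node (.node (.leaf .df) (.leaf (.cyc (nat_lit 17) [(nat_lit 3203), (nat_lit 9009)]))) (.node (.leaf (.cyc (nat_lit 5) [(nat_lit 677), (nat_lit 4709)])) (.leaf (.cyc (nat_lit 28) [(nat_lit 13103), (nat_lit 13109)])))) (.node (.node (.leaf .df) (.leaf (.cyc (nat_lit 13) [(nat_lit 10342), (nat_lit 3667), (nat_lit 5775), (nat_lit 8652), (nat_lit 5935), (nat_lit 5922), (nat_lit 3824)]))) (.node (.leaf (.cyc (nat_lit 6) [(nat_lit 2651), (nat_lit 2650)])) (.leaf .df)))) (.node (.node (.node (.leaf .df) (.leaf (.cyc (nat_lit 20) [(nat_lit 3227), (nat_lit 1220), (nat_lit 1222), (nat_lit 6870), (nat_lit 1551), (nat_lit 1549), (nat_lit 10035), (nat_lit 10034)]))) (.node (.leaf (.cyc (nat_lit 29) [(nat_lit 1707), (nat_lit 5940)])) (.leaf .df))) (.node (.node (.leaf .df) (.leaf (.cyc (nat_lit 14)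 [(nat_lit 8967), (nat_lit 4104)]))) (.node (.leaf (.cyc (nat_lit 25) [(nat_lit 7195), (nat_lit 7985), (nat_lit 7262)])) (.leaf .df))))))) (.node (.node (.node (.node (.node (.node (.leaf .df) (.leaf (.cyc (nat_lit 31) [(nat_lit 1757), (nat_lit 1755), (nat_lit 8372), (nat_lit 1506), (nat_lit 519), (nat_lit 517), (nat_lit 1502)]))) (.node (.leaf .df) (.leaf (.cyc (nat_lit 10) [(nat_lit 12345), (nat_lit 2448), (nat_lit 2445), (nat_lit 6759), (nat_lit 4181)])))) (.node (.node (.leaf .df) (.leaf (.cyc (nat_lit 3) [(nat_lit 10421), (nat_lit 10419), (nat_lit 3564), (nat_lit 5673), (nat_lit 3562)]))) (.node (.leaf (.cyc (nat_lit 20) [(nat_lit 1840), (nat_lit 4883), (nat_lit 4873), (nat_lit 6005), (nat_lit 4548), (nat_lit 753), (nat_lit 2131)])) (.leaf .df)))) (.node (.node (.node (.leaf .df) (.leaf (.cyc (nat_lit 4) [(nat_lit 2770), (nat_lit 5226), (nat_lit 2281), (nat_lit 9397), (nat_lit 5936)]))) (.node (.leaf (.cyc (nat_lit 0) [(nat_lit 5262), (nat_lit 1096)]))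 (.leaf .df))) (.node (.node (.leaf .df) (.leaf (.cyc (nat_lit 3) [(nat_lit 11193), (nat_lit 10323), (nat_lit 3355), (nat_lit 3356), (nat_lit 11445)]))) (.node (.leaf (.cyc (nat_lit 11) [(nat_lit 2603), (nat_lit 945), (nat_lit 946), (nat_lit 5320), (nat_lit 2987), (nat_lit 7345), (nat_lit 6527)])) (.leaf .df))))) (.node (.node (.node (.node (.leaf .df) (.leaf (.cyc (nat_lit 28) [(nat_lit 6289), (nat_lit 8884), (nat_lit 3256)]))) (.node (.leaf (.cyc (nat_lit 6) [(nat_lit 526), (nat_lit 525)])) (.leaf (.cyc (nat_lit 13) [(nat_lit 12980), (nat_lit 3718), (nat_lit 1569), (nat_lit 1567), (nat_lit 3710), (nat_lit 10627), (nat_lit 3727)])))) (.node (.node (.leaf .df) (.leaf (.cyc (nat_lit 28) [(nat_lit 10932), (nat_lit 10933)]))) (.node (.leaf (.cyc (nat_lit 6) [(nat_lit 6837), (nat_lit 6588)])) (.leaf .df)))) (.node (.node (.node (.leaf .df) (.leaf (.cyc (nat_lit 4) [(nat_lit 3544), (nat_lit 5663), (nat_lit 8823), (nat_lit 6493), (nat_lit 7350)]))) (.node (.leaf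 (.cyc (nat_lit 9) [(nat_lit 1561), (nat_lit 4802), (nat_lit 4844), (nat_lit 4704), (nat_lit 1263)])) (.leaf .df))) (.node (.node (.leaf .df) (.leaf (.cyc (nat_lit 7) [(nat_lit 3814), (nat_lit 1671), (nat_lit 1669), (nat_lit 7740), (nat_lit 5449), (nat_lit 9253), (nat_lit 4068)]))) (.node (.leaf (.cyc (nat_lit 17) [(nat_lit 2562), (nat_lit 7857)])) (.leaf .df)))))) (.node (.node (.node (.node (.node (.leaf .df) (.leaf (.cyc (nat_lit 10) [(nat_lit 6966), (nat_lit 8628), (nat_lit 5579), (nat_lit 5702), (nat_lit 6898)]))) (.node (.leaf (.cyc (nat_lit 5) [(nat_lit 231), (nat_lit 230)])) (.leaf (.cyc (nat_lit 1) [(nat_lit 8003), (nat_lit 12725)])))) (.node (.node (.leaf .df) (.leaf (.cyc (nat_lit 28) [(nat_lit 3714), (nat_lit 10677)]))) (.node (.leaf (.cyc (nat_lit 5) [(nat_lit 2372), (nat_lit 2371)])) (.leaf .df)))) (.node (.node (.node (.leaf .df) (.leaf (.cyc (nat_lit 5) [(nat_lit 3422), (nat_lit 3421)]))) (.node (.leaf (.cyc (nat_lit 11) [(nat_lit 588),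 (nat_lit 189), (nat_lit 191), (nat_lit 593), (nat_lit 4843), (nat_lit 4869), (nat_lit 5557)])) (.leaf .df))) (.node (.node (.leaf .df) (.leaf (.cyc (nat_lit 2) [(nat_lit 4002), (nat_lit 10531)]))) (.node (.leaf (.cyc (nat_lit 5) [(nat_lit 7604), (nat_lit 7549)])) (.leaf .df))))) (.node (.node (.node (.node (.leaf .df) (.leaf (.cyc (nat_lit 18) [(nat_lit 7334), (nat_lit 9141)]))) (.node (.leaf (.cyc (nat_lit 6) [(nat_lit 810), (nat_lit 4734)])) (.leaf (.cyc (nat_lit 13) [(nat_lit 13236), (nat_lit 4157), (nat_lit 6616), (nat_lit 4159), (nat_lit 12378), (nat_lit 11140), (nat_lit 11142)])))) (.node (.node (.leaf .df) (.leaf (.cyc (nat_lit 3) [(nat_lit 11188), (nat_lit 3867), (nat_lit 1729), (nat_lit 1730), (nat_lit 3870)]))) (.node (.leaf (.cyc (nat_lit 20) [(nat_lit 1065), (nat_lit 357), (nat_lit 4514), (nat_lit 4515), (nat_lit 4907), (nat_lit 5292), (nat_lit 7092), (nat_lit 7090)])) (.leaf .df)))) (.node (.node (.node (.leaf .df) (.leaf (.cyc (nat_lit 19)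 [(nat_lit 6754), (nat_lit 10163)]))) (.node (.leaf (.cyc (nat_lit 26) [(nat_lit 1511), (nat_lit 521), (nat_lit 4502), (nat_lit 4720), (nat_lit 4719), (nat_lit 4886), (nat_lit 646), (nat_lit 644), (nat_lit 1846)])) (.leaf .df))) (.node (.node (.leaf .df) (.leaf (.cyc (nat_lit 11) [(nat_lit 8375), (nat_lit 6564), (nat_lit 6562), (nat_lit 6561), (nat_lit 2309), (nat_lit 2307), (nat_lit 4130)]))) (.node (.leaf (.cyc (nat_lit 8) [(nat_lit 5694), (nat_lit 5695), (nat_lit 1336), (nat_lit 8109), (nat_lit 1318)])) (.leaf .df))))))))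
noncomputable def c4P0110111 : BT Pf := (.node (.node (.node (.node (.node (.node (.node (.leaf .df) (.leaf (.cyc (nat_lit 25) [(nat_lit 7674), (nat_lit 8298)]))) (.node (.leaf .df) (.leaf (.cyc (nat_lit 20) [(nat_lit 2760), (nat_lit 5224), (nat_lit 2763), (nat_lit 11636), (nat_lit 12403), (nat_lit 4167), (nat_lit 10051)])))) (.node (.node (.leaf .df) (.leaf (.cyc (nat_lit 17) [(nat_lit 10356), (nat_lit 10357)]))) (.node (.leaf (.cyc (nat_lit 1) [(nat_lit 6261), (nat_lit 2055)])) (.leaf .df)))) (.node (.node (.node (.leaf .df) (.leaf (.cyc (nat_lit 16) [(nat_lit 2904), (nat_lit 5964), (nat_lit 6783), (nat_lit 6779), (nat_lit 6772), (nat_lit 2388), (nat_lit 2386), (nat_lit 9332), (nat_lit 3117), (nat_lit 3119)]))) (.node (.leaf (.cyc (nat_lit 15) [(nat_lit 1030), (nat_lit 347), (nat_lit 109), (nat_lit 4374), (nat_lit 4403), (nat_lit 230), (nat_lit 4532), (nat_lit 258), (nat_lit 787)])) (.leaf .df))) (.node (.node (.leaf .df) (.leaf (.cyc (nat_lit 20) [(nat_lit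 3596), (nat_lit 9662), (nat_lit 1359), (nat_lit 4733), (nat_lit 1362), (nat_lit 8464), (nat_lit 3918)]))) (.node (.leaf (.cyc (nat_lit 20) [(nat_lit 1704), (nat_lit 7257), (nat_lit 2918), (nat_lit 7285), (nat_lit 6929), (nat_lit 6712), (nat_lit 6710)])) (.leaf .df))))) (.node (.node (.node (.node (.leaf .df) (.leaf (.cyc (nat_lit 17) [(nat_lit 6905), (nat_lit 8819), (nat_lit 6486)]))) (.node (.leaf (.cyc (nat_lit 2) [(nat_lit 454), (nat_lit 453)])) (.leaf (.cyc (nat_lit 22) [(nat_lit 4277), (nat_lit 9483), (nat_lit 9481), (nat_lit 3313), (nat_lit 11625), (nat_lit 11623), (nat_lit 11482)])))) (.node (.node (.leaf .df) (.leaf (.cyc (nat_lit 5) [(nat_lit 3778), (nat_lit 10596)]))) (.node (.leaf (.cyc (nat_lit 10) [(nat_lit 2391), (nat_lit 852), (nat_lit 849), (nat_lit 5133), (nat_lit 2527)])) (.leaf .df)))) (.node (.node (.node (.leaf .df) (.leaf (.cyc (nat_lit 1) [(nat_lit 9833), (nat_lit 3514)]))) (.node (.leaf (.cyc (nat_lit 6) [(nat_lit 1499), (nat_lit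 5209)])) (.leaf .df))) (.node (.node (.leaf .df) (.leaf (.cyc (nat_lit 0) [(nat_lit 11737), (nat_lit 4054)]))) (.node (.leaf (.cyc (nat_lit 19) [(nat_lit 1686), (nat_lit 7794)])) (.leaf .df)))))) (.node (.node (.node (.node (.node (.leaf .df) (.leaf (.cyc (nat_lit 9) [(nat_lit 6168), (nat_lit 8564), (nat_lit 6311), (nat_lit 6285), (nat_lit 6278)]))) (.node (.leaf (.cyc (nat_lit 5) [(nat_lit 156), (nat_lit 155)])) (.leaf (.cyc (nat_lit 5) [(nat_lit 4224), (nat_lit 4223)])))) (.node (.node (.leaf .df) (.leaf (.cyc (nat_lit 0) [(nat_lit 10491), (nat_lit 10613)]))) (.node (.leaf (.cyc (nat_lit 5) [(nat_lit 2307), (nat_lit 2306)])) (.leaf .df)))) (.node (.node (.node (.leaf .df) (.leaf (.cyc (nat_lit 13) [(nat_lit 9545), (nat_lit 1350), (nat_lit 461), (nat_lit 459), (nat_lit 1343), (nat_lit 5595), (nat_lit 3399)]))) (.node (.leaf (.cyc (nat_lit 3) [(nat_lit 5493), (nat_lit 5263), (nat_lit 5262), (nat_lit 5267), (nat_lit 5268)])) (.leaf .df))) (.node (.node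 (.leaf .df) (.leaf (.cyc (nat_lit 4) [(nat_lit 3985), (nat_lit 1967), (nat_lit 1965), (nat_lit 6394), (nat_lit 8562)]))) (.node (.leaf (.cyc (nat_lit 6) [(nat_lit 3170), (nat_lit 3169)])) (.leaf .df))))) (.node (.node (.node (.node (.leaf .df) (.leaf (.cyc (nat_lit 4) [(nat_lit 1978), (nat_lit 1975), (nat_lit 9076), (nat_lit 3098), (nat_lit 7442)]))) (.node (.leaf (.cyc (nat_lit 0) [(nat_lit 4555), (nat_lit 759)])) (.leaf (.cyc (nat_lit 8) [(nat_lit 10597), (nat_lit 12303), (nat_lit 9861), (nat_lit 9841), (nat_lit 4329)])))) (.node (.node (.leaf .df) (.leaf (.cyc (nat_lit 1) [(nat_lit 10654), (nat_lit 11125)]))) (.node (.leaf (.cyc (nat_lit 1) [(nat_lit 6970), (nat_lit 2711)])) (.leaf .df)))) (.node (.node (.node (.leaf .df) (.leaf (.cyc (nat_lit 2) [(nat_lit 3611), (nat_lit 3610)]))) (.node (.leaf (.cyc (nat_lit 19) [(nat_lit 4981), (nat_lit 6003)])) (.leaf .df))) (.node (.node (.leaf .df) (.leaf (.cyc (nat_lit 3) [(nat_lit 12149), (nat_lit 10684), (nat_lit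 10700), (nat_lit 10790), (nat_lit 10795)]))) (.node (.leaf (.cyc (nat_lit 4) [(nat_lit 2955), (nat_lit 7986), (nat_lit 7095), (nat_lit 7097), (nat_lit 7099)])) (.leaf .df))))))) (.node (.node (.node (.node (.node (.node (.leaf .df) (.leaf (.cyc (nat_lit 28) [(nat_lit 1909), (nat_lit 8435), (nat_lit 1827)]))) (.node (.leaf .df) (.leaf (.cyc (nat_lit 4) [(nat_lit 4195), (nat_lit 10386), (nat_lit 10388), (nat_lit 2926), (nat_lit 2924)])))) (.node (.node (.leaf .df) (.leaf (.cyc (nat_lit 20) [(nat_lit 8475), (nat_lit 2116), (nat_lit 8472), (nat_lit 10118), (nat_lit 10120), (nat_lit 9267), (nat_lit 3691)]))) (.node (.leaf (.cyc (nat_lit 24) [(nat_lit 1414), (nat_lit 484), (nat_lit 486), (nat_lit 5008), (nat_lit 777), (nat_lit 776), (nat_lit 2190), (nat_lit 6389), (nat_lit 1966), (nat_lit 1964)])) (.leaf .df)))) (.node (.node (.node (.leaf .df) (.leaf (.cyc (nat_lit 26) [(nat_lit 7712), (nat_lit 7875), (nat_lit 2988), (nat_lit 5321), (nat_lit 5363), (nat_lit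 5364), (nat_lit 5407), (nat_lit 3204), (nat_lit 9461)]))) (.node (.leaf (.cyc (nat_lit 2) [(nat_lit 1165), (nat_lit 1164)])) (.leaf .df))) (.node (.node (.leaf .df) (.leaf (.cyc (nat_lit 20) [(nat_lit 3444), (nat_lit 10906), (nat_lit 10907), (nat_lit 5888), (nat_lit 3791), (nat_lit 11508), (nat_lit 11504)]))) (.node (.leaf (.cyc (nat_lit 1) [(nat_lit 7400), (nat_lit 3048)])) (.leaf .df))))) (.node (.node (.node (.node (.leaf .df) (.leaf (.cyc (nat_lit 8) [(nat_lit 5753), (nat_lit 8527), (nat_lit 8533), (nat_lit 1295), (nat_lit 8943)]))) (.node (.leaf (.cyc (nat_lit 0) [(nat_lit 4699), (nat_lit 606)])) (.leaf (.cyc (nat_lit 3) [(nat_lit 12824), (nat_lit 12823), (nat_lit 12598), (nat_lit 9479), (nat_lit 4301)])))) (.node (.node (.leaf .df) (.leaf (.cyc (nat_lit 7) [(nat_lit 2180), (nat_lit 771), (nat_lit 4994), (nat_lit 485), (nat_lit 5002), (nat_lit 2185), (nat_lit 10995)]))) (.node (.leaf (.cyc (nat_lit 20) [(nat_lit 2331), (nat_lit 5061), (nat_lit 5063),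 (nat_lit 4776), (nat_lit 5685), (nat_lit 5714), (nat_lit 2627)])) (.leaf .df)))) (.node (.node (.node (.leaf .df) (.leaf (.cyc (nat_lit 34) [(nat_lit 5864), (nat_lit 9973), (nat_lit 9971), (nat_lit 9972), (nat_lit 2163), (nat_lit 2164), (nat_lit 6875), (nat_lit 6876), (nat_lit 3540)]))) (.node (.leaf (.cyc (nat_lit 1) [(nat_lit 5860), (nat_lit 1638)])) (.leaf .df))) (.node (.node (.leaf .df) (.leaf (.cyc (nat_lit 20) [(nat_lit 12000), (nat_lit 3786), (nat_lit 5887), (nat_lit 7812), (nat_lit 12021), (nat_lit 10909), (nat_lit 11937), (nat_lit 11936)]))) (.node (.leaf (.cyc (nat_lit 5) [(nat_lit 7925), (nat_lit 7924)])) (.leaf .df)))))) (.node (.node (.node (.node (.node (.leaf .df) (.leaf (.cyc (nat_lit 20) [(nat_lit 2785), (nat_lit 5233), (nat_lit 8306), (nat_lit 8303), (nat_lit 8295), (nat_lit 8692), (nat_lit 6785), (nat_lit 6786)]))) (.node (.leaf (.cyc (nat_lit 6) [(nat_lit 307), (nat_lit 4584)])) (.leaf (.cyc (nat_lit 1) [(nat_lit 10422), (nat_lit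 12789)])))) (.node (.node (.leaf .df) (.leaf (.cyc (nat_lit 17) [(nat_lit 6283), (nat_lit 10741)]))) (.node (.leaf (.cyc (nat_lit 10) [(nat_lit 1974), (nat_lit 5079), (nat_lit 4582), (nat_lit 868), (nat_lit 2436)])) (.leaf .df)))) (.node (.node (.node (.leaf .df) (.leaf (.cyc (nat_lit 18) [(nat_lit 7530), (nat_lit 9717)]))) (.node (.leaf (.cyc (nat_lit 5) [(nat_lit 1377), (nat_lit 1376)])) (.leaf .df))) (.node (.node (.leaf .df) (.leaf (.cyc (nat_lit 5) [(nat_lit 4018), (nat_lit 4017)]))) (.node (.leaf (.cyc (nat_lit 2) [(nat_lit 3288), (nat_lit 3287)])) (.leaf .df))))) (.node (.node (.node (.node (.leaf .df) (.leaf (.cyc (nat_lit 18) [(nat_lit 1787), (nat_lit 9200)]))) (.node (.leaf (.cyc (nat_lit 2) [(nat_lit 884), (nat_lit 883)])) (.leaf .df))) (.node (.node (.leaf .df) (.leaf (.cyc (nat_lit 22) [(nat_lit 11248), (nat_lit 11247), (nat_lit 11231), (nat_lit 1652), (nat_lit 4825), (nat_lit 1645), (nat_lit 3786)]))) (.node (.leaf (.cyc (nat_lit 6) [(nat_lit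 2801), (nat_lit 2800)])) (.leaf .df)))) (.node (.node (.node (.leaf .df) (.leaf (.cyc (nat_lit 4) [(nat_lit 10222), (nat_lit 10228), (nat_lit 8138), (nat_lit 8143), (nat_lit 2151), (nat_lit 2149)]))) (.node (.leaf (.cyc (nat_lit 5) [(nat_lit 1924), (nat_lit 1923)])) (.leaf .df))) (.node (.node (.leaf .df) (.leaf (.cyc (nat_lit 20) [(nat_lit 3233), (nat_lit 1223), (nat_lit 1220), (nat_lit 3226), (nat_lit 11473), (nat_lit 10889), (nat_lit 12276)]))) (.node (.leaf (.cyc (nat_lit 29) [(nat_lit 7926), (nat_lit 8180)])) (.leaf .df))))))))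
noncomputable def c4P011011 : BT Pf := .node c4P0110110 c4P0110111
noncomputable def c4P01101 : BT Pf := .node c4P011010 c4P011011
noncomputable def c4P0110 : BT Pf := .node c4P01100 c4P01101
noncomputable def c4P0111000 : BT Pf := (.node (.node (.node (.node (.node (.node (.node (.leaf .df) (.leaf (.cyc (nat_lit 18) [(nat_lit 7114), (nat_lit 8200), (nat_lit 7396)]))) (.node (.leaf .df) (.leaf (.cyc (nat_lit 19) [(nat_lit 11621), (nat_lit 12296)])))) (.node (.node (.leaf .df) (.leaf (.cyc (nat_lit 8) [(nat_lit 7042), (nat_lit 5210), (nat_lit 5209), (nat_lit 1497), (nat_lit 3641)]))) (.node (.leaf (.cyc (nat_lit 1) [(nat_lit 4957), (nat_lit 1937)])) (.leaf .df)))) (.node (.node (.node (.leaf .df) (.leaf (.cyc (nat_lit 11) [(nat_lit 1483), (nat_lit 508), (nat_lit 510), (nat_lit 8611), (nat_lit 4807), (nat_lit 9185), (nat_lit 1883)]))) (.node (.leaf (.cyc (nat_lit 8) [(nat_lit 870), (nat_lit 4586), (nat_lit 4584), (nat_lit 305), (nat_lit 913)])) (.leaf .df)))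 (.node (.node (.leaf .df) (.leaf (.cyc (nat_lit 0) [(nat_lit 10260), (nat_lit 3895)]))) (.node (.leaf (.cyc (nat_lit 5) [(nat_lit 2826), (nat_lit 2825)])) (.leaf .df))))) (.node (.node (.node (.node (.leaf .df) (.leaf (.cyc (nat_lit 19) [(nat_lit 7593), (nat_lit 8709)]))) (.node (.leaf (.cyc (nat_lit 13) [(nat_lit 338), (nat_lit 106), (nat_lit 30), (nat_lit 28), (nat_lit 99), (nat_lit 4425), (nat_lit 115)])) (.leaf (.cyc (nat_lit 14) [(nat_lit 9459), (nat_lit 4257)])))) (.node (.node (.leaf .df) (.leaf (.cyc (nat_lit 25) [(nat_lit 10641), (nat_lit 10762)]))) (.node (.leaf (.cyc (nat_lit 9) [(nat_lit 2451), (nat_lit 876), (nat_lit 5520), (nat_lit 4936), (nat_lit 2002)])) (.leaf .df)))) (.node (.node (.node (.leaf .df) (.leaf (.cyc (nat_lit 9) [(nat_lit 3459), (nat_lit 1377), (nat_lit 4740), (nat_lit 1374), (nat_lit 3454)]))) (.node (.leaf (.cyc (nat_lit 12) [(nat_lit 5645), (nat_lit 763), (nat_lit 4551), (nat_lit 151), (nat_lit 46), (nat_lit 47), (nat_lit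 155), (nat_lit 4607), (nat_lit 947)])) (.leaf .df))) (.node (.node (.leaf .df) (.leaf (.cyc (nat_lit 4) [(nat_lit 4023), (nat_lit 9219), (nat_lit 9122), (nat_lit 6739), (nat_lit 6730)]))) (.node (.leaf (.cyc (nat_lit 2) [(nat_lit 3302), (nat_lit 6095)])) (.leaf .df)))))) (.node (.node (.node (.node (.node (.leaf .df) (.leaf (.cyc (nat_lit 28) [(nat_lit 7482), (nat_lit 8461)]))) (.node (.leaf (.cyc (nat_lit 4) [(nat_lit 13), (nat_lit 4353), (nat_lit 4352), (nat_lit 4355), (nat_lit 22)])) (.leaf (.cyc (nat_lit 4) [(nat_lit 12279), (nat_lit 6963), (nat_lit 11480), (nat_lit 12555), (nat_lit 12556)])))) (.node (.node (.leaf .df) (.leaf (.cyc (nat_lit 6) [(nat_lit 10507), (nat_lit 10509), (nat_lit 10295)]))) (.node (.leaf (.cyc (nat_lit 2) [(nat_lit 2218), (nat_lit 2217)])) (.leaf .df)))) (.node (.node (.node (.leaf .df) (.leaf (.cyc (nat_lit 1) [(nat_lit 6731), (nat_lit 9484)]))) (.node (.leaf (.cyc (nat_lit 18) [(nat_lit 415), (nat_lit 5388), (nat_lit 888)]))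 (.leaf .df))) (.node (.node (.leaf .df) (.leaf (.cyc (nat_lit 2) [(nat_lit 3960), (nat_lit 9954)]))) (.node (.leaf (.cyc (nat_lit 28) [(nat_lit 1620), (nat_lit 7437)])) (.leaf .df))))) (.node (.node (.node (.node (.leaf .df) (.leaf (.cyc (nat_lit 28) [(nat_lit 7263), (nat_lit 8972), (nat_lit 2481)]))) (.node (.leaf (.cyc (nat_lit 6) [(nat_lit 637), (nat_lit 636)])) (.leaf (.cyc (nat_lit 2) [(nat_lit 4307), (nat_lit 12101)])))) (.node (.node (.leaf .df) (.leaf (.cyc (nat_lit 14) [(nat_lit 9194), (nat_lit 3815)]))) (.node (.leaf (.cyc (nat_lit 11) [(nat_lit 6706), (nat_lit 6704), (nat_lit 6512), (nat_lit 998), (nat_lit 4620), (nat_lit 6922), (nat_lit 1715)])) (.leaf .df)))) (.node (.node (.node (.leaf .df) (.leaf (.cyc (nat_lit 20) [(nat_lit 3384), (nat_lit 1318), (nat_lit 1315), (nat_lit 8115), (nat_lit 1890), (nat_lit 9997), (nat_lit 9996)]))) (.node (.leaf (.cyc (nat_lit 13) [(nat_lit 1662), (nat_lit 576), (nat_lit 184), (nat_lit 4455), (nat_lit 427),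 (nat_lit 4698), (nat_lit 594)])) (.leaf .df))) (.node (.node (.leaf .df) (.leaf (.cyc (nat_lit 28) [(nat_lit 9985), (nat_lit 12045)]))) (.node (.leaf (.cyc (nat_lit 29) [(nat_lit 2858), (nat_lit 7943)])) (.leaf .df))))))) (.node (.node (.node (.node (.node (.node (.leaf .df) (.leaf (.cyc (nat_lit 28) [(nat_lit 2383), (nat_lit 8333)]))) (.node (.leaf .df) (.leaf (.cyc (nat_lit 2) [(nat_lit 4173), (nat_lit 10460)])))) (.node (.node (.leaf .df) (.leaf (.cyc (nat_lit 8) [(nat_lit 10379), (nat_lit 10381), (nat_lit 2777), (nat_lit 2775), (nat_lit 9408)]))) (.node (.leaf (.cyc (nat_lit 5) [(nat_lit 2087), (nat_lit 2086)])) (.leaf .df)))) (.node (.node (.node (.leaf .df) (.leaf (.cyc (nat_lit 15) [(nat_lit 1878), (nat_lit 9357), (nat_lit 1803), (nat_lit 4871), (nat_lit 8747), (nat_lit 5420), (nat_lit 8728), (nat_lit 1802), (nat_lit 8721)]))) (.node (.leaf (.cyc (nat_lit 11) [(nat_lit 368), (nat_lit 117), (nat_lit 34), (nat_lit 31), (nat_lit 111), (nat_lit 353),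 (nat_lit 1049)])) (.leaf .df))) (.node (.node (.leaf .df) (.leaf (.cyc (nat_lit 1) [(nat_lit 11404), (nat_lit 3920)]))) (.node (.leaf (.cyc (nat_lit 9) [(nat_lit 7262), (nat_lit 7096), (nat_lit 7097), (nat_lit 5304), (nat_lit 2961)])) (.leaf .df))))) (.node (.node (.node (.node (.leaf .df) (.leaf (.cyc (nat_lit 28) [(nat_lit 2001), (nat_lit 8845)]))) (.node (.leaf (.cyc (nat_lit 14) [(nat_lit 4735), (nat_lit 478)])) (.leaf (.cyc (nat_lit 27) [(nat_lit 4283), (nat_lit 7833), (nat_lit 1812), (nat_lit 1810), (nat_lit 10010), (nat_lit 6022), (nat_lit 9534)])))) (.node (.node (.leaf .df) (.leaf (.cyc (nat_lit 3) [(nat_lit 2091), (nat_lit 2094), (nat_lit 10893), (nat_lit 1645), (nat_lit 1647)]))) (.node (.leaf (.cyc (nat_lit 6) [(nat_lit 2549), (nat_lit 6790)])) (.leaf .df)))) (.node (.node (.node (.leaf .df) (.leaf (.cyc (nat_lit 0) [(nat_lit 9551), (nat_lit 9869)]))) (.node (.leaf (.cyc (nat_lit 1) [(nat_lit 4861), (nat_lit 1519)])) (.leaf .df))) (.node (.node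 (.leaf .df) (.leaf (.cyc (nat_lit 2) [(nat_lit 4059), (nat_lit 9472)]))) (.node (.leaf (.cyc (nat_lit 28) [(nat_lit 7335), (nat_lit 7820), (nat_lit 2139)])) (.leaf .df)))))) (.node (.node (.node (.node (.node (.leaf .df) (.leaf (.cyc (nat_lit 19) [(nat_lit 7146), (nat_lit 8585), (nat_lit 1850)]))) (.node (.leaf (.cyc (nat_lit 2) [(nat_lit 188), (nat_lit 187)])) (.leaf (.cyc (nat_lit 13) [(nat_lit 11914), (nat_lit 11017), (nat_lit 10882), (nat_lit 7693), (nat_lit 6043), (nat_lit 8428), (nat_lit 4228)])))) (.node (.node (.leaf .df) (.leaf (.cyc (nat_lit 1) [(nat_lit 5870), (nat_lit 3721)]))) (.node (.leaf (.cyc (nat_lit 7) [(nat_lit 1498), (nat_lit 516), (nat_lit 4478), (nat_lit 5044), (nat_lit 4572), (nat_lit 830), (nat_lit 2336)])) (.leaf .df)))) (.node (.node (.node (.leaf .df) (.leaf (.cyc (nat_lit 25) [(nat_lit 9608), (nat_lit 9610)]))) (.node (.leaf (.cyc (nat_lit 19) [(nat_lit 890), (nat_lit 5515)])) (.leaf .df))) (.node (.node (.leaf .df) (.leaf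 (.cyc (nat_lit 6) [(nat_lit 11661), (nat_lit 11623)]))) (.node (.leaf (.cyc (nat_lit 7) [(nat_lit 3176), (nat_lit 1199), (nat_lit 4687), (nat_lit 4689), (nat_lit 4688), (nat_lit 1207), (nat_lit 3197)])) (.leaf .df))))) (.node (.node (.node (.node (.leaf .df) (.leaf (.cyc (nat_lit 19) [(nat_lit 7612), (nat_lit 9100)]))) (.node (.leaf (.cyc (nat_lit 0) [(nat_lit 4923), (nat_lit 776)])) (.leaf (.cyc (nat_lit 11) [(nat_lit 13130), (nat_lit 3774), (nat_lit 1635), (nat_lit 1632), (nat_lit 12676), (nat_lit 9882), (nat_lit 4333)])))) (.node (.node (.leaf .df) (.leaf (.cyc (nat_lit 26) [(nat_lit 6608), (nat_lit 6606), (nat_lit 5251), (nat_lit 5335), (nat_lit 5333), (nat_lit 8202), (nat_lit 8210), (nat_lit 3061), (nat_lit 11148)]))) (.node (.leaf (.cyc (nat_lit 9) [(nat_lit 7052), (nat_lit 2569), (nat_lit 932), (nat_lit 934), (nat_lit 2575)])) (.leaf .df)))) (.node (.node (.node (.leaf .df) (.leaf (.cyc (nat_lit 1) [(nat_lit 8680), (nat_lit 3615)]))) (.node (.leaf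 (.cyc (nat_lit 1) [(nat_lit 6013), (nat_lit 1803)])) (.leaf .df))) (.node (.node (.leaf .df) (.leaf (.cyc (nat_lit 3) [(nat_lit 11647), (nat_lit 2273), (nat_lit 5038), (nat_lit 2277), (nat_lit 4120)]))) (.node (.leaf (.cyc (nat_lit 3) [(nat_lit 8077), (nat_lit 8071), (nat_lit 1574), (nat_lit 1576), (nat_lit 7809)])) (.leaf .df))))))))
noncomputable def c4P0111001 : BT Pf := (.node (.node (.node (.node (.node (.node (.node (.leaf .df) (.leaf (.cyc (nat_lit 28) [(nat_lit 2808), (nat_lit 8266)]))) (.node (.leaf .df) (.leaf (.cyc (nat_lit 28) [(nat_lit 11413), (nat_lit 12365)])))) (.node (.node (.leaf .df) (.leaf (.cyc (nat_lit 8) [(nat_lit 3574), (nat_lit 5678), (nat_lit 6818), (nat_lit 10315), (nat_lit 10316), (nat_lit 10081)]))) (.node (.leaf (.cyc (nat_lit 5) [(nat_lit 2008), (nat_lit 2007)])) (.leaf .df)))) (.node (.node (.node (.leaf .df) (.leaf (.cyc (nat_lit 11) [(nat_lit 2275), (nat_lit 807), (nat_lit 264), (nat_lit 261), (nat_lit 800), (nat_lit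 2255), (nat_lit 9289)]))) (.node (.leaf (.cyc (nat_lit 5) [(nat_lit 982), (nat_lit 981)])) (.leaf .df))) (.node (.node (.leaf .df) (.leaf (.cyc (nat_lit 6) [(nat_lit 11341), (nat_lit 11287)]))) (.node (.leaf (.cyc (nat_lit 3) [(nat_lit 2917), (nat_lit 1080), (nat_lit 4640), (nat_lit 4679), (nat_lit 1195)])) (.leaf .df))))) (.node (.node (.node (.node (.leaf .df) (.leaf (.cyc (nat_lit 25) [(nat_lit 2477), (nat_lit 8779), (nat_lit 3165)]))) (.node (.leaf (.cyc (nat_lit 2) [(nat_lit 412), (nat_lit 411)])) (.leaf (.cyc (nat_lit 7) [(nat_lit 4269), (nat_lit 7354), (nat_lit 2459), (nat_lit 5109), (nat_lit 2463), (nat_lit 9418), (nat_lit 12824)])))) (.node (.node (.leaf .df) (.leaf (.cyc (nat_lit 15) [(nat_lit 3766), (nat_lit 1626), (nat_lit 1628), (nat_lit 9066), (nat_lit 8785), (nat_lit 3163), (nat_lit 9626), (nat_lit 3407), (nat_lit 9617)]))) (.node (.leaf (.cyc (nat_lit 26) [(nat_lit 6510), (nat_lit 5128), (nat_lit 5103), (nat_lit 5101), (nat_lit 295), (nat_lit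 293), (nat_lit 882), (nat_lit 2463), (nat_lit 6733)])) (.leaf .df)))) (.node (.node (.node (.leaf .df) (.leaf (.cyc (nat_lit 14) [(nat_lit 7802), (nat_lit 3486)]))) (.node (.leaf (.cyc (nat_lit 25) [(nat_lit 953), (nat_lit 5708)])) (.leaf .df))) (.node (.node (.leaf .df) (.leaf (.cyc (nat_lit 4) [(nat_lit 4044), (nat_lit 2081), (nat_lit 2079), (nat_lit 4042), (nat_lit 11849)]))) (.node (.leaf (.cyc (nat_lit 29) [(nat_lit 1147), (nat_lit 7751)])) (.leaf .df)))))) (.node (.node (.node (.node (.node (.leaf .df) (.leaf (.cyc (nat_lit 28) [(nat_lit 2563), (nat_lit 8525), (nat_lit 5754)]))) (.node (.leaf (.cyc (nat_lit 6) [(nat_lit 100), (nat_lit 99)])) (.leaf (.cyc (nat_lit 28) [(nat_lit 12488), (nat_lit 12621)])))) (.node (.node (.leaf .df) (.leaf (.cyc (nat_lit 8) [(nat_lit 2129), (nat_lit 4978), (nat_lit 5942), (nat_lit 1710), (nat_lit 10566), (nat_lit 3605)]))) (.node (.leaf (.cyc (nat_lit 2) [(nat_lit 2279), (nat_lit 2278)])) (.leaf .df)))) (.node (.node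 (.node (.leaf .df) (.leaf (.cyc (nat_lit 3) [(nat_lit 9529), (nat_lit 2362), (nat_lit 2360), (nat_lit 8634), (nat_lit 3378)]))) (.node (.leaf (.cyc (nat_lit 1) [(nat_lit 5156), (nat_lit 1251)])) (.leaf .df))) (.node (.node (.leaf .df) (.leaf (.cyc (nat_lit 9) [(nat_lit 3048), (nat_lit 5338), (nat_lit 5312), (nat_lit 1921), (nat_lit 3974)]))) (.node (.leaf (.cyc (nat_lit 6) [(nat_lit 3133), (nat_lit 7440)])) (.leaf .df))))) (.node (.node (.node (.node (.leaf .df) (.leaf (.cyc (nat_lit 25) [(nat_lit 6115), (nat_lit 9036)]))) (.node (.leaf (.cyc (nat_lit 9) [(nat_lit 708), (nat_lit 231), (nat_lit 70), (nat_lit 71), (nat_lit 236)])) (.leaf (.cyc (nat_lit 11) [(nat_lit 12682), (nat_lit 12909), (nat_lit 12912), (nat_lit 11602), (nat_lit 12812), (nat_lit 12813), (nat_lit 4320)])))) (.node (.node (.leaf .df) (.leaf (.cyc (nat_lit 11) [(nat_lit 1719), (nat_lit 596), (nat_lit 192), (nat_lit 189), (nat_lit 587), (nat_lit 1696), (nat_lit 3832)]))) (.node (.leaf (.cyc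 (nat_lit 5) [(nat_lit 2674), (nat_lit 2673)])) (.leaf .df)))) (.node (.node (.node (.leaf .df) (.leaf (.cyc (nat_lit 8) [(nat_lit 10055), (nat_lit 7076), (nat_lit 1011), (nat_lit 6960), (nat_lit 2683)]))) (.node (.leaf (.cyc (nat_lit 6) [(nat_lit 1740), (nat_lit 1739)])) (.leaf .df))) (.node (.node (.leaf .df) (.leaf (.cyc (nat_lit 28) [(nat_lit 3510), (nat_lit 12109), (nat_lit 11987)]))) (.node (.leaf (.cyc (nat_lit 17) [(nat_lit 7207), (nat_lit 8011)])) (.leaf .df))))))) (.node (.node (.node (.node (.node (.node (.leaf .df) (.leaf (.cyc (nat_lit 28) [(nat_lit 2232), (nat_lit 8397)]))) (.node (.leaf .df) (.leaf (.cyc (nat_lit 9) [(nat_lit 12329), (nat_lit 12330), (nat_lit 12331), (nat_lit 6784), (nat_lit 4187)])))) (.node (.node (.leaf .df) (.leaf (.cyc (nat_lit 18) [(nat_lit 3302), (nat_lit 10444)]))) (.node (.leaf (.cyc (nat_lit 3) [(nat_lit 5013), (nat_lit 5490), (nat_lit 5294), (nat_lit 5293), (nat_lit 2157)])) (.leaf .df)))) (.node (.node (.node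 (.leaf .df) (.leaf (.cyc (nat_lit 3) [(nat_lit 7015), (nat_lit 1216), (nat_lit 8712), (nat_lit 4955), (nat_lit 2056)]))) (.node (.leaf (.cyc (nat_lit 6) [(nat_lit 1122), (nat_lit 1121)])) (.leaf .df))) (.node (.node (.leaf .df) (.leaf (.cyc (nat_lit 8) [(nat_lit 1879), (nat_lit 1877), (nat_lit 9364), (nat_lit 11468), (nat_lit 11469)]))) (.node (.leaf (.cyc (nat_lit 0) [(nat_lit 6839), (nat_lit 3014)])) (.leaf .df))))) (.node (.node (.node (.node (.leaf .df) (.leaf (.cyc (nat_lit 4) [(nat_lit 2068), (nat_lit 2066), (nat_lit 8903), (nat_lit 2177), (nat_lit 2175)]))) (.node (.leaf (.cyc (nat_lit 2) [(nat_lit 559), (nat_lit 558)])) (.leaf (.cyc (nat_lit 2) [(nat_lit 4294), (nat_lit 10391)])))) (.node (.node (.leaf .df) (.leaf (.cyc (nat_lit 5) [(nat_lit 3804), (nat_lit 10332)]))) (.node (.leaf (.cyc (nat_lit 21) [(nat_lit 2599), (nat_lit 5165), (nat_lit 4949), (nat_lit 817), (nat_lit 2299)])) (.leaf .df)))) (.node (.node (.node (.leaf .df) (.leaf (.cyc (nat_lit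 4) [(nat_lit 6224), (nat_lit 9933), (nat_lit 5812), (nat_lit 8498), (nat_lit 7086), (nat_lit 2489)]))) (.node (.leaf (.cyc (nat_lit 6) [(nat_lit 1599), (nat_lit 1598)])) (.leaf .df))) (.node (.node (.leaf .df) (.leaf (.cyc (nat_lit 8) [(nat_lit 4074), (nat_lit 9637), (nat_lit 9960), (nat_lit 3555), (nat_lit 3557)]))) (.node (.leaf (.cyc (nat_lit 25) [(nat_lit 1969), (nat_lit 7883)])) (.leaf .df)))))) (.node (.node (.node (.node (.node (.leaf .df) (.leaf (.cyc (nat_lit 25) [(nat_lit 6674), (nat_lit 8651), (nat_lit 5935)]))) (.node (.leaf (.cyc (nat_lit 2) [(nat_lit 257), (nat_lit 256)])) (.leaf (.cyc (nat_lit 11) [(nat_lit 12051), (nat_lit 11913), (nat_lit 2144), (nat_lit 9239), (nat_lit 4056), (nat_lit 12744), (nat_lit 4243)])))) (.node (.node (.leaf .df) (.leaf (.cyc (nat_lit 1) [(nat_lit 10262), (nat_lit 10701)]))) (.node (.leaf (.cyc (nat_lit 9) [(nat_lit 2398), (nat_lit 856), (nat_lit 4579), (nat_lit 853), (nat_lit 5251)])) (.leaf .df)))) (.node (.node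 (.node (.leaf .df) (.leaf (.cyc (nat_lit 16) [(nat_lit 2352), (nat_lit 836), (nat_lit 4573), (nat_lit 832), (nat_lit 5066), (nat_lit 1493), (nat_lit 5744), (nat_lit 3435), (nat_lit 9677)]))) (.node (.leaf (.cyc (nat_lit 5) [(nat_lit 5581), (nat_lit 5580)])) (.leaf .df))) (.node (.node (.leaf .df) (.leaf (.cyc (nat_lit 7) [(nat_lit 8803), (nat_lit 6763), (nat_lit 6238), (nat_lit 6158), (nat_lit 4956), (nat_lit 2022), (nat_lit 4008)]))) (.node (.leaf (.cyc (nat_lit 5) [(nat_lit 3243), (nat_lit 3242)])) (.leaf .df))))) (.node (.node (.node (.node (.leaf .df) (.leaf (.cyc (nat_lit 20) [(nat_lit 2748), (nat_lit 1012), (nat_lit 6960), (nat_lit 2684), (nat_lit 9161), (nat_lit 6994), (nat_lit 7267)]))) (.node (.leaf (.cyc (nat_lit 2) [(nat_lit 838), (nat_lit 837)])) (.leaf (.cyc (nat_lit 22) [(nat_lit 13260), (nat_lit 13013), (nat_lit 11299), (nat_lit 2218), (nat_lit 2216), (nat_lit 9554), (nat_lit 12089)])))) (.node (.node (.leaf .df) (.leaf (.cyc (nat_lit 13)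 [(nat_lit 8871), (nat_lit 3421), (nat_lit 10801), (nat_lit 6781), (nat_lit 6600), (nat_lit 6782), (nat_lit 3879)]))) (.node (.leaf (.cyc (nat_lit 13) [(nat_lit 7050), (nat_lit 1028), (nat_lit 345), (nat_lit 343), (nat_lit 1021), (nat_lit 5231), (nat_lit 2769)])) (.leaf .df)))) (.node (.node (.node (.leaf .df) (.leaf (.cyc (nat_lit 17) [(nat_lit 7105), (nat_lit 10188)]))) (.node (.leaf (.cyc (nat_lit 6) [(nat_lit 1870), (nat_lit 1869)])) (.leaf .df))) (.node (.node (.leaf .df) (.leaf (.cyc (nat_lit 1) [(nat_lit 11695), (nat_lit 4135)]))) (.node (.leaf (.cyc (nat_lit 29) [(nat_lit 2889), (nat_lit 8140)])) (.leaf .df))))))))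
noncomputable def c4P011100 : BT Pf := .node c4P0111000 c4P0111001
noncomputable def c4P0111010 : BT Pf := (.node (.node (.node (.node (.node (.node (.node (.leaf .df) (.leaf (.cyc (nat_lit 17) [(nat_lit 7158), (nat_lit 8225), (nat_lit 7139)]))) (.node (.leaf .df) (.leaf (.cyc (nat_lit 1) [(nat_lit 9956), (nat_lit 4150)])))) (.node (.node (.leaf .df) (.leaf (.cyc (nat_lit 8) [(nat_lit 3650), (nat_lit 6046), (nat_lit 1821), (nat_lit 4876), (nat_lit 5993)]))) (.node (.leaf (.cyc (nat_lit 5) [(nat_lit 1980), (nat_lit 1979)])) (.leaf .df)))) (.node (.node (.node (.leaf .df) (.leaf (.cyc (nat_lit 31) [(nat_lit 7836), (nat_lit 7831), (nat_lit 1785), (nat_lit 1786), (nat_lit 9173), (nat_lit 6267), (nat_lit 6255), (nat_lit 9142)]))) (.node (.leaf (.cyc (nat_lit 0) [(nat_lit 5111), (nat_lit 945)])) (.leaf .df))) (.node (.node (.leaf .df) (.leaf (.cyc (nat_lit 22) [(nat_lit 11308), (nat_lit 8772), (nat_lit 1268), (nat_lit 4706), (nat_lit 5137), (nat_lit 5138),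 (nat_lit 2536)]))) (.node (.leaf (.cyc (nat_lit 8) [(nat_lit 2861), (nat_lit 2859), (nat_lit 7212), (nat_lit 2877), (nat_lit 5592)])) (.leaf .df))))) (.node (.node (.node (.node (.leaf .df) (.leaf (.cyc (nat_lit 17) [(nat_lit 3225), (nat_lit 8737)]))) (.node (.leaf (.cyc (nat_lit 0) [(nat_lit 377), (nat_lit 4653)])) (.leaf (.cyc (nat_lit 8) [(nat_lit 12845), (nat_lit 12843), (nat_lit 11669), (nat_lit 3993), (nat_lit 11587)])))) (.node (.node (.leaf .df) (.leaf (.cyc (nat_lit 22) [(nat_lit 10797), (nat_lit 10790), (nat_lit 10699), (nat_lit 1734), (nat_lit 6777), (nat_lit 2391), (nat_lit 6781)]))) (.node (.leaf (.cyc (nat_lit 17) [(nat_lit 6450), (nat_lit 6698), (nat_lit 2028)])) (.leaf .df)))) (.node (.node (.node (.leaf .df) (.leaf (.cyc (nat_lit 14) [(nat_lit 6654), (nat_lit 3466)]))) (.node (.leaf (.cyc (nat_lit 1) [(nat_lit 5619), (nat_lit 1441)])) (.leaf .df))) (.node (.node (.leaf .df) (.leaf (.cyc (nat_lit 8) [(nat_lit 4035), (nat_lit 2062), (nat_lit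 2065), (nat_lit 11454), (nat_lit 11187)]))) (.node (.leaf (.cyc (nat_lit 2) [(nat_lit 3326), (nat_lit 3325)])) (.leaf .df)))))) (.node (.node (.node (.node (.node (.leaf .df) (.leaf (.cyc (nat_lit 25) [(nat_lit 8401), (nat_lit 8492)]))) (.node (.leaf (.cyc (nat_lit 5) [(nat_lit 63), (nat_lit 62)])) (.leaf (.cyc (nat_lit 2) [(nat_lit 12589), (nat_lit 12406)])))) (.node (.node (.leaf .df) (.leaf (.cyc (nat_lit 1) [(nat_lit 9430), (nat_lit 10524)]))) (.node (.leaf (.cyc (nat_lit 17) [(nat_lit 5865), (nat_lit 6445)])) (.leaf .df)))) (.node (.node (.node (.leaf .df) (.leaf (.cyc (nat_lit 1) [(nat_lit 6024), (nat_lit 3360)]))) (.node (.leaf (.cyc (nat_lit 8) [(nat_lit 1144), (nat_lit 4667), (nat_lit 4664), (nat_lit 417), (nat_lit 1225)])) (.leaf .df))) (.node (.node (.leaf .df) (.leaf (.cyc (nat_lit 22) [(nat_lit 3191), (nat_lit 3193), (nat_lit 11565), (nat_lit 3965), (nat_lit 1897), (nat_lit 1899), (nat_lit 9995)]))) (.node (.leaf (.cyc (nat_lit 5) [(nat_lit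 3092), (nat_lit 3091)])) (.leaf .df))))) (.node (.node (.node (.node (.leaf .df) (.leaf (.cyc (nat_lit 17) [(nat_lit 5830), (nat_lit 8994)]))) (.node (.leaf (.cyc (nat_lit 2) [(nat_lit 670), (nat_lit 4907)])) (.leaf (.cyc (nat_lit 20) [(nat_lit 12743), (nat_lit 11911), (nat_lit 2120), (nat_lit 4975), (nat_lit 2122), (nat_lit 10503), (nat_lit 13099)])))) (.node (.node (.leaf .df) (.leaf (.cyc (nat_lit 11) [(nat_lit 3696), (nat_lit 10363), (nat_lit 10362), (nat_lit 9929), (nat_lit 11053), (nat_lit 3219), (nat_lit 3221)]))) (.node (.leaf (.cyc (nat_lit 28) [(nat_lit 5221), (nat_lit 6956), (nat_lit 978)])) (.leaf .df)))) (.node (.node (.node (.leaf .df) (.leaf (.cyc (nat_lit 0) [(nat_lit 9519), (nat_lit 3585)]))) (.node (.leaf (.cyc (nat_lit 14) [(nat_lit 5925), (nat_lit 1703)])) (.leaf .df))) (.node (.node (.leaf .df) (.leaf (.cyc (nat_lit 8) [(nat_lit 12076), (nat_lit 7584), (nat_lit 7583), (nat_lit 9470), (nat_lit 7770)]))) (.node (.leaf (.cyc (nat_lit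 35) [(nat_lit 5302), (nat_lit 1049), (nat_lit 353), (nat_lit 355), (nat_lit 1055), (nat_lit 6419), (nat_lit 7968), (nat_lit 2886), (nat_lit 7095), (nat_lit 2745)])) (.leaf .df))))))) (.node (.node (.node (.node (.node (.node (.leaf .df) (.leaf (.cyc (nat_lit 17) [(nat_lit 1983), (nat_lit 8363)]))) (.node (.leaf .df) (.leaf (.cyc (nat_lit 8) [(nat_lit 6851), (nat_lit 12461), (nat_lit 12459), (nat_lit 9411), (nat_lit 2778)])))) (.node (.node (.leaf .df) (.leaf (.cyc (nat_lit 16) [(nat_lit 6421), (nat_lit 8392), (nat_lit 6207), (nat_lit 8388), (nat_lit 6370), (nat_lit 9982), (nat_lit 9983), (nat_lit 3678), (nat_lit 10413)]))) (.node (.leaf (.cyc (nat_lit 6) [(nat_lit 2124), (nat_lit 2123)])) (.leaf .df)))) (.node (.node (.node (.leaf .df) (.leaf (.cyc (nat_lit 11) [(nat_lit 7569), (nat_lit 6853), (nat_lit 6856), (nat_lit 6855), (nat_lit 6367), (nat_lit 9380), (nat_lit 3177)]))) (.node (.leaf (.cyc (nat_lit 5) [(nat_lit 1089), (nat_lit 1088)])) (.leaf .df)))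 (.node (.node (.leaf .df) (.leaf (.cyc (nat_lit 4) [(nat_lit 9501), (nat_lit 11437), (nat_lit 10808), (nat_lit 10809), (nat_lit 3719), (nat_lit 3717)]))) (.node (.leaf (.cyc (nat_lit 14) [(nat_lit 6688), (nat_lit 2987)])) (.leaf .df))))) (.node (.node (.node (.node (.leaf .df) (.leaf (.cyc (nat_lit 29) [(nat_lit 2585), (nat_lit 8876)]))) (.node (.leaf (.cyc (nat_lit 2) [(nat_lit 516), (nat_lit 4781)])) (.leaf (.cyc (nat_lit 8) [(nat_lit 12970), (nat_lit 9627), (nat_lit 10685), (nat_lit 3718), (nat_lit 3720)])))) (.node (.node (.leaf .df) (.leaf (.cyc (nat_lit 22) [(nat_lit 3795), (nat_lit 1650), (nat_lit 572), (nat_lit 4490), (nat_lit 576), (nat_lit 1661), (nat_lit 9898)]))) (.node (.leaf (.cyc (nat_lit 20) [(nat_lit 2452), (nat_lit 2454), (nat_lit 6673), (nat_lit 5134), (nat_lit 5128), (nat_lit 6510), (nat_lit 2581)])) (.leaf .df)))) (.node (.node (.node (.leaf .df) (.leaf (.cyc (nat_lit 22) [(nat_lit 9898), (nat_lit 5900), (nat_lit 5902), (nat_lit 4845),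 (nat_lit 6923), (nat_lit 8211), (nat_lit 3061)]))) (.node (.leaf (.cyc (nat_lit 4) [(nat_lit 1551), (nat_lit 536), (nat_lit 534), (nat_lit 1545), (nat_lit 5800)])) (.leaf .df))) (.node (.node (.leaf .df) (.leaf (.cyc (nat_lit 18) [(nat_lit 11168), (nat_lit 11948), (nat_lit 10543)]))) (.node (.leaf (.cyc (nat_lit 17) [(nat_lit 7325), (nat_lit 7848), (nat_lit 3249)])) (.leaf .df)))))) (.node (.node (.node (.node (.node (.leaf .df) (.leaf (.cyc (nat_lit 18) [(nat_lit 7071), (nat_lit 8620), (nat_lit 8102)]))) (.node (.leaf (.cyc (nat_lit 2) [(nat_lit 221), (nat_lit 220)])) (.leaf (.cyc (nat_lit 0) [(nat_lit 4235), (nat_lit 12717)])))) (.node (.node (.leaf .df) (.leaf (.cyc (nat_lit 18) [(nat_lit 3730), (nat_lit 10669)]))) (.node (.leaf (.cyc (nat_lit 5) [(nat_lit 2361), (nat_lit 2360)])) (.leaf .df)))) (.node (.node (.node (.leaf .df) (.leaf (.cyc (nat_lit 2) [(nat_lit 3418), (nat_lit 6088)]))) (.node (.leaf (.cyc (nat_lit 9) [(nat_lit 1303), (nat_lit 446),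 (nat_lit 4461), (nat_lit 162), (nat_lit 506)])) (.leaf .df))) (.node (.node (.leaf .df) (.leaf (.cyc (nat_lit 2) [(nat_lit 3999), (nat_lit 3998)]))) (.node (.leaf (.cyc (nat_lit 23) [(nat_lit 6469), (nat_lit 6470), (nat_lit 990), (nat_lit 4684), (nat_lit 1206), (nat_lit 7556), (nat_lit 7597), (nat_lit 3221), (nat_lit 3219)])) (.leaf .df))))) (.node (.node (.node (.node (.leaf .df) (.leaf (.cyc (nat_lit 17) [(nat_lit 9130), (nat_lit 9131)]))) (.node (.leaf (.cyc (nat_lit 5) [(nat_lit 808), (nat_lit 807)])) (.leaf (.cyc (nat_lit 27) [(nat_lit 4340), (nat_lit 10107), (nat_lit 6978), (nat_lit 2702), (nat_lit 12071), (nat_lit 13077), (nat_lit 12709)])))) (.node (.node (.leaf .df) (.leaf (.cyc (nat_lit 8) [(nat_lit 11009), (nat_lit 3444), (nat_lit 9734), (nat_lit 10956), (nat_lit 11180)]))) (.node (.leaf (.cyc (nat_lit 25) [(nat_lit 2491), (nat_lit 7084)])) (.leaf .df)))) (.node (.node (.node (.leaf .df) (.leaf (.cyc (nat_lit 6) [(nat_lit 10157), (nat_lit 7452)])))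 (.node (.leaf (.cyc (nat_lit 9) [(nat_lit 6011), (nat_lit 5558), (nat_lit 5560), (nat_lit 4881), (nat_lit 1838)])) (.leaf .df))) (.node (.node (.leaf .df) (.leaf (.cyc (nat_lit 15) [(nat_lit 12205), (nat_lit 12201), (nat_lit 10651), (nat_lit 5846), (nat_lit 10650), (nat_lit 10718), (nat_lit 10788), (nat_lit 11374), (nat_lit 11375)]))) (.node (.leaf (.cyc (nat_lit 28) [(nat_lit 1335), (nat_lit 8108)])) (.leaf .df))))))))
noncomputable def c4P0111011 : BT Pf := (.node (.node (.node (.node (.node (.node (.node (.leaf .df) (.leaf (.cyc (nat_lit 19) [(nat_lit 5284), (nat_lit 8290)]))) (.node (.leaf .df) (.leaf (.cyc (nat_lit 6) [(nat_lit 4165), (nat_lit 7122)])))) (.node (.node (.leaf .df) (.leaf (.cyc (nat_lit 17) [(nat_lit 10344), (nat_lit 10347)]))) (.node (.leaf (.cyc (nat_lit 2) [(nat_lit 2045), (nat_lit 2044)])) (.leaf .df)))) (.node (.node (.node (.leaf .df) (.leaf (.cyc (nat_lit 29) [(nat_lit 7483), (nat_lit 9320), (nat_lit 1777)]))) (.node (.leaf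 (.cyc (nat_lit 1) [(nat_lit 5141), (nat_lit 1021)])) (.leaf .df))) (.node (.node (.leaf .df) (.leaf (.cyc (nat_lit 13) [(nat_lit 10788), (nat_lit 10719), (nat_lit 10090), (nat_lit 10106), (nat_lit 10116), (nat_lit 10115), (nat_lit 3916)]))) (.node (.leaf (.cyc (nat_lit 5) [(nat_lit 2944), (nat_lit 2943)])) (.leaf .df))))) (.node (.node (.node (.node (.leaf .df) (.leaf (.cyc (nat_lit 19) [(nat_lit 2602), (nat_lit 8809)]))) (.node (.leaf (.cyc (nat_lit 26) [(nat_lit 206), (nat_lit 63), (nat_lit 4363), (nat_lit 59), (nat_lit 4473), (nat_lit 4474), (nat_lit 145), (nat_lit 143), (nat_lit 449)])) (.leaf (.cyc (nat_lit 4) [(nat_lit 11776), (nat_lit 9145), (nat_lit 9144), (nat_lit 7420), (nat_lit 4275)])))) (.node (.node (.leaf .df) (.leaf (.cyc (nat_lit 4) [(nat_lit 6886), (nat_lit 10861), (nat_lit 1920), (nat_lit 1919), (nat_lit 9077), (nat_lit 9082)]))) (.node (.leaf (.cyc (nat_lit 10) [(nat_lit 2513), (nat_lit 906), (nat_lit 4592), (nat_lit 908), (nat_lit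 2518)])) (.leaf .df)))) (.node (.node (.node (.leaf .df) (.leaf (.cyc (nat_lit 4) [(nat_lit 1413), (nat_lit 482), (nat_lit 480), (nat_lit 1404), (nat_lit 3507)]))) (.node (.leaf (.cyc (nat_lit 14) [(nat_lit 5589), (nat_lit 1492)])) (.leaf .df))) (.node (.node (.leaf .df) (.leaf (.cyc (nat_lit 4) [(nat_lit 3970), (nat_lit 6124), (nat_lit 8451), (nat_lit 6550), (nat_lit 11884)]))) (.node (.leaf (.cyc (nat_lit 18) [(nat_lit 3331), (nat_lit 7787)])) (.leaf .df)))))) (.node (.node (.node (.node (.node (.leaf .df) (.leaf (.cyc (nat_lit 29) [(nat_lit 7173), (nat_lit 8557)]))) (.node (.leaf (.cyc (nat_lit 5) [(nat_lit 144), (nat_lit 143)])) (.leaf (.cyc (nat_lit 14) [(nat_lit 9790), (nat_lit 4222)])))) (.node (.node (.leaf .df) (.leaf (.cyc (nat_lit 18) [(nat_lit 3675), (nat_lit 10605)]))) (.node (.leaf (.cyc (nat_lit 6) [(nat_lit 6509), (nat_lit 5227)])) (.leaf .df)))) (.node (.node (.node (.leaf .df) (.leaf (.cyc (nat_lit 3) [(nat_lit 5818), (nat_lit 9006),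 (nat_lit 1328), (nat_lit 1330), (nat_lit 3396)]))) (.node (.leaf (.cyc (nat_lit 6) [(nat_lit 1276), (nat_lit 1275)])) (.leaf .df))) (.node (.node (.leaf .df) (.leaf (.cyc (nat_lit 8) [(nat_lit 7359), (nat_lit 10621), (nat_lit 3350), (nat_lit 11626), (nat_lit 11627)]))) (.node (.leaf (.cyc (nat_lit 16) [(nat_lit 7464), (nat_lit 7465), (nat_lit 5404), (nat_lit 4689), (nat_lit 4687), (nat_lit 406), (nat_lit 404), (nat_lit 1192), (nat_lit 3160), (nat_lit 7533)])) (.leaf .df))))) (.node (.node (.node (.node (.leaf .df) (.leaf (.cyc (nat_lit 19) [(nat_lit 2929), (nat_lit 9063)]))) (.node (.leaf (.cyc (nat_lit 4) [(nat_lit 746), (nat_lit 241), (nat_lit 239), (nat_lit 737), (nat_lit 4968)])) (.leaf (.cyc (nat_lit 13) [(nat_lit 4227), (nat_lit 2670), (nat_lit 5194), (nat_lit 2674), (nat_lit 11688), (nat_lit 4067), (nat_lit 13165)])))) (.node (.node (.leaf .df) (.leaf (.cyc (nat_lit 20) [(nat_lit 6646), (nat_lit 2436), (nat_lit 868), (nat_lit 4717), (nat_lit 5559),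 (nat_lit 1699), (nat_lit 3840)]))) (.node (.leaf (.cyc (nat_lit 0) [(nat_lit 6238), (nat_lit 7021)])) (.leaf .df)))) (.node (.node (.node (.leaf .df) (.leaf (.cyc (nat_lit 28) [(nat_lit 10087), (nat_lit 10093)]))) (.node (.leaf (.cyc (nat_lit 6) [(nat_lit 1769), (nat_lit 5586)])) (.leaf .df))) (.node (.node (.leaf .df) (.leaf (.cyc (nat_lit 8) [(nat_lit 9968), (nat_lit 10412), (nat_lit 9979), (nat_lit 12141), (nat_lit 12140)]))) (.node (.leaf (.cyc (nat_lit 17) [(nat_lit 2964), (nat_lit 8041)])) (.leaf .df))))))) (.node (.node (.node (.node (.node (.node (.leaf .df) (.leaf (.cyc (nat_lit 31) [(nat_lit 5786), (nat_lit 1532), (nat_lit 4792), (nat_lit 8415), (nat_lit 631), (nat_lit 6004), (nat_lit 6007), (nat_lit 1824)]))) (.node (.leaf .df) (.leaf (.cyc (nat_lit 2) [(nat_lit 4194), (nat_lit 10731)])))) (.node (.node (.leaf .df) (.leaf (.cyc (nat_lit 14) [(nat_lit 9016), (nat_lit 3690)]))) (.node (.leaf (.cyc (nat_lit 16) [(nat_lit 6303), (nat_lit 2033),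 (nat_lit 713), (nat_lit 714), (nat_lit 5243), (nat_lit 5000), (nat_lit 773), (nat_lit 775), (nat_lit 2187), (nat_lit 6381)])) (.leaf .df)))) (.node (.node (.node (.leaf .df) (.leaf (.cyc (nat_lit 13) [(nat_lit 7962), (nat_lit 8059), (nat_lit 1032), (nat_lit 4629), (nat_lit 4947), (nat_lit 5243), (nat_lit 2126)]))) (.node (.leaf (.cyc (nat_lit 6) [(nat_lit 1160), (nat_lit 1159)])) (.leaf .df))) (.node (.node (.leaf .df) (.leaf (.cyc (nat_lit 6) [(nat_lit 3953), (nat_lit 3952)]))) (.node (.leaf (.cyc (nat_lit 4) [(nat_lit 5341), (nat_lit 5253), (nat_lit 5334), (nat_lit 5333), (nat_lit 3040)])) (.leaf .df))))) (.node (.node (.node (.node (.leaf .df) (.leaf (.cyc (nat_lit 17) [(nat_lit 1604), (nat_lit 8940)]))) (.node (.leaf (.cyc (nat_lit 5) [(nat_lit 597), (nat_lit 596)])) (.leaf (.cyc (nat_lit 11) [(nat_lit 11663), (nat_lit 2417), (nat_lit 8550), (nat_lit 3585), (nat_lit 11629), (nat_lit 11657), (nat_lit 13036)])))) (.node (.node (.leaf .df) (.leaf (.cyc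 (nat_lit 28) [(nat_lit 10039), (nat_lit 10987)]))) (.node (.leaf (.cyc (nat_lit 23) [(nat_lit 6214), (nat_lit 6213), (nat_lit 5746), (nat_lit 1452), (nat_lit 497), (nat_lit 499), (nat_lit 1457), (nat_lit 5721), (nat_lit 2621)])) (.leaf .df)))) (.node (.node (.node (.leaf .df) (.leaf (.cyc (nat_lit 9) [(nat_lit 2239), (nat_lit 8508), (nat_lit 1430), (nat_lit 1432), (nat_lit 3556)]))) (.node (.leaf (.cyc (nat_lit 3) [(nat_lit 5820), (nat_lit 5831), (nat_lit 5869), (nat_lit 1629), (nat_lit 1630)])) (.leaf .df))) (.node (.node (.leaf .df) (.leaf (.cyc (nat_lit 13) [(nat_lit 4087), (nat_lit 8555), (nat_lit 8696), (nat_lit 6786), (nat_lit 9778), (nat_lit 9777), (nat_lit 7971)]))) (.node (.leaf (.cyc (nat_lit 28) [(nat_lit 7653), (nat_lit 7910), (nat_lit 5382)])) (.leaf .df)))))) (.node (.node (.node (.node (.node (.leaf .df) (.leaf (.cyc (nat_lit 30) [(nat_lit 2553), (nat_lit 2555), (nat_lit 8658), (nat_lit 5598), (nat_lit 8173), (nat_lit 2822), (nat_lit 8195),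 (nat_lit 1329), (nat_lit 1327)]))) (.node (.leaf (.cyc (nat_lit 6) [(nat_lit 296), (nat_lit 295)])) (.leaf (.cyc (nat_lit 13) [(nat_lit 12518), (nat_lit 3189), (nat_lit 5403), (nat_lit 8802), (nat_lit 6761), (nat_lit 2772), (nat_lit 4250)])))) (.node (.node (.leaf .df) (.leaf (.cyc (nat_lit 5) [(nat_lit 3744), (nat_lit 3743)]))) (.node (.leaf (.cyc (nat_lit 6) [(nat_lit 2431), (nat_lit 2430)])) (.leaf .df)))) (.node (.node (.node (.leaf .df) (.leaf (.cyc (nat_lit 6) [(nat_lit 9709), (nat_lit 8639)]))) (.node (.leaf (.cyc (nat_lit 11) [(nat_lit 489), (nat_lit 155), (nat_lit 47), (nat_lit 45), (nat_lit 149), (nat_lit 468), (nat_lit 1369)])) (.leaf .df))) (.node (.node (.leaf .df) (.leaf (.cyc (nat_lit 22) [(nat_lit 4016), (nat_lit 6860), (nat_lit 6861), (nat_lit 6864), (nat_lit 5409), (nat_lit 3206), (nat_lit 11339)]))) (.node (.leaf (.cyc (nat_lit 9) [(nat_lit 1717), (nat_lit 4846), (nat_lit 1721), (nat_lit 7622), (nat_lit 3278)])) (.leaf .df))))) (.node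 (.node (.node (.node (.leaf .df) (.leaf (.cyc (nat_lit 28) [(nat_lit 5914), (nat_lit 9196), (nat_lit 2136)]))) (.node (.leaf (.cyc (nat_lit 10) [(nat_lit 299), (nat_lit 92), (nat_lit 89), (nat_lit 289), (nat_lit 870)])) (.leaf .df))) (.node (.node (.leaf .df) (.leaf (.cyc (nat_lit 14) [(nat_lit 6773), (nat_lit 3886)]))) (.node (.leaf (.cyc (nat_lit 22) [(nat_lit 2793), (nat_lit 5943), (nat_lit 1708), (nat_lit 592), (nat_lit 4496), (nat_lit 585), (nat_lit 1688)])) (.leaf .df)))) (.node (.node (.node (.leaf .df) (.leaf (.cyc (nat_lit 6) [(nat_lit 3631), (nat_lit 3630)]))) (.node (.leaf (.cyc (nat_lit 6) [(nat_lit 1914), (nat_lit 1913)])) (.leaf .df))) (.node (.node (.leaf .df) (.leaf (.cyc (nat_lit 2) [(nat_lit 4141), (nat_lit 4140)]))) (.node (.leaf (.cyc (nat_lit 28) [(nat_lit 2794), (nat_lit 8170)])) (.leaf .df))))))))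
noncomputable def c4P011101 : BT Pf := .node c4P0111010 c4P0111011
noncomputable def c4P01110 : BT Pf := .node c4P011100 c4P011101
noncomputable def c4P0111100 : BT Pf := (.node (.node (.node (.node (.node (.node (.node (.leaf .df) (.leaf (.cyc (nat_lit 17) [(nat_lit 7688), (nat_lit 8208), (nat_lit 3047)]))) (.node (.leaf .df) (.leaf (.cyc (nat_lit 8) [(nat_lit 3539), (nat_lit 3538), (nat_lit 12315), (nat_lit 9835), (nat_lit 12314)])))) (.node (.node (.leaf .df) (.leaf (.cyc (nat_lit 8) [(nat_lit 10268), (nat_lit 10266), (nat_lit 8667), (nat_lit 5912), (nat_lit 9193)]))) (.node (.leaf (.cyc (nat_lit 2) [(nat_lit 1959), (nat_lit 1958)])) (.leaf .df)))) (.node (.node (.node (.leaf .df) (.leaf (.cyc (nat_lit 25) [(nat_lit 2123), (nat_lit 9242)]))) (.node (.leaf (.cyc (nat_lit 1) [(nat_lit 4655), (nat_lit 924)])) (.leaf .df))) (.node (.node (.leaf .df) (.leaf (.cyc (nat_lit 20) [(nat_lit 3212), (nat_lit 1214), (nat_lit 1211), (nat_lit 11293), (nat_lit 5929),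 (nat_lit 11104), (nat_lit 8549)]))) (.node (.leaf (.cyc (nat_lit 1) [(nat_lit 6419), (nat_lit 2862)])) (.leaf .df))))) (.node (.node (.node (.node (.leaf .df) (.leaf (.cyc (nat_lit 25) [(nat_lit 3182), (nat_lit 8726), (nat_lit 1800)]))) (.node (.leaf (.cyc (nat_lit 0) [(nat_lit 4622), (nat_lit 360)])) (.leaf (.cyc (nat_lit 2) [(nat_lit 4260), (nat_lit 11430)])))) (.node (.node (.leaf .df) (.leaf (.cyc (nat_lit 11) [(nat_lit 3363), (nat_lit 5538), (nat_lit 8942), (nat_lit 557), (nat_lit 558), (nat_lit 1608), (nat_lit 3753)]))) (.node (.leaf (.cyc (nat_lit 18) [(nat_lit 2041), (nat_lit 6683)])) (.leaf .df)))) (.node (.node (.node (.leaf .df) (.leaf (.cyc (nat_lit 17) [(nat_lit 6516), (nat_lit 9756)]))) (.node (.leaf (.cyc (nat_lit 2) [(nat_lit 1425), (nat_lit 1424)])) (.leaf .df))) (.node (.node (.leaf .df) (.leaf (.cyc (nat_lit 4) [(nat_lit 2696), (nat_lit 5199), (nat_lit 2697), (nat_lit 9422), (nat_lit 4029)]))) (.node (.leaf (.cyc (nat_lit 5) [(nat_lit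 3315), (nat_lit 3314)])) (.leaf .df)))))) (.node (.node (.node (.node (.node (.leaf .df) (.leaf (.cyc (nat_lit 8) [(nat_lit 5990), (nat_lit 7089), (nat_lit 8475), (nat_lit 6311), (nat_lit 6286), (nat_lit 7073)]))) (.node (.leaf (.cyc (nat_lit 6) [(nat_lit 42), (nat_lit 41)])) (.leaf (.cyc (nat_lit 23) [(nat_lit 3980), (nat_lit 8908), (nat_lit 6273), (nat_lit 2061), (nat_lit 5164), (nat_lit 2596), (nat_lit 12445), (nat_lit 12446), (nat_lit 4205)])))) (.node (.node (.leaf .df) (.leaf (.cyc (nat_lit 5) [(nat_lit 10525), (nat_lit 7350)]))) (.node (.leaf (.cyc (nat_lit 6) [(nat_lit 2240), (nat_lit 2239)])) (.leaf .df)))) (.node (.node (.node (.leaf .df) (.leaf (.cyc (nat_lit 10) [(nat_lit 3349), (nat_lit 1283), (nat_lit 5012), (nat_lit 2203), (nat_lit 8615)]))) (.node (.leaf (.cyc (nat_lit 2) [(nat_lit 1210), (nat_lit 1209)])) (.leaf .df))) (.node (.node (.leaf .df) (.leaf (.cyc (nat_lit 19) [(nat_lit 2648), (nat_lit 11548)]))) (.node (.leaf (.cyc (nat_lit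 4) [(nat_lit 1266), (nat_lit 5349), (nat_lit 1151), (nat_lit 1152), (nat_lit 3076)])) (.leaf .df))))) (.node (.node (.node (.node (.leaf .df) (.leaf (.cyc (nat_lit 18) [(nat_lit 5380), (nat_lit 8985), (nat_lit 1582)]))) (.node (.leaf (.cyc (nat_lit 2) [(nat_lit 655), (nat_lit 654)])) (.leaf (.cyc (nat_lit 1) [(nat_lit 11930), (nat_lit 13085)])))) (.node (.node (.leaf .df) (.leaf (.cyc (nat_lit 28) [(nat_lit 6885), (nat_lit 11037)]))) (.node (.leaf (.cyc (nat_lit 34) [(nat_lit 6700), (nat_lit 5032), (nat_lit 6711), (nat_lit 6712), (nat_lit 6929), (nat_lit 5952), (nat_lit 5950), (nat_lit 1712), (nat_lit 1711)])) (.leaf .df)))) (.node (.node (.node (.leaf .df) (.leaf (.cyc (nat_lit 0) [(nat_lit 10012), (nat_lit 10013)]))) (.node (.leaf (.cyc (nat_lit 11) [(nat_lit 1667), (nat_lit 4831), (nat_lit 580), (nat_lit 186), (nat_lit 187), (nat_lit 584), (nat_lit 1684)])) (.leaf .df))) (.node (.node (.leaf .df) (.leaf (.cyc (nat_lit 5) [(nat_lit 4097), (nat_lit 4096)])))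 (.node (.leaf (.cyc (nat_lit 32) [(nat_lit 7178), (nat_lit 7926), (nat_lit 7167), (nat_lit 7965), (nat_lit 6377), (nat_lit 6236), (nat_lit 6708), (nat_lit 2263), (nat_lit 2265)])) (.leaf .df))))))) (.node (.node (.node (.node (.node (.node (.leaf .df) (.leaf (.cyc (nat_lit 21) [(nat_lit 7397), (nat_lit 2976), (nat_lit 5310), (nat_lit 2978), (nat_lit 8337)]))) (.node (.leaf .df) (.leaf (.cyc (nat_lit 3) [(nat_lit 12445), (nat_lit 6857), (nat_lit 2361), (nat_lit 2363), (nat_lit 6866)])))) (.node (.node (.leaf .df) (.leaf (.cyc (nat_lit 29) [(nat_lit 2233), (nat_lit 10396)]))) (.node (.leaf (.cyc (nat_lit 6) [(nat_lit 2105), (nat_lit 2104)])) (.leaf .df)))) (.node (.node (.node (.leaf .df) (.leaf (.cyc (nat_lit 8) [(nat_lit 3170), (nat_lit 9051), (nat_lit 5847), (nat_lit 5829), (nat_lit 9003)]))) (.node (.leaf (.cyc (nat_lit 5) [(nat_lit 1071), (nat_lit 1070)])) (.leaf .df))) (.node (.node (.leaf .df) (.leaf (.cyc (nat_lit 0) [(nat_lit 10251), (nat_lit 3925)])))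 (.node (.leaf (.cyc (nat_lit 0) [(nat_lit 5373), (nat_lit 2975)])) (.leaf .df))))) (.node (.node (.node (.node (.leaf .df) (.leaf (.cyc (nat_lit 35) [(nat_lit 6827), (nat_lit 7375), (nat_lit 7374), (nat_lit 6838), (nat_lit 2379), (nat_lit 6589), (nat_lit 8857), (nat_lit 5669), (nat_lit 8507), (nat_lit 8509)]))) (.node (.leaf (.cyc (nat_lit 7) [(nat_lit 501), (nat_lit 161), (nat_lit 48), (nat_lit 4366), (nat_lit 4367), (nat_lit 83), (nat_lit 270)])) (.leaf (.cyc (nat_lit 4) [(nat_lit 12836), (nat_lit 7336), (nat_lit 3106), (nat_lit 11529), (nat_lit 12956)])))) (.node (.node (.leaf .df) (.leaf (.cyc (nat_lit 7) [(nat_lit 3791), (nat_lit 1648), (nat_lit 571), (nat_lit 573), (nat_lit 1653), (nat_lit 6085), (nat_lit 1873)]))) (.node (.leaf (.cyc (nat_lit 22) [(nat_lit 2560), (nat_lit 6812), (nat_lit 1154), (nat_lit 4669), (nat_lit 4470), (nat_lit 487), (nat_lit 1422)])) (.leaf .df)))) (.node (.node (.node (.leaf .df) (.leaf (.cyc (nat_lit 6) [(nat_lit 3535),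 (nat_lit 3534)]))) (.node (.leaf (.cyc (nat_lit 1) [(nat_lit 5788), (nat_lit 1535)])) (.leaf .df))) (.node (.node (.leaf .df) (.leaf (.cyc (nat_lit 2) [(nat_lit 4064), (nat_lit 4063)]))) (.node (.leaf (.cyc (nat_lit 8) [(nat_lit 5878), (nat_lit 7513), (nat_lit 3135), (nat_lit 7813), (nat_lit 5887)])) (.leaf .df)))))) (.node (.node (.node (.node (.node (.leaf .df) (.leaf (.cyc (nat_lit 18) [(nat_lit 2205), (nat_lit 8605)]))) (.node (.leaf (.cyc (nat_lit 2) [(nat_lit 209), (nat_lit 208)])) (.leaf (.cyc (nat_lit 5) [(nat_lit 12700), (nat_lit 12128)])))) (.node (.node (.leaf .df) (.leaf (.cyc (nat_lit 3) [(nat_lit 10653), (nat_lit 10651), (nat_lit 5846), (nat_lit 10650), (nat_lit 10631)]))) (.node (.leaf (.cyc (nat_lit 9) [(nat_lit 2352), (nat_lit 836), (nat_lit 4573), (nat_lit 833), (nat_lit 2347)])) (.leaf .df)))) (.node (.node (.node (.leaf .df) (.leaf (.cyc (nat_lit 8) [(nat_lit 9154), (nat_lit 2475), (nat_lit 8785), (nat_lit 3163), (nat_lit 9626)])))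 (.node (.leaf (.cyc (nat_lit 4) [(nat_lit 447), (nat_lit 142), (nat_lit 141), (nat_lit 442), (nat_lit 1292)])) (.leaf .df))) (.node (.node (.leaf .df) (.leaf (.cyc (nat_lit 6) [(nat_lit 3997), (nat_lit 3996)]))) (.node (.leaf (.cyc (nat_lit 14) [(nat_lit 6864), (nat_lit 3209)])) (.leaf .df))))) (.node (.node (.node (.node (.leaf .df) (.leaf (.cyc (nat_lit 18) [(nat_lit 7193), (nat_lit 9116)]))) (.node (.leaf (.cyc (nat_lit 21) [(nat_lit 795), (nat_lit 4560), (nat_lit 4533), (nat_lit 4513), (nat_lit 663)])) (.leaf (.cyc (nat_lit 1) [(nat_lit 12486), (nat_lit 4337)])))) (.node (.node (.leaf .df) (.leaf (.cyc (nat_lit 8) [(nat_lit 11165), (nat_lit 3835), (nat_lit 1697), (nat_lit 1695), (nat_lit 11105)]))) (.node (.leaf (.cyc (nat_lit 1) [(nat_lit 6924), (nat_lit 2730)])) (.leaf .df)))) (.node (.node (.node (.leaf .df) (.leaf (.cyc (nat_lit 2) [(nat_lit 3620), (nat_lit 9679)]))) (.node (.leaf (.cyc (nat_lit 11) [(nat_lit 1503), (nat_lit 517), (nat_lit 4715),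 (nat_lit 4716), (nat_lit 5553), (nat_lit 4876), (nat_lit 1821)])) (.leaf .df))) (.node (.node (.leaf .df) (.leaf (.cyc (nat_lit 2) [(nat_lit 4124), (nat_lit 9339)]))) (.node (.leaf (.cyc (nat_lit 3) [(nat_lit 6111), (nat_lit 6109), (nat_lit 8093), (nat_lit 1441), (nat_lit 1442)])) (.leaf .df))))))))
noncomputable def c4P0111101 : BT Pf := (.node (.node (.node (.node (.node (.node (.node (.leaf .df) (.leaf (.cyc (nat_lit 25) [(nat_lit 7289), (nat_lit 8278), (nat_lit 2790)]))) (.node (.leaf .df) (.leaf (.cyc (nat_lit 4) [(nat_lit 4160), (nat_lit 9455), (nat_lit 9454), (nat_lit 9458), (nat_lit 10555)])))) (.node (.node (.leaf .df) (.leaf (.cyc (nat_lit 4) [(nat_lit 2774), (nat_lit 5230), (nat_lit 5523), (nat_lit 1521), (nat_lit 3666)]))) (.node (.leaf (.cyc (nat_lit 9) [(nat_lit 1937), (nat_lit 4919), (nat_lit 4959), (nat_lit 4945), (nat_lit 2027)])) (.leaf .df)))) (.node (.node (.node (.leaf .df) (.leaf (.cyc (nat_lit 26) [(nat_lit 9088), (nat_lit 2641),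 (nat_lit 6936), (nat_lit 4671), (nat_lit 1160), (nat_lit 3091), (nat_lit 7468), (nat_lit 3107), (nat_lit 9309)]))) (.node (.leaf (.cyc (nat_lit 6) [(nat_lit 1000), (nat_lit 999)])) (.leaf .df))) (.node (.node (.leaf .df) (.leaf (.cyc (nat_lit 13) [(nat_lit 3911), (nat_lit 3910), (nat_lit 11354), (nat_lit 11241), (nat_lit 11253), (nat_lit 11250), (nat_lit 7461)]))) (.node (.leaf (.cyc (nat_lit 6) [(nat_lit 7261), (nat_lit 7092)])) (.leaf .df))))) (.node (.node (.node (.node (.leaf .df) (.leaf (.cyc (nat_lit 18) [(nat_lit 3195), (nat_lit 8797), (nat_lit 2520)]))) (.node (.leaf (.cyc (nat_lit 25) [(nat_lit 301), (nat_lit 4700)])) (.leaf (.cyc (nat_lit 4) [(nat_lit 3893), (nat_lit 3891), (nat_lit 12892), (nat_lit 12893), (nat_lit 11146)])))) (.node (.node (.leaf .df) (.leaf (.cyc (nat_lit 29) [(nat_lit 10505), (nat_lit 10844)]))) (.node (.leaf (.cyc (nat_lit 3) [(nat_lit 2483), (nat_lit 896), (nat_lit 4591), (nat_lit 901), (nat_lit 2497)])) (.leaf .df))))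 (.node (.node (.node (.leaf .df) (.leaf (.cyc (nat_lit 5) [(nat_lit 3495), (nat_lit 3494)]))) (.node (.leaf (.cyc (nat_lit 2) [(nat_lit 1469), (nat_lit 1468)])) (.leaf .df))) (.node (.node (.leaf .df) (.leaf (.cyc (nat_lit 2) [(nat_lit 11865), (nat_lit 11461)]))) (.node (.leaf (.cyc (nat_lit 25) [(nat_lit 3281), (nat_lit 7766)])) (.leaf .df)))))) (.node (.node (.node (.node (.node (.leaf .df) (.leaf (.cyc (nat_lit 25) [(nat_lit 2423), (nat_lit 8536)]))) (.node (.leaf (.cyc (nat_lit 13) [(nat_lit 124), (nat_lit 36), (nat_lit 9), (nat_lit 1), (nat_lit 2), (nat_lit 10), (nat_lit 39)])) (.leaf (.cyc (nat_lit 1) [(nat_lit 11750), (nat_lit 12636)])))) (.node (.node (.leaf .df) (.leaf (.cyc (nat_lit 25) [(nat_lit 9829), (nat_lit 10587)]))) (.node (.leaf (.cyc (nat_lit 4) [(nat_lit 963), (nat_lit 4610), (nat_lit 964), (nat_lit 5185), (nat_lit 2294)])) (.leaf .df)))) (.node (.node (.node (.leaf .df) (.leaf (.cyc (nat_lit 4) [(nat_lit 2996), (nat_lit 5323), (nat_lit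 2998), (nat_lit 7416), (nat_lit 9564)]))) (.node (.leaf (.cyc (nat_lit 3) [(nat_lit 4916), (nat_lit 4915), (nat_lit 1151), (nat_lit 5349), (nat_lit 1265)])) (.leaf .df))) (.node (.node (.leaf .df) (.leaf (.cyc (nat_lit 6) [(nat_lit 11612), (nat_lit 11609)]))) (.node (.leaf (.cyc (nat_lit 6) [(nat_lit 3143), (nat_lit 7490)])) (.leaf .df))))) (.node (.node (.node (.node (.leaf .df) (.leaf (.cyc (nat_lit 30) [(nat_lit 3169), (nat_lit 3167), (nat_lit 9053), (nat_lit 2291), (nat_lit 5050), (nat_lit 7439), (nat_lit 3133), (nat_lit 7501), (nat_lit 1627), (nat_lit 1625)]))) (.node (.leaf (.cyc (nat_lit 8) [(nat_lit 255), (nat_lit 4407), (nat_lit 4527), (nat_lit 678), (nat_lit 4957)])) (.leaf (.cyc (nat_lit 22) [(nat_lit 13148), (nat_lit 12585), (nat_lit 10072), (nat_lit 7320), (nat_lit 12870), (nat_lit 12874), (nat_lit 12927)])))) (.node (.node (.leaf .df) (.leaf (.cyc (nat_lit 34) [(nat_lit 3828), (nat_lit 5929), (nat_lit 10177), (nat_lit 6016), (nat_lit 11097),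 (nat_lit 11099), (nat_lit 9518), (nat_lit 9519), (nat_lit 8550), (nat_lit 2417)]))) (.node (.leaf (.cyc (nat_lit 2) [(nat_lit 2685), (nat_lit 2684)])) (.leaf .df)))) (.node (.node (.node (.leaf .df) (.leaf (.cyc (nat_lit 19) [(nat_lit 3427), (nat_lit 10076)]))) (.node (.leaf (.cyc (nat_lit 16) [(nat_lit 1724), (nat_lit 5529), (nat_lit 441), (nat_lit 4701), (nat_lit 4498), (nat_lit 603), (nat_lit 4852), (nat_lit 4861), (nat_lit 1758), (nat_lit 5981)])) (.leaf .df))) (.node (.node (.leaf .df) (.leaf (.cyc (nat_lit 23) [(nat_lit 3538), (nat_lit 3539), (nat_lit 9891), (nat_lit 10068), (nat_lit 3597), (nat_lit 10073), (nat_lit 10071), (nat_lit 9669), (nat_lit 12125)]))) (.node (.leaf (.cyc (nat_lit 18) [(nat_lit 2907), (nat_lit 8026)])) (.leaf .df))))))) (.node (.node (.node (.node (.node (.node (.leaf .df) (.leaf (.cyc (nat_lit 25) [(nat_lit 1535), (nat_lit 8408)]))) (.node (.leaf .df) (.leaf (.cyc (nat_lit 5) [(nat_lit 4189), (nat_lit 10292)])))) (.node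 (.node (.leaf .df) (.leaf (.cyc (nat_lit 5) [(nat_lit 10461), (nat_lit 9590)]))) (.node (.leaf (.cyc (nat_lit 5) [(nat_lit 2171), (nat_lit 2170)])) (.leaf .df)))) (.node (.node (.node (.leaf .df) (.leaf (.cyc (nat_lit 18) [(nat_lit 3060), (nat_lit 9436)]))) (.node (.leaf (.cyc (nat_lit 9) [(nat_lit 1143), (nat_lit 389), (nat_lit 123), (nat_lit 125), (nat_lit 395)])) (.leaf .df))) (.node (.node (.leaf .df) (.leaf (.cyc (nat_lit 14) [(nat_lit 6252), (nat_lit 3938)]))) (.node (.leaf (.cyc (nat_lit 13) [(nat_lit 7388), (nat_lit 3017), (nat_lit 1126), (nat_lit 4912), (nat_lit 5312), (nat_lit 5311), (nat_lit 1139)])) (.leaf .df))))) (.node (.node (.node (.node (.leaf .df) (.leaf (.cyc (nat_lit 9) [(nat_lit 6770), (nat_lit 6747), (nat_lit 8925), (nat_lit 8504), (nat_lit 8499)]))) (.node (.leaf (.cyc (nat_lit 20) [(nat_lit 434), (nat_lit 4542), (nat_lit 4544), (nat_lit 188), (nat_lit 186), (nat_lit 579), (nat_lit 4829)])) (.leaf (.cyc (nat_lit 3) [(nat_lit 4066),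 (nat_lit 11922), (nat_lit 13017), (nat_lit 4296), (nat_lit 4297)])))) (.node (.node (.leaf .df) (.leaf (.cyc (nat_lit 11) [(nat_lit 2326), (nat_lit 826), (nat_lit 825), (nat_lit 2321), (nat_lit 6530), (nat_lit 10972), (nat_lit 2935), (nat_lit 2937)]))) (.node (.leaf (.cyc (nat_lit 9) [(nat_lit 2606), (nat_lit 5169), (nat_lit 5648), (nat_lit 4996), (nat_lit 2167)])) (.leaf .df)))) (.node (.node (.node (.leaf .df) (.leaf (.cyc (nat_lit 20) [(nat_lit 3544), (nat_lit 6462), (nat_lit 6465), (nat_lit 6464), (nat_lit 3550), (nat_lit 9949), (nat_lit 1530), (nat_lit 1527)]))) (.node (.leaf (.cyc (nat_lit 9) [(nat_lit 5849), (nat_lit 5851), (nat_lit 522), (nat_lit 523), (nat_lit 1519)])) (.leaf .df))) (.node (.node (.leaf .df) (.leaf (.cyc (nat_lit 22) [(nat_lit 4081), (nat_lit 6378), (nat_lit 10709), (nat_lit 10708), (nat_lit 6286), (nat_lit 6311), (nat_lit 8475)]))) (.node (.leaf (.cyc (nat_lit 17) [(nat_lit 6862), (nat_lit 7898), (nat_lit 2934)])) (.leaf .df))))))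 (.node (.node (.node (.node (.node (.leaf .df) (.leaf (.cyc (nat_lit 18) [(nat_lit 3022), (nat_lit 8669), (nat_lit 2401)]))) (.node (.leaf (.cyc (nat_lit 4) [(nat_lit 101), (nat_lit 99), (nat_lit 4426), (nat_lit 4416), (nat_lit 277)])) (.leaf (.cyc (nat_lit 14) [(nat_lit 9097), (nat_lit 4247)])))) (.node (.node (.leaf .df) (.leaf (.cyc (nat_lit 13) [(nat_lit 10650), (nat_lit 1610), (nat_lit 559), (nat_lit 557), (nat_lit 1603), (nat_lit 5841), (nat_lit 3738)]))) (.node (.leaf (.cyc (nat_lit 9) [(nat_lit 1500), (nat_lit 4783), (nat_lit 5755), (nat_lit 5096), (nat_lit 2415)])) (.leaf .df)))) (.node (.node (.node (.leaf .df) (.leaf (.cyc (nat_lit 19) [(nat_lit 6902), (nat_lit 9690)]))) (.node (.leaf (.cyc (nat_lit 6) [(nat_lit 1348), (nat_lit 5571)])) (.leaf .df))) (.node (.node (.leaf .df) (.leaf (.cyc (nat_lit 4) [(nat_lit 2038), (nat_lit 714), (nat_lit 713), (nat_lit 2034), (nat_lit 4012)]))) (.node (.leaf (.cyc (nat_lit 4) [(nat_lit 3263), (nat_lit 5437),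 (nat_lit 575), (nat_lit 578), (nat_lit 1668)])) (.leaf .df))))) (.node (.node (.node (.node (.leaf .df) (.leaf (.cyc (nat_lit 28) [(nat_lit 6103), (nat_lit 9180), (nat_lit 1590)]))) (.node (.leaf (.cyc (nat_lit 6) [(nat_lit 850), (nat_lit 849)])) (.leaf (.cyc (nat_lit 8) [(nat_lit 13062), (nat_lit 12129), (nat_lit 12130), (nat_lit 12134), (nat_lit 4350)])))) (.node (.node (.leaf .df) (.leaf (.cyc (nat_lit 28) [(nat_lit 2403), (nat_lit 11229)]))) (.node (.leaf (.cyc (nat_lit 6) [(nat_lit 2783), (nat_lit 6797)])) (.leaf .df)))) (.node (.node (.node (.leaf .df) (.leaf (.cyc (nat_lit 2) [(nat_lit 3624), (nat_lit 9735)]))) (.node (.leaf (.cyc (nat_lit 20) [(nat_lit 5480), (nat_lit 653), (nat_lit 211), (nat_lit 4400), (nat_lit 213), (nat_lit 659), (nat_lit 1889)])) (.leaf .df))) (.node (.node (.leaf .df) (.leaf (.cyc (nat_lit 27) [(nat_lit 4139), (nat_lit 2339), (nat_lit 2341), (nat_lit 9763), (nat_lit 9195), (nat_lit 3818), (nat_lit 11114)]))) (.node (.leaf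 (.cyc (nat_lit 17) [(nat_lit 2855), (nat_lit 8154), (nat_lit 2832)])) (.leaf .df))))))))
noncomputable def c4P011110 : BT Pf := .node c4P0111100 c4P0111101
noncomputable def c4P0111110 : BT Pf := (.node (.node (.node (.node (.node (.node (.node (.leaf .df) (.leaf (.cyc (nat_lit 18) [(nat_lit 2810), (nat_lit 8252)]))) (.node (.leaf .df) (.leaf (.cyc (nat_lit 4) [(nat_lit 3056), (nat_lit 7428), (nat_lit 2393), (nat_lit 2396), (nat_lit 4152)])))) (.node (.node (.leaf .df) (.leaf (.cyc (nat_lit 17) [(nat_lit 10298), (nat_lit 10299)]))) (.node (.leaf (.cyc (nat_lit 9) [(nat_lit 1531), (nat_lit 4792), (nat_lit 5788), (nat_lit 4931), (nat_lit 1994)])) (.leaf .df)))) (.node (.node (.node (.leaf .df) (.leaf (.cyc (nat_lit 3) [(nat_lit 7493), (nat_lit 7490), (nat_lit 9276), (nat_lit 7801), (nat_lit 1682)]))) (.node (.leaf (.cyc (nat_lit 5) [(nat_lit 961), (nat_lit 960)])) (.leaf .df))) (.node (.node (.leaf .df) (.leaf (.cyc (nat_lit 14) [(nat_lit 11101), (nat_lit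 3902)]))) (.node (.leaf (.cyc (nat_lit 1) [(nat_lit 6129), (nat_lit 2897)])) (.leaf .df))))) (.node (.node (.node (.node (.leaf .df) (.leaf (.cyc (nat_lit 28) [(nat_lit 6060), (nat_lit 8761), (nat_lit 1252)]))) (.node (.leaf (.cyc (nat_lit 3) [(nat_lit 373), (nat_lit 119), (nat_lit 4377), (nat_lit 124), (nat_lit 392)])) (.leaf (.cyc (nat_lit 13) [(nat_lit 12167), (nat_lit 11055), (nat_lit 7555), (nat_lit 12012), (nat_lit 11421), (nat_lit 12858), (nat_lit 12861)])))) (.node (.node (.leaf .df) (.leaf (.cyc (nat_lit 0) [(nat_lit 7724), (nat_lit 10813)]))) (.node (.leaf (.cyc (nat_lit 8) [(nat_lit 2225), (nat_lit 2223), (nat_lit 6716), (nat_lit 6461), (nat_lit 2268)])) (.leaf .df)))) (.node (.node (.node (.leaf .df) (.leaf (.cyc (nat_lit 8) [(nat_lit 2662), (nat_lit 970), (nat_lit 5192), (nat_lit 1388), (nat_lit 3475)]))) (.node (.leaf (.cyc (nat_lit 6) [(nat_lit 1462), (nat_lit 1461)])) (.leaf .df))) (.node (.node (.leaf .df) (.leaf (.cyc (nat_lit 22) [(nat_lit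 4037), (nat_lit 4038), (nat_lit 11835), (nat_lit 11819), (nat_lit 7069), (nat_lit 10749), (nat_lit 6282)]))) (.node (.leaf (.cyc (nat_lit 4) [(nat_lit 3331), (nat_lit 5482), (nat_lit 3332), (nat_lit 7733), (nat_lit 6833)])) (.leaf .df)))))) (.node (.node (.node (.node (.node (.leaf .df) (.leaf (.cyc (nat_lit 33) [(nat_lit 6822), (nat_lit 1100), (nat_lit 4648), (nat_lit 8291), (nat_lit 681), (nat_lit 4528), (nat_lit 686), (nat_lit 1961)]))) (.node (.leaf (.cyc (nat_lit 2) [(nat_lit 84), (nat_lit 83)])) (.leaf (.cyc (nat_lit 13) [(nat_lit 2705), (nat_lit 5204), (nat_lit 2709), (nat_lit 12099), (nat_lit 12097), (nat_lit 12604), (nat_lit 12605)])))) (.node (.node (.leaf .df) (.leaf (.cyc (nat_lit 14) [(nat_lit 9933), (nat_lit 3700)]))) (.node (.leaf (.cyc (nat_lit 9) [(nat_lit 2267), (nat_lit 6460), (nat_lit 487), (nat_lit 488), (nat_lit 1426)])) (.leaf .df)))) (.node (.node (.node (.leaf .df) (.leaf (.cyc (nat_lit 6) [(nat_lit 9533), (nat_lit 8373)]))) (.node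 (.leaf (.cyc (nat_lit 3) [(nat_lit 5425), (nat_lit 1228), (nat_lit 418), (nat_lit 419), (nat_lit 1234)])) (.leaf .df))) (.node (.node (.leaf .df) (.leaf (.cyc (nat_lit 27) [(nat_lit 3970), (nat_lit 6197), (nat_lit 8457), (nat_lit 8459), (nat_lit 10270), (nat_lit 10269), (nat_lit 10262)]))) (.node (.leaf (.cyc (nat_lit 5) [(nat_lit 3113), (nat_lit 3112)])) (.leaf .df))))) (.node (.node (.node (.node (.leaf .df) (.leaf (.cyc (nat_lit 18) [(nat_lit 1522), (nat_lit 9020), (nat_lit 2992)]))) (.node (.leaf (.cyc (nat_lit 2) [(nat_lit 689), (nat_lit 688)])) (.leaf (.cyc (nat_lit 20) [(nat_lit 11036), (nat_lit 11483), (nat_lit 12027), (nat_lit 13117), (nat_lit 13114), (nat_lit 11180), (nat_lit 11129)])))) (.node (.node (.leaf .df) (.leaf (.cyc (nat_lit 14) [(nat_lit 9592), (nat_lit 3827)]))) (.node (.leaf (.cyc (nat_lit 19) [(nat_lit 5758), (nat_lit 6972)])) (.leaf .df)))) (.node (.node (.node (.leaf .df) (.leaf (.cyc (nat_lit 5) [(nat_lit 3592), (nat_lit 3591)])))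 (.node (.leaf (.cyc (nat_lit 9) [(nat_lit 1720), (nat_lit 597), (nat_lit 4497), (nat_lit 594), (nat_lit 1712)])) (.leaf .df))) (.node (.node (.leaf .df) (.leaf (.cyc (nat_lit 8) [(nat_lit 4106), (nat_lit 10625), (nat_lit 6224), (nat_lit 4004), (nat_lit 11712)]))) (.node (.leaf (.cyc (nat_lit 29) [(nat_lit 5292), (nat_lit 7991), (nat_lit 2849)])) (.leaf .df))))))) (.node (.node (.node (.node (.node (.node (.leaf .df) (.leaf (.cyc (nat_lit 28) [(nat_lit 2245), (nat_lit 8380), (nat_lit 1993)]))) (.node (.leaf .df) (.leaf (.cyc (nat_lit 2) [(nat_lit 4183), (nat_lit 4182)])))) (.node (.node (.leaf .df) (.leaf (.cyc (nat_lit 0) [(nat_lit 9122), (nat_lit 10429)]))) (.node (.leaf (.cyc (nat_lit 5) [(nat_lit 2136), (nat_lit 2135)])) (.leaf .df)))) (.node (.node (.node (.leaf .df) (.leaf (.cyc (nat_lit 20) [(nat_lit 1692), (nat_lit 586), (nat_lit 4496), (nat_lit 591), (nat_lit 1705), (nat_lit 9392), (nat_lit 9404)]))) (.node (.leaf (.cyc (nat_lit 2) [(nat_lit 1107),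 (nat_lit 1106)])) (.leaf .df))) (.node (.node (.leaf .df) (.leaf (.cyc (nat_lit 0) [(nat_lit 11137), (nat_lit 11447)]))) (.node (.leaf (.cyc (nat_lit 5) [(nat_lit 2998), (nat_lit 2997)])) (.leaf .df))))) (.node (.node (.node (.node (.leaf .df) (.leaf (.cyc (nat_lit 35) [(nat_lit 5609), (nat_lit 5058), (nat_lit 8828), (nat_lit 6454), (nat_lit 8835), (nat_lit 8837), (nat_lit 8071), (nat_lit 1574), (nat_lit 1576)]))) (.node (.leaf (.cyc (nat_lit 2) [(nat_lit 539), (nat_lit 538)])) (.leaf (.cyc (nat_lit 7) [(nat_lit 4291), (nat_lit 3208), (nat_lit 1211), (nat_lit 1213), (nat_lit 5411), (nat_lit 3187), (nat_lit 11055)])))) (.node (.node (.leaf .df) (.leaf (.cyc (nat_lit 18) [(nat_lit 3794), (nat_lit 10940)]))) (.node (.leaf (.cyc (nat_lit 6) [(nat_lit 2588), (nat_lit 2587)])) (.leaf .df)))) (.node (.node (.node (.leaf .df) (.leaf (.cyc (nat_lit 29) [(nat_lit 2222), (nat_lit 9916)]))) (.node (.leaf (.cyc (nat_lit 4) [(nat_lit 1572), (nat_lit 546), (nat_lit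 175), (nat_lit 178), (nat_lit 556)])) (.leaf .df))) (.node (.node (.leaf .df) (.leaf (.cyc (nat_lit 0) [(nat_lit 9757), (nat_lit 4070)]))) (.node (.leaf (.cyc (nat_lit 19) [(nat_lit 5345), (nat_lit 7867)])) (.leaf .df)))))) (.node (.node (.node (.node (.node (.leaf .df) (.leaf (.cyc (nat_lit 30) [(nat_lit 3062), (nat_lit 8211), (nat_lit 6923), (nat_lit 1716), (nat_lit 6917), (nat_lit 2296), (nat_lit 6913), (nat_lit 2638), (nat_lit 2636)]))) (.node (.leaf (.cyc (nat_lit 3) [(nat_lit 4541), (nat_lit 242), (nat_lit 4405), (nat_lit 4382), (nat_lit 138)])) (.leaf (.cyc (nat_lit 20) [(nat_lit 4017), (nat_lit 11787), (nat_lit 12335), (nat_lit 12713), (nat_lit 12711), (nat_lit 11205), (nat_lit 12733)])))) (.node (.node (.leaf .df) (.leaf (.cyc (nat_lit 8) [(nat_lit 9614), (nat_lit 2882), (nat_lit 9616), (nat_lit 3406), (nat_lit 10685)]))) (.node (.leaf (.cyc (nat_lit 1) [(nat_lit 6589), (nat_lit 2380)])) (.leaf .df)))) (.node (.node (.node (.leaf .df) (.leaf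 (.cyc (nat_lit 4) [(nat_lit 5725), (nat_lit 8596), (nat_lit 9658), (nat_lit 3423), (nat_lit 5608)]))) (.node (.leaf (.cyc (nat_lit 4) [(nat_lit 1310), (nat_lit 449), (nat_lit 143), (nat_lit 146), (nat_lit 458)])) (.leaf .df))) (.node (.node (.leaf .df) (.leaf (.cyc (nat_lit 19) [(nat_lit 3573), (nat_lit 11708)]))) (.node (.leaf (.cyc (nat_lit 2) [(nat_lit 3236), (nat_lit 3235)])) (.leaf .df))))) (.node (.node (.node (.node (.leaf .df) (.leaf (.cyc (nat_lit 24) [(nat_lit 7004), (nat_lit 2682), (nat_lit 978), (nat_lit 980), (nat_lit 2688), (nat_lit 7105), (nat_lit 9149), (nat_lit 2841), (nat_lit 2839)]))) (.node (.leaf (.cyc (nat_lit 6) [(nat_lit 819), (nat_lit 4766)])) (.leaf (.cyc (nat_lit 20) [(nat_lit 13197), (nat_lit 12659), (nat_lit 11983), (nat_lit 11980), (nat_lit 12826), (nat_lit 12829), (nat_lit 13245)])))) (.node (.node (.leaf .df) (.leaf (.cyc (nat_lit 5) [(nat_lit 3874), (nat_lit 3873)]))) (.node (.leaf (.cyc (nat_lit 3) [(nat_lit 6955), (nat_lit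 979), (nat_lit 6959), (nat_lit 1012), (nat_lit 2750)])) (.leaf .df)))) (.node (.node (.node (.leaf .df) (.leaf (.cyc (nat_lit 8) [(nat_lit 10172), (nat_lit 9294), (nat_lit 9289), (nat_lit 2255), (nat_lit 2257)]))) (.node (.leaf (.cyc (nat_lit 2) [(nat_lit 1853), (nat_lit 1852)])) (.leaf .df))) (.node (.node (.leaf .df) (.leaf (.cyc (nat_lit 6) [(nat_lit 12221), (nat_lit 10259)]))) (.node (.leaf (.cyc (nat_lit 33) [(nat_lit 7306), (nat_lit 2959), (nat_lit 8120), (nat_lit 5595), (nat_lit 5597), (nat_lit 5596), (nat_lit 7960), (nat_lit 7180)])) (.leaf .df))))))))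
noncomputable def c4P0111111 : BT Pf := (.node (.node (.node (.node (.node (.node (.node (.leaf .df) (.leaf (.cyc (nat_lit 18) [(nat_lit 1955), (nat_lit 8307)]))) (.node (.leaf .df) (.leaf (.cyc (nat_lit 7) [(nat_lit 4072), (nat_lit 6355), (nat_lit 8857), (nat_lit 6589), (nat_lit 2378), (nat_lit 11870), (nat_lit 4170)])))) (.node (.node (.leaf .df) (.leaf (.cyc (nat_lit 24) [(nat_lit 7859), (nat_lit 9926), (nat_lit 9924), (nat_lit 9911), (nat_lit 3449), (nat_lit 3447), (nat_lit 10362), (nat_lit 10363), (nat_lit 1555), (nat_lit 1553)]))) (.node (.leaf (.cyc (nat_lit 6) [(nat_lit 2065), (nat_lit 2064)])) (.leaf .df)))) (.node (.node (.node (.leaf .df) (.leaf (.cyc (nat_lit 29) [(nat_lit 7235), (nat_lit 9340)]))) (.node (.leaf (.cyc (nat_lit 8) [(nat_lit 5000), (nat_lit 5243), (nat_lit 4947), (nat_lit 4629), (nat_lit 1031)])) (.leaf .df))) (.node (.node (.leaf .df) (.leaf (.cyc (nat_lit 28) [(nat_lit 7616), (nat_lit 11387)]))) (.node (.leaf (.cyc (nat_lit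 8) [(nat_lit 5948), (nat_lit 7284), (nat_lit 1097), (nat_lit 1096), (nat_lit 2953)])) (.leaf .df))))) (.node (.node (.node (.node (.leaf .df) (.leaf (.cyc (nat_lit 25) [(nat_lit 6528), (nat_lit 8827), (nat_lit 6708)]))) (.node (.leaf (.cyc (nat_lit 23) [(nat_lit 4563), (nat_lit 81), (nat_lit 23), (nat_lit 4357), (nat_lit 27), (nat_lit 4370), (nat_lit 45), (nat_lit 148), (nat_lit 466)])) (.leaf (.cyc (nat_lit 3) [(nat_lit 12925), (nat_lit 12923), (nat_lit 7579), (nat_lit 12083), (nat_lit 12922)])))) (.node (.node (.leaf .df) (.leaf (.cyc (nat_lit 17) [(nat_lit 10595), (nat_lit 10876)]))) (.node (.leaf (.cyc (nat_lit 10) [(nat_lit 1739), (nat_lit 605), (nat_lit 602), (nat_lit 6777), (nat_lit 2392)])) (.leaf .df)))) (.node (.node (.node (.leaf .df) (.leaf (.cyc (nat_lit 29) [(nat_lit 9767), (nat_lit 9852)]))) (.node (.leaf (.cyc (nat_lit 2) [(nat_lit 1505), (nat_lit 1504)])) (.leaf .df))) (.node (.node (.leaf .df) (.leaf (.cyc (nat_lit 14) [(nat_lit 10504),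 (nat_lit 11901)]))) (.node (.leaf (.cyc (nat_lit 13) [(nat_lit 7804), (nat_lit 2163), (nat_lit 4996), (nat_lit 7777), (nat_lit 1273), (nat_lit 4707), (nat_lit 1277)])) (.leaf .df)))))) (.node (.node (.node (.node (.node (.leaf .df) (.leaf (.cyc (nat_lit 13) [(nat_lit 8049), (nat_lit 8242), (nat_lit 1133), (nat_lit 384), (nat_lit 386), (nat_lit 1138), (nat_lit 3049)]))) (.node (.leaf (.cyc (nat_lit 5) [(nat_lit 165), (nat_lit 164)])) (.leaf (.cyc (nat_lit 9) [(nat_lit 9795), (nat_lit 9793), (nat_lit 9794), (nat_lit 6987), (nat_lit 4225)])))) (.node (.node (.leaf .df) (.leaf (.cyc (nat_lit 29) [(nat_lit 2007), (nat_lit 10620)]))) (.node (.leaf (.cyc (nat_lit 0) [(nat_lit 6484), (nat_lit 2314)])) (.leaf .df)))) (.node (.node (.node (.leaf .df) (.leaf (.cyc (nat_lit 0) [(nat_lit 7048), (nat_lit 9597)]))) (.node (.leaf (.cyc (nat_lit 19) [(nat_lit 4798), (nat_lit 5501), (nat_lit 871)])) (.leaf .df))) (.node (.node (.leaf .df) (.leaf (.cyc (nat_lit 2) [(nat_lit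 11645), (nat_lit 11484)]))) (.node (.leaf (.cyc (nat_lit 10) [(nat_lit 3177), (nat_lit 1199), (nat_lit 4682), (nat_lit 1201), (nat_lit 3183)])) (.leaf .df))))) (.node (.node (.node (.node (.leaf .df) (.leaf (.cyc (nat_lit 10) [(nat_lit 3086), (nat_lit 5356), (nat_lit 3090), (nat_lit 9085), (nat_lit 8239)]))) (.node (.leaf (.cyc (nat_lit 9) [(nat_lit 763), (nat_lit 4551), (nat_lit 151), (nat_lit 153), (nat_lit 481)])) (.leaf (.cyc (nat_lit 3) [(nat_lit 13181), (nat_lit 10141), (nat_lit 12211), (nat_lit 12209), (nat_lit 12850)])))) (.node (.node (.leaf .df) (.leaf (.cyc (nat_lit 22) [(nat_lit 11131), (nat_lit 3845), (nat_lit 1702), (nat_lit 1703), (nat_lit 8653), (nat_lit 5627), (nat_lit 6679)]))) (.node (.leaf (.cyc (nat_lit 5) [(nat_lit 7037), (nat_lit 7036)])) (.leaf .df)))) (.node (.node (.node (.leaf .df) (.leaf (.cyc (nat_lit 19) [(nat_lit 1938), (nat_lit 10108)]))) (.node (.leaf (.cyc (nat_lit 5) [(nat_lit 1778), (nat_lit 1777)])) (.leaf .df))) (.node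 (.node (.leaf .df) (.leaf (.cyc (nat_lit 18) [(nat_lit 3768), (nat_lit 12157)]))) (.node (.leaf (.cyc (nat_lit 25) [(nat_lit 7156), (nat_lit 8060)])) (.leaf .df))))))) (.node (.node (.node (.node (.node (.node (.leaf .df) (.leaf (.cyc (nat_lit 13) [(nat_lit 2117), (nat_lit 4974), (nat_lit 8441), (nat_lit 5045), (nat_lit 273), (nat_lit 275), (nat_lit 832), (nat_lit 2343)]))) (.node (.leaf .df) (.leaf (.cyc (nat_lit 1) [(nat_lit 10315), (nat_lit 4197)])))) (.node (.node (.leaf .df) (.leaf (.cyc (nat_lit 18) [(nat_lit 2154), (nat_lit 10492), (nat_lit 3637)]))) (.node (.leaf (.cyc (nat_lit 5) [(nat_lit 2198), (nat_lit 2197)])) (.leaf .df)))) (.node (.node (.node (.leaf .df) (.leaf (.cyc (nat_lit 28) [(nat_lit 7768), (nat_lit 9469)]))) (.node (.leaf (.cyc (nat_lit 2) [(nat_lit 1177), (nat_lit 1176)])) (.leaf .df))) (.node (.node (.leaf .df) (.leaf (.cyc (nat_lit 14) [(nat_lit 9148), (nat_lit 3957)]))) (.node (.leaf (.cyc (nat_lit 1) [(nat_lit 7402), (nat_lit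 3054)])) (.leaf .df))))) (.node (.node (.node (.node (.leaf .df) (.leaf (.cyc (nat_lit 18) [(nat_lit 2210), (nat_lit 8956), (nat_lit 3174)]))) (.node (.leaf (.cyc (nat_lit 5) [(nat_lit 614), (nat_lit 613)])) (.leaf (.cyc (nat_lit 14) [(nat_lit 9894), (nat_lit 4303)])))) (.node (.node (.leaf .df) (.leaf (.cyc (nat_lit 7) [(nat_lit 11000), (nat_lit 3624), (nat_lit 10154), (nat_lit 10156), (nat_lit 9834), (nat_lit 3500), (nat_lit 10588)]))) (.node (.leaf (.cyc (nat_lit 10) [(nat_lit 972), (nat_lit 324), (nat_lit 321), (nat_lit 961), (nat_lit 2634)])) (.leaf .df)))) (.node (.node (.node (.leaf .df) (.leaf (.cyc (nat_lit 5) [(nat_lit 3564), (nat_lit 6371)]))) (.node (.leaf (.cyc (nat_lit 2) [(nat_lit 1644), (nat_lit 1643)])) (.leaf .df))) (.node (.node (.leaf .df) (.leaf (.cyc (nat_lit 6) [(nat_lit 12029), (nat_lit 11432)]))) (.node (.leaf (.cyc (nat_lit 29) [(nat_lit 7169), (nat_lit 7931), (nat_lit 4694)])) (.leaf .df)))))) (.node (.node (.node (.node (.node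 (.leaf .df) (.leaf (.cyc (nat_lit 17) [(nat_lit 6278), (nat_lit 8698), (nat_lit 5326)]))) (.node (.leaf (.cyc (nat_lit 14) [(nat_lit 4464), (nat_lit 317)])) (.leaf (.cyc (nat_lit 8) [(nat_lit 4253), (nat_lit 7202), (nat_lit 11154), (nat_lit 11157), (nat_lit 10702)])))) (.node (.node (.leaf .df) (.leaf (.cyc (nat_lit 11) [(nat_lit 3366), (nat_lit 8531), (nat_lit 7459), (nat_lit 2557), (nat_lit 2558), (nat_lit 10748), (nat_lit 10742)]))) (.node (.leaf (.cyc (nat_lit 8) [(nat_lit 1381), (nat_lit 471), (nat_lit 4744), (nat_lit 873), (nat_lit 2442)])) (.leaf .df)))) (.node (.node (.node (.leaf .df) (.leaf (.cyc (nat_lit 4) [(nat_lit 5949), (nat_lit 9724), (nat_lit 2340), (nat_lit 8627), (nat_lit 8625)]))) (.node (.leaf (.cyc (nat_lit 0) [(nat_lit 5605), (nat_lit 1385)])) (.leaf .df))) (.node (.node (.leaf .df) (.leaf (.cyc (nat_lit 20) [(nat_lit 10545), (nat_lit 11149), (nat_lit 11150), (nat_lit 11771), (nat_lit 2669), (nat_lit 6998), (nat_lit 3780)]))) (.node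 (.leaf (.cyc (nat_lit 14) [(nat_lit 5476), (nat_lit 3295)])) (.leaf .df))))) (.node (.node (.node (.node (.leaf .df) (.leaf (.cyc (nat_lit 29) [(nat_lit 6253), (nat_lit 9212)]))) (.node (.leaf (.cyc (nat_lit 13) [(nat_lit 5116), (nat_lit 441), (nat_lit 4458), (nat_lit 4427), (nat_lit 4376), (nat_lit 117), (nat_lit 367)])) (.leaf .df))) (.node (.node (.leaf .df) (.leaf (.cyc (nat_lit 22) [(nat_lit 11261), (nat_lit 1795), (nat_lit 1792), (nat_lit 10506), (nat_lit 11054), (nat_lit 7601), (nat_lit 9964)]))) (.node (.leaf (.cyc (nat_lit 8) [(nat_lit 5333), (nat_lit 5335), (nat_lit 5089), (nat_lit 1037), (nat_lit 2812)])) (.leaf .df)))) (.node (.node (.node (.leaf .df) (.leaf (.cyc (nat_lit 6) [(nat_lit 3638), (nat_lit 10147)]))) (.node (.leaf (.cyc (nat_lit 7) [(nat_lit 1912), (nat_lit 667), (nat_lit 215), (nat_lit 4401), (nat_lit 219), (nat_lit 675), (nat_lit 1931)])) (.leaf .df))) (.node (.node (.leaf .df) (.leaf (.cyc (nat_lit 29) [(nat_lit 12104), (nat_lit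 12284)]))) (.node (.leaf (.cyc (nat_lit 25) [(nat_lit 2811), (nat_lit 8184)])) (.leaf .df))))))))
noncomputable def c4P011111 : BT Pf := .node c4P0111110 c4P0111111
noncomputable def c4P01111 : BT Pf := .node c4P011110 c4P011111
noncomputable def c4P0111 : BT Pf := .node c4P01110 c4P01111
noncomputable def c4P011 : BT Pf := .node c4P0110 c4P0111
noncomputable def c4P01 : BT Pf := .node c4P010 c4P011
noncomputable def c4P0 : BT Pf := .node c4P00 c4P01
noncomputable def c4P1000000 : BT Pf := (.node (.node (.node (.node (.node (.node (.node (.leaf .df) (.leaf (.cyc (nat_lit 17) [(nat_lit 2181), (nat_lit 8189)]))) (.node (.leaf .df) (.leaf (.cyc (nat_lit 22) [(nat_lit 11978), (nat_lit 9895), (nat_lit 12286), (nat_lit 3915), (nat_lit 8426), (nat_lit 5878), (nat_lit 7512)])))) (.node (.node (.leaf .df) (.leaf (.cyc (nat_lit 27) [(nat_lit 3639), (nat_lit 1493), (nat_lit 5066), (nat_lit 5065), (nat_lit 5186), (nat_lit 2645), (nat_lit 7561)]))) (.node (.leaf (.cyc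 (nat_lit 6) [(nat_lit 1932), (nat_lit 5352)])) (.leaf .df)))) (.node (.node (.node (.leaf .df) (.leaf (.cyc (nat_lit 25) [(nat_lit 3021), (nat_lit 9215), (nat_lit 2051)]))) (.node (.leaf (.cyc (nat_lit 3) [(nat_lit 5111), (nat_lit 885), (nat_lit 294), (nat_lit 296), (nat_lit 894)])) (.leaf .df))) (.node (.node (.leaf .df) (.leaf (.cyc (nat_lit 8) [(nat_lit 2392), (nat_lit 6778), (nat_lit 5526), (nat_lit 1755), (nat_lit 3890)]))) (.node (.leaf (.cyc (nat_lit 13) [(nat_lit 2815), (nat_lit 1038), (nat_lit 349), (nat_lit 347), (nat_lit 1030), (nat_lit 5237), (nat_lit 1053)])) (.leaf .df))))) (.node (.node (.node (.node (.leaf .df) (.leaf (.cyc (nat_lit 28) [(nat_lit 2058), (nat_lit 8702), (nat_lit 5414)]))) (.node (.leaf (.cyc (nat_lit 6) [(nat_lit 320), (nat_lit 4574)])) (.leaf (.cyc (nat_lit 4) [(nat_lit 4254), (nat_lit 2872), (nat_lit 2871), (nat_lit 10554), (nat_lit 10556)])))) (.node (.node (.leaf .df) (.leaf (.cyc (nat_lit 15) [(nat_lit 3749), (nat_lit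 8838), (nat_lit 8836), (nat_lit 2024), (nat_lit 6162), (nat_lit 6373), (nat_lit 2177), (nat_lit 2175), (nat_lit 8910)]))) (.node (.leaf (.cyc (nat_lit 11) [(nat_lit 906), (nat_lit 5102), (nat_lit 870), (nat_lit 289), (nat_lit 290), (nat_lit 874), (nat_lit 2445)])) (.leaf .df)))) (.node (.node (.node (.leaf .df) (.leaf (.cyc (nat_lit 13) [(nat_lit 9727), (nat_lit 9726), (nat_lit 8479), (nat_lit 6927), (nat_lit 1178), (nat_lit 4674), (nat_lit 1181), (nat_lit 3137)]))) (.node (.leaf (.cyc (nat_lit 5) [(nat_lit 1391), (nat_lit 1390)])) (.leaf .df))) (.node (.node (.leaf .df) (.leaf (.cyc (nat_lit 13) [(nat_lit 9625), (nat_lit 7234), (nat_lit 11595), (nat_lit 2042), (nat_lit 4952), (nat_lit 2046), (nat_lit 4021)]))) (.node (.leaf (.cyc (nat_lit 20) [(nat_lit 6626), (nat_lit 6024), (nat_lit 1293), (nat_lit 4723), (nat_lit 1308), (nat_lit 7679), (nat_lit 7680)])) (.leaf .df)))))) (.node (.node (.node (.node (.node (.leaf .df) (.leaf (.cyc (nat_lit 19) [(nat_lit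 6551), (nat_lit 8446), (nat_lit 7827)]))) (.node (.leaf (.cyc (nat_lit 1) [(nat_lit 0), (nat_lit 2)])) (.leaf (.cyc (nat_lit 22) [(nat_lit 12543), (nat_lit 3656), (nat_lit 8256), (nat_lit 8288), (nat_lit 5235), (nat_lit 8596), (nat_lit 3928)])))) (.node (.node (.leaf .df) (.leaf (.cyc (nat_lit 8) [(nat_lit 9487), (nat_lit 10491), (nat_lit 3633), (nat_lit 5741), (nat_lit 3635)]))) (.node (.leaf (.cyc (nat_lit 5) [(nat_lit 2201), (nat_lit 5602)])) (.leaf .df)))) (.node (.node (.node (.leaf .df) (.leaf (.cyc (nat_lit 4) [(nat_lit 7709), (nat_lit 6138), (nat_lit 7700), (nat_lit 7882), (nat_lit 6143)]))) (.node (.leaf (.cyc (nat_lit 5) [(nat_lit 1182), (nat_lit 1181)])) (.leaf .df))) (.node (.node (.leaf .df) (.leaf (.cyc (nat_lit 3) [(nat_lit 11520), (nat_lit 2587), (nat_lit 8878), (nat_lit 6555), (nat_lit 11280)]))) (.node (.leaf (.cyc (nat_lit 10) [(nat_lit 2397), (nat_lit 5313), (nat_lit 4663), (nat_lit 1141), (nat_lit 3058)])) (.leaf .df))))) (.node (.node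 (.node (.node (.leaf .df) (.leaf (.cyc (nat_lit 25) [(nat_lit 7340), (nat_lit 8957)]))) (.node (.leaf (.cyc (nat_lit 6) [(nat_lit 618), (nat_lit 617)])) (.leaf (.cyc (nat_lit 3) [(nat_lit 13056), (nat_lit 12737), (nat_lit 10242), (nat_lit 7564), (nat_lit 11918)])))) (.node (.node (.leaf .df) (.leaf (.cyc (nat_lit 7) [(nat_lit 9733), (nat_lit 10206), (nat_lit 11000), (nat_lit 10997), (nat_lit 9830), (nat_lit 5899), (nat_lit 3810)]))) (.node (.leaf (.cyc (nat_lit 9) [(nat_lit 6498), (nat_lit 964), (nat_lit 4610), (nat_lit 962), (nat_lit 2638)])) (.leaf .df)))) (.node (.node (.node (.leaf .df) (.leaf (.cyc (nat_lit 5) [(nat_lit 3567), (nat_lit 3566)]))) (.node (.leaf (.cyc (nat_lit 11) [(nat_lit 608), (nat_lit 4699), (nat_lit 428), (nat_lit 4455), (nat_lit 183), (nat_lit 572), (nat_lit 1649)])) (.leaf .df))) (.node (.node (.leaf .df) (.leaf (.cyc (nat_lit 18) [(nat_lit 7594), (nat_lit 12032)]))) (.node (.leaf (.cyc (nat_lit 25) [(nat_lit 2857), (nat_lit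 7934), (nat_lit 1238)])) (.leaf .df))))))) (.node (.node (.node (.node (.node (.node (.leaf .df) (.leaf (.cyc (nat_lit 29) [(nat_lit 2371), (nat_lit 8313)]))) (.node (.leaf .df) (.leaf (.cyc (nat_lit 18) [(nat_lit 4169), (nat_lit 12416), (nat_lit 4026)])))) (.node (.node (.leaf .df) (.leaf (.cyc (nat_lit 18) [(nat_lit 2974), (nat_lit 10366)]))) (.node (.leaf (.cyc (nat_lit 9) [(nat_lit 2069), (nat_lit 729), (nat_lit 4537), (nat_lit 726), (nat_lit 2061)])) (.leaf .df)))) (.node (.node (.node (.leaf .df) (.leaf (.cyc (nat_lit 19) [(nat_lit 9337), (nat_lit 9340), (nat_lit 6952)]))) (.node (.leaf (.cyc (nat_lit 6) [(nat_lit 1036), (nat_lit 1035)])) (.leaf .df))) (.node (.node (.leaf .df) (.leaf (.cyc (nat_lit 26) [(nat_lit 7964), (nat_lit 2617), (nat_lit 6889), (nat_lit 10747), (nat_lit 11383), (nat_lit 11386), (nat_lit 2080), (nat_lit 2078), (nat_lit 11392)]))) (.node (.leaf (.cyc (nat_lit 28) [(nat_lit 7196), (nat_lit 7296)])) (.leaf .df))))) (.node (.node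 (.node (.node (.leaf .df) (.leaf (.cyc (nat_lit 29) [(nat_lit 2227), (nat_lit 8831), (nat_lit 2316)]))) (.node (.leaf (.cyc (nat_lit 0) [(nat_lit 466), (nat_lit 4736)])) (.leaf (.cyc (nat_lit 0) [(nat_lit 10836), (nat_lit 4281)])))) (.node (.node (.leaf .df) (.leaf (.cyc (nat_lit 5) [(nat_lit 10880), (nat_lit 10877)]))) (.node (.leaf (.cyc (nat_lit 4) [(nat_lit 1382), (nat_lit 1380), (nat_lit 5625), (nat_lit 5135), (nat_lit 2530)])) (.leaf .df)))) (.node (.node (.node (.leaf .df) (.leaf (.cyc (nat_lit 20) [(nat_lit 9744), (nat_lit 3460), (nat_lit 1377), (nat_lit 1378), (nat_lit 9853), (nat_lit 6731), (nat_lit 6723)]))) (.node (.leaf (.cyc (nat_lit 15) [(nat_lit 5680), (nat_lit 5760), (nat_lit 1507), (nat_lit 4784), (nat_lit 4716), (nat_lit 1304), (nat_lit 5554), (nat_lit 510), (nat_lit 508), (nat_lit 1481)])) (.leaf .df))) (.node (.node (.leaf .df) (.leaf (.cyc (nat_lit 28) [(nat_lit 11845), (nat_lit 11904)]))) (.node (.leaf (.cyc (nat_lit 18) [(nat_lit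 7634), (nat_lit 7808)])) (.leaf .df)))))) (.node (.node (.node (.node (.node (.leaf .df) (.leaf (.cyc (nat_lit 33) [(nat_lit 3045), (nat_lit 8224), (nat_lit 994), (nat_lit 4619), (nat_lit 4779), (nat_lit 1495), (nat_lit 7123)]))) (.node (.leaf (.cyc (nat_lit 5) [(nat_lit 169), (nat_lit 168)])) (.leaf (.cyc (nat_lit 11) [(nat_lit 12265), (nat_lit 11504), (nat_lit 3954), (nat_lit 1873), (nat_lit 1874), (nat_lit 12531), (nat_lit 12672)])))) (.node (.node (.leaf .df) (.leaf (.cyc (nat_lit 29) [(nat_lit 9935), (nat_lit 10623)]))) (.node (.leaf (.cyc (nat_lit 2) [(nat_lit 2320), (nat_lit 6359)])) (.leaf .df)))) (.node (.node (.node (.leaf .df) (.leaf (.cyc (nat_lit 2) [(nat_lit 9600), (nat_lit 9513)]))) (.node (.leaf (.cyc (nat_lit 28) [(nat_lit 5300), (nat_lit 5502), (nat_lit 4838)])) (.leaf .df))) (.node (.node (.leaf .df) (.leaf (.cyc (nat_lit 11) [(nat_lit 3056), (nat_lit 1140), (nat_lit 387), (nat_lit 384), (nat_lit 1132), (nat_lit 8258), (nat_lit 11644)])))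 (.node (.leaf (.cyc (nat_lit 2) [(nat_lit 3186), (nat_lit 3185)])) (.leaf .df))))) (.node (.node (.node (.node (.leaf .df) (.leaf (.cyc (nat_lit 8) [(nat_lit 9087), (nat_lit 6951), (nat_lit 6915), (nat_lit 1759), (nat_lit 5774)]))) (.node (.leaf (.cyc (nat_lit 28) [(nat_lit 4754), (nat_lit 4992)])) (.leaf (.cyc (nat_lit 3) [(nat_lit 12528), (nat_lit 12255), (nat_lit 11299), (nat_lit 9865), (nat_lit 4331)])))) (.node (.node (.leaf .df) (.leaf (.cyc (nat_lit 13) [(nat_lit 11136), (nat_lit 1729), (nat_lit 4849), (nat_lit 1731), (nat_lit 10562), (nat_lit 10561), (nat_lit 7051)]))) (.node (.leaf (.cyc (nat_lit 7) [(nat_lit 2096), (nat_lit 739), (nat_lit 4538), (nat_lit 732), (nat_lit 2076), (nat_lit 7040), (nat_lit 7036)])) (.leaf .df)))) (.node (.node (.node (.leaf .df) (.leaf (.cyc (nat_lit 25) [(nat_lit 3609), (nat_lit 10111)]))) (.node (.leaf (.cyc (nat_lit 6) [(nat_lit 1784), (nat_lit 1783)])) (.leaf .df))) (.node (.node (.leaf .df) (.leaf (.cyc (nat_lit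 6) [(nat_lit 4117), (nat_lit 7598)]))) (.node (.leaf (.cyc (nat_lit 25) [(nat_lit 7651), (nat_lit 8063)])) (.leaf .df))))))))
noncomputable def c4P1000001 : BT Pf := (.node (.node (.node (.node (.node (.node (.node (.leaf .df) (.leaf (.cyc (nat_lit 20) [(nat_lit 2434), (nat_lit 867), (nat_lit 287), (nat_lit 284), (nat_lit 861), (nat_lit 2412), (nat_lit 8253), (nat_lit 7404)]))) (.node (.leaf .df) (.leaf (.cyc (nat_lit 14) [(nat_lit 8640), (nat_lit 4153)])))) (.node (.node (.leaf .df) (.leaf (.cyc (nat_lit 8) [(nat_lit 10304), (nat_lit 3580), (nat_lit 9453), (nat_lit 8387), (nat_lit 2247)]))) (.node (.leaf (.cyc (nat_lit 4) [(nat_lit 4941), (nat_lit 4799), (nat_lit 4933), (nat_lit 4932), (nat_lit 1996)])) (.leaf .df)))) (.node (.node (.node (.leaf .df) (.leaf (.cyc (nat_lit 1) [(nat_lit 7277), (nat_lit 9280)]))) (.node (.leaf (.cyc (nat_lit 3) [(nat_lit 5184), (nat_lit 560), (nat_lit 4488), (nat_lit 4565), (nat_lit 815)])) (.leaf .df))) (.node (.node (.leaf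 .df) (.leaf (.cyc (nat_lit 1) [(nat_lit 7831), (nat_lit 3903)]))) (.node (.leaf (.cyc (nat_lit 6) [(nat_lit 2900), (nat_lit 6195)])) (.leaf .df))))) (.node (.node (.node (.node (.leaf .df) (.leaf (.cyc (nat_lit 17) [(nat_lit 5474), (nat_lit 8765), (nat_lit 1839)]))) (.node (.leaf (.cyc (nat_lit 5) [(nat_lit 398), (nat_lit 397)])) (.leaf (.cyc (nat_lit 1) [(nat_lit 12140), (nat_lit 12864)])))) (.node (.node (.leaf .df) (.leaf (.cyc (nat_lit 3) [(nat_lit 10816), (nat_lit 3763), (nat_lit 1622), (nat_lit 1624), (nat_lit 9578)]))) (.node (.leaf (.cyc (nat_lit 20) [(nat_lit 5635), (nat_lit 1394), (nat_lit 477), (nat_lit 478), (nat_lit 1398), (nat_lit 6684), (nat_lit 5164)])) (.leaf .df)))) (.node (.node (.node (.leaf .df) (.leaf (.cyc (nat_lit 11) [(nat_lit 1418), (nat_lit 4991), (nat_lit 764), (nat_lit 4551), (nat_lit 474), (nat_lit 1389), (nat_lit 3478)]))) (.node (.leaf (.cyc (nat_lit 18) [(nat_lit 1345), (nat_lit 5696), (nat_lit 821)])) (.leaf .df))) (.node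 (.node (.leaf .df) (.leaf (.cyc (nat_lit 14) [(nat_lit 9652), (nat_lit 4039)]))) (.node (.leaf (.cyc (nat_lit 25) [(nat_lit 7643), (nat_lit 7744), (nat_lit 5348)])) (.leaf .df)))))) (.node (.node (.node (.node (.node (.leaf .df) (.leaf (.cyc (nat_lit 18) [(nat_lit 2571), (nat_lit 8510)]))) (.node (.leaf (.cyc (nat_lit 2) [(nat_lit 88), (nat_lit 87)])) (.leaf (.cyc (nat_lit 22) [(nat_lit 10930), (nat_lit 7026), (nat_lit 12606), (nat_lit 4211), (nat_lit 6904), (nat_lit 9942), (nat_lit 9939)])))) (.node (.node (.leaf .df) (.leaf (.cyc (nat_lit 10) [(nat_lit 7147), (nat_lit 8295), (nat_lit 7291), (nat_lit 6323), (nat_lit 10560)]))) (.node (.leaf (.cyc (nat_lit 6) [(nat_lit 2268), (nat_lit 2267)])) (.leaf .df)))) (.node (.node (.node (.leaf .df) (.leaf (.cyc (nat_lit 4) [(nat_lit 2507), (nat_lit 6510), (nat_lit 6734), (nat_lit 7796), (nat_lit 9536)]))) (.node (.leaf (.cyc (nat_lit 4) [(nat_lit 771), (nat_lit 4553), (nat_lit 679), (nat_lit 4959), (nat_lit 5440)]))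 (.leaf .df))) (.node (.node (.leaf .df) (.leaf (.cyc (nat_lit 2) [(nat_lit 3971), (nat_lit 10270)]))) (.node (.leaf (.cyc (nat_lit 6) [(nat_lit 3119), (nat_lit 3118)])) (.leaf .df))))) (.node (.node (.node (.node (.leaf .df) (.leaf (.cyc (nat_lit 31) [(nat_lit 5784), (nat_lit 4895), (nat_lit 4808), (nat_lit 9024), (nat_lit 5321), (nat_lit 2988), (nat_lit 7874), (nat_lit 3078)]))) (.node (.leaf (.cyc (nat_lit 2) [(nat_lit 693), (nat_lit 692)])) (.leaf (.cyc (nat_lit 0) [(nat_lit 10435), (nat_lit 4317)])))) (.node (.node (.leaf .df) (.leaf (.cyc (nat_lit 3) [(nat_lit 11072), (nat_lit 9639), (nat_lit 9638), (nat_lit 9641), (nat_lit 9645)]))) (.node (.leaf (.cyc (nat_lit 5) [(nat_lit 2658), (nat_lit 2657)])) (.leaf .df)))) (.node (.node (.node (.leaf .df) (.leaf (.cyc (nat_lit 5) [(nat_lit 10048), (nat_lit 7312)]))) (.node (.leaf (.cyc (nat_lit 2) [(nat_lit 1723), (nat_lit 1722)])) (.leaf .df))) (.node (.node (.leaf .df) (.leaf (.cyc (nat_lit 1) [(nat_lit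 11804), (nat_lit 4107)]))) (.node (.leaf (.cyc (nat_lit 29) [(nat_lit 2849), (nat_lit 7998)])) (.leaf .df))))))) (.node (.node (.node (.node (.node (.node (.leaf .df) (.leaf (.cyc (nat_lit 25) [(nat_lit 6436), (nat_lit 8381)]))) (.node (.leaf .df) (.leaf (.cyc (nat_lit 23) [(nat_lit 4073), (nat_lit 6361), (nat_lit 948), (nat_lit 4756), (nat_lit 7845), (nat_lit 7851), (nat_lit 6714), (nat_lit 7506), (nat_lit 12479)])))) (.node (.node (.leaf .df) (.leaf (.cyc (nat_lit 20) [(nat_lit 6111), (nat_lit 6121), (nat_lit 10012), (nat_lit 10019), (nat_lit 10430), (nat_lit 3683), (nat_lit 3681)]))) (.node (.leaf (.cyc (nat_lit 5) [(nat_lit 2142), (nat_lit 2141)])) (.leaf .df)))) (.node (.node (.node (.leaf .df) (.leaf (.cyc (nat_lit 8) [(nat_lit 7127), (nat_lit 7126), (nat_lit 9408), (nat_lit 3172), (nat_lit 9396)]))) (.node (.leaf (.cyc (nat_lit 22) [(nat_lit 5311), (nat_lit 1108), (nat_lit 374), (nat_lit 375), (nat_lit 5076), (nat_lit 4579), (nat_lit 855)])) (.leaf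 .df))) (.node (.node (.leaf .df) (.leaf (.cyc (nat_lit 18) [(nat_lit 3860), (nat_lit 11456)]))) (.node (.leaf (.cyc (nat_lit 7) [(nat_lit 3000), (nat_lit 5324), (nat_lit 6139), (nat_lit 6138), (nat_lit 5471), (nat_lit 4926), (nat_lit 1971)])) (.leaf .df))))) (.node (.node (.node (.node (.leaf .df) (.leaf (.cyc (nat_lit 3) [(nat_lit 8072), (nat_lit 5823), (nat_lit 8895), (nat_lit 6360), (nat_lit 7804), (nat_lit 5903)]))) (.node (.leaf (.cyc (nat_lit 2) [(nat_lit 542), (nat_lit 541)])) (.leaf (.cyc (nat_lit 29) [(nat_lit 4290), (nat_lit 12991)])))) (.node (.node (.leaf .df) (.leaf (.cyc (nat_lit 29) [(nat_lit 9514), (nat_lit 10943)]))) (.node (.leaf (.cyc (nat_lit 3) [(nat_lit 6398), (nat_lit 6848), (nat_lit 6847), (nat_lit 1434), (nat_lit 1436)])) (.leaf .df)))) (.node (.node (.node (.leaf .df) (.leaf (.cyc (nat_lit 29) [(nat_lit 9914), (nat_lit 9919)]))) (.node (.leaf (.cyc (nat_lit 5) [(nat_lit 1578), (nat_lit 1577)])) (.leaf .df))) (.node (.node (.leaf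 .df) (.leaf (.cyc (nat_lit 8) [(nat_lit 11968), (nat_lit 2325), (nat_lit 2327), (nat_lit 9702), (nat_lit 10902)]))) (.node (.leaf (.cyc (nat_lit 18) [(nat_lit 7697), (nat_lit 7869), (nat_lit 3079)])) (.leaf .df)))))) (.node (.node (.node (.node (.node (.leaf .df) (.leaf (.cyc (nat_lit 9) [(nat_lit 2095), (nat_lit 7047), (nat_lit 1001), (nat_lit 6924), (nat_lit 8204), (nat_lit 7392)]))) (.node (.leaf (.cyc (nat_lit 3) [(nat_lit 4483), (nat_lit 4495), (nat_lit 4543), (nat_lit 242), (nat_lit 243)])) (.leaf (.cyc (nat_lit 6) [(nat_lit 4239), (nat_lit 10243)])))) (.node (.node (.leaf .df) (.leaf (.cyc (nat_lit 28) [(nat_lit 3725), (nat_lit 10688)]))) (.node (.leaf (.cyc (nat_lit 22) [(nat_lit 2382), (nat_lit 850), (nat_lit 281), (nat_lit 4417), (nat_lit 285), (nat_lit 4713), (nat_lit 1292)])) (.leaf .df)))) (.node (.node (.node (.leaf .df) (.leaf (.cyc (nat_lit 11) [(nat_lit 1387), (nat_lit 5605), (nat_lit 1355), (nat_lit 463), (nat_lit 464), (nat_lit 1359),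 (nat_lit 3426)]))) (.node (.leaf (.cyc (nat_lit 5) [(nat_lit 1316), (nat_lit 1315)])) (.leaf .df))) (.node (.node (.leaf .df) (.leaf (.cyc (nat_lit 8) [(nat_lit 11712), (nat_lit 4004), (nat_lit 2009), (nat_lit 10622), (nat_lit 3350)]))) (.node (.leaf (.cyc (nat_lit 2) [(nat_lit 3240), (nat_lit 3239)])) (.leaf .df))))) (.node (.node (.node (.node (.leaf .df) (.leaf (.cyc (nat_lit 10) [(nat_lit 1544), (nat_lit 1546), (nat_lit 9150), (nat_lit 2839), (nat_lit 2842)]))) (.node (.leaf (.cyc (nat_lit 4) [(nat_lit 4733), (nat_lit 4738), (nat_lit 269), (nat_lit 272), (nat_lit 824)])) (.leaf (.cyc (nat_lit 3) [(nat_lit 12711), (nat_lit 3875), (nat_lit 3873), (nat_lit 11200), (nat_lit 4344)])))) (.node (.node (.leaf .df) (.leaf (.cyc (nat_lit 3) [(nat_lit 11198), (nat_lit 11200), (nat_lit 10666), (nat_lit 10667), (nat_lit 6141)]))) (.node (.leaf (.cyc (nat_lit 4) [(nat_lit 2751), (nat_lit 1012), (nat_lit 6959), (nat_lit 980), (nat_lit 2688)])) (.leaf .df)))) (.node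 (.node (.node (.leaf .df) (.leaf (.cyc (nat_lit 7) [(nat_lit 1696), (nat_lit 4837), (nat_lit 5558), (nat_lit 6011), (nat_lit 6062), (nat_lit 10176), (nat_lit 6016)]))) (.node (.leaf (.cyc (nat_lit 4) [(nat_lit 1857), (nat_lit 647), (nat_lit 645), (nat_lit 6073), (nat_lit 6074)])) (.leaf .df))) (.node (.node (.leaf .df) (.leaf (.cyc (nat_lit 3) [(nat_lit 6820), (nat_lit 2264), (nat_lit 2262), (nat_lit 8829), (nat_lit 4133)]))) (.node (.leaf (.cyc (nat_lit 11) [(nat_lit 1310), (nat_lit 4720), (nat_lit 4502), (nat_lit 520), (nat_lit 1509), (nat_lit 8128), (nat_lit 2824)])) (.leaf .df))))))))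
noncomputable def c4P100000 : BT Pf := .node c4P1000000 c4P1000001
noncomputable def c4P1000010 : BT Pf := (.node (.node (.node (.node (.node (.node (.node (.leaf .df) (.leaf (.cyc (nat_lit 29) [(nat_lit 7393), (nat_lit 8212), (nat_lit 1013)]))) (.node (.leaf .df) (.leaf (.cyc (nat_lit 14) [(nat_lit 11350), (nat_lit 12320)])))) (.node (.node (.leaf .df) (.leaf (.cyc (nat_lit 2) [(nat_lit 3644), (nat_lit 3643)]))) (.node (.leaf (.cyc (nat_lit 6) [(nat_lit 1963), (nat_lit 1962)])) (.leaf .df)))) (.node (.node (.node (.leaf .df) (.leaf (.cyc (nat_lit 17) [(nat_lit 2124), (nat_lit 9245)]))) (.node (.leaf (.cyc (nat_lit 1) [(nat_lit 5080), (nat_lit 927)])) (.leaf .df))) (.node (.node (.leaf .df) (.leaf (.cyc (nat_lit 28) [(nat_lit 9864), (nat_lit 11296)]))) (.node (.leaf (.cyc (nat_lit 2) [(nat_lit 2867), (nat_lit 2866)])) (.leaf .df))))) (.node (.node (.node (.node (.leaf .df) (.leaf (.cyc (nat_lit 17) [(nat_lit 6034), (nat_lit 8727), (nat_lit 3225)]))) (.node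 (.leaf (.cyc (nat_lit 6) [(nat_lit 365), (nat_lit 364)])) (.leaf (.cyc (nat_lit 0) [(nat_lit 10421), (nat_lit 12832)])))) (.node (.node (.leaf .df) (.leaf (.cyc (nat_lit 22) [(nat_lit 10781), (nat_lit 3398), (nat_lit 8781), (nat_lit 5384), (nat_lit 9051), (nat_lit 1611), (nat_lit 1609)]))) (.node (.leaf (.cyc (nat_lit 13) [(nat_lit 6685), (nat_lit 1398), (nat_lit 4750), (nat_lit 265), (nat_lit 4433), (nat_lit 329), (nat_lit 986)])) (.leaf .df)))) (.node (.node (.node (.leaf .df) (.leaf (.cyc (nat_lit 20) [(nat_lit 1609), (nat_lit 5827), (nat_lit 5829), (nat_lit 9004), (nat_lit 5013), (nat_lit 2206), (nat_lit 9760)]))) (.node (.leaf (.cyc (nat_lit 1) [(nat_lit 5623), (nat_lit 1428)])) (.leaf .df))) (.node (.node (.leaf .df) (.leaf (.cyc (nat_lit 8) [(nat_lit 11807), (nat_lit 11506), (nat_lit 7266), (nat_lit 10388), (nat_lit 10386)]))) (.node (.leaf (.cyc (nat_lit 8) [(nat_lit 3316), (nat_lit 3315), (nat_lit 7711), (nat_lit 1864), (nat_lit 1866)])) (.leaf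 .df)))))) (.node (.node (.node (.node (.node (.leaf .df) (.leaf (.cyc (nat_lit 17) [(nat_lit 7073), (nat_lit 8478)]))) (.node (.leaf (.cyc (nat_lit 6) [(nat_lit 47), (nat_lit 4370)])) (.leaf (.cyc (nat_lit 18) [(nat_lit 3847), (nat_lit 12576)])))) (.node (.node (.leaf .df) (.leaf (.cyc (nat_lit 29) [(nat_lit 6882), (nat_lit 10527)]))) (.node (.leaf (.cyc (nat_lit 4) [(nat_lit 2242), (nat_lit 5432), (nat_lit 397), (nat_lit 400), (nat_lit 1181)])) (.leaf .df)))) (.node (.node (.node (.leaf .df) (.leaf (.cyc (nat_lit 10) [(nat_lit 5958), (nat_lit 1285), (nat_lit 4710), (nat_lit 1287), (nat_lit 3352)]))) (.node (.leaf (.cyc (nat_lit 5) [(nat_lit 1212), (nat_lit 1211)])) (.leaf .df))) (.node (.node (.leaf .df) (.leaf (.cyc (nat_lit 10) [(nat_lit 2256), (nat_lit 5033), (nat_lit 6446), (nat_lit 7435), (nat_lit 11552)]))) (.node (.leaf (.cyc (nat_lit 2) [(nat_lit 3079), (nat_lit 3078)])) (.leaf .df))))) (.node (.node (.node (.node (.leaf .df) (.leaf (.cyc (nat_lit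 28) [(nat_lit 8959), (nat_lit 8987), (nat_lit 1584)]))) (.node (.leaf (.cyc (nat_lit 2) [(nat_lit 658), (nat_lit 657)])) (.leaf (.cyc (nat_lit 13) [(nat_lit 4309), (nat_lit 12853), (nat_lit 3943), (nat_lit 7723), (nat_lit 6794), (nat_lit 7724), (nat_lit 3946)])))) (.node (.node (.leaf .df) (.leaf (.cyc (nat_lit 18) [(nat_lit 2288), (nat_lit 11040)]))) (.node (.leaf (.cyc (nat_lit 18) [(nat_lit 2072), (nat_lit 6944)])) (.leaf .df)))) (.node (.node (.node (.leaf .df) (.leaf (.cyc (nat_lit 6) [(nat_lit 10016), (nat_lit 9039)]))) (.node (.leaf (.cyc (nat_lit 2) [(nat_lit 1687), (nat_lit 1686)])) (.leaf .df))) (.node (.node (.leaf .df) (.leaf (.cyc (nat_lit 14) [(nat_lit 9500), (nat_lit 4098)]))) (.node (.leaf (.cyc (nat_lit 33) [(nat_lit 2894), (nat_lit 1069), (nat_lit 4636), (nat_lit 7957), (nat_lit 1056), (nat_lit 1057), (nat_lit 2869)])) (.leaf .df))))))) (.node (.node (.node (.node (.node (.node (.leaf .df) (.leaf (.cyc (nat_lit 29) [(nat_lit 2374), (nat_lit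 8351)]))) (.node (.leaf .df) (.leaf (.cyc (nat_lit 13) [(nat_lit 3622), (nat_lit 3621), (nat_lit 11543), (nat_lit 8939), (nat_lit 10427), (nat_lit 10430), (nat_lit 4177)])))) (.node (.node (.leaf .df) (.leaf (.cyc (nat_lit 5) [(nat_lit 10400), (nat_lit 7968)]))) (.node (.leaf (.cyc (nat_lit 1) [(nat_lit 6118), (nat_lit 2108)])) (.leaf .df)))) (.node (.node (.node (.leaf .df) (.leaf (.cyc (nat_lit 19) [(nat_lit 2844), (nat_lit 9375)]))) (.node (.leaf (.cyc (nat_lit 4) [(nat_lit 1073), (nat_lit 359), (nat_lit 358), (nat_lit 1067), (nat_lit 5276)])) (.leaf .df))) (.node (.node (.leaf .df) (.leaf (.cyc (nat_lit 14) [(nat_lit 9655), (nat_lit 11424)]))) (.node (.leaf (.cyc (nat_lit 6) [(nat_lit 2979), (nat_lit 2978)])) (.leaf .df))))) (.node (.node (.node (.node (.leaf .df) (.leaf (.cyc (nat_lit 19) [(nat_lit 6984), (nat_lit 8862)]))) (.node (.leaf (.cyc (nat_lit 7) [(nat_lit 437), (nat_lit 139), (nat_lit 4393), (nat_lit 4394), (nat_lit 4386), (nat_lit 162),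 (nat_lit 505)])) (.leaf (.cyc (nat_lit 2) [(nat_lit 12960), (nat_lit 11810)])))) (.node (.node (.leaf .df) (.leaf (.cyc (nat_lit 3) [(nat_lit 3790), (nat_lit 10911), (nat_lit 1841), (nat_lit 6053), (nat_lit 3735)]))) (.node (.leaf (.cyc (nat_lit 11) [(nat_lit 1927), (nat_lit 673), (nat_lit 4524), (nat_lit 4453), (nat_lit 392), (nat_lit 1154), (nat_lit 6816)])) (.leaf .df)))) (.node (.node (.node (.leaf .df) (.leaf (.cyc (nat_lit 5) [(nat_lit 3538), (nat_lit 8562)]))) (.node (.leaf (.cyc (nat_lit 2) [(nat_lit 1539), (nat_lit 5465)])) (.leaf .df))) (.node (.node (.leaf .df) (.leaf (.cyc (nat_lit 6) [(nat_lit 11935), (nat_lit 10913)]))) (.node (.leaf (.cyc (nat_lit 19) [(nat_lit 3068), (nat_lit 7839)])) (.leaf .df)))))) (.node (.node (.node (.node (.node (.leaf .df) (.leaf (.cyc (nat_lit 28) [(nat_lit 1587), (nat_lit 8608), (nat_lit 5739)]))) (.node (.leaf (.cyc (nat_lit 6) [(nat_lit 214), (nat_lit 4491)])) (.leaf (.cyc (nat_lit 6) [(nat_lit 4233), (nat_lit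 4232)])))) (.node (.node (.leaf .df) (.leaf (.cyc (nat_lit 19) [(nat_lit 2761), (nat_lit 10655)]))) (.node (.leaf (.cyc (nat_lit 0) [(nat_lit 6522), (nat_lit 2357)])) (.leaf .df)))) (.node (.node (.node (.leaf .df) (.leaf (.cyc (nat_lit 7) [(nat_lit 9631), (nat_lit 2660), (nat_lit 2658), (nat_lit 9095), (nat_lit 3218), (nat_lit 5417), (nat_lit 3220)]))) (.node (.leaf (.cyc (nat_lit 4) [(nat_lit 1294), (nat_lit 442), (nat_lit 4460), (nat_lit 4480), (nat_lit 520)])) (.leaf .df))) (.node (.node (.leaf .df) (.leaf (.cyc (nat_lit 28) [(nat_lit 11676), (nat_lit 11680)]))) (.node (.leaf (.cyc (nat_lit 12) [(nat_lit 3213), (nat_lit 5413), (nat_lit 5411), (nat_lit 5402), (nat_lit 5397), (nat_lit 979), (nat_lit 6959), (nat_lit 1012), (nat_lit 2748)])) (.leaf .df))))) (.node (.node (.node (.node (.leaf .df) (.leaf (.cyc (nat_lit 29) [(nat_lit 2833), (nat_lit 9117)]))) (.node (.leaf (.cyc (nat_lit 25) [(nat_lit 4965), (nat_lit 5023)])) (.leaf (.cyc (nat_lit 8) [(nat_lit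 12471), (nat_lit 12473), (nat_lit 10180), (nat_lit 4184), (nat_lit 13214)])))) (.node (.node (.leaf .df) (.leaf (.cyc (nat_lit 3) [(nat_lit 11093), (nat_lit 11092), (nat_lit 1726), (nat_lit 1727), (nat_lit 3863)]))) (.node (.leaf (.cyc (nat_lit 21) [(nat_lit 2734), (nat_lit 7046), (nat_lit 739), (nat_lit 736), (nat_lit 2087)])) (.leaf .df)))) (.node (.node (.node (.leaf .df) (.leaf (.cyc (nat_lit 6) [(nat_lit 3622), (nat_lit 8098)]))) (.node (.leaf (.cyc (nat_lit 4) [(nat_lit 6001), (nat_lit 6009), (nat_lit 634), (nat_lit 637), (nat_lit 1826)])) (.leaf .df))) (.node (.node (.leaf .df) (.leaf (.cyc (nat_lit 21) [(nat_lit 8370), (nat_lit 6045), (nat_lit 9346), (nat_lit 6498), (nat_lit 4125)]))) (.node (.leaf (.cyc (nat_lit 29) [(nat_lit 5782), (nat_lit 8095)])) (.leaf .df))))))))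
noncomputable def c4P1000011 : BT Pf := (.node (.node (.node (.node (.node (.node (.node (.leaf .df) (.leaf (.cyc (nat_lit 19) [(nat_lit 6174), (nat_lit 8280), (nat_lit 1076)]))) (.node (.leaf .df) (.leaf (.cyc (nat_lit 2) [(nat_lit 4162), (nat_lit 4161)])))) (.node (.node (.leaf .df) (.leaf (.cyc (nat_lit 13) [(nat_lit 2538), (nat_lit 2540), (nat_lit 10336), (nat_lit 2774), (nat_lit 6480), (nat_lit 2283), (nat_lit 5048), (nat_lit 2287)]))) (.node (.leaf (.cyc (nat_lit 6) [(nat_lit 2030), (nat_lit 2029)])) (.leaf .df)))) (.node (.node (.node (.leaf .df) (.leaf (.cyc (nat_lit 28) [(nat_lit 7486), (nat_lit 9312)]))) (.node (.leaf (.cyc (nat_lit 4) [(nat_lit 4626), (nat_lit 4627), (nat_lit 4622), (nat_lit 4621), (nat_lit 1005)])) (.leaf .df))) (.node (.node (.leaf .df) (.leaf (.cyc (nat_lit 3) [(nat_lit 11360), (nat_lit 11359), (nat_lit 10557), (nat_lit 9460), (nat_lit 10484)]))) (.node (.leaf (.cyc (nat_lit 5) [(nat_lit 2925), (nat_lit 2924)])) (.leaf .df)))))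 (.node (.node (.node (.node (.leaf .df) (.leaf (.cyc (nat_lit 11) [(nat_lit 3192), (nat_lit 1205), (nat_lit 408), (nat_lit 409), (nat_lit 1206), (nat_lit 8799), (nat_lit 5130), (nat_lit 2514)]))) (.node (.leaf (.cyc (nat_lit 0) [(nat_lit 4595), (nat_lit 431)])) (.leaf (.cyc (nat_lit 7) [(nat_lit 12895), (nat_lit 12567), (nat_lit 2771), (nat_lit 5227), (nat_lit 5128), (nat_lit 5777), (nat_lit 3667)])))) (.node (.node (.leaf .df) (.leaf (.cyc (nat_lit 2) [(nat_lit 3771), (nat_lit 3770)]))) (.node (.leaf (.cyc (nat_lit 3) [(nat_lit 6725), (nat_lit 6733), (nat_lit 6734), (nat_lit 6510), (nat_lit 2506)])) (.leaf .df)))) (.node (.node (.node (.leaf .df) (.leaf (.cyc (nat_lit 8) [(nat_lit 1404), (nat_lit 4752), (nat_lit 1400), (nat_lit 3498), (nat_lit 9824)]))) (.node (.leaf (.cyc (nat_lit 5) [(nat_lit 1471), (nat_lit 1470)])) (.leaf .df))) (.node (.node (.leaf .df) (.leaf (.cyc (nat_lit 14) [(nat_lit 11862), (nat_lit 4050)]))) (.node (.leaf (.cyc (nat_lit 28)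 [(nat_lit 2166), (nat_lit 7772)])) (.leaf .df)))))) (.node (.node (.node (.node (.node (.leaf .df) (.leaf (.cyc (nat_lit 28) [(nat_lit 6388), (nat_lit 8538), (nat_lit 2418)]))) (.node (.leaf (.cyc (nat_lit 2) [(nat_lit 129), (nat_lit 128)])) (.leaf (.cyc (nat_lit 6) [(nat_lit 12640), (nat_lit 11635)])))) (.node (.node (.leaf .df) (.leaf (.cyc (nat_lit 0) [(nat_lit 7691), (nat_lit 3703)]))) (.node (.leaf (.cyc (nat_lit 8) [(nat_lit 1004), (nat_lit 1002), (nat_lit 6495), (nat_lit 2295), (nat_lit 2296)])) (.leaf .df)))) (.node (.node (.node (.leaf .df) (.leaf (.cyc (nat_lit 4) [(nat_lit 3392), (nat_lit 8687), (nat_lit 8683), (nat_lit 6788), (nat_lit 8685)]))) (.node (.leaf (.cyc (nat_lit 2) [(nat_lit 1266), (nat_lit 1265)])) (.leaf .df))) (.node (.node (.leaf .df) (.leaf (.cyc (nat_lit 21) [(nat_lit 2729), (nat_lit 5214), (nat_lit 7039), (nat_lit 8908), (nat_lit 3980)]))) (.node (.leaf (.cyc (nat_lit 4) [(nat_lit 1353), (nat_lit 1351), (nat_lit 6682), (nat_lit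 6677), (nat_lit 3146)])) (.leaf .df))))) (.node (.node (.node (.node (.leaf .df) (.leaf (.cyc (nat_lit 21) [(nat_lit 1627), (nat_lit 1625), (nat_lit 9056), (nat_lit 1194), (nat_lit 8790), (nat_lit 2509)]))) (.node (.leaf (.cyc (nat_lit 2) [(nat_lit 727), (nat_lit 726)])) (.leaf (.cyc (nat_lit 9) [(nat_lit 13057), (nat_lit 13139), (nat_lit 13137), (nat_lit 13141), (nat_lit 4324)])))) (.node (.node (.leaf .df) (.leaf (.cyc (nat_lit 17) [(nat_lit 3829), (nat_lit 11103)]))) (.node (.leaf (.cyc (nat_lit 3) [(nat_lit 7003), (nat_lit 2682), (nat_lit 978), (nat_lit 980), (nat_lit 2690)])) (.leaf .df)))) (.node (.node (.node (.leaf .df) (.leaf (.cyc (nat_lit 1) [(nat_lit 10065), (nat_lit 10069)]))) (.node (.leaf (.cyc (nat_lit 5) [(nat_lit 1759), (nat_lit 1758)])) (.leaf .df))) (.node (.node (.leaf .df) (.leaf (.cyc (nat_lit 0) [(nat_lit 10414), (nat_lit 4111)]))) (.node (.leaf (.cyc (nat_lit 17) [(nat_lit 5308), (nat_lit 8029), (nat_lit 2912)])) (.leaf .df)))))))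 (.node (.node (.node (.node (.node (.node (.leaf .df) (.leaf (.cyc (nat_lit 29) [(nat_lit 5466), (nat_lit 8411)]))) (.node (.leaf .df) (.leaf (.cyc (nat_lit 10) [(nat_lit 3917), (nat_lit 6047), (nat_lit 10792), (nat_lit 10791), (nat_lit 4190)])))) (.node (.node (.leaf .df) (.leaf (.cyc (nat_lit 20) [(nat_lit 1848), (nat_lit 644), (nat_lit 646), (nat_lit 5562), (nat_lit 3376), (nat_lit 10461), (nat_lit 2468), (nat_lit 2465)]))) (.node (.leaf (.cyc (nat_lit 0) [(nat_lit 5018), (nat_lit 2173)])) (.leaf .df)))) (.node (.node (.node (.leaf .df) (.leaf (.cyc (nat_lit 14) [(nat_lit 9089), (nat_lit 9440)]))) (.node (.leaf (.cyc (nat_lit 2) [(nat_lit 1146), (nat_lit 1145)])) (.leaf .df))) (.node (.node (.leaf .df) (.leaf (.cyc (nat_lit 8) [(nat_lit 6767), (nat_lit 9367), (nat_lit 9975), (nat_lit 9893), (nat_lit 11487)]))) (.node (.leaf (.cyc (nat_lit 0) [(nat_lit 7157), (nat_lit 3028)])) (.leaf .df))))) (.node (.node (.node (.node (.leaf .df) (.leaf (.cyc (nat_lit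 29) [(nat_lit 2521), (nat_lit 8927)]))) (.node (.leaf (.cyc (nat_lit 8) [(nat_lit 580), (nat_lit 4492), (nat_lit 4491), (nat_lit 212), (nat_lit 4809)])) (.leaf (.cyc (nat_lit 14) [(nat_lit 9547), (nat_lit 4298)])))) (.node (.node (.leaf .df) (.leaf (.cyc (nat_lit 21) [(nat_lit 6534), (nat_lit 10976), (nat_lit 1086), (nat_lit 1084), (nat_lit 2928)]))) (.node (.leaf (.cyc (nat_lit 2) [(nat_lit 2609), (nat_lit 2608)])) (.leaf .df)))) (.node (.node (.node (.leaf .df) (.leaf (.cyc (nat_lit 19) [(nat_lit 9909), (nat_lit 9950)]))) (.node (.leaf (.cyc (nat_lit 13) [(nat_lit 5856), (nat_lit 5773), (nat_lit 5117), (nat_lit 889), (nat_lit 4590), (nat_lit 5513), (nat_lit 1546)])) (.leaf .df))) (.node (.node (.leaf .df) (.leaf (.cyc (nat_lit 5) [(nat_lit 4084), (nat_lit 4083)]))) (.node (.leaf (.cyc (nat_lit 29) [(nat_lit 1243), (nat_lit 7900)])) (.leaf .df)))))) (.node (.node (.node (.node (.node (.leaf .df) (.leaf (.cyc (nat_lit 8) [(nat_lit 1710), (nat_lit 1708),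 (nat_lit 5943), (nat_lit 8659), (nat_lit 6804)]))) (.node (.leaf (.cyc (nat_lit 3) [(nat_lit 117), (nat_lit 4376), (nat_lit 4427), (nat_lit 4416), (nat_lit 279)])) (.leaf (.cyc (nat_lit 3) [(nat_lit 12768), (nat_lit 11375), (nat_lit 12206), (nat_lit 12205), (nat_lit 12715)])))) (.node (.node (.leaf .df) (.leaf (.cyc (nat_lit 31) [(nat_lit 8982), (nat_lit 1608), (nat_lit 4814), (nat_lit 1610), (nat_lit 10652), (nat_lit 10720), (nat_lit 7677)]))) (.node (.leaf (.cyc (nat_lit 5) [(nat_lit 2422), (nat_lit 2421)])) (.leaf .df)))) (.node (.node (.node (.leaf .df) (.leaf (.cyc (nat_lit 17) [(nat_lit 5615), (nat_lit 9692)]))) (.node (.leaf (.cyc (nat_lit 1) [(nat_lit 4751), (nat_lit 1351)])) (.leaf .df))) (.node (.node (.leaf .df) (.leaf (.cyc (nat_lit 1) [(nat_lit 8954), (nat_lit 11742)]))) (.node (.leaf (.cyc (nat_lit 5) [(nat_lit 3267), (nat_lit 3266)])) (.leaf .df))))) (.node (.node (.node (.node (.leaf .df) (.leaf (.cyc (nat_lit 29) [(nat_lit 1881), (nat_lit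 9182)]))) (.node (.leaf (.cyc (nat_lit 4) [(nat_lit 349), (nat_lit 4438), (nat_lit 351), (nat_lit 4677), (nat_lit 5088)])) (.leaf (.cyc (nat_lit 8) [(nat_lit 4350), (nat_lit 12134), (nat_lit 11701), (nat_lit 11010), (nat_lit 12914)])))) (.node (.node (.leaf .df) (.leaf (.cyc (nat_lit 20) [(nat_lit 2772), (nat_lit 5229), (nat_lit 5130), (nat_lit 2519), (nat_lit 10945), (nat_lit 11232), (nat_lit 11227)]))) (.node (.leaf (.cyc (nat_lit 21) [(nat_lit 2787), (nat_lit 5234), (nat_lit 5218), (nat_lit 5207), (nat_lit 2717)])) (.leaf .df)))) (.node (.node (.node (.leaf .df) (.leaf (.cyc (nat_lit 0) [(nat_lit 9449), (nat_lit 3625)]))) (.node (.leaf (.cyc (nat_lit 6) [(nat_lit 1896), (nat_lit 1895)])) (.leaf .df))) (.node (.node (.leaf .df) (.leaf (.cyc (nat_lit 6) [(nat_lit 12256), (nat_lit 7017)]))) (.node (.leaf (.cyc (nat_lit 28) [(nat_lit 8036), (nat_lit 8157)])) (.leaf .df))))))))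
noncomputable def c4P100001 : BT Pf := .node c4P1000010 c4P1000011
noncomputable def c4P10000 : BT Pf := .node c4P100000 c4P100001
noncomputable def c4P1000100 : BT Pf := (.node (.node (.node (.node (.node (.node (.node (.leaf .df) (.leaf (.cyc (nat_lit 18) [(nat_lit 2718), (nat_lit 8201), (nat_lit 1137)]))) (.node (.leaf .df) (.leaf (.cyc (nat_lit 28) [(nat_lit 12184), (nat_lit 12304)])))) (.node (.node (.leaf .df) (.leaf (.cyc (nat_lit 8) [(nat_lit 3641), (nat_lit 1497), (nat_lit 1499), (nat_lit 9597), (nat_lit 9599)]))) (.node (.leaf (.cyc (nat_lit 27) [(nat_lit 1939), (nat_lit 678), (nat_lit 4527), (nat_lit 4407), (nat_lit 256), (nat_lit 4986), (nat_lit 1472)])) (.leaf .df)))) (.node (.node (.node (.leaf .df) (.leaf (.cyc (nat_lit 14) [(nat_lit 9231), (nat_lit 9232)]))) (.node (.leaf (.cyc (nat_lit 11) [(nat_lit 433), (nat_lit 4595), (nat_lit 304), (nat_lit 94), (nat_lit 95), (nat_lit 306), (nat_lit 916)])) (.leaf .df))) (.node (.node (.leaf .df)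 (.leaf (.cyc (nat_lit 20) [(nat_lit 2155), (nat_lit 761), (nat_lit 248), (nat_lit 245), (nat_lit 755), (nat_lit 2139), (nat_lit 11279), (nat_lit 11278)]))) (.node (.leaf (.cyc (nat_lit 2) [(nat_lit 2836), (nat_lit 2835)])) (.leaf .df))))) (.node (.node (.node (.node (.leaf .df) (.leaf (.cyc (nat_lit 25) [(nat_lit 7615), (nat_lit 8719)]))) (.node (.leaf (.cyc (nat_lit 5) [(nat_lit 343), (nat_lit 342)])) (.leaf (.cyc (nat_lit 0) [(nat_lit 12303), (nat_lit 12815)])))) (.node (.node (.leaf .df) (.leaf (.cyc (nat_lit 28) [(nat_lit 9412), (nat_lit 10768)]))) (.node (.leaf (.cyc (nat_lit 0) [(nat_lit 5625), (nat_lit 6672)])) (.leaf .df)))) (.node (.node (.node (.leaf .df) (.leaf (.cyc (nat_lit 6) [(nat_lit 3460), (nat_lit 3459)]))) (.node (.leaf (.cyc (nat_lit 20) [(nat_lit 1402), (nat_lit 479), (nat_lit 481), (nat_lit 1407), (nat_lit 5647), (nat_lit 5160), (nat_lit 5161), (nat_lit 5105)])) (.leaf .df))) (.node (.node (.leaf .df) (.leaf (.cyc (nat_lit 3) [(nat_lit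 10854), (nat_lit 10853), (nat_lit 2050), (nat_lit 2052), (nat_lit 4024)]))) (.node (.leaf (.cyc (nat_lit 20) [(nat_lit 7445), (nat_lit 7351), (nat_lit 5360), (nat_lit 6943), (nat_lit 7695), (nat_lit 3304), (nat_lit 5468)])) (.leaf .df)))))) (.node (.node (.node (.node (.node (.leaf .df) (.leaf (.cyc (nat_lit 15) [(nat_lit 8464), (nat_lit 1362), (nat_lit 5052), (nat_lit 7903), (nat_lit 5448), (nat_lit 7621), (nat_lit 5423), (nat_lit 3237), (nat_lit 7640)]))) (.node (.leaf (.cyc (nat_lit 6) [(nat_lit 26), (nat_lit 4359)])) (.leaf (.cyc (nat_lit 9) [(nat_lit 3568), (nat_lit 12047), (nat_lit 2590), (nat_lit 2591), (nat_lit 4201)])))) (.node (.node (.leaf .df) (.leaf (.cyc (nat_lit 25) [(nat_lit 10295), (nat_lit 10510)]))) (.node (.leaf (.cyc (nat_lit 5) [(nat_lit 2220), (nat_lit 2219)])) (.leaf .df)))) (.node (.node (.node (.leaf .df) (.leaf (.cyc (nat_lit 2) [(nat_lit 3335), (nat_lit 3334)]))) (.node (.leaf (.cyc (nat_lit 13) [(nat_lit 5314), (nat_lit 421),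 (nat_lit 133), (nat_lit 131), (nat_lit 413), (nat_lit 4687), (nat_lit 1198)])) (.leaf .df))) (.node (.node (.leaf .df) (.leaf (.cyc (nat_lit 2) [(nat_lit 3962), (nat_lit 3961)]))) (.node (.leaf (.cyc (nat_lit 20) [(nat_lit 1165), (nat_lit 5342), (nat_lit 5344), (nat_lit 5343), (nat_lit 1179), (nat_lit 7439), (nat_lit 5050), (nat_lit 2290)])) (.leaf .df))))) (.node (.node (.node (.node (.leaf .df) (.leaf (.cyc (nat_lit 20) [(nat_lit 6832), (nat_lit 6831), (nat_lit 6829), (nat_lit 2474), (nat_lit 2472), (nat_lit 8969), (nat_lit 6413)]))) (.node (.leaf (.cyc (nat_lit 2) [(nat_lit 641), (nat_lit 640)])) (.leaf (.cyc (nat_lit 0) [(nat_lit 12642), (nat_lit 13072)])))) (.node (.node (.leaf .df) (.leaf (.cyc (nat_lit 26) [(nat_lit 6188), (nat_lit 7885), (nat_lit 7886), (nat_lit 7701), (nat_lit 7882), (nat_lit 6143), (nat_lit 9473), (nat_lit 9475), (nat_lit 11023)]))) (.node (.leaf (.cyc (nat_lit 0) [(nat_lit 5951), (nat_lit 6926)])) (.leaf .df)))) (.node (.node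 (.node (.leaf .df) (.leaf (.cyc (nat_lit 7) [(nat_lit 1895), (nat_lit 10000), (nat_lit 6287), (nat_lit 5021), (nat_lit 5432), (nat_lit 4673), (nat_lit 1176), (nat_lit 3126)]))) (.node (.leaf (.cyc (nat_lit 7) [(nat_lit 1578), (nat_lit 548), (nat_lit 175), (nat_lit 177), (nat_lit 553), (nat_lit 4833), (nat_lit 5904)])) (.leaf .df))) (.node (.node (.leaf .df) (.leaf (.cyc (nat_lit 30) [(nat_lit 3567), (nat_lit 3569), (nat_lit 12048), (nat_lit 10936), (nat_lit 10934), (nat_lit 5890), (nat_lit 5889), (nat_lit 5894), (nat_lit 10332)]))) (.node (.leaf (.cyc (nat_lit 25) [(nat_lit 2860), (nat_lit 7945)])) (.leaf .df))))))) (.node (.node (.node (.node (.node (.node (.leaf .df) (.leaf (.cyc (nat_lit 26) [(nat_lit 2978), (nat_lit 8327), (nat_lit 845), (nat_lit 4578), (nat_lit 850), (nat_lit 2382), (nat_lit 6591), (nat_lit 2404), (nat_lit 8336)]))) (.node (.leaf .df) (.leaf (.cyc (nat_lit 0) [(nat_lit 11193), (nat_lit 12432)])))) (.node (.node (.leaf .df) (.leaf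 (.cyc (nat_lit 3) [(nat_lit 10013), (nat_lit 3577), (nat_lit 8873), (nat_lit 5787), (nat_lit 3676)]))) (.node (.leaf (.cyc (nat_lit 5) [(nat_lit 2092), (nat_lit 2091)])) (.leaf .df)))) (.node (.node (.node (.leaf .df) (.leaf (.cyc (nat_lit 31) [(nat_lit 6065), (nat_lit 9176), (nat_lit 4972), (nat_lit 9261), (nat_lit 9358), (nat_lit 8721), (nat_lit 6029), (nat_lit 1871)]))) (.node (.leaf (.cyc (nat_lit 2) [(nat_lit 1054), (nat_lit 1053)])) (.leaf .df))) (.node (.node (.leaf .df) (.leaf (.cyc (nat_lit 8) [(nat_lit 3613), (nat_lit 5729), (nat_lit 10064), (nat_lit 11405), (nat_lit 11406)]))) (.node (.leaf (.cyc (nat_lit 3) [(nat_lit 7312), (nat_lit 2962), (nat_lit 1100), (nat_lit 5711), (nat_lit 1450)])) (.leaf .df))))) (.node (.node (.node (.node (.leaf .df) (.leaf (.cyc (nat_lit 18) [(nat_lit 2370), (nat_lit 8848), (nat_lit 1440)]))) (.node (.leaf (.cyc (nat_lit 6) [(nat_lit 482), (nat_lit 481)])) (.leaf (.cyc (nat_lit 20) [(nat_lit 12252), (nat_lit 12556),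 (nat_lit 12555), (nat_lit 11480), (nat_lit 7031), (nat_lit 11755), (nat_lit 12944), (nat_lit 12943)])))) (.node (.node (.leaf .df) (.leaf (.cyc (nat_lit 6) [(nat_lit 10896), (nat_lit 6084)]))) (.node (.leaf (.cyc (nat_lit 1) [(nat_lit 5407), (nat_lit 2551)])) (.leaf .df)))) (.node (.node (.node (.leaf .df) (.leaf (.cyc (nat_lit 20) [(nat_lit 1565), (nat_lit 4802), (nat_lit 1561), (nat_lit 5814), (nat_lit 3309), (nat_lit 9872), (nat_lit 3529), (nat_lit 3526)]))) (.node (.leaf (.cyc (nat_lit 8) [(nat_lit 1521), (nat_lit 5524), (nat_lit 4598), (nat_lit 4586), (nat_lit 870)])) (.leaf .df))) (.node (.node (.leaf .df) (.leaf (.cyc (nat_lit 3) [(nat_lit 10576), (nat_lit 11920), (nat_lit 4060), (nat_lit 2120), (nat_lit 5452), (nat_lit 3287)]))) (.node (.leaf (.cyc (nat_lit 29) [(nat_lit 2138), (nat_lit 7821)])) (.leaf .df)))))) (.node (.node (.node (.node (.node (.leaf .df) (.leaf (.cyc (nat_lit 18) [(nat_lit 6039), (nat_lit 8586)]))) (.node (.leaf (.cyc (nat_lit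 6) [(nat_lit 192), (nat_lit 191)])) (.leaf (.cyc (nat_lit 2) [(nat_lit 4229), (nat_lit 4228)])))) (.node (.node (.leaf .df) (.leaf (.cyc (nat_lit 4) [(nat_lit 3362), (nat_lit 8942), (nat_lit 4812), (nat_lit 5822), (nat_lit 3724)]))) (.node (.leaf (.cyc (nat_lit 6) [(nat_lit 2338), (nat_lit 2337)])) (.leaf .df)))) (.node (.node (.node (.leaf .df) (.leaf (.cyc (nat_lit 25) [(nat_lit 7223), (nat_lit 9615)]))) (.node (.leaf (.cyc (nat_lit 25) [(nat_lit 5107), (nat_lit 5519)])) (.leaf .df))) (.node (.node (.leaf .df) (.leaf (.cyc (nat_lit 13) [(nat_lit 11664), (nat_lit 11657), (nat_lit 6651), (nat_lit 10621), (nat_lit 3349), (nat_lit 11433), (nat_lit 11620)]))) (.node (.leaf (.cyc (nat_lit 14) [(nat_lit 6854), (nat_lit 7568)])) (.leaf .df))))) (.node (.node (.node (.node (.leaf .df) (.leaf (.cyc (nat_lit 29) [(nat_lit 2975), (nat_lit 9103)]))) (.node (.leaf (.cyc (nat_lit 2) [(nat_lit 779), (nat_lit 778)])) (.leaf (.cyc (nat_lit 6) [(nat_lit 4334), (nat_lit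 4333)])))) (.node (.node (.leaf .df) (.leaf (.cyc (nat_lit 14) [(nat_lit 7989), (nat_lit 3854)]))) (.node (.leaf (.cyc (nat_lit 28) [(nat_lit 6825), (nat_lit 7056)])) (.leaf .df)))) (.node (.node (.node (.leaf .df) (.leaf (.cyc (nat_lit 8) [(nat_lit 2416), (nat_lit 2414), (nat_lit 10126), (nat_lit 10128), (nat_lit 8332)]))) (.node (.leaf (.cyc (nat_lit 10) [(nat_lit 5477), (nat_lit 626), (nat_lit 4504), (nat_lit 628), (nat_lit 1807)])) (.leaf .df))) (.node (.node (.leaf .df) (.leaf (.cyc (nat_lit 21) [(nat_lit 2460), (nat_lit 881), (nat_lit 883), (nat_lit 10474), (nat_lit 4121)]))) (.node (.leaf (.cyc (nat_lit 29) [(nat_lit 3266), (nat_lit 8079)])) (.leaf .df))))))))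
noncomputable def c4P1000101 : BT Pf := (.node (.node (.node (.node (.node (.node (.node (.leaf .df) (.leaf (.cyc (nat_lit 28) [(nat_lit 6164), (nat_lit 8271), (nat_lit 5991)]))) (.node (.leaf .df) (.leaf (.cyc (nat_lit 5) [(nat_lit 4157), (nat_lit 10100)])))) (.node (.node (.leaf .df) (.leaf (.cyc (nat_lit 4) [(nat_lit 8312), (nat_lit 10067), (nat_lit 10066), (nat_lit 10065), (nat_lit 10317)]))) (.node (.leaf (.cyc (nat_lit 1) [(nat_lit 6136), (nat_lit 2011)])) (.leaf .df)))) (.node (.node (.node (.leaf .df) (.leaf (.cyc (nat_lit 28) [(nat_lit 3085), (nat_lit 9296), (nat_lit 3111)]))) (.node (.leaf (.cyc (nat_lit 2) [(nat_lit 987), (nat_lit 986)])) (.leaf .df))) (.node (.node (.leaf .df) (.leaf (.cyc (nat_lit 6) [(nat_lit 11344), (nat_lit 6288)]))) (.node (.leaf (.cyc (nat_lit 17) [(nat_lit 7247), (nat_lit 7248)])) (.leaf .df))))) (.node (.node (.node (.node (.leaf .df) (.leaf (.cyc (nat_lit 25) [(nat_lit 3165), (nat_lit 8782)]))) (.node (.leaf (.cyc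 (nat_lit 6) [(nat_lit 414), (nat_lit 413)])) (.leaf (.cyc (nat_lit 6) [(nat_lit 4270), (nat_lit 12616)])))) (.node (.node (.leaf .df) (.leaf (.cyc (nat_lit 8) [(nat_lit 10828), (nat_lit 2903), (nat_lit 5964), (nat_lit 6783), (nat_lit 6779)]))) (.node (.leaf (.cyc (nat_lit 6) [(nat_lit 2477), (nat_lit 5802)])) (.leaf .df)))) (.node (.node (.node (.leaf .df) (.leaf (.cyc (nat_lit 7) [(nat_lit 2846), (nat_lit 9119), (nat_lit 8329), (nat_lit 7329), (nat_lit 8853), (nat_lit 5638), (nat_lit 3489)]))) (.node (.leaf (.cyc (nat_lit 17) [(nat_lit 1453), (nat_lit 5712)])) (.leaf .df))) (.node (.node (.leaf .df) (.leaf (.cyc (nat_lit 5) [(nat_lit 11856), (nat_lit 11749)]))) (.node (.leaf (.cyc (nat_lit 29) [(nat_lit 6878), (nat_lit 7753), (nat_lit 5908)])) (.leaf .df)))))) (.node (.node (.node (.node (.node (.leaf .df) (.leaf (.cyc (nat_lit 25) [(nat_lit 5540), (nat_lit 8526), (nat_lit 2564)]))) (.node (.leaf (.cyc (nat_lit 6) [(nat_lit 104), (nat_lit 4411)])) (.leaf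 (.cyc (nat_lit 5) [(nat_lit 12620), (nat_lit 9911)])))) (.node (.node (.leaf .df) (.leaf (.cyc (nat_lit 22) [(nat_lit 5701), (nat_lit 10566), (nat_lit 1710), (nat_lit 5942), (nat_lit 8357), (nat_lit 5133), (nat_lit 2526), (nat_lit 6772)]))) (.node (.leaf (.cyc (nat_lit 6) [(nat_lit 2283), (nat_lit 2282)])) (.leaf .df)))) (.node (.node (.node (.leaf .df) (.leaf (.cyc (nat_lit 13) [(nat_lit 9497), (nat_lit 9496), (nat_lit 7802), (nat_lit 9548), (nat_lit 3377), (nat_lit 5567), (nat_lit 3380)]))) (.node (.leaf (.cyc (nat_lit 5) [(nat_lit 1253), (nat_lit 1252)])) (.leaf .df))) (.node (.node (.leaf .df) (.leaf (.cyc (nat_lit 20) [(nat_lit 2566), (nat_lit 6806), (nat_lit 6809), (nat_lit 6811), (nat_lit 5338), (nat_lit 3048), (nat_lit 11598)]))) (.node (.leaf (.cyc (nat_lit 1) [(nat_lit 7450), (nat_lit 3135)])) (.leaf .df))))) (.node (.node (.node (.node (.leaf .df) (.leaf (.cyc (nat_lit 20) [(nat_lit 2701), (nat_lit 6703), (nat_lit 2028), (nat_lit 2025), (nat_lit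 9035), (nat_lit 6114), (nat_lit 9039), (nat_lit 7661)]))) (.node (.leaf (.cyc (nat_lit 2) [(nat_lit 711), (nat_lit 710)])) (.leaf (.cyc (nat_lit 6) [(nat_lit 4321), (nat_lit 4320)])))) (.node (.node (.leaf .df) (.leaf (.cyc (nat_lit 12) [(nat_lit 11088), (nat_lit 3823), (nat_lit 1689), (nat_lit 585), (nat_lit 4496), (nat_lit 590), (nat_lit 5527), (nat_lit 5528), (nat_lit 1725)]))) (.node (.leaf (.cyc (nat_lit 13) [(nat_lit 5290), (nat_lit 405), (nat_lit 4449), (nat_lit 4612), (nat_lit 4613), (nat_lit 975), (nat_lit 2677)])) (.leaf .df)))) (.node (.node (.node (.leaf .df) (.leaf (.cyc (nat_lit 4) [(nat_lit 3431), (nat_lit 1360), (nat_lit 1359), (nat_lit 9662), (nat_lit 3596)]))) (.node (.leaf (.cyc (nat_lit 7) [(nat_lit 1714), (nat_lit 595), (nat_lit 4698), (nat_lit 4703), (nat_lit 4699), (nat_lit 607), (nat_lit 1744)])) (.leaf .df))) (.node (.node (.leaf .df) (.leaf (.cyc (nat_lit 17) [(nat_lit 11988), (nat_lit 12110), (nat_lit 3512)]))) (.node (.leaf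 (.cyc (nat_lit 31) [(nat_lit 1286), (nat_lit 439), (nat_lit 436), (nat_lit 8012), (nat_lit 1059), (nat_lit 4635), (nat_lit 434), (nat_lit 1274)])) (.leaf .df))))))) (.node (.node (.node (.node (.node (.node (.leaf .df) (.leaf (.cyc (nat_lit 6) [(nat_lit 8400), (nat_lit 6203)]))) (.node (.leaf .df) (.leaf (.cyc (nat_lit 22) [(nat_lit 12494), (nat_lit 11412), (nat_lit 10582), (nat_lit 10833), (nat_lit 10830), (nat_lit 9617), (nat_lit 3406)])))) (.node (.node (.leaf .df) (.leaf (.cyc (nat_lit 5) [(nat_lit 3687), (nat_lit 3686)]))) (.node (.leaf (.cyc (nat_lit 2) [(nat_lit 2160), (nat_lit 2159)])) (.leaf .df)))) (.node (.node (.node (.leaf .df) (.leaf (.cyc (nat_lit 29) [(nat_lit 2428), (nat_lit 9423)]))) (.node (.leaf (.cyc (nat_lit 3) [(nat_lit 5325), (nat_lit 1121), (nat_lit 381), (nat_lit 383), (nat_lit 1128)])) (.leaf .df))) (.node (.node (.leaf .df) (.leaf (.cyc (nat_lit 0) [(nat_lit 11468), (nat_lit 11471)]))) (.node (.leaf (.cyc (nat_lit 1) [(nat_lit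 6840), (nat_lit 3015)])) (.leaf .df))))) (.node (.node (.node (.node (.leaf .df) (.leaf (.cyc (nat_lit 28) [(nat_lit 6740), (nat_lit 8912)]))) (.node (.leaf (.cyc (nat_lit 6) [(nat_lit 561), (nat_lit 560)])) (.leaf (.cyc (nat_lit 4) [(nat_lit 11841), (nat_lit 7522), (nat_lit 10836), (nat_lit 12933), (nat_lit 13008)])))) (.node (.node (.leaf .df) (.leaf (.cyc (nat_lit 4) [(nat_lit 1903), (nat_lit 5428), (nat_lit 5429), (nat_lit 5896), (nat_lit 3805)]))) (.node (.leaf (.cyc (nat_lit 1) [(nat_lit 6519), (nat_lit 6863)])) (.leaf .df)))) (.node (.node (.node (.leaf .df) (.leaf (.cyc (nat_lit 8) [(nat_lit 3450), (nat_lit 9928), (nat_lit 1559), (nat_lit 1557), (nat_lit 8494)]))) (.node (.leaf (.cyc (nat_lit 9) [(nat_lit 1603), (nat_lit 557), (nat_lit 4487), (nat_lit 554), (nat_lit 1595)])) (.leaf .df))) (.node (.node (.leaf .df) (.leaf (.cyc (nat_lit 13) [(nat_lit 4076), (nat_lit 6366), (nat_lit 11451), (nat_lit 6307), (nat_lit 6309), (nat_lit 6308), (nat_lit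 11621)]))) (.node (.leaf (.cyc (nat_lit 18) [(nat_lit 5447), (nat_lit 7884), (nat_lit 3104)])) (.leaf .df)))))) (.node (.node (.node (.node (.node (.leaf .df) (.leaf (.cyc (nat_lit 19) [(nat_lit 6805), (nat_lit 8654), (nat_lit 7150)]))) (.node (.leaf (.cyc (nat_lit 5) [(nat_lit 262), (nat_lit 261)])) (.leaf (.cyc (nat_lit 20) [(nat_lit 3731), (nat_lit 1580), (nat_lit 7760), (nat_lit 7841), (nat_lit 10934), (nat_lit 10936), (nat_lit 12749)])))) (.node (.node (.leaf .df) (.leaf (.cyc (nat_lit 5) [(nat_lit 3734), (nat_lit 3733)]))) (.node (.leaf (.cyc (nat_lit 2) [(nat_lit 2401), (nat_lit 2400)])) (.leaf .df)))) (.node (.node (.node (.leaf .df) (.leaf (.cyc (nat_lit 3) [(nat_lit 1403), (nat_lit 9676), (nat_lit 9677), (nat_lit 9678), (nat_lit 2352), (nat_lit 2354)]))) (.node (.leaf (.cyc (nat_lit 13) [(nat_lit 5584), (nat_lit 521), (nat_lit 167), (nat_lit 165), (nat_lit 515), (nat_lit 4778), (nat_lit 805)])) (.leaf .df))) (.node (.node (.leaf .df) (.leaf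 (.cyc (nat_lit 6) [(nat_lit 11728), (nat_lit 11726)]))) (.node (.leaf (.cyc (nat_lit 8) [(nat_lit 3249), (nat_lit 3247), (nat_lit 7631), (nat_lit 6800), (nat_lit 7355)])) (.leaf .df))))) (.node (.node (.node (.node (.leaf .df) (.leaf (.cyc (nat_lit 29) [(nat_lit 2131), (nat_lit 9167)]))) (.node (.leaf (.cyc (nat_lit 2) [(nat_lit 840), (nat_lit 839)])) (.leaf (.cyc (nat_lit 20) [(nat_lit 4287), (nat_lit 3170), (nat_lit 3167), (nat_lit 12795), (nat_lit 12793), (nat_lit 12269), (nat_lit 4347)])))) (.node (.node (.leaf .df) (.leaf (.cyc (nat_lit 10) [(nat_lit 5966), (nat_lit 3879), (nat_lit 11216), (nat_lit 9822), (nat_lit 9843)]))) (.node (.leaf (.cyc (nat_lit 0) [(nat_lit 5853), (nat_lit 2771)])) (.leaf .df)))) (.node (.node (.node (.leaf .df) (.leaf (.cyc (nat_lit 19) [(nat_lit 7104), (nat_lit 10188)]))) (.node (.leaf (.cyc (nat_lit 5) [(nat_lit 1873), (nat_lit 5480)])) (.leaf .df))) (.node (.node (.leaf .df) (.leaf (.cyc (nat_lit 8) [(nat_lit 12238),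 (nat_lit 11696), (nat_lit 10028), (nat_lit 10049), (nat_lit 11714)]))) (.node (.leaf (.cyc (nat_lit 8) [(nat_lit 2942), (nat_lit 6348), (nat_lit 8142), (nat_lit 8138), (nat_lit 5997), (nat_lit 6026)])) (.leaf .df))))))))
noncomputable def c4P100010 : BT Pf := .node c4P1000100 c4P1000101
noncomputable def c4P1000110 : BT Pf := (.node (.node (.node (.node (.node (.node (.node (.leaf .df) (.leaf (.cyc (nat_lit 29) [(nat_lit 3036), (nat_lit 8230)]))) (.node (.leaf .df) (.leaf (.cyc (nat_lit 8) [(nat_lit 12334), (nat_lit 11263), (nat_lit 3889), (nat_lit 5979), (nat_lit 11164)])))) (.node (.node (.leaf .df) (.leaf (.cyc (nat_lit 11) [(nat_lit 2444), (nat_lit 873), (nat_lit 4744), (nat_lit 471), (nat_lit 5626), (nat_lit 2537), (nat_lit 10285)]))) (.node (.leaf (.cyc (nat_lit 0) [(nat_lit 5786), (nat_lit 1984)])) (.leaf .df)))) (.node (.node (.node (.leaf .df) (.leaf (.cyc (nat_lit 13) [(nat_lit 7206), (nat_lit 7194), (nat_lit 9108), (nat_lit 2759), (nat_lit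 5223), (nat_lit 8245), (nat_lit 5248), (nat_lit 2805)]))) (.node (.leaf (.cyc (nat_lit 5) [(nat_lit 948), (nat_lit 947)])) (.leaf .df))) (.node (.node (.leaf .df) (.leaf (.cyc (nat_lit 4) [(nat_lit 7786), (nat_lit 9273), (nat_lit 9271), (nat_lit 7782), (nat_lit 11312)]))) (.node (.leaf (.cyc (nat_lit 9) [(nat_lit 5486), (nat_lit 5484), (nat_lit 5485), (nat_lit 5270), (nat_lit 2879)])) (.leaf .df))))) (.node (.node (.node (.node (.leaf .df) (.leaf (.cyc (nat_lit 25) [(nat_lit 3179), (nat_lit 8742)]))) (.node (.leaf (.cyc (nat_lit 3) [(nat_lit 127), (nat_lit 37), (nat_lit 35), (nat_lit 120), (nat_lit 378)])) (.leaf (.cyc (nat_lit 6) [(nat_lit 12845), (nat_lit 12842)])))) (.node (.node (.leaf .df) (.leaf (.cyc (nat_lit 14) [(nat_lit 10798), (nat_lit 10800)]))) (.node (.leaf (.cyc (nat_lit 18) [(nat_lit 2261), (nat_lit 6702)])) (.leaf .df)))) (.node (.node (.node (.leaf .df) (.leaf (.cyc (nat_lit 10) [(nat_lit 7229), (nat_lit 9592), (nat_lit 7292), (nat_lit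 8692), (nat_lit 3467)]))) (.node (.leaf (.cyc (nat_lit 2) [(nat_lit 1447), (nat_lit 1446)])) (.leaf .df))) (.node (.node (.leaf .df) (.leaf (.cyc (nat_lit 19) [(nat_lit 10552), (nat_lit 11823)]))) (.node (.leaf (.cyc (nat_lit 21) [(nat_lit 1655), (nat_lit 4826), (nat_lit 4830), (nat_lit 1272), (nat_lit 3329)])) (.leaf .df)))))) (.node (.node (.node (.node (.node (.leaf .df) (.leaf (.cyc (nat_lit 31) [(nat_lit 1560), (nat_lit 1557), (nat_lit 8495), (nat_lit 1024), (nat_lit 5217), (nat_lit 5219), (nat_lit 2737)]))) (.node (.leaf (.cyc (nat_lit 6) [(nat_lit 67), (nat_lit 66)])) (.leaf (.cyc (nat_lit 27) [(nat_lit 4208), (nat_lit 6896), (nat_lit 6895), (nat_lit 10251), (nat_lit 6069), (nat_lit 9482), (nat_lit 9479)])))) (.node (.node (.leaf .df) (.leaf (.cyc (nat_lit 0) [(nat_lit 7572), (nat_lit 10544)]))) (.node (.leaf (.cyc (nat_lit 2) [(nat_lit 2261), (nat_lit 2260)])) (.leaf .df)))) (.node (.node (.node (.leaf .df) (.leaf (.cyc (nat_lit 27) [(nat_lit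 3362), (nat_lit 1295), (nat_lit 8533), (nat_lit 8527), (nat_lit 5751), (nat_lit 8610), (nat_lit 1588)]))) (.node (.leaf (.cyc (nat_lit 11) [(nat_lit 1208), (nat_lit 4688), (nat_lit 414), (nat_lit 131), (nat_lit 132), (nat_lit 418), (nat_lit 1228)])) (.leaf .df))) (.node (.node (.leaf .df) (.leaf (.cyc (nat_lit 6) [(nat_lit 11568), (nat_lit 11349)]))) (.node (.leaf (.cyc (nat_lit 1) [(nat_lit 7458), (nat_lit 3097)])) (.leaf .df))))) (.node (.node (.node (.node (.leaf .df) (.leaf (.cyc (nat_lit 25) [(nat_lit 7578), (nat_lit 8995), (nat_lit 5831)]))) (.node (.leaf (.cyc (nat_lit 0) [(nat_lit 671), (nat_lit 4912)])) (.leaf (.cyc (nat_lit 10) [(nat_lit 4040), (nat_lit 11183), (nat_lit 12722), (nat_lit 12721), (nat_lit 4314)])))) (.node (.node (.leaf .df) (.leaf (.cyc (nat_lit 4) [(nat_lit 3822), (nat_lit 5915), (nat_lit 9205), (nat_lit 6261), (nat_lit 2195)]))) (.node (.leaf (.cyc (nat_lit 5) [(nat_lit 2645), (nat_lit 2644)])) (.leaf .df)))) (.node (.node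 (.node (.leaf .df) (.leaf (.cyc (nat_lit 6) [(nat_lit 3589), (nat_lit 3588)]))) (.node (.leaf (.cyc (nat_lit 9) [(nat_lit 1095), (nat_lit 5509), (nat_lit 589), (nat_lit 591), (nat_lit 1706)])) (.leaf .df))) (.node (.node (.leaf .df) (.leaf (.cyc (nat_lit 18) [(nat_lit 4044), (nat_lit 12079)]))) (.node (.leaf (.cyc (nat_lit 29) [(nat_lit 7293), (nat_lit 7983), (nat_lit 2742)])) (.leaf .df))))))) (.node (.node (.node (.node (.node (.node (.leaf .df) (.leaf (.cyc (nat_lit 28) [(nat_lit 2387), (nat_lit 8368)]))) (.node (.leaf .df) (.leaf (.cyc (nat_lit 20) [(nat_lit 12048), (nat_lit 3569), (nat_lit 12047), (nat_lit 12464), (nat_lit 11740), (nat_lit 3705), (nat_lit 3703)])))) (.node (.node (.leaf .df) (.leaf (.cyc (nat_lit 7) [(nat_lit 3679), (nat_lit 1534), (nat_lit 529), (nat_lit 531), (nat_lit 1538), (nat_lit 10359), (nat_lit 9496)]))) (.node (.leaf (.cyc (nat_lit 2) [(nat_lit 2127), (nat_lit 2126)])) (.leaf .df)))) (.node (.node (.node (.leaf .df) (.leaf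 (.cyc (nat_lit 8) [(nat_lit 9392), (nat_lit 9391), (nat_lit 8752), (nat_lit 1768), (nat_lit 1769)]))) (.node (.leaf (.cyc (nat_lit 5) [(nat_lit 1092), (nat_lit 1091)])) (.leaf .df))) (.node (.node (.leaf .df) (.leaf (.cyc (nat_lit 20) [(nat_lit 3167), (nat_lit 9056), (nat_lit 5866), (nat_lit 10831), (nat_lit 11439), (nat_lit 3347), (nat_lit 3345)]))) (.node (.leaf (.cyc (nat_lit 5) [(nat_lit 7344), (nat_lit 6530)])) (.leaf .df))))) (.node (.node (.node (.node (.leaf .df) (.leaf (.cyc (nat_lit 1) [(nat_lit 7375), (nat_lit 8880)]))) (.node (.leaf (.cyc (nat_lit 5) [(nat_lit 521), (nat_lit 520)])) (.leaf (.cyc (nat_lit 4) [(nat_lit 4124), (nat_lit 9053), (nat_lit 3167), (nat_lit 3170), (nat_lit 4287)])))) (.node (.node (.leaf .df) (.leaf (.cyc (nat_lit 24) [(nat_lit 2704), (nat_lit 5204), (nat_lit 2708), (nat_lit 7572), (nat_lit 3199), (nat_lit 3198), (nat_lit 10927), (nat_lit 10928), (nat_lit 3260), (nat_lit 3258)]))) (.node (.leaf (.cyc (nat_lit 5) [(nat_lit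 6832), (nat_lit 5918)])) (.leaf .df)))) (.node (.node (.node (.leaf .df) (.leaf (.cyc (nat_lit 19) [(nat_lit 3492), (nat_lit 9903)]))) (.node (.leaf (.cyc (nat_lit 5) [(nat_lit 1554), (nat_lit 1553)])) (.leaf .df))) (.node (.node (.leaf .df) (.leaf (.cyc (nat_lit 11) [(nat_lit 3285), (nat_lit 5449), (nat_lit 7774), (nat_lit 2165), (nat_lit 11949), (nat_lit 5955), (nat_lit 3858)]))) (.node (.leaf (.cyc (nat_lit 17) [(nat_lit 7631), (nat_lit 7853), (nat_lit 2562)])) (.leaf .df)))))) (.node (.node (.node (.node (.node (.leaf .df) (.leaf (.cyc (nat_lit 28) [(nat_lit 8480), (nat_lit 8624)]))) (.node (.leaf (.cyc (nat_lit 6) [(nat_lit 225), (nat_lit 224)])) (.leaf (.cyc (nat_lit 5) [(nat_lit 12720), (nat_lit 12596)])))) (.node (.node (.leaf .df) (.leaf (.cyc (nat_lit 4) [(nat_lit 9211), (nat_lit 6894), (nat_lit 2621), (nat_lit 2623), (nat_lit 10672)]))) (.node (.leaf (.cyc (nat_lit 6) [(nat_lit 2363), (nat_lit 2362)])) (.leaf .df)))) (.node (.node (.node (.leaf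 .df) (.leaf (.cyc (nat_lit 0) [(nat_lit 6679), (nat_lit 9648)]))) (.node (.leaf (.cyc (nat_lit 8) [(nat_lit 4875), (nat_lit 4862), (nat_lit 5203), (nat_lit 5551), (nat_lit 1303)])) (.leaf .df))) (.node (.node (.leaf .df) (.leaf (.cyc (nat_lit 20) [(nat_lit 7303), (nat_lit 8055), (nat_lit 9781), (nat_lit 9782), (nat_lit 10049), (nat_lit 10028), (nat_lit 11696)]))) (.node (.leaf (.cyc (nat_lit 6) [(nat_lit 3222), (nat_lit 3221)])) (.leaf .df))))) (.node (.node (.node (.node (.leaf .df) (.leaf (.cyc (nat_lit 29) [(nat_lit 8352), (nat_lit 9135)]))) (.node (.leaf (.cyc (nat_lit 10) [(nat_lit 275), (nat_lit 84), (nat_lit 81), (nat_lit 4563), (nat_lit 810)])) (.leaf (.cyc (nat_lit 22) [(nat_lit 13231), (nat_lit 13229), (nat_lit 10884), (nat_lit 11879), (nat_lit 13091), (nat_lit 13176), (nat_lit 13175)])))) (.node (.node (.leaf .df) (.leaf (.cyc (nat_lit 0) [(nat_lit 10668), (nat_lit 11184)]))) (.node (.leaf (.cyc (nat_lit 6) [(nat_lit 2741), (nat_lit 5992)]))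 (.leaf .df)))) (.node (.node (.node (.leaf .df) (.leaf (.cyc (nat_lit 25) [(nat_lit 3514), (nat_lit 10159)]))) (.node (.leaf (.cyc (nat_lit 5) [(nat_lit 1841), (nat_lit 1840)])) (.leaf .df))) (.node (.node (.leaf .df) (.leaf (.cyc (nat_lit 6) [(nat_lit 12208), (nat_lit 12083)]))) (.node (.leaf (.cyc (nat_lit 19) [(nat_lit 5766), (nat_lit 8108)])) (.leaf .df))))))))
noncomputable def c4P1000111 : BT Pf := (.node (.node (.node (.node (.node (.node (.node (.leaf .df) (.leaf (.cyc (nat_lit 17) [(nat_lit 8046), (nat_lit 8293)]))) (.node (.leaf .df) (.leaf (.cyc (nat_lit 8) [(nat_lit 2594), (nat_lit 5163), (nat_lit 6824), (nat_lit 12400), (nat_lit 12398)])))) (.node (.node (.leaf .df) (.leaf (.cyc (nat_lit 6) [(nat_lit 3671), (nat_lit 3670)]))) (.node (.leaf (.cyc (nat_lit 4) [(nat_lit 2048), (nat_lit 718), (nat_lit 234), (nat_lit 237), (nat_lit 728)])) (.leaf .df)))) (.node (.node (.node (.leaf .df) (.leaf (.cyc (nat_lit 18) [(nat_lit 9311), (nat_lit 9326)])))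 (.node (.leaf (.cyc (nat_lit 5) [(nat_lit 1025), (nat_lit 1024)])) (.leaf .df))) (.node (.node (.leaf .df) (.leaf (.cyc (nat_lit 11) [(nat_lit 3101), (nat_lit 1166), (nat_lit 396), (nat_lit 393), (nat_lit 1157), (nat_lit 9299), (nat_lit 3917)]))) (.node (.leaf (.cyc (nat_lit 10) [(nat_lit 1097), (nat_lit 368), (nat_lit 366), (nat_lit 1092), (nat_lit 2947)])) (.leaf .df))))) (.node (.node (.node (.node (.leaf .df) (.leaf (.cyc (nat_lit 20) [(nat_lit 2478), (nat_lit 5121), (nat_lit 945), (nat_lit 8814), (nat_lit 6572), (nat_lit 5546), (nat_lit 6576)]))) (.node (.leaf (.cyc (nat_lit 3) [(nat_lit 4462), (nat_lit 449), (nat_lit 4718), (nat_lit 206), (nat_lit 208)])) (.leaf (.cyc (nat_lit 21) [(nat_lit 9733), (nat_lit 9803), (nat_lit 9799), (nat_lit 7505), (nat_lit 4276)])))) (.node (.node (.leaf .df) (.leaf (.cyc (nat_lit 19) [(nat_lit 2898), (nat_lit 10862)]))) (.node (.leaf (.cyc (nat_lit 5) [(nat_lit 2522), (nat_lit 2521)])) (.leaf .df)))) (.node (.node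 (.node (.leaf .df) (.leaf (.cyc (nat_lit 5) [(nat_lit 3508), (nat_lit 3507)]))) (.node (.leaf (.cyc (nat_lit 1) [(nat_lit 5653), (nat_lit 5744)])) (.leaf .df))) (.node (.node (.leaf .df) (.leaf (.cyc (nat_lit 8) [(nat_lit 4053), (nat_lit 2106), (nat_lit 6247), (nat_lit 11675), (nat_lit 11673)]))) (.node (.leaf (.cyc (nat_lit 19) [(nat_lit 1687), (nat_lit 7792), (nat_lit 1408)])) (.leaf .df)))))) (.node (.node (.node (.node (.node (.leaf .df) (.leaf (.cyc (nat_lit 5) [(nat_lit 8558), (nat_lit 7707)]))) (.node (.leaf (.cyc (nat_lit 6) [(nat_lit 148), (nat_lit 147)])) (.leaf (.cyc (nat_lit 3) [(nat_lit 12656), (nat_lit 11981), (nat_lit 11044), (nat_lit 10897), (nat_lit 11596)])))) (.node (.node (.leaf .df) (.leaf (.cyc (nat_lit 13) [(nat_lit 2999), (nat_lit 3001), (nat_lit 10608), (nat_lit 10237), (nat_lit 8563), (nat_lit 2741), (nat_lit 8270), (nat_lit 2809)]))) (.node (.leaf (.cyc (nat_lit 5) [(nat_lit 2299), (nat_lit 2298)])) (.leaf .df)))) (.node (.node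 (.node (.leaf .df) (.leaf (.cyc (nat_lit 5) [(nat_lit 9584), (nat_lit 9576)]))) (.node (.leaf (.cyc (nat_lit 9) [(nat_lit 1279), (nat_lit 4708), (nat_lit 4987), (nat_lit 4558), (nat_lit 784)])) (.leaf .df))) (.node (.node (.leaf .df) (.leaf (.cyc (nat_lit 31) [(nat_lit 11057), (nat_lit 6397), (nat_lit 11630), (nat_lit 10610), (nat_lit 7164), (nat_lit 2878), (nat_lit 10499)]))) (.node (.leaf (.cyc (nat_lit 5) [(nat_lit 3161), (nat_lit 3160)])) (.leaf .df))))) (.node (.node (.node (.node (.leaf .df) (.leaf (.cyc (nat_lit 18) [(nat_lit 7475), (nat_lit 9064)]))) (.node (.leaf (.cyc (nat_lit 9) [(nat_lit 537), (nat_lit 4483), (nat_lit 4545), (nat_lit 4546), (nat_lit 751)])) (.leaf (.cyc (nat_lit 10) [(nat_lit 4099), (nat_lit 8909), (nat_lit 7024), (nat_lit 4101), (nat_lit 13168)])))) (.node (.node (.leaf .df) (.leaf (.cyc (nat_lit 13) [(nat_lit 11120), (nat_lit 10135), (nat_lit 10535), (nat_lit 2547), (nat_lit 6790), (nat_lit 6791), (nat_lit 10288)]))) (.node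 (.leaf (.cyc (nat_lit 8) [(nat_lit 1203), (nat_lit 408), (nat_lit 4617), (nat_lit 989), (nat_lit 2705)])) (.leaf .df)))) (.node (.node (.node (.leaf .df) (.leaf (.cyc (nat_lit 18) [(nat_lit 9102), (nat_lit 10096)]))) (.node (.leaf (.cyc (nat_lit 2) [(nat_lit 1773), (nat_lit 1772)])) (.leaf .df))) (.node (.node (.leaf .df) (.leaf (.cyc (nat_lit 22) [(nat_lit 12141), (nat_lit 9979), (nat_lit 10412), (nat_lit 11982), (nat_lit 11983), (nat_lit 11586), (nat_lit 11485)]))) (.node (.leaf (.cyc (nat_lit 3) [(nat_lit 2786), (nat_lit 5234), (nat_lit 5219), (nat_lit 2736), (nat_lit 8047)])) (.leaf .df))))))) (.node (.node (.node (.node (.node (.node (.leaf .df) (.leaf (.cyc (nat_lit 17) [(nat_lit 6312), (nat_lit 8431)]))) (.node (.leaf .df) (.leaf (.cyc (nat_lit 0) [(nat_lit 12254), (nat_lit 12528)])))) (.node (.node (.leaf .df) (.leaf (.cyc (nat_lit 4) [(nat_lit 9366), (nat_lit 8456), (nat_lit 5278), (nat_lit 6129), (nat_lit 10480)]))) (.node (.leaf (.cyc (nat_lit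 19) [(nat_lit 2159), (nat_lit 6382)])) (.leaf .df)))) (.node (.node (.node (.leaf .df) (.leaf (.cyc (nat_lit 0) [(nat_lit 9454), (nat_lit 9456)]))) (.node (.leaf (.cyc (nat_lit 12) [(nat_lit 5360), (nat_lit 1143), (nat_lit 389), (nat_lit 123), (nat_lit 36), (nat_lit 38), (nat_lit 130), (nat_lit 4659), (nat_lit 1115)])) (.leaf .df))) (.node (.node (.leaf .df) (.leaf (.cyc (nat_lit 24) [(nat_lit 7266), (nat_lit 10388), (nat_lit 10386), (nat_lit 2546), (nat_lit 5479), (nat_lit 6097), (nat_lit 3954), (nat_lit 11504), (nat_lit 3952), (nat_lit 3950)]))) (.node (.leaf (.cyc (nat_lit 14) [(nat_lit 7166), (nat_lit 3042)])) (.leaf .df))))) (.node (.node (.node (.node (.leaf .df) (.leaf (.cyc (nat_lit 25) [(nat_lit 1598), (nat_lit 8941)]))) (.node (.leaf (.cyc (nat_lit 2) [(nat_lit 601), (nat_lit 600)])) (.leaf (.cyc (nat_lit 10) [(nat_lit 12981), (nat_lit 12497), (nat_lit 12506), (nat_lit 12508), (nat_lit 4300)])))) (.node (.node (.leaf .df) (.leaf (.cyc (nat_lit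 17) [(nat_lit 1791), (nat_lit 10988)]))) (.node (.leaf (.cyc (nat_lit 6) [(nat_lit 2623), (nat_lit 5721)])) (.leaf .df)))) (.node (.node (.node (.leaf .df) (.leaf (.cyc (nat_lit 8) [(nat_lit 3557), (nat_lit 3555), (nat_lit 9962), (nat_lit 3341), (nat_lit 3343)]))) (.node (.leaf (.cyc (nat_lit 5) [(nat_lit 1633), (nat_lit 1632)])) (.leaf .df))) (.node (.node (.leaf .df) (.leaf (.cyc (nat_lit 0) [(nat_lit 10767), (nat_lit 4088)]))) (.node (.leaf (.cyc (nat_lit 29) [(nat_lit 6249), (nat_lit 7917)])) (.leaf .df)))))) (.node (.node (.node (.node (.node (.leaf .df) (.leaf (.cyc (nat_lit 2) [(nat_lit 8688), (nat_lit 7577)]))) (.node (.leaf (.cyc (nat_lit 1) [(nat_lit 4459), (nat_lit 301)])) (.leaf (.cyc (nat_lit 20) [(nat_lit 9399), (nat_lit 9398), (nat_lit 1705), (nat_lit 4840), (nat_lit 1708), (nat_lit 7154), (nat_lit 4251)])))) (.node (.node (.leaf .df) (.leaf (.cyc (nat_lit 4) [(nat_lit 3746), (nat_lit 5839), (nat_lit 10689), (nat_lit 10694), (nat_lit 10692)])))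 (.node (.leaf (.cyc (nat_lit 2) [(nat_lit 2434), (nat_lit 2433)])) (.leaf .df)))) (.node (.node (.node (.leaf .df) (.leaf (.cyc (nat_lit 26) [(nat_lit 1717), (nat_lit 4846), (nat_lit 1721), (nat_lit 5951), (nat_lit 1715), (nat_lit 6922), (nat_lit 1004), (nat_lit 8626), (nat_lit 3443)]))) (.node (.leaf (.cyc (nat_lit 0) [(nat_lit 5604), (nat_lit 1373)])) (.leaf .df))) (.node (.node (.leaf .df) (.leaf (.cyc (nat_lit 19) [(nat_lit 7032), (nat_lit 11759)]))) (.node (.leaf (.cyc (nat_lit 8) [(nat_lit 1276), (nat_lit 4707), (nat_lit 1273), (nat_lit 7664), (nat_lit 3281)])) (.leaf .df))))) (.node (.node (.node (.node (.leaf .df) (.leaf (.cyc (nat_lit 28) [(nat_lit 2136), (nat_lit 9198)]))) (.node (.leaf (.cyc (nat_lit 5) [(nat_lit 876), (nat_lit 875)])) (.leaf .df))) (.node (.node (.leaf .df) (.leaf (.cyc (nat_lit 3) [(nat_lit 3801), (nat_lit 11231), (nat_lit 11247), (nat_lit 11248), (nat_lit 2182), (nat_lit 2183)]))) (.node (.leaf (.cyc (nat_lit 8) [(nat_lit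 1740), (nat_lit 1738), (nat_lit 7151), (nat_lit 2794), (nat_lit 2795)])) (.leaf .df)))) (.node (.node (.node (.leaf .df) (.leaf (.cyc (nat_lit 8) [(nat_lit 10224), (nat_lit 10124), (nat_lit 10123), (nat_lit 9991), (nat_lit 3572)]))) (.node (.leaf (.cyc (nat_lit 3) [(nat_lit 1070), (nat_lit 4637), (nat_lit 4515), (nat_lit 669), (nat_lit 1917)])) (.leaf .df))) (.node (.node (.leaf .df) (.leaf (.cyc (nat_lit 0) [(nat_lit 10816), (nat_lit 12271)]))) (.node (.leaf (.cyc (nat_lit 28) [(nat_lit 5965), (nat_lit 8171), (nat_lit 1347)])) (.leaf .df))))))))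
noncomputable def c4P100011 : BT Pf := .node c4P1000110 c4P1000111
noncomputable def c4P10001 : BT Pf := .node c4P100010 c4P100011
noncomputable def c4P1000 : BT Pf := .node c4P10000 c4P10001
noncomputable def c4P1001000 : BT Pf := (.node (.node (.node (.node (.node (.node (.node (.leaf .df) (.leaf (.cyc (nat_lit 17) [(nat_lit 7049), (nat_lit 8197), (nat_lit 1134)]))) (.node (.leaf .df) (.leaf (.cyc (nat_lit 17) [(nat_lit 4076), (nat_lit 12295)])))) (.node (.node (.leaf .df) (.leaf (.cyc (nat_lit 18) [(nat_lit 3418), (nat_lit 10248)]))) (.node (.leaf (.cyc (nat_lit 18) [(nat_lit 654), (nat_lit 6151), (nat_lit 724)])) (.leaf .df)))) (.node (.node (.node (.leaf .df) (.leaf (.cyc (nat_lit 25) [(nat_lit 3020), (nat_lit 9218)]))) (.node (.leaf (.cyc (nat_lit 2) [(nat_lit 906), (nat_lit 905)])) (.leaf .df))) (.node (.node (.leaf .df) (.leaf (.cyc (nat_lit 8) [(nat_lit 10016), (nat_lit 1897), (nat_lit 9037), (nat_lit 3856), (nat_lit 11269)]))) (.node (.leaf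 (.cyc (nat_lit 8) [(nat_lit 2795), (nat_lit 2794), (nat_lit 7174), (nat_lit 2820), (nat_lit 2822)])) (.leaf .df))))) (.node (.node (.node (.node (.leaf .df) (.leaf (.cyc (nat_lit 18) [(nat_lit 3006), (nat_lit 8706)]))) (.node (.leaf (.cyc (nat_lit 3) [(nat_lit 4612), (nat_lit 325), (nat_lit 103), (nat_lit 104), (nat_lit 331)])) (.leaf (.cyc (nat_lit 8) [(nat_lit 4256), (nat_lit 2876), (nat_lit 5592), (nat_lit 3404), (nat_lit 11212)])))) (.node (.node (.leaf .df) (.leaf (.cyc (nat_lit 19) [(nat_lit 3361), (nat_lit 10759)]))) (.node (.leaf (.cyc (nat_lit 31) [(nat_lit 5305), (nat_lit 1426), (nat_lit 6463), (nat_lit 6664), (nat_lit 6662), (nat_lit 6202), (nat_lit 4940), (nat_lit 2017)])) (.leaf .df)))) (.node (.node (.node (.leaf .df) (.leaf (.cyc (nat_lit 5) [(nat_lit 3448), (nat_lit 3447)]))) (.node (.leaf (.cyc (nat_lit 2) [(nat_lit 1402), (nat_lit 1401)])) (.leaf .df))) (.node (.node (.leaf .df) (.leaf (.cyc (nat_lit 9) [(nat_lit 11784), (nat_lit 4022),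 (nat_lit 2047), (nat_lit 4952), (nat_lit 2044), (nat_lit 4019)]))) (.node (.leaf (.cyc (nat_lit 5) [(nat_lit 3299), (nat_lit 3298)])) (.leaf .df)))))) (.node (.node (.node (.node (.node (.leaf .df) (.leaf (.cyc (nat_lit 25) [(nat_lit 7233), (nat_lit 8454)]))) (.node (.leaf (.cyc (nat_lit 2) [(nat_lit 13), (nat_lit 12)])) (.leaf (.cyc (nat_lit 22) [(nat_lit 4200), (nat_lit 2580), (nat_lit 2577), (nat_lit 8864), (nat_lit 970), (nat_lit 972), (nat_lit 2666)])))) (.node (.node (.leaf .df) (.leaf (.cyc (nat_lit 13) [(nat_lit 9848), (nat_lit 9850), (nat_lit 9925), (nat_lit 9926), (nat_lit 10368), (nat_lit 5809), (nat_lit 3694)]))) (.node (.leaf (.cyc (nat_lit 1) [(nat_lit 6350), (nat_lit 2209)])) (.leaf .df)))) (.node (.node (.node (.leaf .df) (.leaf (.cyc (nat_lit 28) [(nat_lit 3312), (nat_lit 9480)]))) (.node (.leaf (.cyc (nat_lit 2) [(nat_lit 1196), (nat_lit 1195)])) (.leaf .df))) (.node (.node (.leaf .df) (.leaf (.cyc (nat_lit 3) [(nat_lit 8462), (nat_lit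 9147), (nat_lit 1877), (nat_lit 1879), (nat_lit 3958)]))) (.node (.leaf (.cyc (nat_lit 2) [(nat_lit 3063), (nat_lit 6943)])) (.leaf .df))))) (.node (.node (.node (.node (.leaf .df) (.leaf (.cyc (nat_lit 17) [(nat_lit 7275), (nat_lit 8968)]))) (.node (.leaf (.cyc (nat_lit 5) [(nat_lit 631), (nat_lit 630)])) (.leaf (.cyc (nat_lit 13) [(nat_lit 9833), (nat_lit 5652), (nat_lit 7790), (nat_lit 9270), (nat_lit 9272), (nat_lit 9488), (nat_lit 4305)])))) (.node (.node (.leaf .df) (.leaf (.cyc (nat_lit 0) [(nat_lit 6308), (nat_lit 11016)]))) (.node (.leaf (.cyc (nat_lit 28) [(nat_lit 5215), (nat_lit 6919), (nat_lit 1714)])) (.leaf .df)))) (.node (.node (.node (.leaf .df) (.leaf (.cyc (nat_lit 6) [(nat_lit 3572), (nat_lit 3571)]))) (.node (.leaf (.cyc (nat_lit 8) [(nat_lit 5896), (nat_lit 1232), (nat_lit 4692), (nat_lit 4667), (nat_lit 1144)])) (.leaf .df))) (.node (.node (.leaf .df) (.leaf (.cyc (nat_lit 19) [(nat_lit 3210), (nat_lit 12036)]))) (.node (.leaf (.cyc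 (nat_lit 25) [(nat_lit 1067), (nat_lit 7938), (nat_lit 2860)])) (.leaf .df))))))) (.node (.node (.node (.node (.node (.node (.leaf .df) (.leaf (.cyc (nat_lit 9) [(nat_lit 2978), (nat_lit 8327), (nat_lit 845), (nat_lit 847), (nat_lit 2376)]))) (.node (.leaf .df) (.leaf (.cyc (nat_lit 11) [(nat_lit 3420), (nat_lit 5617), (nat_lit 5618), (nat_lit 4761), (nat_lit 1442), (nat_lit 12339), (nat_lit 4171)])))) (.node (.node (.leaf .df) (.leaf (.cyc (nat_lit 9) [(nat_lit 1595), (nat_lit 8812), (nat_lit 6571), (nat_lit 8813), (nat_lit 10376)]))) (.node (.leaf (.cyc (nat_lit 6) [(nat_lit 2081), (nat_lit 2080)])) (.leaf .df)))) (.node (.node (.node (.leaf .df) (.leaf (.cyc (nat_lit 25) [(nat_lit 7818), (nat_lit 9349)]))) (.node (.leaf (.cyc (nat_lit 25) [(nat_lit 1035), (nat_lit 5255)])) (.leaf .df))) (.node (.node (.leaf .df) (.leaf (.cyc (nat_lit 20) [(nat_lit 9874), (nat_lit 3706), (nat_lit 10870), (nat_lit 11396), (nat_lit 11398), (nat_lit 10783), (nat_lit 10784)])))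 (.node (.leaf (.cyc (nat_lit 7) [(nat_lit 2960), (nat_lit 1099), (nat_lit 5171), (nat_lit 950), (nat_lit 4608), (nat_lit 954), (nat_lit 2620)])) (.leaf .df))))) (.node (.node (.node (.node (.leaf .df) (.leaf (.cyc (nat_lit 18) [(nat_lit 3251), (nat_lit 8839)]))) (.node (.leaf (.cyc (nat_lit 1) [(nat_lit 4744), (nat_lit 473)])) (.leaf (.cyc (nat_lit 27) [(nat_lit 4282), (nat_lit 9313), (nat_lit 6336), (nat_lit 4989), (nat_lit 2157), (nat_lit 11297), (nat_lit 4206)])))) (.node (.node (.leaf .df) (.leaf (.cyc (nat_lit 6) [(nat_lit 3785), (nat_lit 3784)]))) (.node (.leaf (.cyc (nat_lit 6) [(nat_lit 2541), (nat_lit 2540)])) (.leaf .df)))) (.node (.node (.node (.leaf .df) (.leaf (.cyc (nat_lit 1) [(nat_lit 6415), (nat_lit 3525)]))) (.node (.leaf (.cyc (nat_lit 1) [(nat_lit 5584), (nat_lit 1511)])) (.leaf .df))) (.node (.node (.leaf .df) (.leaf (.cyc (nat_lit 9) [(nat_lit 6338), (nat_lit 9257), (nat_lit 6101), (nat_lit 9260), (nat_lit 4057)]))) (.node (.leaf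 (.cyc (nat_lit 1) [(nat_lit 5981), (nat_lit 7815)])) (.leaf .df)))))) (.node (.node (.node (.node (.node (.leaf .df) (.leaf (.cyc (nat_lit 17) [(nat_lit 1849), (nat_lit 8583), (nat_lit 2725)]))) (.node (.leaf (.cyc (nat_lit 6) [(nat_lit 182), (nat_lit 181)])) (.leaf (.cyc (nat_lit 20) [(nat_lit 9490), (nat_lit 7216), (nat_lit 10610), (nat_lit 12028), (nat_lit 12436), (nat_lit 12440), (nat_lit 12678)])))) (.node (.node (.leaf .df) (.leaf (.cyc (nat_lit 6) [(nat_lit 3716), (nat_lit 3715)]))) (.node (.leaf (.cyc (nat_lit 6) [(nat_lit 2330), (nat_lit 6490)])) (.leaf .df)))) (.node (.node (.node (.leaf .df) (.leaf (.cyc (nat_lit 11) [(nat_lit 2883), (nat_lit 5273), (nat_lit 7096), (nat_lit 7995), (nat_lit 7994), (nat_lit 8130), (nat_lit 9607), (nat_lit 3342)]))) (.node (.leaf (.cyc (nat_lit 29) [(nat_lit 892), (nat_lit 5511)])) (.leaf .df))) (.node (.node (.leaf .df) (.leaf (.cyc (nat_lit 0) [(nat_lit 6646), (nat_lit 3989)]))) (.node (.leaf (.cyc (nat_lit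 6) [(nat_lit 3190), (nat_lit 6962)])) (.leaf .df))))) (.node (.node (.node (.node (.leaf .df) (.leaf (.cyc (nat_lit 8) [(nat_lit 7139), (nat_lit 1013), (nat_lit 1016), (nat_lit 2763), (nat_lit 9096)]))) (.node (.leaf (.cyc (nat_lit 5) [(nat_lit 773), (nat_lit 772)])) (.leaf (.cyc (nat_lit 11) [(nat_lit 10779), (nat_lit 7717), (nat_lit 3324), (nat_lit 5478), (nat_lit 2534), (nat_lit 4189), (nat_lit 13192)])))) (.node (.node (.leaf .df) (.leaf (.cyc (nat_lit 13) [(nat_lit 11090), (nat_lit 1726), (nat_lit 599), (nat_lit 597), (nat_lit 1720), (nat_lit 5950), (nat_lit 3852)]))) (.node (.leaf (.cyc (nat_lit 3) [(nat_lit 1743), (nat_lit 1746), (nat_lit 7048), (nat_lit 5750), (nat_lit 2718)])) (.leaf .df)))) (.node (.node (.node (.leaf .df) (.leaf (.cyc (nat_lit 0) [(nat_lit 9266), (nat_lit 10120)]))) (.node (.leaf (.cyc (nat_lit 2) [(nat_lit 1797), (nat_lit 1796)])) (.leaf .df))) (.node (.node (.leaf .df) (.leaf (.cyc (nat_lit 2) [(nat_lit 4119), (nat_lit 11152)])))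 (.node (.leaf (.cyc (nat_lit 18) [(nat_lit 6719), (nat_lit 8070)])) (.leaf .df))))))))
noncomputable def c4P1001001 : BT Pf := (.node (.node (.node (.node (.node (.node (.node (.leaf .df) (.leaf (.cyc (nat_lit 29) [(nat_lit 7088), (nat_lit 8264), (nat_lit 2807)]))) (.node (.leaf .df) (.leaf (.cyc (nat_lit 21) [(nat_lit 3652), (nat_lit 10517), (nat_lit 11744), (nat_lit 11745), (nat_lit 4156)])))) (.node (.node (.leaf .df) (.leaf (.cyc (nat_lit 22) [(nat_lit 3659), (nat_lit 9510), (nat_lit 3355), (nat_lit 5497), (nat_lit 9990), (nat_lit 3571), (nat_lit 10127)]))) (.node (.leaf (.cyc (nat_lit 1) [(nat_lit 6200), (nat_lit 2004)])) (.leaf .df)))) (.node (.node (.node (.leaf .df) (.leaf (.cyc (nat_lit 17) [(nat_lit 7499), (nat_lit 9287)]))) (.node (.leaf (.cyc (nat_lit 1) [(nat_lit 5192), (nat_lit 972)])) (.leaf .df))) (.node (.node (.leaf .df) (.leaf (.cyc (nat_lit 8) [(nat_lit 3905), (nat_lit 6022), (nat_lit 8373), (nat_lit 5759), (nat_lit 10022)]))) (.node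 (.leaf (.cyc (nat_lit 5) [(nat_lit 2915), (nat_lit 2914)])) (.leaf .df))))) (.node (.node (.node (.node (.leaf .df) (.leaf (.cyc (nat_lit 8) [(nat_lit 8762), (nat_lit 5575), (nat_lit 8194), (nat_lit 6236), (nat_lit 6708)]))) (.node (.leaf (.cyc (nat_lit 8) [(nat_lit 365), (nat_lit 363), (nat_lit 4679), (nat_lit 405), (nat_lit 407)])) (.leaf (.cyc (nat_lit 8) [(nat_lit 10568), (nat_lit 9781), (nat_lit 8055), (nat_lit 7303), (nat_lit 4268)])))) (.node (.node (.leaf .df) (.leaf (.cyc (nat_lit 25) [(nat_lit 10350), (nat_lit 10822)]))) (.node (.leaf (.cyc (nat_lit 4) [(nat_lit 895), (nat_lit 296), (nat_lit 294), (nat_lit 886), (nat_lit 2471)])) (.leaf .df)))) (.node (.node (.node (.leaf .df) (.leaf (.cyc (nat_lit 8) [(nat_lit 9800), (nat_lit 3484), (nat_lit 1392), (nat_lit 9277), (nat_lit 3143)]))) (.node (.leaf (.cyc (nat_lit 8) [(nat_lit 950), (nat_lit 318), (nat_lit 320), (nat_lit 956), (nat_lit 5703)])) (.leaf .df))) (.node (.node (.leaf .df) (.leaf (.cyc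 (nat_lit 11) [(nat_lit 2496), (nat_lit 2494), (nat_lit 11734), (nat_lit 11737), (nat_lit 6306), (nat_lit 11845), (nat_lit 11847)]))) (.node (.leaf (.cyc (nat_lit 25) [(nat_lit 7646), (nat_lit 7747), (nat_lit 2606)])) (.leaf .df)))))) (.node (.node (.node (.node (.node (.leaf .df) (.leaf (.cyc (nat_lit 4) [(nat_lit 1503), (nat_lit 1500), (nat_lit 8518), (nat_lit 6798), (nat_lit 6791)]))) (.node (.leaf (.cyc (nat_lit 9) [(nat_lit 99), (nat_lit 28), (nat_lit 7), (nat_lit 8), (nat_lit 33)])) (.leaf (.cyc (nat_lit 16) [(nat_lit 10312), (nat_lit 10483), (nat_lit 7230), (nat_lit 11494), (nat_lit 11491), (nat_lit 3315), (nat_lit 3316), (nat_lit 12614), (nat_lit 12616)])))) (.node (.node (.leaf .df) (.leaf (.cyc (nat_lit 8) [(nat_lit 3467), (nat_lit 8693), (nat_lit 7301), (nat_lit 9781), (nat_lit 10568)]))) (.node (.leaf (.cyc (nat_lit 1) [(nat_lit 5212), (nat_lit 2273)])) (.leaf .df)))) (.node (.node (.node (.leaf .df) (.leaf (.cyc (nat_lit 3) [(nat_lit 5600),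 (nat_lit 5599), (nat_lit 8860), (nat_lit 8861), (nat_lit 3376)]))) (.node (.leaf (.cyc (nat_lit 5) [(nat_lit 1248), (nat_lit 1247)])) (.leaf .df))) (.node (.node (.leaf .df) (.leaf (.cyc (nat_lit 0) [(nat_lit 11480), (nat_lit 11591)]))) (.node (.leaf (.cyc (nat_lit 6) [(nat_lit 3128), (nat_lit 3127)])) (.leaf .df))))) (.node (.node (.node (.node (.leaf .df) (.leaf (.cyc (nat_lit 17) [(nat_lit 7696), (nat_lit 9032)]))) (.node (.leaf (.cyc (nat_lit 0) [(nat_lit 4908), (nat_lit 702)])) (.leaf (.cyc (nat_lit 22) [(nat_lit 13127), (nat_lit 10207), (nat_lit 9561), (nat_lit 12577), (nat_lit 5933), (nat_lit 5956), (nat_lit 11082)])))) (.node (.node (.leaf .df) (.leaf (.cyc (nat_lit 9) [(nat_lit 11073), (nat_lit 11075), (nat_lit 5980), (nat_lit 5136), (nat_lit 5956)]))) (.node (.leaf (.cyc (nat_lit 2) [(nat_lit 2665), (nat_lit 2664)])) (.leaf .df)))) (.node (.node (.node (.leaf .df) (.leaf (.cyc (nat_lit 28) [(nat_lit 2484), (nat_lit 10056)]))) (.node (.leaf (.cyc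 (nat_lit 2) [(nat_lit 1734), (nat_lit 1733)])) (.leaf .df))) (.node (.node (.leaf .df) (.leaf (.cyc (nat_lit 1) [(nat_lit 10886), (nat_lit 12103)]))) (.node (.leaf (.cyc (nat_lit 3) [(nat_lit 1279), (nat_lit 6411), (nat_lit 8005), (nat_lit 7186), (nat_lit 7207), (nat_lit 7211)])) (.leaf .df))))))) (.node (.node (.node (.node (.node (.node (.leaf .df) (.leaf (.cyc (nat_lit 18) [(nat_lit 7133), (nat_lit 8384)]))) (.node (.leaf .df) (.leaf (.cyc (nat_lit 3) [(nat_lit 12488), (nat_lit 12487), (nat_lit 4149), (nat_lit 6605), (nat_lit 4153)])))) (.node (.node (.leaf .df) (.leaf (.cyc (nat_lit 27) [(nat_lit 3685), (nat_lit 1540), (nat_lit 532), (nat_lit 529), (nat_lit 1533), (nat_lit 9967), (nat_lit 9968)]))) (.node (.leaf (.cyc (nat_lit 1) [(nat_lit 6336), (nat_lit 2153)])) (.leaf .df)))) (.node (.node (.node (.leaf .df) (.leaf (.cyc (nat_lit 31) [(nat_lit 2463), (nat_lit 882), (nat_lit 4589), (nat_lit 5391), (nat_lit 1221), (nat_lit 8731), (nat_lit 1267),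 (nat_lit 3319)]))) (.node (.leaf (.cyc (nat_lit 5) [(nat_lit 1116), (nat_lit 1115)])) (.leaf .df))) (.node (.node (.leaf .df) (.leaf (.cyc (nat_lit 22) [(nat_lit 11463), (nat_lit 3638), (nat_lit 10150), (nat_lit 8600), (nat_lit 5731), (nat_lit 5200), (nat_lit 2644)]))) (.node (.leaf (.cyc (nat_lit 5) [(nat_lit 3008), (nat_lit 3007)])) (.leaf .df))))) (.node (.node (.node (.node (.leaf .df) (.leaf (.cyc (nat_lit 8) [(nat_lit 1942), (nat_lit 1940), (nat_lit 8902), (nat_lit 2066), (nat_lit 4962), (nat_lit 2070)]))) (.node (.leaf (.cyc (nat_lit 12) [(nat_lit 4808), (nat_lit 525), (nat_lit 169), (nat_lit 51), (nat_lit 4362), (nat_lit 56), (nat_lit 185), (nat_lit 4491), (nat_lit 212)])) (.leaf (.cyc (nat_lit 14) [(nat_lit 12633), (nat_lit 4293)])))) (.node (.node (.leaf .df) (.leaf (.cyc (nat_lit 3) [(nat_lit 6908), (nat_lit 5958), (nat_lit 5984), (nat_lit 7817), (nat_lit 3802)]))) (.node (.leaf (.cyc (nat_lit 6) [(nat_lit 2596), (nat_lit 6575)])) (.leaf .df))))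 (.node (.node (.node (.leaf .df) (.leaf (.cyc (nat_lit 29) [(nat_lit 9737), (nat_lit 9927)]))) (.node (.leaf (.cyc (nat_lit 5) [(nat_lit 1591), (nat_lit 1590)])) (.leaf .df))) (.node (.node (.leaf .df) (.leaf (.cyc (nat_lit 5) [(nat_lit 4072), (nat_lit 6399)]))) (.node (.leaf (.cyc (nat_lit 28) [(nat_lit 7481), (nat_lit 7877), (nat_lit 7701)])) (.leaf .df)))))) (.node (.node (.node (.node (.node (.leaf .df) (.leaf (.cyc (nat_lit 22) [(nat_lit 5562), (nat_lit 4887), (nat_lit 8648), (nat_lit 1129), (nat_lit 1127), (nat_lit 3020), (nat_lit 7382)]))) (.node (.leaf (.cyc (nat_lit 1) [(nat_lit 4527), (nat_lit 251)])) (.leaf (.cyc (nat_lit 3) [(nat_lit 4242), (nat_lit 12740), (nat_lit 3189), (nat_lit 3190), (nat_lit 12735)])))) (.node (.node (.leaf .df) (.leaf (.cyc (nat_lit 14) [(nat_lit 10636), (nat_lit 10687)]))) (.node (.leaf (.cyc (nat_lit 7) [(nat_lit 1950), (nat_lit 4922), (nat_lit 5254), (nat_lit 5253), (nat_lit 5088), (nat_lit 5090), (nat_lit 2394)]))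 (.leaf .df)))) (.node (.node (.node (.leaf .df) (.leaf (.cyc (nat_lit 6) [(nat_lit 9672), (nat_lit 8082)]))) (.node (.leaf (.cyc (nat_lit 5) [(nat_lit 1328), (nat_lit 1327)])) (.leaf .df))) (.node (.node (.leaf .df) (.leaf (.cyc (nat_lit 5) [(nat_lit 4006), (nat_lit 4005)]))) (.node (.leaf (.cyc (nat_lit 33) [(nat_lit 1246), (nat_lit 1243), (nat_lit 7624), (nat_lit 2918), (nat_lit 1081), (nat_lit 4640), (nat_lit 1085), (nat_lit 2932)])) (.leaf .df))))) (.node (.node (.node (.node (.leaf .df) (.leaf (.cyc (nat_lit 29) [(nat_lit 2943), (nat_lit 9159)]))) (.node (.leaf (.cyc (nat_lit 0) [(nat_lit 5041), (nat_lit 832)])) (.leaf (.cyc (nat_lit 20) [(nat_lit 12098), (nat_lit 8978), (nat_lit 2216), (nat_lit 2217), (nat_lit 12285), (nat_lit 12287), (nat_lit 13254)])))) (.node (.node (.leaf .df) (.leaf (.cyc (nat_lit 1) [(nat_lit 7952), (nat_lit 3877)]))) (.node (.leaf (.cyc (nat_lit 5) [(nat_lit 2764), (nat_lit 2763)])) (.leaf .df)))) (.node (.node (.node (.leaf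 .df) (.leaf (.cyc (nat_lit 29) [(nat_lit 7008), (nat_lit 10183)]))) (.node (.leaf (.cyc (nat_lit 4) [(nat_lit 1861), (nat_lit 4889), (nat_lit 6087), (nat_lit 1675), (nat_lit 1673)])) (.leaf .df))) (.node (.node (.leaf .df) (.leaf (.cyc (nat_lit 0) [(nat_lit 11334), (nat_lit 12231)]))) (.node (.leaf (.cyc (nat_lit 18) [(nat_lit 8120), (nat_lit 8133)])) (.leaf .df))))))))
noncomputable def c4P100100 : BT Pf := .node c4P1001000 c4P1001001
noncomputable def c4P1001010 : BT Pf := (.node (.node (.node (.node (.node (.node (.node (.leaf .df) (.leaf (.cyc (nat_lit 25) [(nat_lit 3046), (nat_lit 8221)]))) (.node (.leaf .df) (.leaf (.cyc (nat_lit 1) [(nat_lit 11412), (nat_lit 12328)])))) (.node (.node (.leaf .df) (.leaf (.cyc (nat_lit 0) [(nat_lit 6046), (nat_lit 3649)]))) (.node (.leaf (.cyc (nat_lit 1) [(nat_lit 5299), (nat_lit 1974)])) (.leaf .df)))) (.node (.node (.node (.leaf .df) (.leaf (.cyc (nat_lit 5) [(nat_lit 9256), (nat_lit 9236)]))) (.node (.leaf (.cyc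 (nat_lit 12) [(nat_lit 5160), (nat_lit 4759), (nat_lit 4653), (nat_lit 4600), (nat_lit 4588), (nat_lit 4656), (nat_lit 5106), (nat_lit 877), (nat_lit 875)])) (.leaf .df))) (.node (.node (.leaf .df) (.leaf (.cyc (nat_lit 18) [(nat_lit 3138), (nat_lit 11304)]))) (.node (.leaf (.cyc (nat_lit 3) [(nat_lit 7208), (nat_lit 5920), (nat_lit 5918), (nat_lit 5919), (nat_lit 5772)])) (.leaf .df))))) (.node (.node (.node (.node (.leaf .df) (.leaf (.cyc (nat_lit 28) [(nat_lit 7549), (nat_lit 8734)]))) (.node (.leaf (.cyc (nat_lit 5) [(nat_lit 374), (nat_lit 373)])) (.leaf (.cyc (nat_lit 2) [(nat_lit 4263), (nat_lit 11166)])))) (.node (.node (.leaf .df) (.leaf (.cyc (nat_lit 16) [(nat_lit 6623), (nat_lit 8519), (nat_lit 6798), (nat_lit 6791), (nat_lit 8521), (nat_lit 3649), (nat_lit 10282), (nat_lit 10791), (nat_lit 10792)]))) (.node (.leaf (.cyc (nat_lit 29) [(nat_lit 2253), (nat_lit 6696), (nat_lit 6237)])) (.leaf .df)))) (.node (.node (.node (.leaf .df) (.leaf (.cyc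 (nat_lit 10) [(nat_lit 2337), (nat_lit 5064), (nat_lit 2341), (nat_lit 9687), (nat_lit 3464)]))) (.node (.leaf (.cyc (nat_lit 6) [(nat_lit 1435), (nat_lit 1434)])) (.leaf .df))) (.node (.node (.leaf .df) (.leaf (.cyc (nat_lit 5) [(nat_lit 4033), (nat_lit 11268)]))) (.node (.leaf (.cyc (nat_lit 29) [(nat_lit 6082), (nat_lit 7719)])) (.leaf .df)))))) (.node (.node (.node (.node (.node (.leaf .df) (.leaf (.cyc (nat_lit 0) [(nat_lit 6323), (nat_lit 8487)]))) (.node (.leaf (.cyc (nat_lit 0) [(nat_lit 4380), (nat_lit 59)])) (.leaf (.cyc (nat_lit 1) [(nat_lit 10075), (nat_lit 4207)])))) (.node (.node (.leaf .df) (.leaf (.cyc (nat_lit 3) [(nat_lit 9908), (nat_lit 10523), (nat_lit 10524), (nat_lit 9428), (nat_lit 7416), (nat_lit 7417)]))) (.node (.leaf (.cyc (nat_lit 5) [(nat_lit 2255), (nat_lit 2254)])) (.leaf .df)))) (.node (.node (.node (.leaf .df) (.leaf (.cyc (nat_lit 22) [(nat_lit 3357), (nat_lit 5987), (nat_lit 1759), (nat_lit 612), (nat_lit 610), (nat_lit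 1751), (nat_lit 5975)]))) (.node (.leaf (.cyc (nat_lit 2) [(nat_lit 1218), (nat_lit 1217)])) (.leaf .df))) (.node (.node (.leaf .df) (.leaf (.cyc (nat_lit 6) [(nat_lit 11560), (nat_lit 9959)]))) (.node (.leaf (.cyc (nat_lit 7) [(nat_lit 3089), (nat_lit 1158), (nat_lit 393), (nat_lit 395), (nat_lit 1163), (nat_lit 5362), (nat_lit 5404)])) (.leaf .df))))) (.node (.node (.node (.node (.leaf .df) (.leaf (.cyc (nat_lit 29) [(nat_lit 2825), (nat_lit 8992)]))) (.node (.leaf (.cyc (nat_lit 15) [(nat_lit 668), (nat_lit 216), (nat_lit 66), (nat_lit 4364), (nat_lit 4373), (nat_lit 32), (nat_lit 34), (nat_lit 117), (nat_lit 4577)])) (.leaf (.cyc (nat_lit 2) [(nat_lit 4311), (nat_lit 4310)])))) (.node (.node (.leaf .df) (.leaf (.cyc (nat_lit 8) [(nat_lit 9960), (nat_lit 11047), (nat_lit 11048), (nat_lit 9214), (nat_lit 6225)]))) (.node (.leaf (.cyc (nat_lit 4) [(nat_lit 1496), (nat_lit 4777), (nat_lit 4615), (nat_lit 5187), (nat_lit 2644)])) (.leaf .df)))) (.node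 (.node (.node (.leaf .df) (.leaf (.cyc (nat_lit 20) [(nat_lit 1992), (nat_lit 1994), (nat_lit 8388), (nat_lit 5030), (nat_lit 8387), (nat_lit 9453), (nat_lit 3580)]))) (.node (.leaf (.cyc (nat_lit 5) [(nat_lit 1696), (nat_lit 1695)])) (.leaf .df))) (.node (.node (.leaf .df) (.leaf (.cyc (nat_lit 20) [(nat_lit 2763), (nat_lit 1016), (nat_lit 1013), (nat_lit 2754), (nat_lit 8570), (nat_lit 11640), (nat_lit 12072)]))) (.node (.leaf (.cyc (nat_lit 8) [(nat_lit 3280), (nat_lit 1246), (nat_lit 7909), (nat_lit 1190), (nat_lit 7975), (nat_lit 7969)])) (.leaf .df))))))) (.node (.node (.node (.node (.node (.node (.leaf .df) (.leaf (.cyc (nat_lit 28) [(nat_lit 1982), (nat_lit 8360)]))) (.node (.leaf .df) (.leaf (.cyc (nat_lit 20) [(nat_lit 9841), (nat_lit 9861), (nat_lit 12303), (nat_lit 12456), (nat_lit 4178), (nat_lit 12198), (nat_lit 12362)])))) (.node (.node (.leaf .df) (.leaf (.cyc (nat_lit 0) [(nat_lit 9603), (nat_lit 10408)]))) (.node (.leaf (.cyc (nat_lit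 5) [(nat_lit 2118), (nat_lit 2117)])) (.leaf .df)))) (.node (.node (.node (.leaf .df) (.leaf (.cyc (nat_lit 32) [(nat_lit 7241), (nat_lit 7242), (nat_lit 2150), (nat_lit 2152), (nat_lit 9381), (nat_lit 7566), (nat_lit 3197), (nat_lit 6472), (nat_lit 8124), (nat_lit 2313)]))) (.node (.leaf (.cyc (nat_lit 2) [(nat_lit 1083), (nat_lit 1082)])) (.leaf .df))) (.node (.node (.leaf .df) (.leaf (.cyc (nat_lit 5) [(nat_lit 3927), (nat_lit 9502)]))) (.node (.leaf (.cyc (nat_lit 9) [(nat_lit 2449), (nat_lit 5105), (nat_lit 5317), (nat_lit 5319), (nat_lit 2985)])) (.leaf .df))))) (.node (.node (.node (.node (.leaf .df) (.leaf (.cyc (nat_lit 28) [(nat_lit 6193), (nat_lit 8872)]))) (.node (.leaf (.cyc (nat_lit 1) [(nat_lit 4616), (nat_lit 515)])) (.leaf (.cyc (nat_lit 19) [(nat_lit 9796), (nat_lit 12964)])))) (.node (.node (.leaf .df) (.leaf (.cyc (nat_lit 20) [(nat_lit 3061), (nat_lit 8210), (nat_lit 1744), (nat_lit 4857), (nat_lit 5889), (nat_lit 5890), (nat_lit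 3795)]))) (.node (.leaf (.cyc (nat_lit 5) [(nat_lit 2574), (nat_lit 2573)])) (.leaf .df)))) (.node (.node (.node (.leaf .df) (.leaf (.cyc (nat_lit 22) [(nat_lit 9896), (nat_lit 8979), (nat_lit 2479), (nat_lit 5122), (nat_lit 2481), (nat_lit 9750), (nat_lit 3455)]))) (.node (.leaf (.cyc (nat_lit 2) [(nat_lit 1547), (nat_lit 1546)])) (.leaf .df))) (.node (.node (.leaf .df) (.leaf (.cyc (nat_lit 0) [(nat_lit 11093), (nat_lit 4067)]))) (.node (.leaf (.cyc (nat_lit 29) [(nat_lit 3242), (nat_lit 7844)])) (.leaf .df)))))) (.node (.node (.node (.node (.node (.leaf .df) (.leaf (.cyc (nat_lit 2) [(nat_lit 8616), (nat_lit 8613)]))) (.node (.leaf (.cyc (nat_lit 19) [(nat_lit 4440), (nat_lit 4518)])) (.leaf (.cyc (nat_lit 2) [(nat_lit 12712), (nat_lit 12337)])))) (.node (.node (.leaf .df) (.leaf (.cyc (nat_lit 20) [(nat_lit 7222), (nat_lit 9613), (nat_lit 5591), (nat_lit 3334), (nat_lit 10664), (nat_lit 1866), (nat_lit 1863)]))) (.node (.leaf (.cyc (nat_lit 20) [(nat_lit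 6391), (nat_lit 5655), (nat_lit 5602), (nat_lit 5603), (nat_lit 6568), (nat_lit 2330), (nat_lit 2328)])) (.leaf .df)))) (.node (.node (.node (.leaf .df) (.leaf (.cyc (nat_lit 3) [(nat_lit 9638), (nat_lit 3412), (nat_lit 1347), (nat_lit 1348), (nat_lit 3416)]))) (.node (.leaf (.cyc (nat_lit 29) [(nat_lit 5178), (nat_lit 5543)])) (.leaf .df))) (.node (.node (.leaf .df) (.leaf (.cyc (nat_lit 25) [(nat_lit 11314), (nat_lit 11687)]))) (.node (.leaf (.cyc (nat_lit 22) [(nat_lit 7590), (nat_lit 7012), (nat_lit 6906), (nat_lit 6907), (nat_lit 6908), (nat_lit 1730), (nat_lit 1728)])) (.leaf .df))))) (.node (.node (.node (.node (.leaf .df) (.leaf (.cyc (nat_lit 25) [(nat_lit 2843), (nat_lit 9127)]))) (.node (.leaf (.cyc (nat_lit 2) [(nat_lit 801), (nat_lit 800)])) (.leaf (.cyc (nat_lit 13) [(nat_lit 4316), (nat_lit 9562), (nat_lit 12142), (nat_lit 9966), (nat_lit 6430), (nat_lit 9977), (nat_lit 4339)])))) (.node (.node (.leaf .df) (.leaf (.cyc (nat_lit 20) [(nat_lit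 3537), (nat_lit 5658), (nat_lit 5007), (nat_lit 1979), (nat_lit 11175), (nat_lit 1270), (nat_lit 1271), (nat_lit 6097)]))) (.node (.leaf (.cyc (nat_lit 6) [(nat_lit 2736), (nat_lit 2735)])) (.leaf .df)))) (.node (.node (.node (.leaf .df) (.leaf (.cyc (nat_lit 11) [(nat_lit 3620), (nat_lit 1478), (nat_lit 507), (nat_lit 504), (nat_lit 8599), (nat_lit 10150), (nat_lit 10147)]))) (.node (.leaf (.cyc (nat_lit 0) [(nat_lit 6040), (nat_lit 1832)])) (.leaf .df))) (.node (.node (.leaf .df) (.leaf (.cyc (nat_lit 11) [(nat_lit 2320), (nat_lit 824), (nat_lit 272), (nat_lit 269), (nat_lit 818), (nat_lit 2303), (nat_lit 4127)]))) (.node (.leaf (.cyc (nat_lit 29) [(nat_lit 2269), (nat_lit 8103)])) (.leaf .df))))))))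
noncomputable def c4P1001011 : BT Pf := (.node (.node (.node (.node (.node (.node (.node (.leaf .df) (.leaf (.cyc (nat_lit 29) [(nat_lit 6218), (nat_lit 8289), (nat_lit 2909)]))) (.node (.leaf .df) (.leaf (.cyc (nat_lit 4) [(nat_lit 2768), (nat_lit 6507), (nat_lit 7121), (nat_lit 7122), (nat_lit 4164)])))) (.node (.node (.leaf .df) (.leaf (.cyc (nat_lit 9) [(nat_lit 5868), (nat_lit 9018), (nat_lit 7865), (nat_lit 9023), (nat_lit 3670)]))) (.node (.leaf (.cyc (nat_lit 5) [(nat_lit 2039), (nat_lit 5382)])) (.leaf .df)))) (.node (.node (.node (.leaf .df) (.leaf (.cyc (nat_lit 28) [(nat_lit 9310), (nat_lit 9319)]))) (.node (.leaf (.cyc (nat_lit 0) [(nat_lit 5035), (nat_lit 1017)])) (.leaf .df))) (.node (.node (.leaf .df) (.leaf (.cyc (nat_lit 1) [(nat_lit 10888), (nat_lit 3913)]))) (.node (.leaf (.cyc (nat_lit 3) [(nat_lit 2212), (nat_lit 784), (nat_lit 782), (nat_lit 5490), (nat_lit 2939)])) (.leaf .df))))) (.node (.node (.node (.node (.leaf .df) (.leaf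 (.cyc (nat_lit 17) [(nat_lit 6872), (nat_lit 8806), (nat_lit 6571)]))) (.node (.leaf (.cyc (nat_lit 6) [(nat_lit 442), (nat_lit 4581)])) (.leaf (.cyc (nat_lit 7) [(nat_lit 3662), (nat_lit 5772), (nat_lit 9105), (nat_lit 2976), (nat_lit 7398), (nat_lit 3032), (nat_lit 4274)])))) (.node (.node (.leaf .df) (.leaf (.cyc (nat_lit 27) [(nat_lit 3776), (nat_lit 5884), (nat_lit 1642), (nat_lit 570), (nat_lit 4568), (nat_lit 812), (nat_lit 2286)]))) (.node (.leaf (.cyc (nat_lit 1) [(nat_lit 5229), (nat_lit 2514)])) (.leaf .df)))) (.node (.node (.node (.leaf .df) (.leaf (.cyc (nat_lit 4) [(nat_lit 3500), (nat_lit 1400), (nat_lit 479), (nat_lit 482), (nat_lit 1410)]))) (.node (.leaf (.cyc (nat_lit 1) [(nat_lit 5588), (nat_lit 1484)])) (.leaf .df))) (.node (.node (.leaf .df) (.leaf (.cyc (nat_lit 14) [(nat_lit 11018), (nat_lit 4051)]))) (.node (.leaf (.cyc (nat_lit 18) [(nat_lit 2134), (nat_lit 7784)])) (.leaf .df)))))) (.node (.node (.node (.node (.node (.leaf .df)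 (.leaf (.cyc (nat_lit 8) [(nat_lit 1976), (nat_lit 4927), (nat_lit 5299), (nat_lit 2948), (nat_lit 8552)]))) (.node (.leaf (.cyc (nat_lit 2) [(nat_lit 139), (nat_lit 138)])) (.leaf (.cyc (nat_lit 6) [(nat_lit 12648), (nat_lit 12361)])))) (.node (.node (.leaf .df) (.leaf (.cyc (nat_lit 27) [(nat_lit 3709), (nat_lit 1566), (nat_lit 4803), (nat_lit 1570), (nat_lit 8617), (nat_lit 6403), (nat_lit 9511)]))) (.node (.leaf (.cyc (nat_lit 17) [(nat_lit 2297), (nat_lit 6503)])) (.leaf .df)))) (.node (.node (.node (.leaf .df) (.leaf (.cyc (nat_lit 20) [(nat_lit 6360), (nat_lit 8895), (nat_lit 5823), (nat_lit 8073), (nat_lit 9442), (nat_lit 5578), (nat_lit 3394)]))) (.node (.leaf (.cyc (nat_lit 8) [(nat_lit 4797), (nat_lit 4544), (nat_lit 4542), (nat_lit 434), (nat_lit 1273)])) (.leaf .df))) (.node (.node (.leaf .df) (.leaf (.cyc (nat_lit 0) [(nat_lit 9475), (nat_lit 11624)]))) (.node (.leaf (.cyc (nat_lit 2) [(nat_lit 3156), (nat_lit 3155)])) (.leaf .df))))) (.node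 (.node (.node (.node (.leaf .df) (.leaf (.cyc (nat_lit 19) [(nat_lit 7503), (nat_lit 9059)]))) (.node (.leaf (.cyc (nat_lit 2) [(nat_lit 739), (nat_lit 738)])) (.leaf (.cyc (nat_lit 14) [(nat_lit 12124), (nat_lit 13160)])))) (.node (.node (.leaf .df) (.leaf (.cyc (nat_lit 4) [(nat_lit 3831), (nat_lit 11104), (nat_lit 2417), (nat_lit 8551), (nat_lit 1960)]))) (.node (.leaf (.cyc (nat_lit 4) [(nat_lit 2699), (nat_lit 984), (nat_lit 982), (nat_lit 5419), (nat_lit 6906)])) (.leaf .df)))) (.node (.node (.node (.leaf .df) (.leaf (.cyc (nat_lit 1) [(nat_lit 10088), (nat_lit 3608)]))) (.node (.leaf (.cyc (nat_lit 1) [(nat_lit 4875), (nat_lit 1763)])) (.leaf .df))) (.node (.node (.leaf .df) (.leaf (.cyc (nat_lit 3) [(nat_lit 10408), (nat_lit 3338), (nat_lit 10399), (nat_lit 2236), (nat_lit 4112)]))) (.node (.leaf (.cyc (nat_lit 17) [(nat_lit 7132), (nat_lit 8039), (nat_lit 2964)])) (.leaf .df))))))) (.node (.node (.node (.node (.node (.node (.leaf .df) (.leaf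 (.cyc (nat_lit 34) [(nat_lit 1638), (nat_lit 4824), (nat_lit 1642), (nat_lit 5884), (nat_lit 1637), (nat_lit 8419), (nat_lit 1260), (nat_lit 5727), (nat_lit 5728), (nat_lit 1817)]))) (.node (.leaf .df) (.leaf (.cyc (nat_lit 13) [(nat_lit 4192), (nat_lit 2539), (nat_lit 5139), (nat_lit 7721), (nat_lit 8423), (nat_lit 5873), (nat_lit 3772)])))) (.node (.node (.leaf .df) (.leaf (.cyc (nat_lit 17) [(nat_lit 6727), (nat_lit 10471)]))) (.node (.leaf (.cyc (nat_lit 6) [(nat_lit 2181), (nat_lit 5441)])) (.leaf .df)))) (.node (.node (.node (.leaf .df) (.leaf (.cyc (nat_lit 31) [(nat_lit 2257), (nat_lit 9292), (nat_lit 9448), (nat_lit 5680), (nat_lit 5762), (nat_lit 4773), (nat_lit 1485)]))) (.node (.leaf (.cyc (nat_lit 6) [(nat_lit 1152), (nat_lit 4915)])) (.leaf .df))) (.node (.node (.leaf .df) (.leaf (.cyc (nat_lit 2) [(nat_lit 3945), (nat_lit 7713)]))) (.node (.leaf (.cyc (nat_lit 2) [(nat_lit 3033), (nat_lit 3032)])) (.leaf .df))))) (.node (.node (.node (.node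 (.leaf .df) (.leaf (.cyc (nat_lit 18) [(nat_lit 2727), (nat_lit 8936)]))) (.node (.leaf (.cyc (nat_lit 0) [(nat_lit 4698), (nat_lit 593)])) (.leaf (.cyc (nat_lit 3) [(nat_lit 13032), (nat_lit 11815), (nat_lit 7391), (nat_lit 11432), (nat_lit 11620)])))) (.node (.node (.leaf .df) (.leaf (.cyc (nat_lit 28) [(nat_lit 6020), (nat_lit 10983), (nat_lit 1548)]))) (.node (.leaf (.cyc (nat_lit 3) [(nat_lit 2617), (nat_lit 6888), (nat_lit 5453), (nat_lit 5153), (nat_lit 2558)])) (.leaf .df)))) (.node (.node (.node (.leaf .df) (.leaf (.cyc (nat_lit 5) [(nat_lit 3555), (nat_lit 3554)]))) (.node (.leaf (.cyc (nat_lit 6) [(nat_lit 1624), (nat_lit 1623)])) (.leaf .df))) (.node (.node (.leaf .df) (.leaf (.cyc (nat_lit 4) [(nat_lit 4086), (nat_lit 6393), (nat_lit 9867), (nat_lit 3525), (nat_lit 11298)]))) (.node (.leaf (.cyc (nat_lit 18) [(nat_lit 7629), (nat_lit 7902), (nat_lit 7582)])) (.leaf .df)))))) (.node (.node (.node (.node (.node (.leaf .df) (.leaf (.cyc (nat_lit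 8) [(nat_lit 1797), (nat_lit 5557), (nat_lit 1306), (nat_lit 1307), (nat_lit 8677), (nat_lit 6803)]))) (.node (.leaf (.cyc (nat_lit 20) [(nat_lit 4435), (nat_lit 82), (nat_lit 23), (nat_lit 4356), (nat_lit 25), (nat_lit 89), (nat_lit 288)])) (.leaf (.cyc (nat_lit 21) [(nat_lit 11634), (nat_lit 11604), (nat_lit 12774), (nat_lit 12771), (nat_lit 4249)])))) (.node (.node (.leaf .df) (.leaf (.cyc (nat_lit 1) [(nat_lit 5872), (nat_lit 3740)]))) (.node (.leaf (.cyc (nat_lit 2) [(nat_lit 2427), (nat_lit 2426)])) (.leaf .df)))) (.node (.node (.node (.leaf .df) (.leaf (.cyc (nat_lit 4) [(nat_lit 9694), (nat_lit 1370), (nat_lit 4739), (nat_lit 1366), (nat_lit 3440)]))) (.node (.leaf (.cyc (nat_lit 6) [(nat_lit 1360), (nat_lit 5057)])) (.leaf .df))) (.node (.node (.leaf .df) (.leaf (.cyc (nat_lit 22) [(nat_lit 11751), (nat_lit 11195), (nat_lit 3172), (nat_lit 7251), (nat_lit 5297), (nat_lit 6131), (nat_lit 7297)]))) (.node (.leaf (.cyc (nat_lit 2) [(nat_lit 3274),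 (nat_lit 3273)])) (.leaf .df))))) (.node (.node (.node (.node (.leaf .df) (.leaf (.cyc (nat_lit 25) [(nat_lit 6126), (nat_lit 9191)]))) (.node (.leaf (.cyc (nat_lit 2) [(nat_lit 864), (nat_lit 863)])) (.leaf .df))) (.node (.node (.leaf .df) (.leaf (.cyc (nat_lit 9) [(nat_lit 3800), (nat_lit 11230), (nat_lit 5093), (nat_lit 1749), (nat_lit 3884)]))) (.node (.leaf (.cyc (nat_lit 1) [(nat_lit 6884), (nat_lit 2789)])) (.leaf .df)))) (.node (.node (.node (.leaf .df) (.leaf (.cyc (nat_lit 21) [(nat_lit 1528), (nat_lit 1530), (nat_lit 9030), (nat_lit 10158), (nat_lit 3627)]))) (.node (.leaf (.cyc (nat_lit 6) [(nat_lit 1906), (nat_lit 6109)])) (.leaf .df))) (.node (.node (.leaf .df) (.leaf (.cyc (nat_lit 8) [(nat_lit 11502), (nat_lit 12264), (nat_lit 3474), (nat_lit 5632), (nat_lit 3479)]))) (.node (.leaf (.cyc (nat_lit 28) [(nat_lit 2819), (nat_lit 8167), (nat_lit 1320)])) (.leaf .df))))))))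
noncomputable def c4P100101 : BT Pf := .node c4P1001010 c4P1001011
noncomputable def c4P10010 : BT Pf := .node c4P100100 c4P100101
noncomputable def c4P1001100 : BT Pf := (.node (.node (.node (.node (.node (.node (.node (.leaf .df) (.leaf (.cyc (nat_lit 18) [(nat_lit 7396), (nat_lit 8206)]))) (.node (.leaf .df) (.leaf (.cyc (nat_lit 19) [(nat_lit 11753), (nat_lit 12307)])))) (.node (.node (.leaf .df) (.leaf (.cyc (nat_lit 28) [(nat_lit 2336), (nat_lit 10264)]))) (.node (.leaf (.cyc (nat_lit 0) [(nat_lit 5254), (nat_lit 1953)])) (.leaf .df)))) (.node (.node (.node (.leaf .df) (.leaf (.cyc (nat_lit 13) [(nat_lit 2102), (nat_lit 2104), (nat_lit 9240), (nat_lit 756), (nat_lit 245), (nat_lit 247), (nat_lit 759), (nat_lit 6157)]))) (.node (.leaf (.cyc (nat_lit 8) [(nat_lit 334), (nat_lit 105), (nat_lit 108), (nat_lit 342), (nat_lit 5144)])) (.leaf .df))) (.node (.node (.leaf .df) (.leaf (.cyc (nat_lit 3) [(nat_lit 3832), (nat_lit 11159), (nat_lit 11287), (nat_lit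 11288), (nat_lit 3206), (nat_lit 3207)]))) (.node (.leaf (.cyc (nat_lit 2) [(nat_lit 2848), (nat_lit 2847)])) (.leaf .df))))) (.node (.node (.node (.node (.leaf .df) (.leaf (.cyc (nat_lit 19) [(nat_lit 5476), (nat_lit 8724), (nat_lit 3229)]))) (.node (.leaf (.cyc (nat_lit 5) [(nat_lit 353), (nat_lit 352)])) (.leaf (.cyc (nat_lit 0) [(nat_lit 12822), (nat_lit 12824)])))) (.node (.node (.leaf .df) (.leaf (.cyc (nat_lit 21) [(nat_lit 2180), (nat_lit 8193), (nat_lit 3389), (nat_lit 10536), (nat_lit 3751)]))) (.node (.leaf (.cyc (nat_lit 28) [(nat_lit 6675), (nat_lit 6680)])) (.leaf .df)))) (.node (.node (.node (.leaf .df) (.leaf (.cyc (nat_lit 20) [(nat_lit 9742), (nat_lit 9745), (nat_lit 9744), (nat_lit 9752), (nat_lit 5997), (nat_lit 8138), (nat_lit 8142)]))) (.node (.leaf (.cyc (nat_lit 2) [(nat_lit 1418), (nat_lit 1417)])) (.leaf .df))) (.node (.node (.leaf .df) (.leaf (.cyc (nat_lit 18) [(nat_lit 10732), (nat_lit 11800)]))) (.node (.leaf (.cyc (nat_lit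 0) [(nat_lit 5814), (nat_lit 3308)])) (.leaf .df)))))) (.node (.node (.node (.node (.node (.leaf .df) (.leaf (.cyc (nat_lit 29) [(nat_lit 1981), (nat_lit 8471)]))) (.node (.leaf (.cyc (nat_lit 5) [(nat_lit 36), (nat_lit 35)])) (.leaf (.cyc (nat_lit 6) [(nat_lit 12568), (nat_lit 12049)])))) (.node (.node (.leaf .df) (.leaf (.cyc (nat_lit 20) [(nat_lit 7923), (nat_lit 3272), (nat_lit 7922), (nat_lit 2040), (nat_lit 10519), (nat_lit 7030), (nat_lit 6969)]))) (.node (.leaf (.cyc (nat_lit 8) [(nat_lit 2229), (nat_lit 2227), (nat_lit 6423), (nat_lit 2024), (nat_lit 6162)])) (.leaf .df)))) (.node (.node (.node (.leaf .df) (.leaf (.cyc (nat_lit 4) [(nat_lit 2836), (nat_lit 5260), (nat_lit 9107), (nat_lit 9110), (nat_lit 3344)]))) (.node (.leaf (.cyc (nat_lit 29) [(nat_lit 981), (nat_lit 5399)])) (.leaf .df))) (.node (.node (.leaf .df) (.leaf (.cyc (nat_lit 18) [(nat_lit 3962), (nat_lit 11544)]))) (.node (.leaf (.cyc (nat_lit 2) [(nat_lit 3069), (nat_lit 3068)]))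 (.leaf .df))))) (.node (.node (.node (.node (.leaf .df) (.leaf (.cyc (nat_lit 28) [(nat_lit 3148), (nat_lit 8983), (nat_lit 4805)]))) (.node (.leaf (.cyc (nat_lit 6) [(nat_lit 649), (nat_lit 648)])) (.leaf (.cyc (nat_lit 16) [(nat_lit 4154), (nat_lit 11231), (nat_lit 11252), (nat_lit 11250), (nat_lit 11236), (nat_lit 3885), (nat_lit 11930), (nat_lit 13079), (nat_lit 13080)])))) (.node (.node (.leaf .df) (.leaf (.cyc (nat_lit 4) [(nat_lit 6083), (nat_lit 6089), (nat_lit 1673), (nat_lit 1676), (nat_lit 3817)]))) (.node (.leaf (.cyc (nat_lit 8) [(nat_lit 6915), (nat_lit 2640), (nat_lit 6936), (nat_lit 4671), (nat_lit 1160)])) (.leaf .df)))) (.node (.node (.node (.leaf .df) (.leaf (.cyc (nat_lit 20) [(nat_lit 1810), (nat_lit 5549), (nat_lit 6018), (nat_lit 10008), (nat_lit 9996), (nat_lit 3576), (nat_lit 9450)]))) (.node (.leaf (.cyc (nat_lit 6) [(nat_lit 1676), (nat_lit 1675)])) (.leaf .df))) (.node (.node (.leaf .df) (.leaf (.cyc (nat_lit 3) [(nat_lit 12056),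 (nat_lit 3926), (nat_lit 9481), (nat_lit 5469), (nat_lit 3309)]))) (.node (.leaf (.cyc (nat_lit 19) [(nat_lit 7225), (nat_lit 7955)])) (.leaf .df))))))) (.node (.node (.node (.node (.node (.node (.leaf .df) (.leaf (.cyc (nat_lit 29) [(nat_lit 6611), (nat_lit 8340)]))) (.node (.leaf .df) (.leaf (.cyc (nat_lit 8) [(nat_lit 4175), (nat_lit 10095), (nat_lit 10088), (nat_lit 6376), (nat_lit 10998)])))) (.node (.node (.leaf .df) (.leaf (.cyc (nat_lit 5) [(nat_lit 10392), (nat_lit 10389)]))) (.node (.leaf (.cyc (nat_lit 3) [(nat_lit 6255), (nat_lit 6267), (nat_lit 6295), (nat_lit 2099), (nat_lit 2100)])) (.leaf .df)))) (.node (.node (.node (.leaf .df) (.leaf (.cyc (nat_lit 20) [(nat_lit 6670), (nat_lit 6669), (nat_lit 5516), (nat_lit 5517), (nat_lit 9066), (nat_lit 1628), (nat_lit 1625)]))) (.node (.leaf (.cyc (nat_lit 2) [(nat_lit 1065), (nat_lit 1064)])) (.leaf .df))) (.node (.node (.leaf .df) (.leaf (.cyc (nat_lit 8) [(nat_lit 3923), (nat_lit 6059), (nat_lit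 8680), (nat_lit 2414), (nat_lit 2416)]))) (.node (.leaf (.cyc (nat_lit 4) [(nat_lit 2970), (nat_lit 1104), (nat_lit 1102), (nat_lit 7316), (nat_lit 7317)])) (.leaf .df))))) (.node (.node (.node (.node (.leaf .df) (.leaf (.cyc (nat_lit 0) [(nat_lit 6981), (nat_lit 8856)]))) (.node (.leaf (.cyc (nat_lit 5) [(nat_lit 494), (nat_lit 493)])) (.leaf (.cyc (nat_lit 22) [(nat_lit 12951), (nat_lit 9863), (nat_lit 4037), (nat_lit 11872), (nat_lit 11925), (nat_lit 11924), (nat_lit 11828)])))) (.node (.node (.leaf .df) (.leaf (.cyc (nat_lit 17) [(nat_lit 9736), (nat_lit 10903)]))) (.node (.leaf (.cyc (nat_lit 5) [(nat_lit 2557), (nat_lit 2556)])) (.leaf .df)))) (.node (.node (.node (.leaf .df) (.leaf (.cyc (nat_lit 20) [(nat_lit 2816), (nat_lit 1039), (nat_lit 1037), (nat_lit 8776), (nat_lit 5475), (nat_lit 9880), (nat_lit 3530)]))) (.node (.leaf (.cyc (nat_lit 6) [(nat_lit 1530), (nat_lit 1529)])) (.leaf .df))) (.node (.node (.leaf .df) (.leaf (.cyc (nat_lit 14)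 [(nat_lit 11459), (nat_lit 4062)]))) (.node (.leaf (.cyc (nat_lit 10) [(nat_lit 7518), (nat_lit 7491), (nat_lit 7830), (nat_lit 1810), (nat_lit 1812)])) (.leaf .df)))))) (.node (.node (.node (.node (.node (.leaf .df) (.leaf (.cyc (nat_lit 3) [(nat_lit 2728), (nat_lit 5214), (nat_lit 7038), (nat_lit 8595), (nat_lit 6077)]))) (.node (.leaf (.cyc (nat_lit 1) [(nat_lit 4485), (nat_lit 203)])) (.leaf (.cyc (nat_lit 13) [(nat_lit 2945), (nat_lit 9161), (nat_lit 7079), (nat_lit 6836), (nat_lit 5776), (nat_lit 3666), (nat_lit 12696)])))) (.node (.node (.leaf .df) (.leaf (.cyc (nat_lit 4) [(nat_lit 10647), (nat_lit 9003), (nat_lit 5829), (nat_lit 5827), (nat_lit 1609)]))) (.node (.leaf (.cyc (nat_lit 5) [(nat_lit 2346), (nat_lit 2345)])) (.leaf .df)))) (.node (.node (.node (.leaf .df) (.leaf (.cyc (nat_lit 3) [(nat_lit 2901), (nat_lit 7181), (nat_lit 8129), (nat_lit 5593), (nat_lit 3405)]))) (.node (.leaf (.cyc (nat_lit 1) [(nat_lit 4847), (nat_lit 5506)])) (.leaf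 .df))) (.node (.node (.leaf .df) (.leaf (.cyc (nat_lit 6) [(nat_lit 3995), (nat_lit 3994)]))) (.node (.leaf (.cyc (nat_lit 20) [(nat_lit 7526), (nat_lit 2986), (nat_lit 1114), (nat_lit 4658), (nat_lit 1116), (nat_lit 2990), (nat_lit 7576)])) (.leaf .df))))) (.node (.node (.node (.node (.leaf .df) (.leaf (.cyc (nat_lit 18) [(nat_lit 2835), (nat_lit 9111), (nat_lit 3123)]))) (.node (.leaf (.cyc (nat_lit 2) [(nat_lit 789), (nat_lit 788)])) (.leaf (.cyc (nat_lit 3) [(nat_lit 11109), (nat_lit 6017), (nat_lit 3900), (nat_lit 12424), (nat_lit 13208)])))) (.node (.node (.leaf .df) (.leaf (.cyc (nat_lit 5) [(nat_lit 3857), (nat_lit 3856)]))) (.node (.leaf (.cyc (nat_lit 8) [(nat_lit 2653), (nat_lit 2650), (nat_lit 7019), (nat_lit 7023), (nat_lit 7064), (nat_lit 2724)])) (.leaf .df)))) (.node (.node (.node (.leaf .df) (.leaf (.cyc (nat_lit 8) [(nat_lit 10126), (nat_lit 8523), (nat_lit 6808), (nat_lit 6809), (nat_lit 7459)]))) (.node (.leaf (.cyc (nat_lit 6) [(nat_lit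 1816), (nat_lit 6004)])) (.leaf .df))) (.node (.node (.leaf .df) (.leaf (.cyc (nat_lit 22) [(nat_lit 12184), (nat_lit 12183), (nat_lit 4014), (nat_lit 6246), (nat_lit 10877), (nat_lit 3779), (nat_lit 10596)]))) (.node (.leaf (.cyc (nat_lit 8) [(nat_lit 6370), (nat_lit 2244), (nat_lit 8088), (nat_lit 6435), (nat_lit 6436)])) (.leaf .df))))))))
noncomputable def c4P1001101 : BT Pf := (.node (.node (.node (.node (.node (.node (.node (.leaf .df) (.leaf (.cyc (nat_lit 29) [(nat_lit 1102), (nat_lit 8275), (nat_lit 1947)]))) (.node (.leaf .df) (.leaf (.cyc (nat_lit 5) [(nat_lit 4159), (nat_lit 4158)])))) (.node (.node (.leaf .df) (.leaf (.cyc (nat_lit 4) [(nat_lit 7791), (nat_lit 7788), (nat_lit 6833), (nat_lit 5919), (nat_lit 3661)]))) (.node (.leaf (.cyc (nat_lit 6) [(nat_lit 2021), (nat_lit 6209)])) (.leaf .df)))) (.node (.node (.node (.leaf .df) (.leaf (.cyc (nat_lit 20) [(nat_lit 9168), (nat_lit 6116), (nat_lit 4970), (nat_lit 5435), (nat_lit 9298), (nat_lit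 3086), (nat_lit 9300)]))) (.node (.leaf (.cyc (nat_lit 4) [(nat_lit 516), (nat_lit 515), (nat_lit 4779), (nat_lit 4619), (nat_lit 994)])) (.leaf .df))) (.node (.node (.leaf .df) (.leaf (.cyc (nat_lit 22) [(nat_lit 3910), (nat_lit 8759), (nat_lit 2981), (nat_lit 7941), (nat_lit 6606), (nat_lit 6608), (nat_lit 6607)]))) (.node (.leaf (.cyc (nat_lit 17) [(nat_lit 5288), (nat_lit 7255)])) (.leaf .df))))) (.node (.node (.node (.node (.leaf .df) (.leaf (.cyc (nat_lit 25) [(nat_lit 7532), (nat_lit 8789)]))) (.node (.leaf (.cyc (nat_lit 2) [(nat_lit 426), (nat_lit 425)])) (.leaf (.cyc (nat_lit 2) [(nat_lit 4272), (nat_lit 11952)])))) (.node (.node (.leaf .df) (.leaf (.cyc (nat_lit 28) [(nat_lit 2561), (nat_lit 10840)]))) (.node (.leaf (.cyc (nat_lit 4) [(nat_lit 5131), (nat_lit 5132), (nat_lit 5126), (nat_lit 5125), (nat_lit 2493)])) (.leaf .df)))) (.node (.node (.node (.leaf .df) (.leaf (.cyc (nat_lit 20) [(nat_lit 6679), (nat_lit 1381), (nat_lit 4741), (nat_lit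 1383), (nat_lit 8856), (nat_lit 6983), (nat_lit 9813)]))) (.node (.leaf (.cyc (nat_lit 4) [(nat_lit 955), (nat_lit 5710), (nat_lit 496), (nat_lit 499), (nat_lit 1457)])) (.leaf .df))) (.node (.node (.leaf .df) (.leaf (.cyc (nat_lit 8) [(nat_lit 11863), (nat_lit 4017), (nat_lit 11788), (nat_lit 5104), (nat_lit 2446)]))) (.node (.leaf (.cyc (nat_lit 17) [(nat_lit 3275), (nat_lit 7765)])) (.leaf .df)))))) (.node (.node (.node (.node (.node (.leaf .df) (.leaf (.cyc (nat_lit 17) [(nat_lit 2367), (nat_lit 8534), (nat_lit 2424)]))) (.node (.leaf (.cyc (nat_lit 2) [(nat_lit 116), (nat_lit 115)])) (.leaf (.cyc (nat_lit 8) [(nat_lit 9633), (nat_lit 3408), (nat_lit 8637), (nat_lit 12525), (nat_lit 12632)])))) (.node (.node (.leaf .df) (.leaf (.cyc (nat_lit 20) [(nat_lit 3410), (nat_lit 5693), (nat_lit 1462), (nat_lit 4765), (nat_lit 1465), (nat_lit 10581), (nat_lit 6779), (nat_lit 6774)]))) (.node (.leaf (.cyc (nat_lit 27) [(nat_lit 2289), (nat_lit 5049), (nat_lit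 4819), (nat_lit 268), (nat_lit 4500), (nat_lit 614), (nat_lit 1763)])) (.leaf .df)))) (.node (.node (.node (.leaf .df) (.leaf (.cyc (nat_lit 5) [(nat_lit 3385), (nat_lit 3384)]))) (.node (.leaf (.cyc (nat_lit 22) [(nat_lit 1258), (nat_lit 4844), (nat_lit 544), (nat_lit 174), (nat_lit 173), (nat_lit 540), (nat_lit 4800)])) (.leaf .df))) (.node (.node (.leaf .df) (.leaf (.cyc (nat_lit 4) [(nat_lit 3978), (nat_lit 9188), (nat_lit 1885), (nat_lit 1888), (nat_lit 11038)]))) (.node (.leaf (.cyc (nat_lit 5) [(nat_lit 7512), (nat_lit 7510)])) (.leaf .df))))) (.node (.node (.node (.node (.leaf .df) (.leaf (.cyc (nat_lit 20) [(nat_lit 1518), (nat_lit 1519), (nat_lit 5855), (nat_lit 1615), (nat_lit 9019), (nat_lit 7017), (nat_lit 7602)]))) (.node (.leaf (.cyc (nat_lit 2) [(nat_lit 720), (nat_lit 719)])) (.leaf (.cyc (nat_lit 22) [(nat_lit 13143), (nat_lit 12319), (nat_lit 9835), (nat_lit 12321), (nat_lit 10778), (nat_lit 10776), (nat_lit 12646)])))) (.node (.node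 (.leaf .df) (.leaf (.cyc (nat_lit 4) [(nat_lit 3839), (nat_lit 1698), (nat_lit 1696), (nat_lit 10177), (nat_lit 6016)]))) (.node (.leaf (.cyc (nat_lit 8) [(nat_lit 2679), (nat_lit 5196), (nat_lit 5195), (nat_lit 991), (nat_lit 6970)])) (.leaf .df)))) (.node (.node (.node (.leaf .df) (.leaf (.cyc (nat_lit 17) [(nat_lit 9664), (nat_lit 10070)]))) (.node (.leaf (.cyc (nat_lit 6) [(nat_lit 1752), (nat_lit 1751)])) (.leaf .df))) (.node (.node (.leaf .df) (.leaf (.cyc (nat_lit 19) [(nat_lit 4077), (nat_lit 12119)]))) (.node (.leaf (.cyc (nat_lit 17) [(nat_lit 7321), (nat_lit 8023), (nat_lit 1074)])) (.leaf .df))))))) (.node (.node (.node (.node (.node (.node (.leaf .df) (.leaf (.cyc (nat_lit 19) [(nat_lit 633), (nat_lit 8407), (nat_lit 1536)]))) (.node (.leaf .df) (.leaf (.cyc (nat_lit 26) [(nat_lit 9871), (nat_lit 9870), (nat_lit 12455), (nat_lit 12453), (nat_lit 11907), (nat_lit 11905), (nat_lit 11850), (nat_lit 11852), (nat_lit 4188)])))) (.node (.node (.leaf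 .df) (.leaf (.cyc (nat_lit 5) [(nat_lit 3689), (nat_lit 10203)]))) (.node (.leaf (.cyc (nat_lit 6) [(nat_lit 2164), (nat_lit 5648)])) (.leaf .df)))) (.node (.node (.node (.leaf .df) (.leaf (.cyc (nat_lit 8) [(nat_lit 3058), (nat_lit 5340), (nat_lit 7402), (nat_lit 9431), (nat_lit 5977)]))) (.node (.leaf (.cyc (nat_lit 2) [(nat_lit 1137), (nat_lit 1136)])) (.leaf .df))) (.node (.node (.leaf .df) (.leaf (.cyc (nat_lit 8) [(nat_lit 6560), (nat_lit 10851), (nat_lit 11479), (nat_lit 11480), (nat_lit 6963)]))) (.node (.leaf (.cyc (nat_lit 28) [(nat_lit 7379), (nat_lit 7384)])) (.leaf .df))))) (.node (.node (.node (.node (.leaf .df) (.leaf (.cyc (nat_lit 29) [(nat_lit 2502), (nat_lit 8917)]))) (.node (.leaf (.cyc (nat_lit 5) [(nat_lit 572), (nat_lit 571)])) (.leaf (.cyc (nat_lit 9) [(nat_lit 11923), (nat_lit 3602), (nat_lit 10570), (nat_lit 12609), (nat_lit 4296)])))) (.node (.node (.leaf .df) (.leaf (.cyc (nat_lit 25) [(nat_lit 7272), (nat_lit 10967)]))) (.node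 (.leaf (.cyc (nat_lit 2) [(nat_lit 2603), (nat_lit 2602)])) (.leaf .df)))) (.node (.node (.node (.leaf .df) (.leaf (.cyc (nat_lit 0) [(nat_lit 6464), (nat_lit 3549)]))) (.node (.leaf (.cyc (nat_lit 4) [(nat_lit 816), (nat_lit 4565), (nat_lit 4488), (nat_lit 561), (nat_lit 1614)])) (.leaf .df))) (.node (.node (.leaf .df) (.leaf (.cyc (nat_lit 10) [(nat_lit 11992), (nat_lit 6569), (nat_lit 9890), (nat_lit 10104), (nat_lit 10105)]))) (.node (.leaf (.cyc (nat_lit 19) [(nat_lit 2308), (nat_lit 7893)])) (.leaf .df)))))) (.node (.node (.node (.node (.node (.leaf .df) (.leaf (.cyc (nat_lit 0) [(nat_lit 8650), (nat_lit 8664)]))) (.node (.leaf (.cyc (nat_lit 19) [(nat_lit 266), (nat_lit 4567)])) (.leaf (.cyc (nat_lit 22) [(nat_lit 4246), (nat_lit 8260), (nat_lit 8258), (nat_lit 5332), (nat_lit 8242), (nat_lit 10971), (nat_lit 7271)])))) (.node (.node (.leaf .df) (.leaf (.cyc (nat_lit 8) [(nat_lit 2034), (nat_lit 4946), (nat_lit 2030), (nat_lit 10711), (nat_lit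 10710)]))) (.node (.leaf (.cyc (nat_lit 4) [(nat_lit 2410), (nat_lit 860), (nat_lit 284), (nat_lit 287), (nat_lit 867)])) (.leaf .df)))) (.node (.node (.node (.leaf .df) (.leaf (.cyc (nat_lit 28) [(nat_lit 2332), (nat_lit 9688)]))) (.node (.leaf (.cyc (nat_lit 1) [(nat_lit 5566), (nat_lit 1340)])) (.leaf .df))) (.node (.node (.leaf .df) (.leaf (.cyc (nat_lit 29) [(nat_lit 11733), (nat_lit 11736)]))) (.node (.leaf (.cyc (nat_lit 5) [(nat_lit 3259), (nat_lit 3258)])) (.leaf .df))))) (.node (.node (.node (.node (.leaf .df) (.leaf (.cyc (nat_lit 25) [(nat_lit 6305), (nat_lit 9171)]))) (.node (.leaf (.cyc (nat_lit 13) [(nat_lit 5080), (nat_lit 309), (nat_lit 96), (nat_lit 94), (nat_lit 4519), (nat_lit 4522), (nat_lit 425)])) (.leaf (.cyc (nat_lit 21) [(nat_lit 4204), (nat_lit 6857), (nat_lit 10440), (nat_lit 13010), (nat_lit 4349)])))) (.node (.node (.leaf .df) (.leaf (.cyc (nat_lit 19) [(nat_lit 3859), (nat_lit 11223)]))) (.node (.leaf (.cyc (nat_lit 6) [(nat_lit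 2778), (nat_lit 2777)])) (.leaf .df)))) (.node (.node (.node (.leaf .df) (.leaf (.cyc (nat_lit 20) [(nat_lit 9815), (nat_lit 1619), (nat_lit 1617), (nat_lit 9156), (nat_lit 2839), (nat_lit 10199), (nat_lit 2485)]))) (.node (.leaf (.cyc (nat_lit 5) [(nat_lit 1886), (nat_lit 1885)])) (.leaf .df))) (.node (.node (.leaf .df) (.leaf (.cyc (nat_lit 4) [(nat_lit 3836), (nat_lit 5930), (nat_lit 3838), (nat_lit 12247), (nat_lit 4136)]))) (.node (.leaf (.cyc (nat_lit 4) [(nat_lit 3156), (nat_lit 5383), (nat_lit 7976), (nat_lit 2896), (nat_lit 8152)])) (.leaf .df))))))))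
noncomputable def c4P100110 : BT Pf := .node c4P1001100 c4P1001101
noncomputable def c4P1001110 : BT Pf := (.node (.node (.node (.node (.node (.node (.node (.leaf .df) (.leaf (.cyc (nat_lit 19) [(nat_lit 2802), (nat_lit 8246)]))) (.node (.leaf .df) (.leaf (.cyc (nat_lit 17) [(nat_lit 11729), (nat_lit 12342)])))) (.node (.node (.leaf .df) (.leaf (.cyc (nat_lit 5) [(nat_lit 3655), (nat_lit 8256)]))) (.node (.leaf (.cyc (nat_lit 2) [(nat_lit 1989), (nat_lit 1988)])) (.leaf .df)))) (.node (.node (.node (.leaf .df) (.leaf (.cyc (nat_lit 25) [(nat_lit 7729), (nat_lit 9269)]))) (.node (.leaf (.cyc (nat_lit 2) [(nat_lit 955), (nat_lit 954)])) (.leaf .df))) (.node (.node (.leaf .df) (.leaf (.cyc (nat_lit 18) [(nat_lit 6514), (nat_lit 11320)]))) (.node (.leaf (.cyc (nat_lit 2) [(nat_lit 2888), (nat_lit 2887)])) (.leaf .df))))) (.node (.node (.node (.node (.leaf .df) (.leaf (.cyc (nat_lit 25) [(nat_lit 8756), (nat_lit 8760), (nat_lit 6061)]))) (.node (.leaf (.cyc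 (nat_lit 20) [(nat_lit 230), (nat_lit 4403), (nat_lit 32), (nat_lit 4358), (nat_lit 36), (nat_lit 123), (nat_lit 388)])) (.leaf (.cyc (nat_lit 13) [(nat_lit 12848), (nat_lit 12559), (nat_lit 10736), (nat_lit 11686), (nat_lit 2676), (nat_lit 2673), (nat_lit 12236)])))) (.node (.node (.leaf .df) (.leaf (.cyc (nat_lit 5) [(nat_lit 10807), (nat_lit 10635)]))) (.node (.leaf (.cyc (nat_lit 6) [(nat_lit 6712), (nat_lit 6431)])) (.leaf .df)))) (.node (.node (.node (.leaf .df) (.leaf (.cyc (nat_lit 0) [(nat_lit 9665), (nat_lit 3472)]))) (.node (.leaf (.cyc (nat_lit 5) [(nat_lit 1458), (nat_lit 1457)])) (.leaf .df))) (.node (.node (.leaf .df) (.leaf (.cyc (nat_lit 9) [(nat_lit 6375), (nat_lit 8903), (nat_lit 2066), (nat_lit 2067), (nat_lit 4038)]))) (.node (.leaf (.cyc (nat_lit 18) [(nat_lit 5907), (nat_lit 7736)])) (.leaf .df)))))) (.node (.node (.node (.node (.node (.leaf .df) (.leaf (.cyc (nat_lit 10) [(nat_lit 2239), (nat_lit 793), (nat_lit 790), (nat_lit 6369),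 (nat_lit 8396)]))) (.node (.leaf (.cyc (nat_lit 2) [(nat_lit 80), (nat_lit 79)])) (.leaf (.cyc (nat_lit 20) [(nat_lit 10094), (nat_lit 4174), (nat_lit 12436), (nat_lit 4090), (nat_lit 6397), (nat_lit 10673), (nat_lit 12600)])))) (.node (.node (.leaf .df) (.leaf (.cyc (nat_lit 2) [(nat_lit 3699), (nat_lit 9125)]))) (.node (.leaf (.cyc (nat_lit 9) [(nat_lit 5157), (nat_lit 6455), (nat_lit 2264), (nat_lit 5036), (nat_lit 2267)])) (.leaf .df)))) (.node (.node (.node (.leaf .df) (.leaf (.cyc (nat_lit 5) [(nat_lit 3368), (nat_lit 6576)]))) (.node (.leaf (.cyc (nat_lit 25) [(nat_lit 5370), (nat_lit 5431)])) (.leaf .df))) (.node (.node (.leaf .df) (.leaf (.cyc (nat_lit 3) [(nat_lit 11576), (nat_lit 9304), (nat_lit 3116), (nat_lit 10796), (nat_lit 10800)]))) (.node (.leaf (.cyc (nat_lit 9) [(nat_lit 3102), (nat_lit 1167), (nat_lit 4672), (nat_lit 1164), (nat_lit 3097)])) (.leaf .df))))) (.node (.node (.node (.node (.leaf .df) (.leaf (.cyc (nat_lit 3) [(nat_lit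 3200), (nat_lit 9014), (nat_lit 5820), (nat_lit 5870), (nat_lit 5871)]))) (.node (.leaf (.cyc (nat_lit 6) [(nat_lit 681), (nat_lit 680)])) (.leaf (.cyc (nat_lit 1) [(nat_lit 12599), (nat_lit 4315)])))) (.node (.node (.leaf .df) (.leaf (.cyc (nat_lit 21) [(nat_lit 2749), (nat_lit 5222), (nat_lit 2746), (nat_lit 8055), (nat_lit 3826)]))) (.node (.leaf (.cyc (nat_lit 0) [(nat_lit 6909), (nat_lit 2654)])) (.leaf .df)))) (.node (.node (.node (.leaf .df) (.leaf (.cyc (nat_lit 25) [(nat_lit 3588), (nat_lit 10038)]))) (.node (.leaf (.cyc (nat_lit 0) [(nat_lit 5902), (nat_lit 1711)])) (.leaf .df))) (.node (.node (.leaf .df) (.leaf (.cyc (nat_lit 9) [(nat_lit 9554), (nat_lit 2216), (nat_lit 5014), (nat_lit 2213), (nat_lit 4105)]))) (.node (.leaf (.cyc (nat_lit 29) [(nat_lit 7238), (nat_lit 7987)])) (.leaf .df))))))) (.node (.node (.node (.node (.node (.node (.leaf .df) (.leaf (.cyc (nat_lit 4) [(nat_lit 2006), (nat_lit 2004), (nat_lit 8308), (nat_lit 8035), (nat_lit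 6882)]))) (.node (.leaf .df) (.leaf (.cyc (nat_lit 13) [(nat_lit 3128), (nat_lit 10349), (nat_lit 5886), (nat_lit 11477), (nat_lit 12123), (nat_lit 12062), (nat_lit 12472)])))) (.node (.node (.leaf .df) (.leaf (.cyc (nat_lit 7) [(nat_lit 3682), (nat_lit 1539), (nat_lit 4800), (nat_lit 4799), (nat_lit 4795), (nat_lit 5688), (nat_lit 3587)]))) (.node (.leaf (.cyc (nat_lit 2) [(nat_lit 2134), (nat_lit 2133)])) (.leaf .df)))) (.node (.node (.node (.leaf .df) (.leaf (.cyc (nat_lit 4) [(nat_lit 7244), (nat_lit 7120), (nat_lit 9398), (nat_lit 5936), (nat_lit 7259), (nat_lit 3171)]))) (.node (.leaf (.cyc (nat_lit 5) [(nat_lit 1100), (nat_lit 5175)])) (.leaf .df))) (.node (.node (.leaf .df) (.leaf (.cyc (nat_lit 28) [(nat_lit 10220), (nat_lit 11448)]))) (.node (.leaf (.cyc (nat_lit 8) [(nat_lit 6939), (nat_lit 1166), (nat_lit 4672), (nat_lit 1163), (nat_lit 7351)])) (.leaf .df))))) (.node (.node (.node (.node (.leaf .df) (.leaf (.cyc (nat_lit 29) [(nat_lit 3255),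 (nat_lit 8885)]))) (.node (.leaf (.cyc (nat_lit 6) [(nat_lit 532), (nat_lit 531)])) (.leaf (.cyc (nat_lit 10) [(nat_lit 11815), (nat_lit 12732), (nat_lit 3565), (nat_lit 9499), (nat_lit 12984)])))) (.node (.node (.leaf .df) (.leaf (.cyc (nat_lit 25) [(nat_lit 3260), (nat_lit 10933)]))) (.node (.leaf (.cyc (nat_lit 2) [(nat_lit 2584), (nat_lit 2583)])) (.leaf .df)))) (.node (.node (.node (.leaf .df) (.leaf (.cyc (nat_lit 2) [(nat_lit 9912), (nat_lit 5874)]))) (.node (.leaf (.cyc (nat_lit 2) [(nat_lit 1565), (nat_lit 1564)])) (.leaf .df))) (.node (.node (.leaf .df) (.leaf (.cyc (nat_lit 22) [(nat_lit 11959), (nat_lit 11912), (nat_lit 3804), (nat_lit 5895), (nat_lit 10924), (nat_lit 10961), (nat_lit 10964)]))) (.node (.leaf (.cyc (nat_lit 25) [(nat_lit 2990), (nat_lit 7860)])) (.leaf .df)))))) (.node (.node (.node (.node (.node (.leaf .df) (.leaf (.cyc (nat_lit 21) [(nat_lit 8631), (nat_lit 2624), (nat_lit 8560), (nat_lit 1314), (nat_lit 1312)]))) (.node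 (.leaf (.cyc (nat_lit 6) [(nat_lit 237), (nat_lit 236)])) (.leaf (.cyc (nat_lit 13) [(nat_lit 12275), (nat_lit 12718), (nat_lit 2691), (nat_lit 10184), (nat_lit 10186), (nat_lit 4007), (nat_lit 12728)])))) (.node (.node (.leaf .df) (.leaf (.cyc (nat_lit 17) [(nat_lit 3716), (nat_lit 10680)]))) (.node (.leaf (.cyc (nat_lit 5) [(nat_lit 2375), (nat_lit 2374)])) (.leaf .df)))) (.node (.node (.node (.leaf .df) (.leaf (.cyc (nat_lit 6) [(nat_lit 3424), (nat_lit 3423)]))) (.node (.leaf (.cyc (nat_lit 6) [(nat_lit 1307), (nat_lit 5534)])) (.leaf .df))) (.node (.node (.leaf .df) (.leaf (.cyc (nat_lit 22) [(nat_lit 11704), (nat_lit 6890), (nat_lit 10747), (nat_lit 10745), (nat_lit 3681), (nat_lit 8501), (nat_lit 8939)]))) (.node (.leaf (.cyc (nat_lit 22) [(nat_lit 7333), (nat_lit 5458), (nat_lit 7606), (nat_lit 7603), (nat_lit 5841), (nat_lit 5843), (nat_lit 5842)])) (.leaf .df))))) (.node (.node (.node (.node (.leaf .df) (.leaf (.cyc (nat_lit 23) [(nat_lit 3106),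 (nat_lit 7336), (nat_lit 7338), (nat_lit 6226), (nat_lit 8922), (nat_lit 8924), (nat_lit 7390), (nat_lit 3053), (nat_lit 9144)]))) (.node (.leaf (.cyc (nat_lit 9) [(nat_lit 563), (nat_lit 180), (nat_lit 182), (nat_lit 4568), (nat_lit 813)])) (.leaf (.cyc (nat_lit 8) [(nat_lit 4342), (nat_lit 3702), (nat_lit 6068), (nat_lit 3386), (nat_lit 4316)])))) (.node (.node (.leaf .df) (.leaf (.cyc (nat_lit 27) [(nat_lit 3871), (nat_lit 9505), (nat_lit 3352), (nat_lit 1287), (nat_lit 1288), (nat_lit 3355), (nat_lit 10323)]))) (.node (.leaf (.cyc (nat_lit 25) [(nat_lit 7093), (nat_lit 7094)])) (.leaf .df)))) (.node (.node (.node (.leaf .df) (.leaf (.cyc (nat_lit 18) [(nat_lit 3373), (nat_lit 10164)]))) (.node (.leaf (.cyc (nat_lit 3) [(nat_lit 4885), (nat_lit 1846), (nat_lit 6070), (nat_lit 1511), (nat_lit 1512)])) (.leaf .df))) (.node (.node (.leaf .df) (.leaf (.cyc (nat_lit 10) [(nat_lit 11923), (nat_lit 1466), (nat_lit 5054), (nat_lit 2307), (nat_lit 4131)])))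 (.node (.leaf (.cyc (nat_lit 30) [(nat_lit 6477), (nat_lit 6475), (nat_lit 5998), (nat_lit 8105), (nat_lit 5590), (nat_lit 5695), (nat_lit 5694), (nat_lit 6524), (nat_lit 2312), (nat_lit 2310)])) (.leaf .df))))))))
noncomputable def c4P1001111 : BT Pf := (.node (.node (.node (.node (.node (.node (.node (.leaf .df) (.leaf (.cyc (nat_lit 25) [(nat_lit 6597), (nat_lit 8299), (nat_lit 6192)]))) (.node (.leaf .df) (.leaf (.cyc (nat_lit 17) [(nat_lit 12404), (nat_lit 12408)])))) (.node (.node (.leaf .df) (.leaf (.cyc (nat_lit 20) [(nat_lit 6574), (nat_lit 9549), (nat_lit 9548), (nat_lit 10360), (nat_lit 1538), (nat_lit 4793), (nat_lit 1540)]))) (.node (.leaf (.cyc (nat_lit 3) [(nat_lit 2042), (nat_lit 717), (nat_lit 4536), (nat_lit 722), (nat_lit 2059)])) (.leaf .df)))) (.node (.node (.node (.leaf .df) (.leaf (.cyc (nat_lit 18) [(nat_lit 9333), (nat_lit 9334)]))) (.node (.leaf (.cyc (nat_lit 10) [(nat_lit 356), (nat_lit 112), (nat_lit 109), (nat_lit 347), (nat_lit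 1031)])) (.leaf .df))) (.node (.node (.leaf .df) (.leaf (.cyc (nat_lit 28) [(nat_lit 8465), (nat_lit 11384)]))) (.node (.leaf (.cyc (nat_lit 4) [(nat_lit 1946), (nat_lit 4921), (nat_lit 1948), (nat_lit 6219), (nat_lit 7288)])) (.leaf .df))))) (.node (.node (.node (.node (.leaf .df) (.leaf (.cyc (nat_lit 19) [(nat_lit 2570), (nat_lit 8822)]))) (.node (.leaf (.cyc (nat_lit 5) [(nat_lit 459), (nat_lit 458)])) (.leaf (.cyc (nat_lit 2) [(nat_lit 12920), (nat_lit 12413)])))) (.node (.node (.leaf .df) (.leaf (.cyc (nat_lit 8) [(nat_lit 10617), (nat_lit 10618), (nat_lit 10869), (nat_lit 3778), (nat_lit 3779)]))) (.node (.leaf (.cyc (nat_lit 28) [(nat_lit 1732), (nat_lit 6776)])) (.leaf .df)))) (.node (.node (.node (.leaf .df) (.leaf (.cyc (nat_lit 20) [(nat_lit 2644), (nat_lit 5187), (nat_lit 4615), (nat_lit 5062), (nat_lit 5743), (nat_lit 5745), (nat_lit 3517)]))) (.node (.leaf (.cyc (nat_lit 6) [(nat_lit 1501), (nat_lit 1500)])) (.leaf .df))) (.node (.node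 (.leaf .df) (.leaf (.cyc (nat_lit 2) [(nat_lit 11896), (nat_lit 8805)]))) (.node (.leaf (.cyc (nat_lit 25) [(nat_lit 1681), (nat_lit 7799)])) (.leaf .df)))))) (.node (.node (.node (.node (.node (.leaf .df) (.leaf (.cyc (nat_lit 19) [(nat_lit 2433), (nat_lit 8567)]))) (.node (.leaf (.cyc (nat_lit 1) [(nat_lit 4394), (nat_lit 159)])) (.leaf (.cyc (nat_lit 7) [(nat_lit 12003), (nat_lit 4083), (nat_lit 12026), (nat_lit 12027), (nat_lit 3935), (nat_lit 3933), (nat_lit 12663), (nat_lit 12662)])))) (.node (.node (.leaf .df) (.leaf (.cyc (nat_lit 1) [(nat_lit 9017), (nat_lit 10616)]))) (.node (.leaf (.cyc (nat_lit 4) [(nat_lit 2309), (nat_lit 819), (nat_lit 4570), (nat_lit 4738), (nat_lit 1361)])) (.leaf .df)))) (.node (.node (.node (.leaf .df) (.leaf (.cyc (nat_lit 16) [(nat_lit 5749), (nat_lit 6542), (nat_lit 2336), (nat_lit 2338), (nat_lit 8665), (nat_lit 7683), (nat_lit 5600), (nat_lit 9545), (nat_lit 9590), (nat_lit 9591)]))) (.node (.leaf (.cyc (nat_lit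 14) [(nat_lit 4771), (nat_lit 1288)])) (.leaf .df))) (.node (.node (.leaf .df) (.leaf (.cyc (nat_lit 2) [(nat_lit 3986), (nat_lit 10612)]))) (.node (.leaf (.cyc (nat_lit 4) [(nat_lit 3174), (nat_lit 5387), (nat_lit 945), (nat_lit 5121), (nat_lit 2478)])) (.leaf .df))))) (.node (.node (.node (.node (.leaf .df) (.leaf (.cyc (nat_lit 15) [(nat_lit 9080), (nat_lit 9052), (nat_lit 5847), (nat_lit 5829), (nat_lit 9003), (nat_lit 2457), (nat_lit 6677), (nat_lit 3146), (nat_lit 7521)]))) (.node (.leaf (.cyc (nat_lit 28) [(nat_lit 505), (nat_lit 4984)])) (.leaf (.cyc (nat_lit 8) [(nat_lit 4329), (nat_lit 9841), (nat_lit 9838), (nat_lit 3519), (nat_lit 12298)])))) (.node (.node (.leaf .df) (.leaf (.cyc (nat_lit 15) [(nat_lit 3844), (nat_lit 1702), (nat_lit 4839), (nat_lit 4838), (nat_lit 4847), (nat_lit 5530), (nat_lit 5531), (nat_lit 1728), (nat_lit 10955)]))) (.node (.leaf (.cyc (nat_lit 2) [(nat_lit 2715), (nat_lit 2714)])) (.leaf .df)))) (.node (.node (.node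 (.leaf .df) (.leaf (.cyc (nat_lit 4) [(nat_lit 2969), (nat_lit 8035), (nat_lit 2910), (nat_lit 8310), (nat_lit 10103)]))) (.node (.leaf (.cyc (nat_lit 4) [(nat_lit 1773), (nat_lit 4865), (nat_lit 6008), (nat_lit 636), (nat_lit 634)])) (.leaf .df))) (.node (.node (.leaf .df) (.leaf (.cyc (nat_lit 19) [(nat_lit 10640), (nat_lit 12152), (nat_lit 4113)]))) (.node (.leaf (.cyc (nat_lit 28) [(nat_lit 2798), (nat_lit 8056), (nat_lit 2568)])) (.leaf .df))))))) (.node (.node (.node (.node (.node (.node (.leaf .df) (.leaf (.cyc (nat_lit 28) [(nat_lit 1827), (nat_lit 8438)]))) (.node (.leaf .df) (.leaf (.cyc (nat_lit 4) [(nat_lit 12321), (nat_lit 10996), (nat_lit 3807), (nat_lit 9831), (nat_lit 12535)])))) (.node (.node (.leaf .df) (.leaf (.cyc (nat_lit 5) [(nat_lit 3692), (nat_lit 3691)]))) (.node (.leaf (.cyc (nat_lit 6) [(nat_lit 2190), (nat_lit 2189)])) (.leaf .df)))) (.node (.node (.node (.leaf .df) (.leaf (.cyc (nat_lit 28) [(nat_lit 8259), (nat_lit 9464)])))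 (.node (.leaf (.cyc (nat_lit 2) [(nat_lit 1169), (nat_lit 1168)])) (.leaf .df))) (.node (.node (.leaf .df) (.leaf (.cyc (nat_lit 11) [(nat_lit 3940), (nat_lit 1863), (nat_lit 1865), (nat_lit 7725), (nat_lit 11509), (nat_lit 11511), (nat_lit 10715)]))) (.node (.leaf (.cyc (nat_lit 2) [(nat_lit 3050), (nat_lit 3049)])) (.leaf .df))))) (.node (.node (.node (.node (.leaf .df) (.leaf (.cyc (nat_lit 29) [(nat_lit 2358), (nat_lit 8951)]))) (.node (.leaf (.cyc (nat_lit 2) [(nat_lit 608), (nat_lit 607)])) (.leaf (.cyc (nat_lit 1) [(nat_lit 13046), (nat_lit 4302)])))) (.node (.node (.leaf .df) (.leaf (.cyc (nat_lit 8) [(nat_lit 9823), (nat_lit 9831), (nat_lit 9830), (nat_lit 10997), (nat_lit 11000), (nat_lit 10208)]))) (.node (.leaf (.cyc (nat_lit 4) [(nat_lit 6821), (nat_lit 6822), (nat_lit 5305), (nat_lit 5180), (nat_lit 2629)])) (.leaf .df)))) (.node (.node (.node (.leaf .df) (.leaf (.cyc (nat_lit 9) [(nat_lit 6430), (nat_lit 9966), (nat_lit 3556), (nat_lit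 5670), (nat_lit 3560)]))) (.node (.leaf (.cyc (nat_lit 9) [(nat_lit 5880), (nat_lit 1641), (nat_lit 570), (nat_lit 4489), (nat_lit 567), (nat_lit 1634)])) (.leaf .df))) (.node (.node (.leaf .df) (.leaf (.cyc (nat_lit 6) [(nat_lit 4089), (nat_lit 11627)]))) (.node (.leaf (.cyc (nat_lit 28) [(nat_lit 6134), (nat_lit 7927), (nat_lit 1037)])) (.leaf .df)))))) (.node (.node (.node (.node (.node (.leaf .df) (.leaf (.cyc (nat_lit 4) [(nat_lit 6168), (nat_lit 8565), (nat_lit 7041), (nat_lit 6291), (nat_lit 8643), (nat_lit 7369)]))) (.node (.leaf (.cyc (nat_lit 5) [(nat_lit 312), (nat_lit 311)])) (.leaf (.cyc (nat_lit 5) [(nat_lit 4252), (nat_lit 12267)])))) (.node (.node (.leaf .df) (.leaf (.cyc (nat_lit 14) [(nat_lit 10433), (nat_lit 10744)]))) (.node (.leaf (.cyc (nat_lit 25) [(nat_lit 2432), (nat_lit 6647)])) (.leaf .df)))) (.node (.node (.node (.leaf .df) (.leaf (.cyc (nat_lit 18) [(nat_lit 3439), (nat_lit 9720)]))) (.node (.leaf (.cyc (nat_lit 15) [(nat_lit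 1380), (nat_lit 4741), (nat_lit 4742), (nat_lit 292), (nat_lit 4418), (nat_lit 288), (nat_lit 4584), (nat_lit 305), (nat_lit 913)])) (.leaf .df))) (.node (.node (.leaf .df) (.leaf (.cyc (nat_lit 3) [(nat_lit 2669), (nat_lit 2672), (nat_lit 10117), (nat_lit 10116), (nat_lit 11768)]))) (.node (.leaf (.cyc (nat_lit 0) [(nat_lit 6218), (nat_lit 7672)])) (.leaf .df))))) (.node (.node (.node (.node (.leaf .df) (.leaf (.cyc (nat_lit 5) [(nat_lit 9208), (nat_lit 6229)]))) (.node (.leaf (.cyc (nat_lit 0) [(nat_lit 5101), (nat_lit 889)])) (.leaf .df))) (.node (.node (.leaf .df) (.leaf (.cyc (nat_lit 6) [(nat_lit 3887), (nat_lit 7690)]))) (.node (.leaf (.cyc (nat_lit 11) [(nat_lit 1061), (nat_lit 5241), (nat_lit 1031), (nat_lit 347), (nat_lit 348), (nat_lit 1034), (nat_lit 2804)])) (.leaf .df)))) (.node (.node (.node (.leaf .df) (.leaf (.cyc (nat_lit 18) [(nat_lit 10221), (nat_lit 10230)]))) (.node (.leaf (.cyc (nat_lit 2) [(nat_lit 1927), (nat_lit 1926)])) (.leaf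 .df))) (.node (.node (.leaf .df) (.leaf (.cyc (nat_lit 3) [(nat_lit 3591), (nat_lit 5691), (nat_lit 5069), (nat_lit 2353), (nat_lit 4144)]))) (.node (.leaf (.cyc (nat_lit 18) [(nat_lit 7166), (nat_lit 8180)])) (.leaf .df))))))))
noncomputable def c4P100111 : BT Pf := .node c4P1001110 c4P1001111
noncomputable def c4P10011 : BT Pf := .node c4P100110 c4P100111
noncomputable def c4P1001 : BT Pf := .node c4P10010 c4P10011
noncomputable def c4P100 : BT Pf := .node c4P1000 c4P1001
noncomputable def c4P1010000 : BT Pf := (.node (.node (.node (.node (.node (.node (.node (.leaf .df) (.leaf (.cyc (nat_lit 29) [(nat_lit 3041), (nat_lit 8196), (nat_lit 1743)]))) (.node (.leaf .df) (.leaf (.cyc (nat_lit 3) [(nat_lit 12292), (nat_lit 4075), (nat_lit 6366), (nat_lit 7240), (nat_lit 11430)])))) (.node (.node (.leaf .df) (.leaf (.cyc (nat_lit 10) [(nat_lit 9770), (nat_lit 1455), (nat_lit 1452), (nat_lit 5746), (nat_lit 3640)]))) (.node (.leaf (.cyc (nat_lit 23) [(nat_lit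 6029), (nat_lit 652), (nat_lit 211), (nat_lit 4456), (nat_lit 431), (nat_lit 5462), (nat_lit 6148), (nat_lit 1934), (nat_lit 1933)])) (.leaf .df)))) (.node (.node (.node (.leaf .df) (.leaf (.cyc (nat_lit 18) [(nat_lit 9123), (nat_lit 9216)]))) (.node (.leaf (.cyc (nat_lit 6) [(nat_lit 901), (nat_lit 900)])) (.leaf .df))) (.node (.node (.leaf .df) (.leaf (.cyc (nat_lit 1) [(nat_lit 11164), (nat_lit 3891)]))) (.node (.leaf (.cyc (nat_lit 13) [(nat_lit 7172), (nat_lit 2366), (nat_lit 844), (nat_lit 4575), (nat_lit 4609), (nat_lit 956), (nat_lit 2625)])) (.leaf .df))))) (.node (.node (.node (.node (.leaf .df) (.leaf (.cyc (nat_lit 28) [(nat_lit 3012), (nat_lit 8704), (nat_lit 2074)]))) (.node (.leaf (.cyc (nat_lit 6) [(nat_lit 326), (nat_lit 325)])) (.leaf (.cyc (nat_lit 3) [(nat_lit 12803), (nat_lit 12802), (nat_lit 11360), (nat_lit 11361), (nat_lit 12547)])))) (.node (.node (.leaf .df) (.leaf (.cyc (nat_lit 29) [(nat_lit 6372), (nat_lit 10755)]))) (.node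 (.leaf (.cyc (nat_lit 1) [(nat_lit 5161), (nat_lit 2449)])) (.leaf .df)))) (.node (.node (.node (.leaf .df) (.leaf (.cyc (nat_lit 5) [(nat_lit 3445), (nat_lit 3444)]))) (.node (.leaf (.cyc (nat_lit 8) [(nat_lit 1394), (nat_lit 4749), (nat_lit 4747), (nat_lit 493), (nat_lit 5618)])) (.leaf .df))) (.node (.node (.leaf .df) (.leaf (.cyc (nat_lit 31) [(nat_lit 9644), (nat_lit 3975), (nat_lit 11780), (nat_lit 2666), (nat_lit 5193), (nat_lit 1388), (nat_lit 3476)]))) (.node (.leaf (.cyc (nat_lit 16) [(nat_lit 1751), (nat_lit 610), (nat_lit 4499), (nat_lit 606), (nat_lit 4855), (nat_lit 4884), (nat_lit 5460), (nat_lit 3298), (nat_lit 7684)])) (.leaf .df)))))) (.node (.node (.node (.node (.node (.leaf .df) (.leaf (.cyc (nat_lit 18) [(nat_lit 2344), (nat_lit 8449)]))) (.node (.leaf (.cyc (nat_lit 1) [(nat_lit 4355), (nat_lit 7)])) (.leaf (.cyc (nat_lit 0) [(nat_lit 11616), (nat_lit 12548)])))) (.node (.node (.leaf .df) (.leaf (.cyc (nat_lit 20) [(nat_lit 2876),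 (nat_lit 5485), (nat_lit 1338), (nat_lit 10500), (nat_lit 2878), (nat_lit 2879), (nat_lit 9490)]))) (.node (.leaf (.cyc (nat_lit 2) [(nat_lit 2205), (nat_lit 2204)])) (.leaf .df)))) (.node (.node (.node (.leaf .df) (.leaf (.cyc (nat_lit 8) [(nat_lit 3304), (nat_lit 1261), (nat_lit 1264), (nat_lit 3311), (nat_lit 9476)]))) (.node (.leaf (.cyc (nat_lit 5) [(nat_lit 1188), (nat_lit 1187)])) (.leaf .df))) (.node (.node (.leaf .df) (.leaf (.cyc (nat_lit 18) [(nat_lit 1162), (nat_lit 11524)]))) (.node (.leaf (.cyc (nat_lit 6) [(nat_lit 3058), (nat_lit 3057)])) (.leaf .df))))) (.node (.node (.node (.node (.leaf .df) (.leaf (.cyc (nat_lit 28) [(nat_lit 6738), (nat_lit 8963)]))) (.node (.leaf (.cyc (nat_lit 0) [(nat_lit 4508), (nat_lit 624)])) (.leaf (.cyc (nat_lit 20) [(nat_lit 12915), (nat_lit 3475), (nat_lit 5632), (nat_lit 3480), (nat_lit 12966), (nat_lit 12762), (nat_lit 4304)])))) (.node (.node (.leaf .df) (.leaf (.cyc (nat_lit 6) [(nat_lit 11012), (nat_lit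 7583)]))) (.node (.leaf (.cyc (nat_lit 28) [(nat_lit 2295), (nat_lit 6916)])) (.leaf .df)))) (.node (.node (.node (.leaf .df) (.leaf (.cyc (nat_lit 28) [(nat_lit 3570), (nat_lit 9988), (nat_lit 1479)]))) (.node (.leaf (.cyc (nat_lit 5) [(nat_lit 1655), (nat_lit 1654)])) (.leaf .df))) (.node (.node (.leaf .df) (.leaf (.cyc (nat_lit 18) [(nat_lit 2207), (nat_lit 12035), (nat_lit 3211)]))) (.node (.leaf (.cyc (nat_lit 18) [(nat_lit 2818), (nat_lit 7936)])) (.leaf .df))))))) (.node (.node (.node (.node (.node (.node (.leaf .df) (.leaf (.cyc (nat_lit 18) [(nat_lit 6780), (nat_lit 8322)]))) (.node (.leaf .df) (.leaf (.cyc (nat_lit 8) [(nat_lit 12126), (nat_lit 12125), (nat_lit 9786), (nat_lit 12415), (nat_lit 12420)])))) (.node (.node (.leaf .df) (.leaf (.cyc (nat_lit 19) [(nat_lit 9797), (nat_lit 10371)]))) (.node (.leaf (.cyc (nat_lit 5) [(nat_lit 2074), (nat_lit 2073)])) (.leaf .df)))) (.node (.node (.node (.leaf .df) (.leaf (.cyc (nat_lit 20) [(nat_lit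 1805), (nat_lit 627), (nat_lit 202), (nat_lit 199), (nat_lit 619), (nat_lit 9330), (nat_lit 7468), (nat_lit 7470)]))) (.node (.leaf (.cyc (nat_lit 1) [(nat_lit 4677), (nat_lit 1042)])) (.leaf .df))) (.node (.node (.leaf .df) (.leaf (.cyc (nat_lit 6) [(nat_lit 10783), (nat_lit 11394), (nat_lit 11392)]))) (.node (.leaf (.cyc (nat_lit 3) [(nat_lit 7300), (nat_lit 7292), (nat_lit 1693), (nat_lit 4836), (nat_lit 1690)])) (.leaf .df))))) (.node (.node (.node (.node (.leaf .df) (.leaf (.cyc (nat_lit 29) [(nat_lit 2316), (nat_lit 8833)]))) (.node (.leaf (.cyc (nat_lit 5) [(nat_lit 472), (nat_lit 471)])) (.leaf (.cyc (nat_lit 3) [(nat_lit 12929), (nat_lit 12930), (nat_lit 9499), (nat_lit 3565), (nat_lit 12903)])))) (.node (.node (.leaf .df) (.leaf (.cyc (nat_lit 14) [(nat_lit 10827), (nat_lit 3781)]))) (.node (.leaf (.cyc (nat_lit 2) [(nat_lit 2535), (nat_lit 2534)])) (.leaf .df)))) (.node (.node (.node (.leaf .df) (.leaf (.cyc (nat_lit 6) [(nat_lit 3521), (nat_lit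 9838)]))) (.node (.leaf (.cyc (nat_lit 8) [(nat_lit 5763), (nat_lit 1444), (nat_lit 4762), (nat_lit 4749), (nat_lit 1394)])) (.leaf .df))) (.node (.node (.leaf .df) (.leaf (.cyc (nat_lit 8) [(nat_lit 3887), (nat_lit 10593), (nat_lit 10883), (nat_lit 4055), (nat_lit 11900)]))) (.node (.leaf (.cyc (nat_lit 29) [(nat_lit 3134), (nat_lit 7811)])) (.leaf .df)))))) (.node (.node (.node (.node (.node (.leaf .df) (.leaf (.cyc (nat_lit 17) [(nat_lit 3047), (nat_lit 8578)]))) (.node (.leaf (.cyc (nat_lit 4) [(nat_lit 174), (nat_lit 52), (nat_lit 14), (nat_lit 17), (nat_lit 62)])) (.leaf (.cyc (nat_lit 22) [(nat_lit 12670), (nat_lit 3479), (nat_lit 1389), (nat_lit 4746), (nat_lit 1391), (nat_lit 7800), (nat_lit 3672)])))) (.node (.node (.leaf .df) (.leaf (.cyc (nat_lit 13) [(nat_lit 8762), (nat_lit 1324), (nat_lit 4726), (nat_lit 1328), (nat_lit 9006), (nat_lit 5818), (nat_lit 3711)]))) (.node (.leaf (.cyc (nat_lit 2) [(nat_lit 2324), (nat_lit 2323)])) (.leaf .df))))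 (.node (.node (.node (.leaf .df) (.leaf (.cyc (nat_lit 24) [(nat_lit 1340), (nat_lit 4729), (nat_lit 1344), (nat_lit 5596), (nat_lit 1339), (nat_lit 1338), (nat_lit 3401), (nat_lit 9604), (nat_lit 3342), (nat_lit 3340)]))) (.node (.leaf (.cyc (nat_lit 29) [(nat_lit 1094), (nat_lit 5505)])) (.leaf .df))) (.node (.node (.leaf .df) (.leaf (.cyc (nat_lit 4) [(nat_lit 3987), (nat_lit 6184), (nat_lit 11650), (nat_lit 11651), (nat_lit 10949)]))) (.node (.leaf (.cyc (nat_lit 6) [(nat_lit 7556), (nat_lit 7465)])) (.leaf .df))))) (.node (.node (.node (.node (.leaf .df) (.leaf (.cyc (nat_lit 17) [(nat_lit 7467), (nat_lit 9090)]))) (.node (.leaf (.cyc (nat_lit 0) [(nat_lit 4556), (nat_lit 767)])) (.leaf (.cyc (nat_lit 2) [(nat_lit 4332), (nat_lit 13019)])))) (.node (.node (.leaf .df) (.leaf (.cyc (nat_lit 4) [(nat_lit 2462), (nat_lit 5109), (nat_lit 2464), (nat_lit 6753), (nat_lit 11140)]))) (.node (.leaf (.cyc (nat_lit 17) [(nat_lit 1003), (nat_lit 7043), (nat_lit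 2098)])) (.leaf .df)))) (.node (.node (.node (.leaf .df) (.leaf (.cyc (nat_lit 5) [(nat_lit 10115), (nat_lit 8428)]))) (.node (.leaf (.cyc (nat_lit 6) [(nat_lit 1791), (nat_lit 1790)])) (.leaf .df))) (.node (.node (.leaf .df) (.leaf (.cyc (nat_lit 0) [(nat_lit 12162), (nat_lit 12164)]))) (.node (.leaf (.cyc (nat_lit 29) [(nat_lit 7638), (nat_lit 8067)])) (.leaf .df))))))))
noncomputable def c4P1010001 : BT Pf := (.node (.node (.node (.node (.node (.node (.node (.leaf .df) (.leaf (.cyc (nat_lit 3) [(nat_lit 1953), (nat_lit 5257), (nat_lit 1033), (nat_lit 8245), (nat_lit 2754)]))) (.node (.leaf .df) (.leaf (.cyc (nat_lit 9) [(nat_lit 4154), (nat_lit 11231), (nat_lit 11252), (nat_lit 6379), (nat_lit 4085)])))) (.node (.node (.leaf .df) (.leaf (.cyc (nat_lit 8) [(nat_lit 3656), (nat_lit 3655), (nat_lit 10302), (nat_lit 10300), (nat_lit 9453)]))) (.node (.leaf (.cyc (nat_lit 21) [(nat_lit 5746), (nat_lit 1452), (nat_lit 5719), (nat_lit 5521), (nat_lit 1999)]))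 (.leaf .df)))) (.node (.node (.node (.leaf .df) (.leaf (.cyc (nat_lit 8) [(nat_lit 9281), (nat_lit 9160), (nat_lit 9162), (nat_lit 9067), (nat_lit 5867)]))) (.node (.leaf (.cyc (nat_lit 6) [(nat_lit 969), (nat_lit 968)])) (.leaf .df))) (.node (.node (.leaf .df) (.leaf (.cyc (nat_lit 20) [(nat_lit 11215), (nat_lit 11216), (nat_lit 3495), (nat_lit 3496), (nat_lit 11003), (nat_lit 10041), (nat_lit 11330)]))) (.node (.leaf (.cyc (nat_lit 2) [(nat_lit 2907), (nat_lit 2906)])) (.leaf .df))))) (.node (.node (.node (.node (.leaf .df) (.leaf (.cyc (nat_lit 19) [(nat_lit 8191), (nat_lit 8769), (nat_lit 3321)]))) (.node (.leaf (.cyc (nat_lit 3) [(nat_lit 4632), (nat_lit 4631), (nat_lit 4676), (nat_lit 401), (nat_lit 402)])) (.leaf (.cyc (nat_lit 9) [(nat_lit 11992), (nat_lit 6536), (nat_lit 11695), (nat_lit 11697), (nat_lit 4267)])))) (.node (.node (.leaf .df) (.leaf (.cyc (nat_lit 4) [(nat_lit 7516), (nat_lit 7517), (nat_lit 1621), (nat_lit 1624), (nat_lit 3765)])))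 (.node (.leaf (.cyc (nat_lit 5) [(nat_lit 2464), (nat_lit 2463)])) (.leaf .df)))) (.node (.node (.node (.leaf .df) (.leaf (.cyc (nat_lit 2) [(nat_lit 3483), (nat_lit 3482)]))) (.node (.leaf (.cyc (nat_lit 2) [(nat_lit 1466), (nat_lit 1465)])) (.leaf .df))) (.node (.node (.leaf .df) (.leaf (.cyc (nat_lit 11) [(nat_lit 2110), (nat_lit 743), (nat_lit 241), (nat_lit 238), (nat_lit 734), (nat_lit 2079), (nat_lit 4041)]))) (.node (.leaf (.cyc (nat_lit 29) [(nat_lit 5904), (nat_lit 7745), (nat_lit 3070)])) (.leaf .df)))))) (.node (.node (.node (.node (.node (.leaf .df) (.leaf (.cyc (nat_lit 25) [(nat_lit 6177), (nat_lit 8515)]))) (.node (.leaf (.cyc (nat_lit 2) [(nat_lit 96), (nat_lit 95)])) (.leaf (.cyc (nat_lit 2) [(nat_lit 4214), (nat_lit 7559)])))) (.node (.node (.leaf .df) (.leaf (.cyc (nat_lit 11) [(nat_lit 3603), (nat_lit 1466), (nat_lit 4765), (nat_lit 1461), (nat_lit 6524), (nat_lit 10564), (nat_lit 5959), (nat_lit 5944)]))) (.node (.leaf (.cyc (nat_lit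 5) [(nat_lit 2271), (nat_lit 2270)])) (.leaf .df)))) (.node (.node (.node (.leaf .df) (.leaf (.cyc (nat_lit 6) [(nat_lit 3375), (nat_lit 8861)]))) (.node (.leaf (.cyc (nat_lit 8) [(nat_lit 1067), (nat_lit 4636), (nat_lit 1063), (nat_lit 5444), (nat_lit 1238)])) (.leaf .df))) (.node (.node (.leaf .df) (.leaf (.cyc (nat_lit 14) [(nat_lit 10861), (nat_lit 3973)]))) (.node (.leaf (.cyc (nat_lit 5) [(nat_lit 3121), (nat_lit 3120)])) (.leaf .df))))) (.node (.node (.node (.node (.leaf .df) (.leaf (.cyc (nat_lit 29) [(nat_lit 7444), (nat_lit 9026)]))) (.node (.leaf (.cyc (nat_lit 13) [(nat_lit 699), (nat_lit 227), (nat_lit 69), (nat_lit 18), (nat_lit 20), (nat_lit 73), (nat_lit 243)])) (.leaf (.cyc (nat_lit 21) [(nat_lit 9623), (nat_lit 5597), (nat_lit 3409), (nat_lit 11006), (nat_lit 4318)])))) (.node (.node (.leaf .df) (.leaf (.cyc (nat_lit 25) [(nat_lit 10278), (nat_lit 11074)]))) (.node (.leaf (.cyc (nat_lit 15) [(nat_lit 2661), (nat_lit 5190), (nat_lit 5191),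 (nat_lit 477), (nat_lit 4468), (nat_lit 4467), (nat_lit 4471), (nat_lit 491), (nat_lit 1431)])) (.leaf .df)))) (.node (.node (.node (.leaf .df) (.leaf (.cyc (nat_lit 21) [(nat_lit 8913), (nat_lit 7082), (nat_lit 7087), (nat_lit 9941), (nat_lit 3594)]))) (.node (.leaf (.cyc (nat_lit 5) [(nat_lit 1729), (nat_lit 1728)])) (.leaf .df))) (.node (.node (.leaf .df) (.leaf (.cyc (nat_lit 8) [(nat_lit 9632), (nat_lit 12099), (nat_lit 4107), (nat_lit 11632), (nat_lit 9503)]))) (.node (.leaf (.cyc (nat_lit 17) [(nat_lit 7273), (nat_lit 8004)])) (.leaf .df))))))) (.node (.node (.node (.node (.node (.node (.leaf .df) (.leaf (.cyc (nat_lit 28) [(nat_lit 6434), (nat_lit 8383), (nat_lit 6206)]))) (.node (.leaf .df) (.leaf (.cyc (nat_lit 22) [(nat_lit 4184), (nat_lit 10180), (nat_lit 12473), (nat_lit 12469), (nat_lit 3540), (nat_lit 6876), (nat_lit 11978)])))) (.node (.node (.leaf .df) (.leaf (.cyc (nat_lit 20) [(nat_lit 8505), (nat_lit 8396), (nat_lit 6369), (nat_lit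 8405), (nat_lit 5794), (nat_lit 3684), (nat_lit 10435)]))) (.node (.leaf (.cyc (nat_lit 2) [(nat_lit 2148), (nat_lit 6157)])) (.leaf .df)))) (.node (.node (.node (.leaf .df) (.leaf (.cyc (nat_lit 25) [(nat_lit 7127), (nat_lit 9410)]))) (.node (.leaf (.cyc (nat_lit 3) [(nat_lit 5105), (nat_lit 5161), (nat_lit 5160), (nat_lit 4759), (nat_lit 1112)])) (.leaf .df))) (.node (.node (.leaf .df) (.leaf (.cyc (nat_lit 20) [(nat_lit 2378), (nat_lit 8855), (nat_lit 3487), (nat_lit 11256), (nat_lit 7413), (nat_lit 11259), (nat_lit 11460)]))) (.node (.leaf (.cyc (nat_lit 0) [(nat_lit 6139), (nat_lit 3003)])) (.leaf .df))))) (.node (.node (.node (.node (.leaf .df) (.leaf (.cyc (nat_lit 25) [(nat_lit 2228), (nat_lit 8897)]))) (.node (.leaf (.cyc (nat_lit 11) [(nat_lit 205), (nat_lit 62), (nat_lit 17), (nat_lit 14), (nat_lit 53), (nat_lit 176), (nat_lit 549)])) (.leaf (.cyc (nat_lit 9) [(nat_lit 11342), (nat_lit 11159), (nat_lit 3832), (nat_lit 11292), (nat_lit 4292)]))))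 (.node (.node (.leaf .df) (.leaf (.cyc (nat_lit 5) [(nat_lit 3797), (nat_lit 3796)]))) (.node (.leaf (.cyc (nat_lit 9) [(nat_lit 2593), (nat_lit 942), (nat_lit 4603), (nat_lit 939), (nat_lit 2587)])) (.leaf .df)))) (.node (.node (.node (.leaf .df) (.leaf (.cyc (nat_lit 8) [(nat_lit 3546), (nat_lit 1427), (nat_lit 5623), (nat_lit 3462), (nat_lit 9851)]))) (.node (.leaf (.cyc (nat_lit 5) [(nat_lit 1584), (nat_lit 1583)])) (.leaf .df))) (.node (.node (.leaf .df) (.leaf (.cyc (nat_lit 28) [(nat_lit 3901), (nat_lit 11972)]))) (.node (.leaf (.cyc (nat_lit 17) [(nat_lit 7473), (nat_lit 7873), (nat_lit 7702)])) (.leaf .df)))))) (.node (.node (.node (.node (.node (.leaf .df) (.leaf (.cyc (nat_lit 28) [(nat_lit 1854), (nat_lit 8642), (nat_lit 3026)]))) (.node (.leaf (.cyc (nat_lit 8) [(nat_lit 202), (nat_lit 200), (nat_lit 4547), (nat_lit 246), (nat_lit 248)])) (.leaf (.cyc (nat_lit 1) [(nat_lit 12518), (nat_lit 12740)])))) (.node (.node (.leaf .df) (.leaf (.cyc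 (nat_lit 29) [(nat_lit 7716), (nat_lit 10691)]))) (.node (.leaf (.cyc (nat_lit 4) [(nat_lit 2385), (nat_lit 850), (nat_lit 4578), (nat_lit 846), (nat_lit 2371)])) (.leaf .df)))) (.node (.node (.node (.leaf .df) (.leaf (.cyc (nat_lit 3) [(nat_lit 9665), (nat_lit 3426), (nat_lit 1359), (nat_lit 1360), (nat_lit 3430)]))) (.node (.leaf (.cyc (nat_lit 5) [(nat_lit 1320), (nat_lit 1319)])) (.leaf .df))) (.node (.node (.leaf .df) (.leaf (.cyc (nat_lit 8) [(nat_lit 2052), (nat_lit 2050), (nat_lit 9226), (nat_lit 4005), (nat_lit 11715)]))) (.node (.leaf (.cyc (nat_lit 0) [(nat_lit 3241), (nat_lit 7620)])) (.leaf .df))))) (.node (.node (.node (.node (.leaf .df) (.leaf (.cyc (nat_lit 8) [(nat_lit 5803), (nat_lit 5804), (nat_lit 5802), (nat_lit 2475), (nat_lit 9154)]))) (.node (.leaf (.cyc (nat_lit 6) [(nat_lit 829), (nat_lit 828)])) (.leaf (.cyc (nat_lit 1) [(nat_lit 13195), (nat_lit 4345)])))) (.node (.node (.leaf .df) (.leaf (.cyc (nat_lit 6) [(nat_lit 3876),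 (nat_lit 3875)]))) (.node (.leaf (.cyc (nat_lit 13) [(nat_lit 2757), (nat_lit 1014), (nat_lit 340), (nat_lit 4434), (nat_lit 333), (nat_lit 994), (nat_lit 2718)])) (.leaf .df)))) (.node (.node (.node (.leaf .df) (.leaf (.cyc (nat_lit 25) [(nat_lit 3127), (nat_lit 10179)]))) (.node (.leaf (.cyc (nat_lit 8) [(nat_lit 653), (nat_lit 4511), (nat_lit 649), (nat_lit 1862), (nat_lit 6084)])) (.leaf .df))) (.node (.node (.leaf .df) (.leaf (.cyc (nat_lit 22) [(nat_lit 12227), (nat_lit 12225), (nat_lit 2569), (nat_lit 8825), (nat_lit 10866), (nat_lit 6886), (nat_lit 11666)]))) (.node (.leaf (.cyc (nat_lit 4) [(nat_lit 2891), (nat_lit 5277), (nat_lit 2895), (nat_lit 8131), (nat_lit 2961), (nat_lit 2959)])) (.leaf .df))))))))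
noncomputable def c4P101000 : BT Pf := .node c4P1010000 c4P1010001
noncomputable def c4P1010010 : BT Pf := (.node (.node (.node (.node (.node (.node (.node (.leaf .df) (.leaf (.cyc (nat_lit 25) [(nat_lit 2756), (nat_lit 8219)]))) (.node (.leaf .df) (.leaf (.cyc (nat_lit 27) [(nat_lit 4147), (nat_lit 8364), (nat_lit 8366), (nat_lit 8473), (nat_lit 4973), (nat_lit 8451), (nat_lit 3454)])))) (.node (.node (.leaf .df) (.leaf (.cyc (nat_lit 0) [(nat_lit 8374), (nat_lit 3647)]))) (.node (.leaf (.cyc (nat_lit 7) [(nat_lit 1262), (nat_lit 430), (nat_lit 136), (nat_lit 137), (nat_lit 431), (nat_lit 1265), (nat_lit 6180)])) (.leaf .df)))) (.node (.node (.node (.leaf .df) (.leaf (.cyc (nat_lit 19) [(nat_lit 3284), (nat_lit 9251)]))) (.node (.leaf (.cyc (nat_lit 6) [(nat_lit 933), (nat_lit 932)])) (.leaf .df))) (.node (.node (.leaf .df) (.leaf (.cyc (nat_lit 10) [(nat_lit 1783), (nat_lit 620), (nat_lit 617), (nat_lit 1771), (nat_lit 3897)]))) (.node (.leaf (.cyc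 (nat_lit 1) [(nat_lit 5808), (nat_lit 2873)])) (.leaf .df))))) (.node (.node (.node (.node (.leaf .df) (.leaf (.cyc (nat_lit 28) [(nat_lit 1799), (nat_lit 8733)]))) (.node (.leaf (.cyc (nat_lit 10) [(nat_lit 364), (nat_lit 116), (nat_lit 4376), (nat_lit 118), (nat_lit 370)])) (.leaf (.cyc (nat_lit 10) [(nat_lit 3808), (nat_lit 5899), (nat_lit 10968), (nat_lit 2936), (nat_lit 4262)])))) (.node (.node (.leaf .df) (.leaf (.cyc (nat_lit 6) [(nat_lit 10788), (nat_lit 10717)]))) (.node (.leaf (.cyc (nat_lit 18) [(nat_lit 2071), (nat_lit 6691), (nat_lit 2251)])) (.leaf .df)))) (.node (.node (.node (.leaf .df) (.leaf (.cyc (nat_lit 20) [(nat_lit 6518), (nat_lit 6535), (nat_lit 9702), (nat_lit 9764), (nat_lit 1770), (nat_lit 4865), (nat_lit 1774)]))) (.node (.leaf (.cyc (nat_lit 6) [(nat_lit 1431), (nat_lit 1430)])) (.leaf .df))) (.node (.node (.leaf .df) (.leaf (.cyc (nat_lit 20) [(nat_lit 9239), (nat_lit 2143), (nat_lit 9257), (nat_lit 3958), (nat_lit 11811),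 (nat_lit 4031), (nat_lit 4029)]))) (.node (.leaf (.cyc (nat_lit 10) [(nat_lit 2543), (nat_lit 919), (nat_lit 916), (nat_lit 5478), (nat_lit 3324)])) (.leaf .df)))))) (.node (.node (.node (.node (.node (.leaf .df) (.leaf (.cyc (nat_lit 8) [(nat_lit 1532), (nat_lit 529), (nat_lit 532), (nat_lit 1540), (nat_lit 8484)]))) (.node (.leaf (.cyc (nat_lit 2) [(nat_lit 54), (nat_lit 53)])) (.leaf (.cyc (nat_lit 20) [(nat_lit 8579), (nat_lit 8581), (nat_lit 3044), (nat_lit 12580), (nat_lit 4205), (nat_lit 12446), (nat_lit 12571)])))) (.node (.node (.leaf .df) (.leaf (.cyc (nat_lit 22) [(nat_lit 7357), (nat_lit 10526), (nat_lit 10376), (nat_lit 10375), (nat_lit 8950), (nat_lit 8518), (nat_lit 2549), (nat_lit 2547)]))) (.node (.leaf (.cyc (nat_lit 6) [(nat_lit 2247), (nat_lit 5286)])) (.leaf .df)))) (.node (.node (.node (.leaf .df) (.leaf (.cyc (nat_lit 5) [(nat_lit 3355), (nat_lit 8614)]))) (.node (.leaf (.cyc (nat_lit 6) [(nat_lit 1214), (nat_lit 1213)])) (.leaf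 .df))) (.node (.node (.leaf .df) (.leaf (.cyc (nat_lit 8) [(nat_lit 11139), (nat_lit 11554), (nat_lit 11555), (nat_lit 10327), (nat_lit 11556), (nat_lit 11007)]))) (.node (.leaf (.cyc (nat_lit 2) [(nat_lit 3082), (nat_lit 3081)])) (.leaf .df))))) (.node (.node (.node (.node (.leaf .df) (.leaf (.cyc (nat_lit 19) [(nat_lit 1581), (nat_lit 8989)]))) (.node (.leaf (.cyc (nat_lit 2) [(nat_lit 665), (nat_lit 664)])) (.leaf (.cyc (nat_lit 3) [(nat_lit 12548), (nat_lit 12431), (nat_lit 12433), (nat_lit 10323), (nat_lit 4310)])))) (.node (.node (.leaf .df) (.leaf (.cyc (nat_lit 4) [(nat_lit 2169), (nat_lit 6260), (nat_lit 9204), (nat_lit 5915), (nat_lit 3821)]))) (.node (.leaf (.cyc (nat_lit 20) [(nat_lit 2076), (nat_lit 5025), (nat_lit 4900), (nat_lit 5901), (nat_lit 5945), (nat_lit 6947), (nat_lit 6690)])) (.leaf .df)))) (.node (.node (.node (.leaf .df) (.leaf (.cyc (nat_lit 4) [(nat_lit 3578), (nat_lit 5762), (nat_lit 508), (nat_lit 511), (nat_lit 1490)])))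 (.node (.leaf (.cyc (nat_lit 8) [(nat_lit 590), (nat_lit 4496), (nat_lit 586), (nat_lit 1692), (nat_lit 5924)])) (.leaf .df))) (.node (.node (.leaf .df) (.leaf (.cyc (nat_lit 6) [(nat_lit 12068), (nat_lit 12060)]))) (.node (.leaf (.cyc (nat_lit 12) [(nat_lit 7969), (nat_lit 2869), (nat_lit 5303), (nat_lit 7284), (nat_lit 5948), (nat_lit 7914), (nat_lit 3152), (nat_lit 1188), (nat_lit 1190), (nat_lit 3157)])) (.leaf .df))))))) (.node (.node (.node (.node (.node (.node (.leaf .df) (.leaf (.cyc (nat_lit 19) [(nat_lit 2130), (nat_lit 8355)]))) (.node (.leaf .df) (.leaf (.cyc (nat_lit 0) [(nat_lit 11849), (nat_lit 4178)])))) (.node (.node (.leaf .df) (.leaf (.cyc (nat_lit 19) [(nat_lit 2954), (nat_lit 10403)]))) (.node (.leaf (.cyc (nat_lit 6) [(nat_lit 2112), (nat_lit 2111)])) (.leaf .df)))) (.node (.node (.node (.leaf .df) (.leaf (.cyc (nat_lit 29) [(nat_lit 8144), (nat_lit 9379)]))) (.node (.leaf (.cyc (nat_lit 13) [(nat_lit 791), (nat_lit 259), (nat_lit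 4408), (nat_lit 118), (nat_lit 369), (nat_lit 4644), (nat_lit 1078)])) (.leaf .df))) (.node (.node (.leaf .df) (.leaf (.cyc (nat_lit 3) [(nat_lit 11428), (nat_lit 11427), (nat_lit 9667), (nat_lit 5824), (nat_lit 3727)]))) (.node (.leaf (.cyc (nat_lit 5) [(nat_lit 2981), (nat_lit 5393)])) (.leaf .df))))) (.node (.node (.node (.node (.leaf .df) (.leaf (.cyc (nat_lit 8) [(nat_lit 1357), (nat_lit 1354), (nat_lit 5617), (nat_lit 5675), (nat_lit 8846), (nat_lit 2003)]))) (.node (.leaf (.cyc (nat_lit 5) [(nat_lit 509), (nat_lit 508)])) (.leaf (.cyc (nat_lit 28) [(nat_lit 12764), (nat_lit 12963)])))) (.node (.node (.leaf .df) (.leaf (.cyc (nat_lit 9) [(nat_lit 3792), (nat_lit 3790), (nat_lit 10913), (nat_lit 10708), (nat_lit 9728)]))) (.node (.leaf (.cyc (nat_lit 2) [(nat_lit 2571), (nat_lit 2570)])) (.leaf .df)))) (.node (.node (.node (.leaf .df) (.leaf (.cyc (nat_lit 5) [(nat_lit 3541), (nat_lit 3540)]))) (.node (.leaf (.cyc (nat_lit 8) [(nat_lit 882), (nat_lit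 293), (nat_lit 296), (nat_lit 5513), (nat_lit 1545)])) (.leaf .df))) (.node (.node (.leaf .df) (.leaf (.cyc (nat_lit 11) [(nat_lit 8673), (nat_lit 10567), (nat_lit 10568), (nat_lit 11066), (nat_lit 11068), (nat_lit 9456), (nat_lit 4065)]))) (.node (.leaf (.cyc (nat_lit 29) [(nat_lit 1422), (nat_lit 7843)])) (.leaf .df)))))) (.node (.node (.node (.node (.node (.leaf .df) (.leaf (.cyc (nat_lit 20) [(nat_lit 1570), (nat_lit 546), (nat_lit 4486), (nat_lit 551), (nat_lit 8611), (nat_lit 4774), (nat_lit 1490)]))) (.node (.leaf (.cyc (nat_lit 4) [(nat_lit 114), (nat_lit 4373), (nat_lit 4364), (nat_lit 67), (nat_lit 219)])) (.leaf (.cyc (nat_lit 4) [(nat_lit 11371), (nat_lit 12287), (nat_lit 12704), (nat_lit 12705), (nat_lit 12708)])))) (.node (.node (.leaf .df) (.leaf (.cyc (nat_lit 8) [(nat_lit 10660), (nat_lit 3731), (nat_lit 5826), (nat_lit 10410), (nat_lit 9493)]))) (.node (.leaf (.cyc (nat_lit 5) [(nat_lit 6564), (nat_lit 6489)])) (.leaf .df)))) (.node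 (.node (.node (.leaf .df) (.leaf (.cyc (nat_lit 13) [(nat_lit 9636), (nat_lit 3341), (nat_lit 1278), (nat_lit 4707), (nat_lit 1272), (nat_lit 7781), (nat_lit 6364)]))) (.node (.leaf (.cyc (nat_lit 9) [(nat_lit 5095), (nat_lit 5539), (nat_lit 1297), (nat_lit 4714), (nat_lit 1300)])) (.leaf .df))) (.node (.node (.leaf .df) (.leaf (.cyc (nat_lit 9) [(nat_lit 3994), (nat_lit 6190), (nat_lit 3997), (nat_lit 11684), (nat_lit 6991)]))) (.node (.leaf (.cyc (nat_lit 24) [(nat_lit 2692), (nat_lit 982), (nat_lit 984), (nat_lit 5416), (nat_lit 1216), (nat_lit 1215), (nat_lit 3214), (nat_lit 7588), (nat_lit 3013), (nat_lit 3011)])) (.leaf .df))))) (.node (.node (.node (.node (.leaf .df) (.leaf (.cyc (nat_lit 22) [(nat_lit 9120), (nat_lit 2377), (nat_lit 8353), (nat_lit 8504), (nat_lit 6204), (nat_lit 8494), (nat_lit 5811)]))) (.node (.leaf (.cyc (nat_lit 3) [(nat_lit 5018), (nat_lit 790), (nat_lit 259), (nat_lit 260), (nat_lit 796)])) (.leaf (.cyc (nat_lit 20) [(nat_lit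 12750), (nat_lit 12748), (nat_lit 4238), (nat_lit 7016), (nat_lit 10351), (nat_lit 10353), (nat_lit 13220)])))) (.node (.node (.leaf .df) (.leaf (.cyc (nat_lit 0) [(nat_lit 8555), (nat_lit 11172)]))) (.node (.leaf (.cyc (nat_lit 22) [(nat_lit 2685), (nat_lit 6960), (nat_lit 1011), (nat_lit 7076), (nat_lit 6749), (nat_lit 5523), (nat_lit 1520), (nat_lit 6836)])) (.leaf .df)))) (.node (.node (.node (.leaf .df) (.leaf (.cyc (nat_lit 16) [(nat_lit 1855), (nat_lit 4887), (nat_lit 5562), (nat_lit 3375), (nat_lit 9540), (nat_lit 1317), (nat_lit 1315), (nat_lit 8112), (nat_lit 3623), (nat_lit 10147)]))) (.node (.leaf (.cyc (nat_lit 17) [(nat_lit 6038), (nat_lit 6052)])) (.leaf .df))) (.node (.node (.leaf .df) (.leaf (.cyc (nat_lit 8) [(nat_lit 11967), (nat_lit 4070), (nat_lit 9759), (nat_lit 2302), (nat_lit 4126)]))) (.node (.leaf (.cyc (nat_lit 25) [(nat_lit 1845), (nat_lit 8099)])) (.leaf .df))))))))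
noncomputable def c4P1010011 : BT Pf := (.node (.node (.node (.node (.node (.node (.node (.leaf .df) (.leaf (.cyc (nat_lit 17) [(nat_lit 6219), (nat_lit 8282), (nat_lit 8046)]))) (.node (.leaf .df) (.leaf (.cyc (nat_lit 6) [(nat_lit 4163), (nat_lit 10615)])))) (.node (.node (.leaf .df) (.leaf (.cyc (nat_lit 20) [(nat_lit 5864), (nat_lit 9974), (nat_lit 9893), (nat_lit 9894), (nat_lit 10335), (nat_lit 10334), (nat_lit 10340)]))) (.node (.leaf (.cyc (nat_lit 6) [(nat_lit 2034), (nat_lit 2033)])) (.leaf .df)))) (.node (.node (.node (.leaf .df) (.leaf (.cyc (nat_lit 8) [(nat_lit 2156), (nat_lit 4989), (nat_lit 6336), (nat_lit 9313), (nat_lit 9316)]))) (.node (.leaf (.cyc (nat_lit 5) [(nat_lit 1010), (nat_lit 1009)])) (.leaf .df))) (.node (.node (.leaf .df) (.leaf (.cyc (nat_lit 3) [(nat_lit 7498), (nat_lit 9280), (nat_lit 1811), (nat_lit 1812), (nat_lit 3912)]))) (.node (.leaf (.cyc (nat_lit 5) [(nat_lit 2932), (nat_lit 2931)])) (.leaf .df))))) (.node (.node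 (.node (.node (.leaf .df) (.leaf (.cyc (nat_lit 8) [(nat_lit 3194), (nat_lit 8802), (nat_lit 2514), (nat_lit 5130), (nat_lit 2518)]))) (.node (.leaf (.cyc (nat_lit 9) [(nat_lit 4540), (nat_lit 4541), (nat_lit 4542), (nat_lit 4457), (nat_lit 438)])) (.leaf (.cyc (nat_lit 17) [(nat_lit 4087), (nat_lit 12898)])))) (.node (.node (.leaf .df) (.leaf (.cyc (nat_lit 3) [(nat_lit 10852), (nat_lit 3749), (nat_lit 8838), (nat_lit 8836), (nat_lit 10431)]))) (.node (.leaf (.cyc (nat_lit 8) [(nat_lit 2477), (nat_lit 2476), (nat_lit 6755), (nat_lit 2509), (nat_lit 2511)])) (.leaf .df)))) (.node (.node (.node (.leaf .df) (.leaf (.cyc (nat_lit 3) [(nat_lit 9827), (nat_lit 9824), (nat_lit 2188), (nat_lit 5005), (nat_lit 2185)]))) (.node (.leaf (.cyc (nat_lit 2) [(nat_lit 1477), (nat_lit 1476)])) (.leaf .df))) (.node (.node (.leaf .df) (.leaf (.cyc (nat_lit 4) [(nat_lit 11747), (nat_lit 10738), (nat_lit 11686), (nat_lit 6991), (nat_lit 11875)]))) (.node (.leaf (.cyc (nat_lit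 29) [(nat_lit 3328), (nat_lit 7779)])) (.leaf .df)))))) (.node (.node (.node (.node (.node (.leaf .df) (.leaf (.cyc (nat_lit 29) [(nat_lit 6624), (nat_lit 8545)]))) (.node (.leaf (.cyc (nat_lit 0) [(nat_lit 4446), (nat_lit 134)])) (.leaf (.cyc (nat_lit 6) [(nat_lit 4219), (nat_lit 9098)])))) (.node (.node (.leaf .df) (.leaf (.cyc (nat_lit 6) [(nat_lit 3707), (nat_lit 3706)]))) (.node (.leaf (.cyc (nat_lit 6) [(nat_lit 2297), (nat_lit 5849)])) (.leaf .df)))) (.node (.node (.node (.leaf .df) (.leaf (.cyc (nat_lit 8) [(nat_lit 8656), (nat_lit 8682), (nat_lit 8687), (nat_lit 5577), (nat_lit 3393)]))) (.node (.leaf (.cyc (nat_lit 6) [(nat_lit 1269), (nat_lit 4892)])) (.leaf .df))) (.node (.node (.leaf .df) (.leaf (.cyc (nat_lit 2) [(nat_lit 3982), (nat_lit 8483)]))) (.node (.leaf (.cyc (nat_lit 7) [(nat_lit 3149), (nat_lit 1186), (nat_lit 4676), (nat_lit 4631), (nat_lit 4632), (nat_lit 1043), (nat_lit 2826)])) (.leaf .df))))) (.node (.node (.node (.node (.leaf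 .df) (.leaf (.cyc (nat_lit 28) [(nat_lit 7501), (nat_lit 9059)]))) (.node (.leaf (.cyc (nat_lit 6) [(nat_lit 733), (nat_lit 732)])) (.leaf (.cyc (nat_lit 7) [(nat_lit 13077), (nat_lit 4100), (nat_lit 6401), (nat_lit 3419), (nat_lit 9649), (nat_lit 3466), (nat_lit 4325)])))) (.node (.node (.leaf .df) (.leaf (.cyc (nat_lit 31) [(nat_lit 1784), (nat_lit 1781), (nat_lit 11107), (nat_lit 776), (nat_lit 777), (nat_lit 5658), (nat_lit 3536)]))) (.node (.leaf (.cyc (nat_lit 2) [(nat_lit 2694), (nat_lit 2693)])) (.leaf .df)))) (.node (.node (.node (.leaf .df) (.leaf (.cyc (nat_lit 6) [(nat_lit 3605), (nat_lit 3604)]))) (.node (.leaf (.cyc (nat_lit 8) [(nat_lit 5988), (nat_lit 5552), (nat_lit 506), (nat_lit 504), (nat_lit 1473)])) (.leaf .df))) (.node (.node (.leaf .df) (.leaf (.cyc (nat_lit 3) [(nat_lit 3809), (nat_lit 10975), (nat_lit 2326), (nat_lit 2327), (nat_lit 12132)]))) (.node (.leaf (.cyc (nat_lit 4) [(nat_lit 8031), (nat_lit 6131), (nat_lit 7298), (nat_lit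 2856), (nat_lit 8036)])) (.leaf .df))))))) (.node (.node (.node (.node (.node (.node (.leaf .df) (.leaf (.cyc (nat_lit 28) [(nat_lit 6092), (nat_lit 8418), (nat_lit 5884)]))) (.node (.leaf .df) (.leaf (.cyc (nat_lit 2) [(nat_lit 4191), (nat_lit 10288)])))) (.node (.node (.leaf .df) (.leaf (.cyc (nat_lit 3) [(nat_lit 10466), (nat_lit 10468), (nat_lit 10218), (nat_lit 10217), (nat_lit 3674)]))) (.node (.leaf (.cyc (nat_lit 9) [(nat_lit 1940), (nat_lit 679), (nat_lit 4553), (nat_lit 770), (nat_lit 2177)])) (.leaf .df)))) (.node (.node (.node (.leaf .df) (.leaf (.cyc (nat_lit 14) [(nat_lit 6735), (nat_lit 9444)]))) (.node (.leaf (.cyc (nat_lit 23) [(nat_lit 4705), (nat_lit 4596), (nat_lit 4522), (nat_lit 135), (nat_lit 134), (nat_lit 4524), (nat_lit 673), (nat_lit 4915), (nat_lit 1151)])) (.leaf .df))) (.node (.node (.leaf .df) (.leaf (.cyc (nat_lit 14) [(nat_lit 9897), (nat_lit 11492)]))) (.node (.leaf (.cyc (nat_lit 9) [(nat_lit 7395), (nat_lit 2972), (nat_lit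 1105), (nat_lit 1106), (nat_lit 2976)])) (.leaf .df))))) (.node (.node (.node (.node (.leaf .df) (.leaf (.cyc (nat_lit 17) [(nat_lit 6241), (nat_lit 8930)]))) (.node (.leaf (.cyc (nat_lit 2) [(nat_lit 588), (nat_lit 587)])) (.leaf (.cyc (nat_lit 8) [(nat_lit 12290), (nat_lit 8561), (nat_lit 13026), (nat_lit 13028), (nat_lit 12097)])))) (.node (.node (.leaf .df) (.leaf (.cyc (nat_lit 20) [(nat_lit 3163), (nat_lit 8785), (nat_lit 2475), (nat_lit 10978), (nat_lit 2325), (nat_lit 6517), (nat_lit 6518)]))) (.node (.leaf (.cyc (nat_lit 5) [(nat_lit 2613), (nat_lit 2612)])) (.leaf .df)))) (.node (.node (.node (.leaf .df) (.leaf (.cyc (nat_lit 10) [(nat_lit 6023), (nat_lit 9263), (nat_lit 6588), (nat_lit 6587), (nat_lit 9956)]))) (.node (.leaf (.cyc (nat_lit 5) [(nat_lit 1618), (nat_lit 1617)])) (.leaf .df))) (.node (.node (.leaf .df) (.leaf (.cyc (nat_lit 8) [(nat_lit 11604), (nat_lit 11634), (nat_lit 12004), (nat_lit 12001), (nat_lit 12002)]))) (.node (.leaf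 (.cyc (nat_lit 28) [(nat_lit 1244), (nat_lit 7901)])) (.leaf .df)))))) (.node (.node (.node (.node (.node (.leaf .df) (.leaf (.cyc (nat_lit 28) [(nat_lit 6802), (nat_lit 8676)]))) (.node (.leaf (.cyc (nat_lit 7) [(nat_lit 285), (nat_lit 88), (nat_lit 24), (nat_lit 4359), (nat_lit 4360), (nat_lit 43), (nat_lit 141)])) (.leaf (.cyc (nat_lit 11) [(nat_lit 2762), (nat_lit 7080), (nat_lit 2736), (nat_lit 1006), (nat_lit 1007), (nat_lit 2740), (nat_lit 4248)])))) (.node (.node (.leaf .df) (.leaf (.cyc (nat_lit 1) [(nat_lit 9527), (nat_lit 3739)]))) (.node (.leaf (.cyc (nat_lit 3) [(nat_lit 6628), (nat_lit 2425), (nat_lit 5098), (nat_lit 5078), (nat_lit 2364)])) (.leaf .df)))) (.node (.node (.node (.leaf .df) (.leaf (.cyc (nat_lit 9) [(nat_lit 3436), (nat_lit 1365), (nat_lit 4739), (nat_lit 1370), (nat_lit 9693), (nat_lit 6535)]))) (.node (.leaf (.cyc (nat_lit 10) [(nat_lit 473), (nat_lit 150), (nat_lit 147), (nat_lit 463), (nat_lit 1355)])) (.leaf .df))) (.node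 (.node (.leaf .df) (.leaf (.cyc (nat_lit 13) [(nat_lit 11748), (nat_lit 4013), (nat_lit 11541), (nat_lit 3963), (nat_lit 6107), (nat_lit 11038), (nat_lit 11549)]))) (.node (.leaf (.cyc (nat_lit 5) [(nat_lit 3270), (nat_lit 3269)])) (.leaf .df))))) (.node (.node (.node (.node (.leaf .df) (.leaf (.cyc (nat_lit 28) [(nat_lit 1886), (nat_lit 9187)]))) (.node (.leaf (.cyc (nat_lit 6) [(nat_lit 5092), (nat_lit 4858)])) (.leaf .df))) (.node (.node (.leaf .df) (.leaf (.cyc (nat_lit 1) [(nat_lit 11190), (nat_lit 11236)]))) (.node (.leaf (.cyc (nat_lit 8) [(nat_lit 6970), (nat_lit 991), (nat_lit 993), (nat_lit 2716), (nat_lit 7140)])) (.leaf .df)))) (.node (.node (.node (.leaf .df) (.leaf (.cyc (nat_lit 19) [(nat_lit 3391), (nat_lit 10211)]))) (.node (.leaf (.cyc (nat_lit 2) [(nat_lit 1902), (nat_lit 1901)])) (.leaf .df))) (.node (.node (.leaf .df) (.leaf (.cyc (nat_lit 8) [(nat_lit 10868), (nat_lit 5887), (nat_lit 7813), (nat_lit 7450), (nat_lit 12260), (nat_lit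 9791)]))) (.node (.leaf (.cyc (nat_lit 0) [(nat_lit 7923), (nat_lit 8129)])) (.leaf .df))))))))
noncomputable def c4P101001 : BT Pf := .node c4P1010010 c4P1010011
noncomputable def c4P10100 : BT Pf := .node c4P101000 c4P101001
noncomputable def c4P1010100 : BT Pf := (.node (.node (.node (.node (.node (.node (.node (.leaf .df) (.leaf (.cyc (nat_lit 19) [(nat_lit 3043), (nat_lit 8205)]))) (.node (.leaf .df) (.leaf (.cyc (nat_lit 19) [(nat_lit 12182), (nat_lit 12304)])))) (.node (.node (.leaf .df) (.leaf (.cyc (nat_lit 11) [(nat_lit 3370), (nat_lit 5551), (nat_lit 5203), (nat_lit 4862), (nat_lit 1764), (nat_lit 10260), (nat_lit 7472)]))) (.node (.leaf (.cyc (nat_lit 2) [(nat_lit 1946), (nat_lit 1945)])) (.leaf .df)))) (.node (.node (.node (.leaf .df) (.leaf (.cyc (nat_lit 24) [(nat_lit 2111), (nat_lit 744), (nat_lit 4539), (nat_lit 740), (nat_lit 6116), (nat_lit 9168), (nat_lit 9234), (nat_lit 9236), (nat_lit 2143), (nat_lit 2141)]))) (.node (.leaf (.cyc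 (nat_lit 21) [(nat_lit 921), (nat_lit 4598), (nat_lit 4585), (nat_lit 4436), (nat_lit 343)])) (.leaf .df))) (.node (.node (.leaf .df) (.leaf (.cyc (nat_lit 25) [(nat_lit 3095), (nat_lit 11281)]))) (.node (.leaf (.cyc (nat_lit 1) [(nat_lit 6294), (nat_lit 2843)])) (.leaf .df))))) (.node (.node (.node (.node (.leaf .df) (.leaf (.cyc (nat_lit 17) [(nat_lit 7611), (nat_lit 8720), (nat_lit 4892)]))) (.node (.leaf (.cyc (nat_lit 5) [(nat_lit 347), (nat_lit 346)])) (.leaf (.cyc (nat_lit 14) [(nat_lit 12541), (nat_lit 4258)])))) (.node (.node (.leaf .df) (.leaf (.cyc (nat_lit 8) [(nat_lit 6838), (nat_lit 7374), (nat_lit 8881), (nat_lit 6553), (nat_lit 10752)]))) (.node (.leaf (.cyc (nat_lit 3) [(nat_lit 2457), (nat_lit 6676), (nat_lit 1114), (nat_lit 4675), (nat_lit 1185)])) (.leaf .df)))) (.node (.node (.node (.leaf .df) (.leaf (.cyc (nat_lit 11) [(nat_lit 2481), (nat_lit 895), (nat_lit 5514), (nat_lit 535), (nat_lit 4934), (nat_lit 1997), (nat_lit 9747), (nat_lit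 9741)]))) (.node (.leaf (.cyc (nat_lit 3) [(nat_lit 5642), (nat_lit 1403), (nat_lit 480), (nat_lit 482), (nat_lit 1412)])) (.leaf .df))) (.node (.node (.leaf .df) (.leaf (.cyc (nat_lit 8) [(nat_lit 3773), (nat_lit 5872), (nat_lit 5837), (nat_lit 9527), (nat_lit 11796), (nat_lit 11794)]))) (.node (.leaf (.cyc (nat_lit 29) [(nat_lit 1968), (nat_lit 7699)])) (.leaf .df)))))) (.node (.node (.node (.node (.node (.leaf .df) (.leaf (.cyc (nat_lit 25) [(nat_lit 7495), (nat_lit 8466)]))) (.node (.leaf (.cyc (nat_lit 7) [(nat_lit 19), (nat_lit 4), (nat_lit 4351), (nat_lit 0), (nat_lit 1), (nat_lit 8), (nat_lit 32)])) (.leaf (.cyc (nat_lit 13) [(nat_lit 10021), (nat_lit 5741), (nat_lit 10495), (nat_lit 11283), (nat_lit 11521), (nat_lit 11522), (nat_lit 4202)])))) (.node (.node (.leaf .df) (.leaf (.cyc (nat_lit 17) [(nat_lit 3654), (nat_lit 10516)]))) (.node (.leaf (.cyc (nat_lit 6) [(nat_lit 2225), (nat_lit 2224)])) (.leaf .df)))) (.node (.node (.node (.leaf .df)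 (.leaf (.cyc (nat_lit 6) [(nat_lit 3339), (nat_lit 3338)]))) (.node (.leaf (.cyc (nat_lit 9) [(nat_lit 1202), (nat_lit 4683), (nat_lit 325), (nat_lit 327), (nat_lit 979)])) (.leaf .df))) (.node (.node (.leaf .df) (.leaf (.cyc (nat_lit 8) [(nat_lit 11540), (nat_lit 8931), (nat_lit 8934), (nat_lit 4946), (nat_lit 2034)]))) (.node (.leaf (.cyc (nat_lit 9) [(nat_lit 2988), (nat_lit 5321), (nat_lit 5363), (nat_lit 5345), (nat_lit 3064)])) (.leaf .df))))) (.node (.node (.node (.node (.leaf .df) (.leaf (.cyc (nat_lit 4) [(nat_lit 8980), (nat_lit 1829), (nat_lit 638), (nat_lit 4813), (nat_lit 1607)]))) (.node (.leaf (.cyc (nat_lit 5) [(nat_lit 645), (nat_lit 644)])) (.leaf (.cyc (nat_lit 5) [(nat_lit 13076), (nat_lit 12283)])))) (.node (.node (.leaf .df) (.leaf (.cyc (nat_lit 19) [(nat_lit 2461), (nat_lit 11027)]))) (.node (.leaf (.cyc (nat_lit 17) [(nat_lit 6494), (nat_lit 6930), (nat_lit 5355)])) (.leaf .df)))) (.node (.node (.node (.leaf .df) (.leaf (.cyc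 (nat_lit 29) [(nat_lit 3125), (nat_lit 10003)]))) (.node (.leaf (.cyc (nat_lit 2) [(nat_lit 1671), (nat_lit 1670)])) (.leaf .df))) (.node (.node (.leaf .df) (.leaf (.cyc (nat_lit 8) [(nat_lit 12043), (nat_lit 2589), (nat_lit 5672), (nat_lit 2170), (nat_lit 4076)]))) (.node (.leaf (.cyc (nat_lit 25) [(nat_lit 1062), (nat_lit 7949)])) (.leaf .df))))))) (.node (.node (.node (.node (.node (.node (.leaf .df) (.leaf (.cyc (nat_lit 28) [(nat_lit 8215), (nat_lit 8339), (nat_lit 2404)]))) (.node (.leaf .df) (.leaf (.cyc (nat_lit 8) [(nat_lit 12030), (nat_lit 12436), (nat_lit 4174), (nat_lit 10094), (nat_lit 10423)])))) (.node (.node (.leaf .df) (.leaf (.cyc (nat_lit 10) [(nat_lit 2235), (nat_lit 5020), (nat_lit 2239), (nat_lit 8505), (nat_lit 3677)]))) (.node (.leaf (.cyc (nat_lit 11) [(nat_lit 1048), (nat_lit 352), (nat_lit 354), (nat_lit 5239), (nat_lit 5015), (nat_lit 4970), (nat_lit 2099)])) (.leaf .df)))) (.node (.node (.node (.leaf .df) (.leaf (.cyc (nat_lit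 6) [(nat_lit 9364), (nat_lit 9147)]))) (.node (.leaf (.cyc (nat_lit 0) [(nat_lit 5241), (nat_lit 1059)])) (.leaf .df))) (.node (.node (.leaf .df) (.leaf (.cyc (nat_lit 0) [(nat_lit 11370), (nat_lit 3922)]))) (.node (.leaf (.cyc (nat_lit 13) [(nat_lit 7316), (nat_lit 1102), (nat_lit 372), (nat_lit 4442), (nat_lit 366), (nat_lit 1091), (nat_lit 2946)])) (.leaf .df))))) (.node (.node (.node (.node (.leaf .df) (.leaf (.cyc (nat_lit 29) [(nat_lit 8328), (nat_lit 8852)]))) (.node (.leaf (.cyc (nat_lit 2) [(nat_lit 489), (nat_lit 488)])) (.leaf (.cyc (nat_lit 25) [(nat_lit 4245), (nat_lit 12945)])))) (.node (.node (.leaf .df) (.leaf (.cyc (nat_lit 9) [(nat_lit 10899), (nat_lit 6546), (nat_lit 8627), (nat_lit 5613), (nat_lit 3446)]))) (.node (.leaf (.cyc (nat_lit 8) [(nat_lit 2555), (nat_lit 2553), (nat_lit 6803), (nat_lit 2453), (nat_lit 2455)])) (.leaf .df)))) (.node (.node (.node (.leaf .df) (.leaf (.cyc (nat_lit 5) [(nat_lit 3531), (nat_lit 3530)]))) (.node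 (.leaf (.cyc (nat_lit 4) [(nat_lit 1525), (nat_lit 526), (nat_lit 4481), (nat_lit 4493), (nat_lit 583)])) (.leaf .df))) (.node (.node (.leaf .df) (.leaf (.cyc (nat_lit 11) [(nat_lit 4049), (nat_lit 6282), (nat_lit 10751), (nat_lit 11260), (nat_lit 11459), (nat_lit 6315), (nat_lit 4061)]))) (.node (.leaf (.cyc (nat_lit 17) [(nat_lit 3109), (nat_lit 7828)])) (.leaf .df)))))) (.node (.node (.node (.node (.node (.leaf .df) (.leaf (.cyc (nat_lit 19) [(nat_lit 1857), (nat_lit 8592), (nat_lit 1474)]))) (.node (.leaf (.cyc (nat_lit 4) [(nat_lit 197), (nat_lit 4394), (nat_lit 48), (nat_lit 50), (nat_lit 164)])) (.leaf (.cyc (nat_lit 8) [(nat_lit 11877), (nat_lit 11875), (nat_lit 2675), (nat_lit 2673), (nat_lit 4230)])))) (.node (.node (.leaf .df) (.leaf (.cyc (nat_lit 0) [(nat_lit 10627), (nat_lit 3726)]))) (.node (.leaf (.cyc (nat_lit 13) [(nat_lit 6548), (nat_lit 1362), (nat_lit 465), (nat_lit 463), (nat_lit 1354), (nat_lit 5604), (nat_lit 1374)])) (.leaf .df))))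 (.node (.node (.node (.leaf .df) (.leaf (.cyc (nat_lit 20) [(nat_lit 2270), (nat_lit 2272), (nat_lit 8124), (nat_lit 5699), (nat_lit 4729), (nat_lit 1340), (nat_lit 9606)]))) (.node (.leaf (.cyc (nat_lit 31) [(nat_lit 4850), (nat_lit 4852), (nat_lit 4787), (nat_lit 5524), (nat_lit 307), (nat_lit 305), (nat_lit 914)])) (.leaf .df))) (.node (.node (.leaf .df) (.leaf (.cyc (nat_lit 1) [(nat_lit 10735), (nat_lit 11667)]))) (.node (.leaf (.cyc (nat_lit 22) [(nat_lit 7572), (nat_lit 2708), (nat_lit 990), (nat_lit 4618), (nat_lit 992), (nat_lit 5756), (nat_lit 2411)])) (.leaf .df))))) (.node (.node (.node (.node (.leaf .df) (.leaf (.cyc (nat_lit 17) [(nat_lit 7210), (nat_lit 9106)]))) (.node (.leaf (.cyc (nat_lit 5) [(nat_lit 783), (nat_lit 782)])) (.leaf (.cyc (nat_lit 0) [(nat_lit 9885), (nat_lit 4335)])))) (.node (.node (.leaf .df) (.leaf (.cyc (nat_lit 0) [(nat_lit 10269), (nat_lit 11155)]))) (.node (.leaf (.cyc (nat_lit 25) [(nat_lit 6826), (nat_lit 7059)]))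 (.leaf .df)))) (.node (.node (.node (.leaf .df) (.leaf (.cyc (nat_lit 19) [(nat_lit 3009), (nat_lit 10130)]))) (.node (.leaf (.cyc (nat_lit 6) [(nat_lit 1812), (nat_lit 5549)])) (.leaf .df))) (.node (.node (.leaf .df) (.leaf (.cyc (nat_lit 22) [(nat_lit 12179), (nat_lit 2923), (nat_lit 8976), (nat_lit 10451), (nat_lit 10449), (nat_lit 11539), (nat_lit 11538)]))) (.node (.leaf (.cyc (nat_lit 28) [(nat_lit 3267), (nat_lit 8084)])) (.leaf .df))))))))
noncomputable def c4P1010101 : BT Pf := (.node (.node (.node (.node (.node (.node (.node (.leaf .df) (.leaf (.cyc (nat_lit 19) [(nat_lit 8053), (nat_lit 8272), (nat_lit 1945)]))) (.node (.leaf .df) (.leaf (.cyc (nat_lit 20) [(nat_lit 9850), (nat_lit 12250), (nat_lit 12251), (nat_lit 3986), (nat_lit 6183), (nat_lit 6648), (nat_lit 4158)])))) (.node (.node (.leaf .df) (.leaf (.cyc (nat_lit 4) [(nat_lit 3660), (nat_lit 6500), (nat_lit 1017), (nat_lit 5040), (nat_lit 2280)]))) (.node (.leaf (.cyc (nat_lit 10) [(nat_lit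 2011), (nat_lit 704), (nat_lit 4531), (nat_lit 706), (nat_lit 2016)])) (.leaf .df)))) (.node (.node (.node (.leaf .df) (.leaf (.cyc (nat_lit 13) [(nat_lit 3087), (nat_lit 9298), (nat_lit 5434), (nat_lit 5239), (nat_lit 4634), (nat_lit 1055), (nat_lit 2863)]))) (.node (.leaf (.cyc (nat_lit 5) [(nat_lit 992), (nat_lit 991)])) (.leaf .df))) (.node (.node (.leaf .df) (.leaf (.cyc (nat_lit 4) [(nat_lit 11019), (nat_lit 9360), (nat_lit 9359), (nat_lit 9354), (nat_lit 3909)]))) (.node (.leaf (.cyc (nat_lit 5) [(nat_lit 2918), (nat_lit 7252), (nat_lit 5937)])) (.leaf .df))))) (.node (.node (.node (.node (.leaf .df) (.leaf (.cyc (nat_lit 29) [(nat_lit 3159), (nat_lit 8787), (nat_lit 2508)]))) (.node (.leaf (.cyc (nat_lit 4) [(nat_lit 4516), (nat_lit 4524), (nat_lit 134), (nat_lit 4452), (nat_lit 420)])) (.leaf (.cyc (nat_lit 11) [(nat_lit 11267), (nat_lit 11268), (nat_lit 6265), (nat_lit 9214), (nat_lit 6135), (nat_lit 2998), (nat_lit 4271)])))) (.node (.node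 (.leaf .df) (.leaf (.cyc (nat_lit 2) [(nat_lit 3768), (nat_lit 3767)]))) (.node (.leaf (.cyc (nat_lit 5) [(nat_lit 2486), (nat_lit 2485)])) (.leaf .df)))) (.node (.node (.node (.leaf .df) (.leaf (.cyc (nat_lit 9) [(nat_lit 6983), (nat_lit 8856), (nat_lit 8854), (nat_lit 5638), (nat_lit 3490)]))) (.node (.leaf (.cyc (nat_lit 22) [(nat_lit 5687), (nat_lit 5715), (nat_lit 1370), (nat_lit 468), (nat_lit 4466), (nat_lit 472), (nat_lit 4743), (nat_lit 5106)])) (.leaf .df))) (.node (.node (.leaf .df) (.leaf (.cyc (nat_lit 5) [(nat_lit 11860), (nat_lit 11767)]))) (.node (.leaf (.cyc (nat_lit 19) [(nat_lit 7660), (nat_lit 7759), (nat_lit 5911)])) (.leaf .df)))))) (.node (.node (.node (.node (.node (.leaf .df) (.leaf (.cyc (nat_lit 17) [(nat_lit 2565), (nat_lit 8530)]))) (.node (.leaf (.cyc (nat_lit 8) [(nat_lit 4416), (nat_lit 4427), (nat_lit 33), (nat_lit 31), (nat_lit 110)])) (.leaf (.cyc (nat_lit 6) [(nat_lit 12627), (nat_lit 11563)])))) (.node (.node (.leaf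 .df) (.leaf (.cyc (nat_lit 28) [(nat_lit 3599), (nat_lit 10578)]))) (.node (.leaf (.cyc (nat_lit 2) [(nat_lit 2285), (nat_lit 2284)])) (.leaf .df)))) (.node (.node (.node (.leaf .df) (.leaf (.cyc (nat_lit 14) [(nat_lit 3380), (nat_lit 9556)]))) (.node (.leaf (.cyc (nat_lit 14) [(nat_lit 4888), (nat_lit 1257)])) (.leaf .df))) (.node (.node (.leaf .df) (.leaf (.cyc (nat_lit 10) [(nat_lit 11427), (nat_lit 9668), (nat_lit 11416), (nat_lit 11418), (nat_lit 3977)]))) (.node (.leaf (.cyc (nat_lit 2) [(nat_lit 3138), (nat_lit 3137)])) (.leaf .df))))) (.node (.node (.node (.node (.leaf .df) (.leaf (.cyc (nat_lit 6) [(nat_lit 9044), (nat_lit 7558)]))) (.node (.leaf (.cyc (nat_lit 20) [(nat_lit 269), (nat_lit 271), (nat_lit 4737), (nat_lit 4464), (nat_lit 4448), (nat_lit 401), (nat_lit 4948)])) (.leaf (.cyc (nat_lit 14) [(nat_lit 11115), (nat_lit 13140)])))) (.node (.node (.leaf .df) (.leaf (.cyc (nat_lit 11) [(nat_lit 7786), (nat_lit 5893), (nat_lit 7817), (nat_lit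 5983), (nat_lit 4848), (nat_lit 1726), (nat_lit 11092)]))) (.node (.leaf (.cyc (nat_lit 17) [(nat_lit 6989), (nat_lit 6996)])) (.leaf .df)))) (.node (.node (.node (.leaf .df) (.leaf (.cyc (nat_lit 21) [(nat_lit 10066), (nat_lit 10067), (nat_lit 8311), (nat_lit 6888), (nat_lit 6887)]))) (.node (.leaf (.cyc (nat_lit 1) [(nat_lit 5894), (nat_lit 1748)])) (.leaf .df))) (.node (.node (.leaf .df) (.leaf (.cyc (nat_lit 19) [(nat_lit 12054), (nat_lit 12113)]))) (.node (.leaf (.cyc (nat_lit 20) [(nat_lit 7780), (nat_lit 6363), (nat_lit 2136), (nat_lit 5491), (nat_lit 6411), (nat_lit 8008), (nat_lit 7206)])) (.leaf .df))))))) (.node (.node (.node (.node (.node (.node (.leaf .df) (.leaf (.cyc (nat_lit 19) [(nat_lit 2230), (nat_lit 8403)]))) (.node (.leaf .df) (.leaf (.cyc (nat_lit 29) [(nat_lit 12330), (nat_lit 12499)])))) (.node (.node (.leaf .df) (.leaf (.cyc (nat_lit 4) [(nat_lit 5805), (nat_lit 5806), (nat_lit 5800), (nat_lit 5798), (nat_lit 3688)]))) (.node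 (.leaf (.cyc (nat_lit 6) [(nat_lit 6356), (nat_lit 6260)])) (.leaf .df)))) (.node (.node (.node (.leaf .df) (.leaf (.cyc (nat_lit 29) [(nat_lit 2997), (nat_lit 9427)]))) (.node (.leaf (.cyc (nat_lit 6) [(nat_lit 1135), (nat_lit 1134)])) (.leaf .df))) (.node (.node (.leaf .df) (.leaf (.cyc (nat_lit 29) [(nat_lit 10046), (nat_lit 11475)]))) (.node (.leaf (.cyc (nat_lit 6) [(nat_lit 3019), (nat_lit 3018)])) (.leaf .df))))) (.node (.node (.node (.node (.leaf .df) (.leaf (.cyc (nat_lit 29) [(nat_lit 3017), (nat_lit 8916), (nat_lit 2502)]))) (.node (.leaf (.cyc (nat_lit 2) [(nat_lit 565), (nat_lit 564)])) (.leaf (.cyc (nat_lit 4) [(nat_lit 4295), (nat_lit 7770), (nat_lit 9470), (nat_lit 11012), (nat_lit 11030)])))) (.node (.node (.leaf .df) (.leaf (.cyc (nat_lit 7) [(nat_lit 3806), (nat_lit 5898), (nat_lit 7621), (nat_lit 5448), (nat_lit 7626), (nat_lit 5291), (nat_lit 2936)]))) (.node (.leaf (.cyc (nat_lit 15) [(nat_lit 2601), (nat_lit 5166), (nat_lit 885),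 (nat_lit 294), (nat_lit 296), (nat_lit 5513), (nat_lit 1545), (nat_lit 5800), (nat_lit 5806)])) (.leaf .df)))) (.node (.node (.node (.leaf .df) (.leaf (.cyc (nat_lit 17) [(nat_lit 9706), (nat_lit 9938)]))) (.node (.leaf (.cyc (nat_lit 5) [(nat_lit 1608), (nat_lit 1607)])) (.leaf .df))) (.node (.node (.leaf .df) (.leaf (.cyc (nat_lit 8) [(nat_lit 4076), (nat_lit 2170), (nat_lit 2172), (nat_lit 4079), (nat_lit 11988)]))) (.node (.leaf (.cyc (nat_lit 18) [(nat_lit 3279), (nat_lit 7892), (nat_lit 6520)])) (.leaf .df)))))) (.node (.node (.node (.node (.node (.leaf .df) (.leaf (.cyc (nat_lit 16) [(nat_lit 7411), (nat_lit 6579), (nat_lit 7172), (nat_lit 8558), (nat_lit 5568), (nat_lit 7682), (nat_lit 3297), (nat_lit 8650), (nat_lit 7377)]))) (.node (.leaf (.cyc (nat_lit 7) [(nat_lit 180), (nat_lit 54), (nat_lit 14), (nat_lit 16), (nat_lit 59), (nat_lit 4413), (nat_lit 268)])) (.leaf (.cyc (nat_lit 1) [(nat_lit 12653), (nat_lit 4245)])))) (.node (.node (.leaf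 .df) (.leaf (.cyc (nat_lit 13) [(nat_lit 6354), (nat_lit 5001), (nat_lit 6242), (nat_lit 8935), (nat_lit 1593), (nat_lit 1590), (nat_lit 3735)]))) (.node (.leaf (.cyc (nat_lit 2) [(nat_lit 2408), (nat_lit 2407)])) (.leaf .df)))) (.node (.node (.node (.leaf .df) (.leaf (.cyc (nat_lit 5) [(nat_lit 3437), (nat_lit 3436)]))) (.node (.leaf (.cyc (nat_lit 8) [(nat_lit 511), (nat_lit 509), (nat_lit 5588), (nat_lit 1335), (nat_lit 1337)])) (.leaf .df))) (.node (.node (.leaf .df) (.leaf (.cyc (nat_lit 10) [(nat_lit 2500), (nat_lit 5127), (nat_lit 9139), (nat_lit 9137), (nat_lit 4009)]))) (.node (.leaf (.cyc (nat_lit 14) [(nat_lit 6845), (nat_lit 7636)])) (.leaf .df))))) (.node (.node (.node (.node (.leaf .df) (.leaf (.cyc (nat_lit 29) [(nat_lit 6295), (nat_lit 9170)]))) (.node (.leaf (.cyc (nat_lit 10) [(nat_lit 286), (nat_lit 88), (nat_lit 85), (nat_lit 278), (nat_lit 842)])) (.leaf (.cyc (nat_lit 4) [(nat_lit 11515), (nat_lit 10419), (nat_lit 12833), (nat_lit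 12834), (nat_lit 4348)])))) (.node (.node (.leaf .df) (.leaf (.cyc (nat_lit 23) [(nat_lit 10592), (nat_lit 1842), (nat_lit 643), (nat_lit 4725), (nat_lit 1319), (nat_lit 5571), (nat_lit 8178), (nat_lit 1740), (nat_lit 3881)]))) (.node (.leaf (.cyc (nat_lit 2) [(nat_lit 2774), (nat_lit 2773)])) (.leaf .df)))) (.node (.node (.node (.leaf .df) (.leaf (.cyc (nat_lit 18) [(nat_lit 9158), (nat_lit 10194)]))) (.node (.leaf (.cyc (nat_lit 6) [(nat_lit 1879), (nat_lit 1878)])) (.leaf .df))) (.node (.node (.leaf .df) (.leaf (.cyc (nat_lit 19) [(nat_lit 4098), (nat_lit 12243)]))) (.node (.leaf (.cyc (nat_lit 3) [(nat_lit 7995), (nat_lit 8132), (nat_lit 2895), (nat_lit 7976), (nat_lit 5383), (nat_lit 3155)])) (.leaf .df))))))))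
noncomputable def c4P101010 : BT Pf := .node c4P1010100 c4P1010101
noncomputable def c4P1010110 : BT Pf := (.node (.node (.node (.node (.node (.node (.node (.leaf .df) (.leaf (.cyc (nat_lit 25) [(nat_lit 2752), (nat_lit 8237)]))) (.node (.leaf .df) (.leaf (.cyc (nat_lit 25) [(nat_lit 11318), (nat_lit 12338)])))) (.node (.node (.leaf .df) (.leaf (.cyc (nat_lit 5) [(nat_lit 3652), (nat_lit 3651)]))) (.node (.leaf (.cyc (nat_lit 9) [(nat_lit 6195), (nat_lit 1071), (nat_lit 4637), (nat_lit 666), (nat_lit 1910)])) (.leaf .df)))) (.node (.node (.node (.leaf .df) (.leaf (.cyc (nat_lit 19) [(nat_lit 8021), (nat_lit 9265), (nat_lit 7162)]))) (.node (.leaf (.cyc (nat_lit 5) [(nat_lit 5171), (nat_lit 4644)])) (.leaf .df))) (.node (.node (.leaf .df) (.leaf (.cyc (nat_lit 14) [(nat_lit 11273), (nat_lit 11316)]))) (.node (.leaf (.cyc (nat_lit 6) [(nat_lit 7220), (nat_lit 6888)])) (.leaf .df))))) (.node (.node (.node (.node (.leaf .df) (.leaf (.cyc (nat_lit 25) [(nat_lit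 7675), (nat_lit 8748)]))) (.node (.leaf (.cyc (nat_lit 6) [(nat_lit 383), (nat_lit 382)])) (.leaf (.cyc (nat_lit 29) [(nat_lit 12248), (nat_lit 12851)])))) (.node (.node (.leaf .df) (.leaf (.cyc (nat_lit 20) [(nat_lit 7488), (nat_lit 10549), (nat_lit 5861), (nat_lit 10803), (nat_lit 638), (nat_lit 639), (nat_lit 1832)]))) (.node (.leaf (.cyc (nat_lit 13) [(nat_lit 2248), (nat_lit 5032), (nat_lit 6701), (nat_lit 711), (nat_lit 4534), (nat_lit 4560), (nat_lit 794), (nat_lit 2241)])) (.leaf .df)))) (.node (.node (.node (.leaf .df) (.leaf (.cyc (nat_lit 13) [(nat_lit 7301), (nat_lit 8693), (nat_lit 1382), (nat_lit 471), (nat_lit 473), (nat_lit 1385), (nat_lit 3468)]))) (.node (.leaf (.cyc (nat_lit 11) [(nat_lit 514), (nat_lit 164), (nat_lit 50), (nat_lit 48), (nat_lit 160), (nat_lit 497), (nat_lit 1452)])) (.leaf .df))) (.node (.node (.leaf .df) (.leaf (.cyc (nat_lit 5) [(nat_lit 11828), (nat_lit 9504)]))) (.node (.leaf (.cyc (nat_lit 7) [(nat_lit 3332),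 (nat_lit 5481), (nat_lit 5500), (nat_lit 5498), (nat_lit 5113), (nat_lit 2439), (nat_lit 6833)])) (.leaf .df)))))) (.node (.node (.node (.node (.node (.leaf .df) (.leaf (.cyc (nat_lit 3) [(nat_lit 8500), (nat_lit 8499), (nat_lit 1991), (nat_lit 8413), (nat_lit 5793)]))) (.node (.leaf (.cyc (nat_lit 0) [(nat_lit 4381), (nat_lit 73)])) (.leaf (.cyc (nat_lit 11) [(nat_lit 3381), (nat_lit 8859), (nat_lit 9541), (nat_lit 9540), (nat_lit 3383), (nat_lit 12596), (nat_lit 12594)])))) (.node (.node (.leaf .df) (.leaf (.cyc (nat_lit 4) [(nat_lit 10548), (nat_lit 2634), (nat_lit 5182), (nat_lit 5181), (nat_lit 1617)]))) (.node (.leaf (.cyc (nat_lit 3) [(nat_lit 6440), (nat_lit 6450), (nat_lit 6451), (nat_lit 985), (nat_lit 986)])) (.leaf .df)))) (.node (.node (.node (.leaf .df) (.leaf (.cyc (nat_lit 3) [(nat_lit 8949), (nat_lit 8944), (nat_lit 1296), (nat_lit 1298), (nat_lit 3365)]))) (.node (.leaf (.cyc (nat_lit 5) [(nat_lit 1233), (nat_lit 1232)])) (.leaf .df)))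 (.node (.node (.leaf .df) (.leaf (.cyc (nat_lit 8) [(nat_lit 3967), (nat_lit 7058), (nat_lit 8887), (nat_lit 8889), (nat_lit 2094)]))) (.node (.leaf (.cyc (nat_lit 3) [(nat_lit 6568), (nat_lit 6537), (nat_lit 6565), (nat_lit 6941), (nat_lit 3100)])) (.leaf .df))))) (.node (.node (.node (.node (.leaf .df) (.leaf (.cyc (nat_lit 25) [(nat_lit 2827), (nat_lit 9000)]))) (.node (.leaf (.cyc (nat_lit 2) [(nat_lit 676), (nat_lit 675)])) (.leaf (.cyc (nat_lit 3) [(nat_lit 13106), (nat_lit 13108), (nat_lit 11844), (nat_lit 12548), (nat_lit 13093), (nat_lit 13097)])))) (.node (.node (.leaf .df) (.leaf (.cyc (nat_lit 20) [(nat_lit 7203), (nat_lit 10205), (nat_lit 10203), (nat_lit 1691), (nat_lit 1689), (nat_lit 3823), (nat_lit 11060)]))) (.node (.leaf (.cyc (nat_lit 11) [(nat_lit 987), (nat_lit 329), (nat_lit 104), (nat_lit 102), (nat_lit 323), (nat_lit 967), (nat_lit 2650)])) (.leaf .df)))) (.node (.node (.node (.leaf .df) (.leaf (.cyc (nat_lit 14) [(nat_lit 9211),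 (nat_lit 10036)]))) (.node (.leaf (.cyc (nat_lit 28) [(nat_lit 5938), (nat_lit 5940)])) (.leaf .df))) (.node (.node (.leaf .df) (.leaf (.cyc (nat_lit 22) [(nat_lit 12084), (nat_lit 11126), (nat_lit 11419), (nat_lit 1930), (nat_lit 4916), (nat_lit 5353), (nat_lit 3076)]))) (.node (.leaf (.cyc (nat_lit 18) [(nat_lit 7294), (nat_lit 7984)])) (.leaf .df))))))) (.node (.node (.node (.node (.node (.node (.leaf .df) (.leaf (.cyc (nat_lit 4) [(nat_lit 8371), (nat_lit 2021), (nat_lit 7835), (nat_lit 1794), (nat_lit 1792)]))) (.node (.leaf .df) (.leaf (.cyc (nat_lit 8) [(nat_lit 9975), (nat_lit 9368), (nat_lit 2513), (nat_lit 2512), (nat_lit 4181)])))) (.node (.node (.leaf .df) (.leaf (.cyc (nat_lit 11) [(nat_lit 3477), (nat_lit 1388), (nat_lit 5192), (nat_lit 970), (nat_lit 6982), (nat_lit 3564), (nat_lit 10419)]))) (.node (.leaf (.cyc (nat_lit 14) [(nat_lit 5004), (nat_lit 2130)])) (.leaf .df)))) (.node (.node (.node (.leaf .df) (.leaf (.cyc (nat_lit 25) [(nat_lit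 7544), (nat_lit 9395)]))) (.node (.leaf (.cyc (nat_lit 1) [(nat_lit 5119), (nat_lit 1095)])) (.leaf .df))) (.node (.node (.leaf .df) (.leaf (.cyc (nat_lit 22) [(nat_lit 3928), (nat_lit 8595), (nat_lit 7037), (nat_lit 10239), (nat_lit 10608), (nat_lit 7363), (nat_lit 10604)]))) (.node (.leaf (.cyc (nat_lit 20) [(nat_lit 1358), (nat_lit 5057), (nat_lit 5058), (nat_lit 7348), (nat_lit 6273), (nat_lit 6275), (nat_lit 6274)])) (.leaf .df))))) (.node (.node (.node (.node (.leaf .df) (.leaf (.cyc (nat_lit 29) [(nat_lit 2092), (nat_lit 8884), (nat_lit 3255)]))) (.node (.leaf (.cyc (nat_lit 10) [(nat_lit 181), (nat_lit 54), (nat_lit 51), (nat_lit 169), (nat_lit 526)])) (.leaf (.cyc (nat_lit 6) [(nat_lit 12980), (nat_lit 10685)])))) (.node (.node (.leaf .df) (.leaf (.cyc (nat_lit 20) [(nat_lit 2592), (nat_lit 941), (nat_lit 314), (nat_lit 311), (nat_lit 934), (nat_lit 10923), (nat_lit 10920), (nat_lit 10928)]))) (.node (.leaf (.cyc (nat_lit 3) [(nat_lit 5316),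 (nat_lit 877), (nat_lit 875), (nat_lit 5161), (nat_lit 2583)])) (.leaf .df)))) (.node (.node (.node (.leaf .df) (.leaf (.cyc (nat_lit 2) [(nat_lit 3544), (nat_lit 9819)]))) (.node (.leaf (.cyc (nat_lit 1) [(nat_lit 4842), (nat_lit 1561)])) (.leaf .df))) (.node (.node (.leaf .df) (.leaf (.cyc (nat_lit 19) [(nat_lit 11064), (nat_lit 11955)]))) (.node (.leaf (.cyc (nat_lit 29) [(nat_lit 6817), (nat_lit 7857), (nat_lit 6800)])) (.leaf .df)))))) (.node (.node (.node (.node (.node (.leaf .df) (.leaf (.cyc (nat_lit 2) [(nat_lit 8628), (nat_lit 5706)]))) (.node (.leaf (.cyc (nat_lit 20) [(nat_lit 185), (nat_lit 56), (nat_lit 15), (nat_lit 4354), (nat_lit 19), (nat_lit 70), (nat_lit 230)])) (.leaf (.cyc (nat_lit 23) [(nat_lit 2925), (nat_lit 2927), (nat_lit 11506), (nat_lit 11807), (nat_lit 4030), (nat_lit 4031), (nat_lit 11811), (nat_lit 11530), (nat_lit 4236)])))) (.node (.node (.leaf .df) (.leaf (.cyc (nat_lit 33) [(nat_lit 5962), (nat_lit 7004), (nat_lit 10670),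 (nat_lit 9583), (nat_lit 9582), (nat_lit 1567), (nat_lit 1568), (nat_lit 3714)]))) (.node (.leaf (.cyc (nat_lit 6) [(nat_lit 2368), (nat_lit 2367)])) (.leaf .df)))) (.node (.node (.node (.leaf .df) (.leaf (.cyc (nat_lit 2) [(nat_lit 3420), (nat_lit 8844)]))) (.node (.leaf (.cyc (nat_lit 23) [(nat_lit 4869), (nat_lit 4509), (nat_lit 4507), (nat_lit 198), (nat_lit 4460), (nat_lit 442), (nat_lit 1292), (nat_lit 5534), (nat_lit 1306)])) (.leaf .df))) (.node (.node (.leaf .df) (.leaf (.cyc (nat_lit 3) [(nat_lit 11700), (nat_lit 11369), (nat_lit 11370), (nat_lit 11373), (nat_lit 11372)]))) (.node (.leaf (.cyc (nat_lit 6) [(nat_lit 3225), (nat_lit 3224)])) (.leaf .df))))) (.node (.node (.node (.node (.leaf .df) (.leaf (.cyc (nat_lit 13) [(nat_lit 6255), (nat_lit 9140), (nat_lit 9132), (nat_lit 2450), (nat_lit 875), (nat_lit 877), (nat_lit 5316), (nat_lit 2982)]))) (.node (.leaf (.cyc (nat_lit 19) [(nat_lit 4877), (nat_lit 5042)])) (.leaf (.cyc (nat_lit 6) [(nat_lit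 13236), (nat_lit 12368)])))) (.node (.node (.leaf .df) (.leaf (.cyc (nat_lit 2) [(nat_lit 3869), (nat_lit 3868)]))) (.node (.leaf (.cyc (nat_lit 3) [(nat_lit 7090), (nat_lit 7092), (nat_lit 5292), (nat_lit 4646), (nat_lit 1098)])) (.leaf .df)))) (.node (.node (.node (.leaf .df) (.leaf (.cyc (nat_lit 18) [(nat_lit 2507), (nat_lit 10163)]))) (.node (.leaf (.cyc (nat_lit 2) [(nat_lit 1844), (nat_lit 1843)])) (.leaf .df))) (.node (.node (.leaf .df) (.leaf (.cyc (nat_lit 9) [(nat_lit 3920), (nat_lit 6057), (nat_lit 6041), (nat_lit 9765), (nat_lit 4130)]))) (.node (.leaf (.cyc (nat_lit 19) [(nat_lit 1891), (nat_lit 8116)])) (.leaf .df))))))))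
noncomputable def c4P1010111 : BT Pf := (.node (.node (.node (.node (.node (.node (.node (.leaf .df) (.leaf (.cyc (nat_lit 29) [(nat_lit 7672), (nat_lit 8298)]))) (.node (.leaf .df) (.leaf (.cyc (nat_lit 8) [(nat_lit 4167), (nat_lit 10052), (nat_lit 3584), (nat_lit 11696), (nat_lit 12238)])))) (.node (.node (.leaf .df) (.leaf (.cyc (nat_lit 16) [(nat_lit 5792), (nat_lit 540), (nat_lit 173), (nat_lit 4388), (nat_lit 168), (nat_lit 4493), (nat_lit 583), (nat_lit 5781), (nat_lit 3672), (nat_lit 10356)]))) (.node (.leaf (.cyc (nat_lit 3) [(nat_lit 2054), (nat_lit 6260), (nat_lit 4997), (nat_lit 4557), (nat_lit 778)])) (.leaf .df)))) (.node (.node (.node (.leaf .df) (.leaf (.cyc (nat_lit 8) [(nat_lit 6045), (nat_lit 8370), (nat_lit 9332), (nat_lit 3117), (nat_lit 3119)]))) (.node (.leaf (.cyc (nat_lit 9) [(nat_lit 1030), (nat_lit 347), (nat_lit 109), (nat_lit 111), (nat_lit 354)])) (.leaf .df))) (.node (.node (.leaf .df) (.leaf (.cyc (nat_lit 4) [(nat_lit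 11321), (nat_lit 6550), (nat_lit 8452), (nat_lit 8433), (nat_lit 3918)]))) (.node (.leaf (.cyc (nat_lit 8) [(nat_lit 1721), (nat_lit 4846), (nat_lit 5928), (nat_lit 7283), (nat_lit 7282)])) (.leaf .df))))) (.node (.node (.node (.node (.leaf .df) (.leaf (.cyc (nat_lit 29) [(nat_lit 2629), (nat_lit 8819)]))) (.node (.leaf (.cyc (nat_lit 1) [(nat_lit 4721), (nat_lit 452)])) (.leaf (.cyc (nat_lit 20) [(nat_lit 4096), (nat_lit 2200), (nat_lit 2197), (nat_lit 4092), (nat_lit 12056), (nat_lit 11431), (nat_lit 4277)])))) (.node (.node (.leaf .df) (.leaf (.cyc (nat_lit 7) [(nat_lit 10618), (nat_lit 1631), (nat_lit 566), (nat_lit 4489), (nat_lit 569), (nat_lit 1639), (nat_lit 3778)]))) (.node (.leaf (.cyc (nat_lit 8) [(nat_lit 1752), (nat_lit 4859), (nat_lit 4858), (nat_lit 911), (nat_lit 2527)])) (.leaf .df)))) (.node (.node (.node (.leaf .df) (.leaf (.cyc (nat_lit 5) [(nat_lit 3513), (nat_lit 9536)]))) (.node (.leaf (.cyc (nat_lit 5) [(nat_lit 1498), (nat_lit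 1497)])) (.leaf .df))) (.node (.node (.leaf .df) (.leaf (.cyc (nat_lit 19) [(nat_lit 3764), (nat_lit 11891)]))) (.node (.leaf (.cyc (nat_lit 25) [(nat_lit 6835), (nat_lit 7794)])) (.leaf .df)))))) (.node (.node (.node (.node (.node (.leaf .df) (.leaf (.cyc (nat_lit 20) [(nat_lit 7037), (nat_lit 6884), (nat_lit 5235), (nat_lit 8287), (nat_lit 8274), (nat_lit 7089), (nat_lit 8563)]))) (.node (.leaf (.cyc (nat_lit 2) [(nat_lit 154), (nat_lit 153)])) (.leaf (.cyc (nat_lit 7) [(nat_lit 12192), (nat_lit 2656), (nat_lit 6909), (nat_lit 6911), (nat_lit 6910), (nat_lit 2667), (nat_lit 4224)])))) (.node (.node (.leaf .df) (.leaf (.cyc (nat_lit 11) [(nat_lit 2438), (nat_lit 5100), (nat_lit 6649), (nat_lit 6183), (nat_lit 10612), (nat_lit 9516), (nat_lit 9487)]))) (.node (.leaf (.cyc (nat_lit 4) [(nat_lit 826), (nat_lit 272), (nat_lit 270), (nat_lit 819), (nat_lit 2306)])) (.leaf .df)))) (.node (.node (.node (.leaf .df) (.leaf (.cyc (nat_lit 14) [(nat_lit 8137),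 (nat_lit 3399)]))) (.node (.leaf (.cyc (nat_lit 13) [(nat_lit 1050), (nat_lit 353), (nat_lit 4439), (nat_lit 4541), (nat_lit 4540), (nat_lit 4709), (nat_lit 1284)])) (.leaf .df))) (.node (.node (.leaf .df) (.leaf (.cyc (nat_lit 2) [(nat_lit 3985), (nat_lit 10082)]))) (.node (.leaf (.cyc (nat_lit 5) [(nat_lit 3168), (nat_lit 3167)])) (.leaf .df))))) (.node (.node (.node (.node (.leaf .df) (.leaf (.cyc (nat_lit 3) [(nat_lit 6130), (nat_lit 9072), (nat_lit 9076), (nat_lit 1975), (nat_lit 1977)]))) (.node (.leaf (.cyc (nat_lit 2) [(nat_lit 758), (nat_lit 757)])) (.leaf (.cyc (nat_lit 11) [(nat_lit 9862), (nat_lit 11837), (nat_lit 8153), (nat_lit 9779), (nat_lit 12875), (nat_lit 12928), (nat_lit 4328)])))) (.node (.node (.leaf .df) (.leaf (.cyc (nat_lit 4) [(nat_lit 2747), (nat_lit 5222), (nat_lit 2749), (nat_lit 7587), (nat_lit 11124)]))) (.node (.leaf (.cyc (nat_lit 2) [(nat_lit 2710), (nat_lit 2709)])) (.leaf .df)))) (.node (.node (.node (.leaf .df) (.leaf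 (.cyc (nat_lit 3) [(nat_lit 10100), (nat_lit 8316), (nat_lit 1957), (nat_lit 4924), (nat_lit 1954)]))) (.node (.leaf (.cyc (nat_lit 18) [(nat_lit 758), (nat_lit 6003)])) (.leaf .df))) (.node (.node (.leaf .df) (.leaf (.cyc (nat_lit 13) [(nat_lit 7124), (nat_lit 2582), (nat_lit 937), (nat_lit 4601), (nat_lit 932), (nat_lit 6455), (nat_lit 4116)]))) (.node (.leaf (.cyc (nat_lit 19) [(nat_lit 7149), (nat_lit 8052)])) (.leaf .df))))))) (.node (.node (.node (.node (.node (.node (.leaf .df) (.leaf (.cyc (nat_lit 29) [(nat_lit 6123), (nat_lit 8435), (nat_lit 1826)]))) (.node (.leaf .df) (.leaf (.cyc (nat_lit 2) [(nat_lit 4195), (nat_lit 11809)])))) (.node (.node (.leaf .df) (.leaf (.cyc (nat_lit 4) [(nat_lit 2797), (nat_lit 5245), (nat_lit 5269), (nat_lit 5808), (nat_lit 3691)]))) (.node (.leaf (.cyc (nat_lit 10) [(nat_lit 1966), (nat_lit 687), (nat_lit 684), (nat_lit 5006), (nat_lit 2190)])) (.leaf .df)))) (.node (.node (.node (.leaf .df) (.leaf (.cyc (nat_lit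 3) [(nat_lit 3204), (nat_lit 6801), (nat_lit 9457), (nat_lit 9458), (nat_lit 7462)]))) (.node (.leaf (.cyc (nat_lit 13) [(nat_lit 5352), (nat_lit 5351), (nat_lit 391), (nat_lit 389), (nat_lit 1143), (nat_lit 5342), (nat_lit 1164)])) (.leaf .df))) (.node (.node (.leaf .df) (.leaf (.cyc (nat_lit 8) [(nat_lit 3954), (nat_lit 6097), (nat_lit 1271), (nat_lit 1270), (nat_lit 3324)]))) (.node (.leaf (.cyc (nat_lit 5) [(nat_lit 3045), (nat_lit 3044)])) (.leaf .df))))) (.node (.node (.node (.node (.leaf .df) (.leaf (.cyc (nat_lit 31) [(nat_lit 1599), (nat_lit 1596), (nat_lit 8948), (nat_lit 2901), (nat_lit 5279), (nat_lit 8128), (nat_lit 5768)]))) (.node (.leaf (.cyc (nat_lit 2) [(nat_lit 605), (nat_lit 604)])) (.leaf (.cyc (nat_lit 14) [(nat_lit 12880), (nat_lit 4301)])))) (.node (.node (.leaf .df) (.leaf (.cyc (nat_lit 3) [(nat_lit 10995), (nat_lit 10996), (nat_lit 3751), (nat_lit 10536), (nat_lit 9567)]))) (.node (.leaf (.cyc (nat_lit 4) [(nat_lit 1460), (nat_lit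 499), (nat_lit 497), (nat_lit 5713), (nat_lit 2627)])) (.leaf .df)))) (.node (.node (.node (.leaf .df) (.leaf (.cyc (nat_lit 21) [(nat_lit 9971), (nat_lit 9972), (nat_lit 7805), (nat_lit 1624), (nat_lit 1622)]))) (.node (.leaf (.cyc (nat_lit 1) [(nat_lit 5795), (nat_lit 1637)])) (.leaf .df))) (.node (.node (.leaf .df) (.leaf (.cyc (nat_lit 2) [(nat_lit 12020), (nat_lit 12018)]))) (.node (.leaf (.cyc (nat_lit 15) [(nat_lit 3271), (nat_lit 7922), (nat_lit 4951), (nat_lit 4632), (nat_lit 4677), (nat_lit 5088), (nat_lit 5089), (nat_lit 1037), (nat_lit 2812)])) (.leaf .df)))))) (.node (.node (.node (.node (.node (.leaf .df) (.leaf (.cyc (nat_lit 5) [(nat_lit 8692), (nat_lit 7300)]))) (.node (.leaf (.cyc (nat_lit 5) [(nat_lit 306), (nat_lit 305)])) (.leaf (.cyc (nat_lit 4) [(nat_lit 3477), (nat_lit 3474), (nat_lit 12355), (nat_lit 12787), (nat_lit 12788)])))) (.node (.node (.leaf .df) (.leaf (.cyc (nat_lit 4) [(nat_lit 2084), (nat_lit 735), (nat_lit 732), (nat_lit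 2077), (nat_lit 10739), (nat_lit 3748)]))) (.node (.leaf (.cyc (nat_lit 25) [(nat_lit 2430), (nat_lit 6643)])) (.leaf .df)))) (.node (.node (.node (.leaf .df) (.leaf (.cyc (nat_lit 3) [(nat_lit 9714), (nat_lit 9716), (nat_lit 3152), (nat_lit 1188), (nat_lit 1190), (nat_lit 3158)]))) (.node (.leaf (.cyc (nat_lit 2) [(nat_lit 1375), (nat_lit 1374)])) (.leaf .df))) (.node (.node (.leaf .df) (.leaf (.cyc (nat_lit 1) [(nat_lit 11421), (nat_lit 11764)]))) (.node (.leaf (.cyc (nat_lit 0) [(nat_lit 7658), (nat_lit 3286)])) (.leaf .df))))) (.node (.node (.node (.node (.leaf .df) (.leaf (.cyc (nat_lit 29) [(nat_lit 6333), (nat_lit 9200)]))) (.node (.leaf (.cyc (nat_lit 6) [(nat_lit 882), (nat_lit 881)])) (.leaf .df))) (.node (.node (.leaf .df) (.leaf (.cyc (nat_lit 25) [(nat_lit 10952), (nat_lit 11249)]))) (.node (.leaf (.cyc (nat_lit 26) [(nat_lit 1130), (nat_lit 4662), (nat_lit 1135), (nat_lit 5334), (nat_lit 5253), (nat_lit 5254), (nat_lit 5257), (nat_lit 1033),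 (nat_lit 2801)])) (.leaf .df)))) (.node (.node (.node (.leaf .df) (.leaf (.cyc (nat_lit 2) [(nat_lit 10228), (nat_lit 9384)]))) (.node (.leaf (.cyc (nat_lit 4) [(nat_lit 1110), (nat_lit 4911), (nat_lit 671), (nat_lit 672), (nat_lit 1923)])) (.leaf .df))) (.node (.node (.leaf .df) (.leaf (.cyc (nat_lit 22) [(nat_lit 12276), (nat_lit 3785), (nat_lit 11476), (nat_lit 5692), (nat_lit 3594), (nat_lit 10055), (nat_lit 7075)]))) (.node (.leaf (.cyc (nat_lit 28) [(nat_lit 7925), (nat_lit 8180)])) (.leaf .df))))))))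
noncomputable def c4P101011 : BT Pf := .node c4P1010110 c4P1010111
noncomputable def c4P10101 : BT Pf := .node c4P101010 c4P101011
noncomputable def c4P1010 : BT Pf := .node c4P10100 c4P10101
noncomputable def c4P1011000 : BT Pf := (.node (.node (.node (.node (.node (.node (.node (.leaf .df) (.leaf (.cyc (nat_lit 19) [(nat_lit 2766), (nat_lit 8200), (nat_lit 3043)]))) (.node (.leaf .df) (.leaf (.cyc (nat_lit 18) [(nat_lit 3982), (nat_lit 12296)])))) (.node (.node (.leaf .df) (.leaf (.cyc (nat_lit 1) [(nat_lit 9843), (nat_lit 10252)]))) (.node (.leaf (.cyc (nat_lit 8) [(nat_lit 1935), (nat_lit 4918), (nat_lit 438), (nat_lit 436), (nat_lit 4983)])) (.leaf .df)))) (.node (.node (.node (.leaf .df) (.leaf (.cyc (nat_lit 2) [(nat_lit 9195), (nat_lit 6108)]))) (.node (.leaf (.cyc (nat_lit 0) [(nat_lit 5085), (nat_lit 911)])) (.leaf .df))) (.node (.node (.leaf .df) (.leaf (.cyc (nat_lit 6) [(nat_lit 11276), (nat_lit 11160)]))) (.node (.leaf (.cyc (nat_lit 1)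 [(nat_lit 5279), (nat_lit 2824)])) (.leaf .df))))) (.node (.node (.node (.node (.leaf .df) (.leaf (.cyc (nat_lit 25) [(nat_lit 7592), (nat_lit 8709)]))) (.node (.leaf (.cyc (nat_lit 6) [(nat_lit 338), (nat_lit 337)])) (.leaf (.cyc (nat_lit 5) [(nat_lit 12811), (nat_lit 12810)])))) (.node (.node (.leaf .df) (.leaf (.cyc (nat_lit 17) [(nat_lit 10642), (nat_lit 10762)]))) (.node (.leaf (.cyc (nat_lit 1) [(nat_lit 5317), (nat_lit 2451)])) (.leaf .df)))) (.node (.node (.node (.leaf .df) (.leaf (.cyc (nat_lit 6) [(nat_lit 3458), (nat_lit 3457)]))) (.node (.leaf (.cyc (nat_lit 0) [(nat_lit 4990), (nat_lit 1407)])) (.leaf .df))) (.node (.node (.leaf .df) (.leaf (.cyc (nat_lit 2) [(nat_lit 4023), (nat_lit 9221)]))) (.node (.leaf (.cyc (nat_lit 5) [(nat_lit 3301), (nat_lit 5727)])) (.leaf .df)))))) (.node (.node (.node (.node (.node (.leaf .df) (.leaf (.cyc (nat_lit 31) [(nat_lit 3105), (nat_lit 5368), (nat_lit 7826), (nat_lit 8453), (nat_lit 832), (nat_lit 4573),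 (nat_lit 835), (nat_lit 2350)]))) (.node (.leaf (.cyc (nat_lit 6) [(nat_lit 21), (nat_lit 20)])) (.leaf (.cyc (nat_lit 0) [(nat_lit 4200), (nat_lit 12556)])))) (.node (.node (.leaf .df) (.leaf (.cyc (nat_lit 3) [(nat_lit 3217), (nat_lit 9093), (nat_lit 9091), (nat_lit 7327), (nat_lit 10508)]))) (.node (.leaf (.cyc (nat_lit 5) [(nat_lit 2216), (nat_lit 2215)])) (.leaf .df)))) (.node (.node (.node (.leaf .df) (.leaf (.cyc (nat_lit 22) [(nat_lit 3314), (nat_lit 7454), (nat_lit 7875), (nat_lit 7353), (nat_lit 2357), (nat_lit 5071), (nat_lit 1493)]))) (.node (.leaf (.cyc (nat_lit 19) [(nat_lit 4690), (nat_lit 5388), (nat_lit 887)])) (.leaf .df))) (.node (.node (.leaf .df) (.leaf (.cyc (nat_lit 8) [(nat_lit 3959), (nat_lit 6102), (nat_lit 1529), (nat_lit 1527), (nat_lit 3673)]))) (.node (.leaf (.cyc (nat_lit 3) [(nat_lit 6444), (nat_lit 6443), (nat_lit 7436), (nat_lit 1182), (nat_lit 4674), (nat_lit 1179)])) (.leaf .df))))) (.node (.node (.node (.node (.leaf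 .df) (.leaf (.cyc (nat_lit 29) [(nat_lit 2921), (nat_lit 8972), (nat_lit 2480)]))) (.node (.leaf (.cyc (nat_lit 8) [(nat_lit 4775), (nat_lit 614), (nat_lit 4875), (nat_lit 635), (nat_lit 637)])) (.leaf (.cyc (nat_lit 11) [(nat_lit 4059), (nat_lit 2119), (nat_lit 5451), (nat_lit 1247), (nat_lit 7665), (nat_lit 3336), (nat_lit 4306)])))) (.node (.node (.leaf .df) (.leaf (.cyc (nat_lit 5) [(nat_lit 3814), (nat_lit 3813)]))) (.node (.leaf (.cyc (nat_lit 1) [(nat_lit 5987), (nat_lit 6915)])) (.leaf .df)))) (.node (.node (.node (.leaf .df) (.leaf (.cyc (nat_lit 6) [(nat_lit 3576), (nat_lit 8094)]))) (.node (.leaf (.cyc (nat_lit 8) [(nat_lit 1662), (nat_lit 4827), (nat_lit 5437), (nat_lit 5429), (nat_lit 5428)])) (.leaf .df))) (.node (.node (.leaf .df) (.leaf (.cyc (nat_lit 24) [(nat_lit 2590), (nat_lit 5163), (nat_lit 2594), (nat_lit 6855), (nat_lit 6368), (nat_lit 2589), (nat_lit 12043), (nat_lit 12044), (nat_lit 3568), (nat_lit 3566)]))) (.node (.leaf (.cyc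 (nat_lit 17) [(nat_lit 2865), (nat_lit 7942), (nat_lit 5272)])) (.leaf .df))))))) (.node (.node (.node (.node (.node (.node (.leaf .df) (.leaf (.cyc (nat_lit 27) [(nat_lit 2383), (nat_lit 8323), (nat_lit 1996), (nat_lit 4932), (nat_lit 4933), (nat_lit 4546), (nat_lit 750), (nat_lit 2125)]))) (.node (.leaf .df) (.leaf (.cyc (nat_lit 0) [(nat_lit 12108), (nat_lit 12428)])))) (.node (.node (.leaf .df) (.leaf (.cyc (nat_lit 5) [(nat_lit 10380), (nat_lit 7128)]))) (.node (.leaf (.cyc (nat_lit 20) [(nat_lit 2058), (nat_lit 722), (nat_lit 235), (nat_lit 4404), (nat_lit 239), (nat_lit 736), (nat_lit 2086)])) (.leaf .df)))) (.node (.node (.node (.leaf .df) (.leaf (.cyc (nat_lit 29) [(nat_lit 1876), (nat_lit 9355)]))) (.node (.leaf (.cyc (nat_lit 2) [(nat_lit 1048), (nat_lit 1047)])) (.leaf .df))) (.node (.node (.leaf .df) (.leaf (.cyc (nat_lit 13) [(nat_lit 10064), (nat_lit 5729), (nat_lit 10109), (nat_lit 6161), (nat_lit 5730), (nat_lit 8603), (nat_lit 3919)])))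 (.node (.leaf (.cyc (nat_lit 1) [(nat_lit 7306), (nat_lit 2961)])) (.leaf .df))))) (.node (.node (.node (.node (.leaf .df) (.leaf (.cyc (nat_lit 33) [(nat_lit 5675), (nat_lit 5617), (nat_lit 8844), (nat_lit 5746), (nat_lit 6213), (nat_lit 1999), (nat_lit 4936), (nat_lit 2001)]))) (.node (.leaf (.cyc (nat_lit 5) [(nat_lit 477), (nat_lit 476)])) (.leaf (.cyc (nat_lit 4) [(nat_lit 4283), (nat_lit 3143), (nat_lit 9277), (nat_lit 1393), (nat_lit 3485)])))) (.node (.node (.leaf .df) (.leaf (.cyc (nat_lit 0) [(nat_lit 3786), (nat_lit 10892)]))) (.node (.leaf (.cyc (nat_lit 7) [(nat_lit 2548), (nat_lit 923), (nat_lit 921), (nat_lit 5141), (nat_lit 343), (nat_lit 344), (nat_lit 1025)])) (.leaf .df)))) (.node (.node (.node (.leaf .df) (.leaf (.cyc (nat_lit 9) [(nat_lit 6179), (nat_lit 9866), (nat_lit 3525), (nat_lit 5656), (nat_lit 3528)]))) (.node (.leaf (.cyc (nat_lit 0) [(nat_lit 4852), (nat_lit 1518)])) (.leaf .df))) (.node (.node (.leaf .df) (.leaf (.cyc (nat_lit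 14) [(nat_lit 11889), (nat_lit 11916)]))) (.node (.leaf (.cyc (nat_lit 29) [(nat_lit 5357), (nat_lit 7820), (nat_lit 2138)])) (.leaf .df)))))) (.node (.node (.node (.node (.node (.leaf .df) (.leaf (.cyc (nat_lit 17) [(nat_lit 2725), (nat_lit 8585)]))) (.node (.leaf (.cyc (nat_lit 3) [(nat_lit 168), (nat_lit 51), (nat_lit 4362), (nat_lit 56), (nat_lit 187)])) (.leaf (.cyc (nat_lit 3) [(nat_lit 12679), (nat_lit 4226), (nat_lit 2670), (nat_lit 2672), (nat_lit 4228)])))) (.node (.node (.leaf .df) (.leaf (.cyc (nat_lit 6) [(nat_lit 3720), (nat_lit 3719)]))) (.node (.leaf (.cyc (nat_lit 2) [(nat_lit 2334), (nat_lit 2333)])) (.leaf .df)))) (.node (.node (.node (.leaf .df) (.leaf (.cyc (nat_lit 17) [(nat_lit 3401), (nat_lit 9610)]))) (.node (.leaf (.cyc (nat_lit 18) [(nat_lit 5120), (nat_lit 5515)])) (.leaf .df))) (.node (.node (.leaf .df) (.leaf (.cyc (nat_lit 3) [(nat_lit 11624), (nat_lit 11023), (nat_lit 11025), (nat_lit 6188), (nat_lit 3991)]))) (.node (.leaf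 (.cyc (nat_lit 3) [(nat_lit 7537), (nat_lit 7533), (nat_lit 7535), (nat_lit 7465), (nat_lit 3195)])) (.leaf .df))))) (.node (.node (.node (.node (.leaf .df) (.leaf (.cyc (nat_lit 18) [(nat_lit 3232), (nat_lit 9100)]))) (.node (.leaf (.cyc (nat_lit 6) [(nat_lit 775), (nat_lit 774)])) (.leaf (.cyc (nat_lit 9) [(nat_lit 12660), (nat_lit 11485), (nat_lit 12996), (nat_lit 13000), (nat_lit 4333)])))) (.node (.node (.leaf .df) (.leaf (.cyc (nat_lit 6) [(nat_lit 11148), (nat_lit 10546)]))) (.node (.leaf (.cyc (nat_lit 8) [(nat_lit 2277), (nat_lit 5038), (nat_lit 5212), (nat_lit 2723), (nat_lit 7052)])) (.leaf .df)))) (.node (.node (.node (.leaf .df) (.leaf (.cyc (nat_lit 8) [(nat_lit 3572), (nat_lit 9991), (nat_lit 10119), (nat_lit 10121), (nat_lit 8008)]))) (.node (.leaf (.cyc (nat_lit 0) [(nat_lit 4891), (nat_lit 1802)])) (.leaf .df))) (.node (.node (.leaf .df) (.leaf (.cyc (nat_lit 14) [(nat_lit 7053), (nat_lit 4120)]))) (.node (.leaf (.cyc (nat_lit 29) [(nat_lit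 2226), (nat_lit 8075)])) (.leaf .df))))))))
noncomputable def c4P1011001 : BT Pf := (.node (.node (.node (.node (.node (.node (.node (.leaf .df) (.leaf (.cyc (nat_lit 19) [(nat_lit 8251), (nat_lit 8265)]))) (.node (.leaf .df) (.leaf (.cyc (nat_lit 31) [(nat_lit 3922), (nat_lit 10722), (nat_lit 12206), (nat_lit 12364), (nat_lit 9529), (nat_lit 6577), (nat_lit 11763), (nat_lit 7002)])))) (.node (.node (.leaf .df) (.leaf (.cyc (nat_lit 0) [(nat_lit 3659), (nat_lit 10316)]))) (.node (.leaf (.cyc (nat_lit 7) [(nat_lit 1971), (nat_lit 689), (nat_lit 4904), (nat_lit 4909), (nat_lit 4908), (nat_lit 703), (nat_lit 2008)])) (.leaf .df)))) (.node (.node (.node (.leaf .df) (.leaf (.cyc (nat_lit 8) [(nat_lit 2257), (nat_lit 2255), (nat_lit 9290), (nat_lit 3129), (nat_lit 9280)]))) (.node (.leaf (.cyc (nat_lit 6) [(nat_lit 980), (nat_lit 979)])) (.leaf .df))) (.node (.node (.leaf .df) (.leaf (.cyc (nat_lit 4) [(nat_lit 3907), (nat_lit 1795), (nat_lit 1793), (nat_lit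 3905), (nat_lit 11338)]))) (.node (.leaf (.cyc (nat_lit 8) [(nat_lit 2916), (nat_lit 2915), (nat_lit 7242), (nat_lit 2150), (nat_lit 2152)])) (.leaf .df))))) (.node (.node (.node (.node (.leaf .df) (.leaf (.cyc (nat_lit 29) [(nat_lit 6892), (nat_lit 8779)]))) (.node (.leaf (.cyc (nat_lit 1) [(nat_lit 4659), (nat_lit 410)])) (.leaf (.cyc (nat_lit 5) [(nat_lit 4269), (nat_lit 12617)])))) (.node (.node (.leaf .df) (.leaf (.cyc (nat_lit 11) [(nat_lit 10402), (nat_lit 9971), (nat_lit 9973), (nat_lit 1622), (nat_lit 4821), (nat_lit 1626), (nat_lit 3766)]))) (.node (.leaf (.cyc (nat_lit 4) [(nat_lit 2474), (nat_lit 886), (nat_lit 4589), (nat_lit 882), (nat_lit 2463)])) (.leaf .df)))) (.node (.node (.node (.leaf .df) (.leaf (.cyc (nat_lit 22) [(nat_lit 3485), (nat_lit 1393), (nat_lit 9277), (nat_lit 5378), (nat_lit 9091), (nat_lit 9093), (nat_lit 3217)]))) (.node (.leaf (.cyc (nat_lit 17) [(nat_lit 5683), (nat_lit 5707), (nat_lit 5174)])) (.leaf .df))) (.node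 (.node (.leaf .df) (.leaf (.cyc (nat_lit 2) [(nat_lit 4044), (nat_lit 4043)]))) (.node (.leaf (.cyc (nat_lit 28) [(nat_lit 3071), (nat_lit 7750)])) (.leaf .df)))))) (.node (.node (.node (.node (.node (.leaf .df) (.leaf (.cyc (nat_lit 30) [(nat_lit 5753), (nat_lit 6622), (nat_lit 2415), (nat_lit 8524), (nat_lit 6808), (nat_lit 6809), (nat_lit 7459), (nat_lit 7460), (nat_lit 2564), (nat_lit 2563)]))) (.node (.leaf (.cyc (nat_lit 10) [(nat_lit 37), (nat_lit 9), (nat_lit 7), (nat_lit 28), (nat_lit 100)])) (.leaf (.cyc (nat_lit 3) [(nat_lit 4185), (nat_lit 12333), (nat_lit 12619), (nat_lit 12620), (nat_lit 3545), (nat_lit 3547)])))) (.node (.node (.leaf .df) (.leaf (.cyc (nat_lit 19) [(nat_lit 3438), (nat_lit 10571)]))) (.node (.leaf (.cyc (nat_lit 6) [(nat_lit 2277), (nat_lit 2276)])) (.leaf .df)))) (.node (.node (.node (.leaf .df) (.leaf (.cyc (nat_lit 6) [(nat_lit 3377), (nat_lit 8634)]))) (.node (.leaf (.cyc (nat_lit 0) [(nat_lit 5081), (nat_lit 1250)]))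 (.leaf .df))) (.node (.node (.leaf .df) (.leaf (.cyc (nat_lit 1) [(nat_lit 9467), (nat_lit 3974)]))) (.node (.leaf (.cyc (nat_lit 10) [(nat_lit 1627), (nat_lit 565), (nat_lit 563), (nat_lit 7438), (nat_lit 3133)])) (.leaf .df))))) (.node (.node (.node (.node (.leaf .df) (.leaf (.cyc (nat_lit 17) [(nat_lit 1900), (nat_lit 9036)]))) (.node (.leaf (.cyc (nat_lit 14) [(nat_lit 4935), (nat_lit 707)])) (.leaf (.cyc (nat_lit 13) [(nat_lit 13131), (nat_lit 12550), (nat_lit 12224), (nat_lit 7924), (nat_lit 7655), (nat_lit 7923), (nat_lit 12610)])))) (.node (.node (.leaf .df) (.leaf (.cyc (nat_lit 1) [(nat_lit 10177), (nat_lit 3832)]))) (.node (.leaf (.cyc (nat_lit 6) [(nat_lit 2672), (nat_lit 2671)])) (.leaf .df)))) (.node (.node (.node (.leaf .df) (.leaf (.cyc (nat_lit 8) [(nat_lit 7585), (nat_lit 2748), (nat_lit 5222), (nat_lit 7076), (nat_lit 10055)]))) (.node (.leaf (.cyc (nat_lit 5) [(nat_lit 1738), (nat_lit 1737)])) (.leaf .df))) (.node (.node (.leaf .df)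 (.leaf (.cyc (nat_lit 24) [(nat_lit 6856), (nat_lit 6853), (nat_lit 2587), (nat_lit 8878), (nat_lit 6555), (nat_lit 9680), (nat_lit 12107), (nat_lit 12108), (nat_lit 3511), (nat_lit 3510)]))) (.node (.leaf (.cyc (nat_lit 29) [(nat_lit 7208), (nat_lit 8011)])) (.leaf .df))))))) (.node (.node (.node (.node (.node (.node (.leaf .df) (.leaf (.cyc (nat_lit 32) [(nat_lit 2232), (nat_lit 5019), (nat_lit 5018), (nat_lit 5029), (nat_lit 8395), (nat_lit 1531), (nat_lit 4792), (nat_lit 5788), (nat_lit 1990), (nat_lit 6203)]))) (.node (.leaf .df) (.leaf (.cyc (nat_lit 14) [(nat_lit 11774), (nat_lit 12492)])))) (.node (.node (.leaf .df) (.leaf (.cyc (nat_lit 17) [(nat_lit 10443), (nat_lit 10444)]))) (.node (.leaf (.cyc (nat_lit 22) [(nat_lit 6347), (nat_lit 2156), (nat_lit 762), (nat_lit 4549), (nat_lit 628), (nat_lit 1806), (nat_lit 6032)])) (.leaf .df)))) (.node (.node (.node (.leaf .df) (.leaf (.cyc (nat_lit 4) [(nat_lit 2057), (nat_lit 4955), (nat_lit 8712), (nat_lit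 5329), (nat_lit 3023)]))) (.node (.leaf (.cyc (nat_lit 11) [(nat_lit 412), (nat_lit 130), (nat_lit 38), (nat_lit 35), (nat_lit 121), (nat_lit 381), (nat_lit 1121)])) (.leaf .df))) (.node (.node (.leaf .df) (.leaf (.cyc (nat_lit 23) [(nat_lit 10824), (nat_lit 10825), (nat_lit 10348), (nat_lit 1896), (nat_lit 10006), (nat_lit 6030), (nat_lit 9356), (nat_lit 9364), (nat_lit 11468)]))) (.node (.leaf (.cyc (nat_lit 5) [(nat_lit 3012), (nat_lit 3011)])) (.leaf .df))))) (.node (.node (.node (.node (.leaf .df) (.leaf (.cyc (nat_lit 20) [(nat_lit 2702), (nat_lit 2703), (nat_lit 7022), (nat_lit 6256), (nat_lit 8904), (nat_lit 5660), (nat_lit 6401)]))) (.node (.leaf (.cyc (nat_lit 3) [(nat_lit 4805), (nat_lit 549), (nat_lit 176), (nat_lit 178), (nat_lit 558)])) (.leaf (.cyc (nat_lit 0) [(nat_lit 11535), (nat_lit 13003)])))) (.node (.node (.leaf .df) (.leaf (.cyc (nat_lit 7) [(nat_lit 10236), (nat_lit 10497), (nat_lit 9488), (nat_lit 7816), (nat_lit 1655), (nat_lit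 1656), (nat_lit 3804)]))) (.node (.leaf (.cyc (nat_lit 5) [(nat_lit 2599), (nat_lit 2598)])) (.leaf .df)))) (.node (.node (.node (.leaf .df) (.leaf (.cyc (nat_lit 22) [(nat_lit 9929), (nat_lit 9930), (nat_lit 5792), (nat_lit 4935), (nat_lit 706), (nat_lit 2015), (nat_lit 6228)]))) (.node (.leaf (.cyc (nat_lit 5) [(nat_lit 1597), (nat_lit 1596)])) (.leaf .df))) (.node (.node (.leaf .df) (.leaf (.cyc (nat_lit 6) [(nat_lit 4074), (nat_lit 11045)]))) (.node (.leaf (.cyc (nat_lit 29) [(nat_lit 6186), (nat_lit 7883)])) (.leaf .df)))))) (.node (.node (.node (.node (.node (.leaf .df) (.leaf (.cyc (nat_lit 29) [(nat_lit 6672), (nat_lit 8651)]))) (.node (.leaf (.cyc (nat_lit 6) [(nat_lit 255), (nat_lit 254)])) (.leaf (.cyc (nat_lit 9) [(nat_lit 10936), (nat_lit 10934), (nat_lit 5890), (nat_lit 10941), (nat_lit 4243)])))) (.node (.node (.leaf .df) (.leaf (.cyc (nat_lit 4) [(nat_lit 3370), (nat_lit 5555), (nat_lit 8610), (nat_lit 1589), (nat_lit 3733)]))) (.node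 (.leaf (.cyc (nat_lit 1) [(nat_lit 6584), (nat_lit 2397)])) (.leaf .df)))) (.node (.node (.node (.leaf .df) (.leaf (.cyc (nat_lit 4) [(nat_lit 2334), (nat_lit 5061), (nat_lit 5743), (nat_lit 5744), (nat_lit 3435)]))) (.node (.leaf (.cyc (nat_lit 15) [(nat_lit 1331), (nat_lit 4727), (nat_lit 159), (nat_lit 4386), (nat_lit 4395), (nat_lit 4396), (nat_lit 4480), (nat_lit 520), (nat_lit 5537)])) (.leaf .df))) (.node (.node (.leaf .df) (.leaf (.cyc (nat_lit 22) [(nat_lit 4007), (nat_lit 6294), (nat_lit 6296), (nat_lit 2060), (nat_lit 8712), (nat_lit 1216), (nat_lit 7015)]))) (.node (.leaf (.cyc (nat_lit 19) [(nat_lit 3239), (nat_lit 7628)])) (.leaf .df))))) (.node (.node (.node (.node (.leaf .df) (.leaf (.cyc (nat_lit 19) [(nat_lit 7199), (nat_lit 9163)]))) (.node (.leaf (.cyc (nat_lit 5) [(nat_lit 836), (nat_lit 835)])) (.leaf (.cyc (nat_lit 20) [(nat_lit 13051), (nat_lit 13049), (nat_lit 13048), (nat_lit 12526), (nat_lit 12528), (nat_lit 13015), (nat_lit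 13260)])))) (.node (.node (.leaf .df) (.leaf (.cyc (nat_lit 8) [(nat_lit 11212), (nat_lit 3404), (nat_lit 1339), (nat_lit 1338), (nat_lit 9613)]))) (.node (.leaf (.cyc (nat_lit 2) [(nat_lit 2768), (nat_lit 2767)])) (.leaf .df)))) (.node (.node (.node (.leaf .df) (.leaf (.cyc (nat_lit 29) [(nat_lit 9149), (nat_lit 10188), (nat_lit 2486)]))) (.node (.leaf (.cyc (nat_lit 7) [(nat_lit 1868), (nat_lit 651), (nat_lit 210), (nat_lit 4399), (nat_lit 136), (nat_lit 429), (nat_lit 1259)])) (.leaf .df))) (.node (.node (.leaf .df) (.leaf (.cyc (nat_lit 19) [(nat_lit 3906), (nat_lit 12234)]))) (.node (.leaf (.cyc (nat_lit 29) [(nat_lit 7226), (nat_lit 8140), (nat_lit 6347)])) (.leaf .df))))))))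
noncomputable def c4P101100 : BT Pf := .node c4P1011000 c4P1011001
noncomputable def c4P1011010 : BT Pf := (.node (.node (.node (.node (.node (.node (.node (.leaf .df) (.leaf (.cyc (nat_lit 25) [(nat_lit 2801), (nat_lit 8225), (nat_lit 2752)]))) (.node (.leaf .df) (.leaf (.cyc (nat_lit 5) [(nat_lit 12332), (nat_lit 9711)])))) (.node (.node (.leaf .df) (.leaf (.cyc (nat_lit 6) [(nat_lit 3650), (nat_lit 8521)]))) (.node (.leaf (.cyc (nat_lit 2) [(nat_lit 1978), (nat_lit 1977)])) (.leaf .df)))) (.node (.node (.node (.leaf .df) (.leaf (.cyc (nat_lit 19) [(nat_lit 2113), (nat_lit 9259)]))) (.node (.leaf (.cyc (nat_lit 6) [(nat_lit 944), (nat_lit 4950)])) (.leaf .df))) (.node (.node (.leaf .df) (.leaf (.cyc (nat_lit 20) [(nat_lit 2556), (nat_lit 5153), (nat_lit 5081), (nat_lit 4697), (nat_lit 8770), (nat_lit 1838), (nat_lit 11308)]))) (.node (.leaf (.cyc (nat_lit 5) [(nat_lit 2877), (nat_lit 2876)])) (.leaf .df))))) (.node (.node (.node (.node (.leaf .df) (.leaf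 (.cyc (nat_lit 29) [(nat_lit 7606), (nat_lit 8737)]))) (.node (.leaf (.cyc (nat_lit 9) [(nat_lit 4651), (nat_lit 156), (nat_lit 4385), (nat_lit 97), (nat_lit 4600)])) (.leaf (.cyc (nat_lit 23) [(nat_lit 3944), (nat_lit 6091), (nat_lit 7725), (nat_lit 7722), (nat_lit 10693), (nat_lit 10695), (nat_lit 10339), (nat_lit 10735), (nat_lit 12843)])))) (.node (.node (.leaf .df) (.leaf (.cyc (nat_lit 9) [(nat_lit 10792), (nat_lit 10793), (nat_lit 6623), (nat_lit 6975), (nat_lit 3757)]))) (.node (.leaf (.cyc (nat_lit 29) [(nat_lit 2252), (nat_lit 6698)])) (.leaf .df)))) (.node (.node (.node (.leaf .df) (.leaf (.cyc (nat_lit 13) [(nat_lit 9772), (nat_lit 2201), (nat_lit 5010), (nat_lit 725), (nat_lit 4537), (nat_lit 728), (nat_lit 2067)]))) (.node (.leaf (.cyc (nat_lit 2) [(nat_lit 1440), (nat_lit 1439)])) (.leaf .df))) (.node (.node (.leaf .df) (.leaf (.cyc (nat_lit 6) [(nat_lit 4035), (nat_lit 4034)]))) (.node (.leaf (.cyc (nat_lit 0) [(nat_lit 7717), (nat_lit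 7723)])) (.leaf .df)))))) (.node (.node (.node (.node (.node (.leaf .df) (.leaf (.cyc (nat_lit 17) [(nat_lit 8400), (nat_lit 8492)]))) (.node (.leaf (.cyc (nat_lit 2) [(nat_lit 61), (nat_lit 60)])) (.leaf (.cyc (nat_lit 20) [(nat_lit 10051), (nat_lit 12410), (nat_lit 12586), (nat_lit 12588), (nat_lit 12001), (nat_lit 12004), (nat_lit 11634)])))) (.node (.node (.leaf .df) (.leaf (.cyc (nat_lit 25) [(nat_lit 9899), (nat_lit 10537)]))) (.node (.leaf (.cyc (nat_lit 9) [(nat_lit 2259), (nat_lit 6444), (nat_lit 1620), (nat_lit 563), (nat_lit 564), (nat_lit 1623)])) (.leaf .df)))) (.node (.node (.node (.leaf .df) (.leaf (.cyc (nat_lit 21) [(nat_lit 3359), (nat_lit 9272), (nat_lit 2806), (nat_lit 2804), (nat_lit 7215)]))) (.node (.leaf (.cyc (nat_lit 6) [(nat_lit 1223), (nat_lit 1222)])) (.leaf .df))) (.node (.node (.leaf .df) (.leaf (.cyc (nat_lit 5) [(nat_lit 11564), (nat_lit 7563)]))) (.node (.leaf (.cyc (nat_lit 20) [(nat_lit 2019), (nat_lit 6209), (nat_lit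 6208), (nat_lit 5319), (nat_lit 5357), (nat_lit 5358), (nat_lit 3091)])) (.leaf .df))))) (.node (.node (.node (.node (.leaf .df) (.leaf (.cyc (nat_lit 19) [(nat_lit 8962), (nat_lit 8993)]))) (.node (.leaf (.cyc (nat_lit 6) [(nat_lit 669), (nat_lit 668)])) (.leaf (.cyc (nat_lit 22) [(nat_lit 13099), (nat_lit 3693), (nat_lit 1554), (nat_lit 4801), (nat_lit 1558), (nat_lit 8491), (nat_lit 10457)])))) (.node (.node (.leaf .df) (.leaf (.cyc (nat_lit 19) [(nat_lit 3700), (nat_lit 11051)]))) (.node (.leaf (.cyc (nat_lit 29) [(nat_lit 1010), (nat_lit 6956), (nat_lit 977)])) (.leaf .df)))) (.node (.node (.node (.leaf .df) (.leaf (.cyc (nat_lit 9) [(nat_lit 6217), (nat_lit 8309), (nat_lit 8310), (nat_lit 6127), (nat_lit 10028)]))) (.node (.leaf (.cyc (nat_lit 5) [(nat_lit 1702), (nat_lit 5527)])) (.leaf .df))) (.node (.node (.leaf .df) (.leaf (.cyc (nat_lit 5) [(nat_lit 4102), (nat_lit 9760)]))) (.node (.leaf (.cyc (nat_lit 22) [(nat_lit 7975), (nat_lit 1190),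 (nat_lit 7909), (nat_lit 4696), (nat_lit 1248), (nat_lit 6156), (nat_lit 6317)])) (.leaf .df))))))) (.node (.node (.node (.node (.node (.node (.leaf .df) (.leaf (.cyc (nat_lit 29) [(nat_lit 8321), (nat_lit 8363)]))) (.node (.leaf .df) (.leaf (.cyc (nat_lit 13) [(nat_lit 4179), (nat_lit 2499), (nat_lit 5127), (nat_lit 8922), (nat_lit 6226), (nat_lit 6662), (nat_lit 6823)])))) (.node (.node (.leaf .df) (.leaf (.cyc (nat_lit 4) [(nat_lit 3563), (nat_lit 5673), (nat_lit 3564), (nat_lit 9983), (nat_lit 3678)]))) (.node (.leaf (.cyc (nat_lit 9) [(nat_lit 6156), (nat_lit 1248), (nat_lit 5451), (nat_lit 4975), (nat_lit 2123)])) (.leaf .df)))) (.node (.node (.node (.leaf .df) (.leaf (.cyc (nat_lit 10) [(nat_lit 6028), (nat_lit 6349), (nat_lit 6344), (nat_lit 9380), (nat_lit 3178)]))) (.node (.leaf (.cyc (nat_lit 21) [(nat_lit 762), (nat_lit 4550), (nat_lit 4647), (nat_lit 4641), (nat_lit 1089)])) (.leaf .df))) (.node (.node (.leaf .df) (.leaf (.cyc (nat_lit 20)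 [(nat_lit 10806), (nat_lit 9530), (nat_lit 9522), (nat_lit 8606), (nat_lit 2203), (nat_lit 11436), (nat_lit 11435)]))) (.node (.leaf (.cyc (nat_lit 8) [(nat_lit 2986), (nat_lit 5320), (nat_lit 946), (nat_lit 945), (nat_lit 5387)])) (.leaf .df))))) (.node (.node (.node (.node (.leaf .df) (.leaf (.cyc (nat_lit 28) [(nat_lit 6844), (nat_lit 8876)]))) (.node (.leaf (.cyc (nat_lit 8) [(nat_lit 338), (nat_lit 4434), (nat_lit 334), (nat_lit 4779), (nat_lit 515)])) (.leaf (.cyc (nat_lit 20) [(nat_lit 12561), (nat_lit 9986), (nat_lit 12048), (nat_lit 12466), (nat_lit 12213), (nat_lit 11406), (nat_lit 12971)])))) (.node (.node (.leaf .df) (.leaf (.cyc (nat_lit 25) [(nat_lit 8882), (nat_lit 10922)]))) (.node (.leaf (.cyc (nat_lit 0) [(nat_lit 6734), (nat_lit 2581)])) (.leaf .df)))) (.node (.node (.node (.leaf .df) (.leaf (.cyc (nat_lit 16) [(nat_lit 3491), (nat_lit 5639), (nat_lit 6685), (nat_lit 6689), (nat_lit 6947), (nat_lit 5945), (nat_lit 5900), (nat_lit 9898),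 (nat_lit 9900)]))) (.node (.leaf (.cyc (nat_lit 2) [(nat_lit 1551), (nat_lit 1550)])) (.leaf .df))) (.node (.node (.leaf .df) (.leaf (.cyc (nat_lit 18) [(nat_lit 3862), (nat_lit 11948)]))) (.node (.leaf (.cyc (nat_lit 28) [(nat_lit 2560), (nat_lit 7848), (nat_lit 3247)])) (.leaf .df)))))) (.node (.node (.node (.node (.node (.leaf .df) (.leaf (.cyc (nat_lit 18) [(nat_lit 2732), (nat_lit 8620)]))) (.node (.leaf (.cyc (nat_lit 3) [(nat_lit 73), (nat_lit 20), (nat_lit 18), (nat_lit 67), (nat_lit 220)])) (.leaf (.cyc (nat_lit 9) [(nat_lit 12714), (nat_lit 7111), (nat_lit 7081), (nat_lit 12277), (nat_lit 12275)])))) (.node (.node (.leaf .df) (.leaf (.cyc (nat_lit 8) [(nat_lit 3730), (nat_lit 5826), (nat_lit 3732), (nat_lit 10667), (nat_lit 10668), (nat_lit 7005)]))) (.node (.leaf (.cyc (nat_lit 0) [(nat_lit 5541), (nat_lit 6572)])) (.leaf .df)))) (.node (.node (.node (.leaf .df) (.leaf (.cyc (nat_lit 2) [(nat_lit 3417), (nat_lit 3416)]))) (.node (.leaf (.cyc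 (nat_lit 4) [(nat_lit 4872), (nat_lit 248), (nat_lit 246), (nat_lit 4867), (nat_lit 5548)])) (.leaf .df))) (.node (.node (.leaf .df) (.leaf (.cyc (nat_lit 0) [(nat_lit 11312), (nat_lit 11692)]))) (.node (.leaf (.cyc (nat_lit 9) [(nat_lit 7557), (nat_lit 3089), (nat_lit 7466), (nat_lit 5417), (nat_lit 3221)])) (.leaf .df))))) (.node (.node (.node (.node (.leaf .df) (.leaf (.cyc (nat_lit 29) [(nat_lit 3051), (nat_lit 9131)]))) (.node (.leaf (.cyc (nat_lit 2) [(nat_lit 806), (nat_lit 805)])) (.leaf (.cyc (nat_lit 4) [(nat_lit 4340), (nat_lit 10116), (nat_lit 10117), (nat_lit 6997), (nat_lit 3780)])))) (.node (.node (.leaf .df) (.leaf (.cyc (nat_lit 8) [(nat_lit 11180), (nat_lit 10956), (nat_lit 10905), (nat_lit 10907), (nat_lit 3789)]))) (.node (.leaf (.cyc (nat_lit 17) [(nat_lit 6744), (nat_lit 7084)])) (.leaf .df)))) (.node (.node (.node (.leaf .df) (.leaf (.cyc (nat_lit 4) [(nat_lit 1486), (nat_lit 1484), (nat_lit 10154), (nat_lit 10155), (nat_lit 9585)])))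 (.node (.leaf (.cyc (nat_lit 7) [(nat_lit 1837), (nat_lit 641), (nat_lit 4718), (nat_lit 449), (nat_lit 4462), (nat_lit 453), (nat_lit 1324)])) (.leaf .df))) (.node (.node (.leaf .df) (.leaf (.cyc (nat_lit 6) [(nat_lit 4128), (nat_lit 4127)]))) (.node (.leaf (.cyc (nat_lit 29) [(nat_lit 1334), (nat_lit 8107)])) (.leaf .df))))))))
noncomputable def c4P1011011 : BT Pf := (.node (.node (.node (.node (.node (.node (.node (.leaf .df) (.leaf (.cyc (nat_lit 18) [(nat_lit 1077), (nat_lit 8290)]))) (.node (.leaf .df) (.leaf (.cyc (nat_lit 8) [(nat_lit 12352), (nat_lit 3796), (nat_lit 3798), (nat_lit 10951), (nat_lit 4165)])))) (.node (.node (.leaf .df) (.leaf (.cyc (nat_lit 29) [(nat_lit 10005), (nat_lit 10347)]))) (.node (.leaf (.cyc (nat_lit 5) [(nat_lit 2043), (nat_lit 2042)])) (.leaf .df)))) (.node (.node (.node (.leaf .df) (.leaf (.cyc (nat_lit 19) [(nat_lit 9306), (nat_lit 9319)]))) (.node (.leaf (.cyc (nat_lit 4) [(nat_lit 1020), (nat_lit 5143), (nat_lit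 297), (nat_lit 300), (nat_lit 907)])) (.leaf .df))) (.node (.node (.leaf .df) (.leaf (.cyc (nat_lit 3) [(nat_lit 11370), (nat_lit 3913), (nat_lit 1818), (nat_lit 1819), (nat_lit 3916)]))) (.node (.leaf (.cyc (nat_lit 7) [(nat_lit 1811), (nat_lit 4872), (nat_lit 762), (nat_lit 5293), (nat_lit 1089), (nat_lit 1090), (nat_lit 2944)])) (.leaf .df))))) (.node (.node (.node (.node (.leaf .df) (.leaf (.cyc (nat_lit 18) [(nat_lit 6873), (nat_lit 8809)]))) (.node (.leaf (.cyc (nat_lit 2) [(nat_lit 447), (nat_lit 4583)])) (.leaf (.cyc (nat_lit 0) [(nat_lit 7424), (nat_lit 4275)])))) (.node (.node (.leaf .df) (.leaf (.cyc (nat_lit 20) [(nat_lit 7298), (nat_lit 8163), (nat_lit 8159), (nat_lit 5282), (nat_lit 10528), (nat_lit 10858), (nat_lit 10859)]))) (.node (.leaf (.cyc (nat_lit 9) [(nat_lit 2517), (nat_lit 908), (nat_lit 4592), (nat_lit 905), (nat_lit 2510)])) (.leaf .df)))) (.node (.node (.node (.leaf .df) (.leaf (.cyc (nat_lit 2) [(nat_lit 3506), (nat_lit 3505)])))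 (.node (.leaf (.cyc (nat_lit 5) [(nat_lit 1491), (nat_lit 1490)])) (.leaf .df))) (.node (.node (.leaf .df) (.leaf (.cyc (nat_lit 0) [(nat_lit 9755), (nat_lit 11884)]))) (.node (.leaf (.cyc (nat_lit 25) [(nat_lit 7743), (nat_lit 7787)])) (.leaf .df)))))) (.node (.node (.node (.node (.node (.leaf .df) (.leaf (.cyc (nat_lit 4) [(nat_lit 5568), (nat_lit 8543), (nat_lit 2368), (nat_lit 2366), (nat_lit 7172), (nat_lit 7173)]))) (.node (.leaf (.cyc (nat_lit 6) [(nat_lit 142), (nat_lit 4395)])) (.leaf (.cyc (nat_lit 4) [(nat_lit 4221), (nat_lit 9095), (nat_lit 7595), (nat_lit 10509), (nat_lit 10514)])))) (.node (.node (.leaf .df) (.leaf (.cyc (nat_lit 8) [(nat_lit 3675), (nat_lit 10217), (nat_lit 10218), (nat_lit 10600), (nat_lit 10603), (nat_lit 7363)]))) (.node (.leaf (.cyc (nat_lit 3) [(nat_lit 5853), (nat_lit 6507), (nat_lit 5225), (nat_lit 5034), (nat_lit 936)])) (.leaf .df)))) (.node (.node (.node (.leaf .df) (.leaf (.cyc (nat_lit 21) [(nat_lit 3395), (nat_lit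 5578), (nat_lit 8663), (nat_lit 7375), (nat_lit 6827)]))) (.node (.leaf (.cyc (nat_lit 3) [(nat_lit 5484), (nat_lit 1275), (nat_lit 435), (nat_lit 4635), (nat_lit 1060)])) (.leaf .df))) (.node (.node (.leaf .df) (.leaf (.cyc (nat_lit 14) [(nat_lit 6651), (nat_lit 11628)]))) (.node (.leaf (.cyc (nat_lit 4) [(nat_lit 2930), (nat_lit 5290), (nat_lit 4680), (nat_lit 1192), (nat_lit 3160)])) (.leaf .df))))) (.node (.node (.node (.node (.leaf .df) (.leaf (.cyc (nat_lit 18) [(nat_lit 7268), (nat_lit 9063)]))) (.node (.leaf (.cyc (nat_lit 2) [(nat_lit 746), (nat_lit 745)])) (.leaf (.cyc (nat_lit 8) [(nat_lit 4326), (nat_lit 11781), (nat_lit 9641), (nat_lit 12906), (nat_lit 12904)])))) (.node (.node (.leaf .df) (.leaf (.cyc (nat_lit 4) [(nat_lit 9538), (nat_lit 8680), (nat_lit 5732), (nat_lit 5931), (nat_lit 3840)]))) (.node (.leaf (.cyc (nat_lit 9) [(nat_lit 2027), (nat_lit 2025), (nat_lit 6699), (nat_lit 5201), (nat_lit 2703)])) (.leaf .df)))) (.node (.node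 (.node (.leaf .df) (.leaf (.cyc (nat_lit 13) [(nat_lit 3606), (nat_lit 3608), (nat_lit 10092), (nat_lit 6979), (nat_lit 9631), (nat_lit 9632), (nat_lit 7600), (nat_lit 6728)]))) (.node (.leaf (.cyc (nat_lit 5) [(nat_lit 1768), (nat_lit 1767)])) (.leaf .df))) (.node (.node (.leaf .df) (.leaf (.cyc (nat_lit 5) [(nat_lit 4115), (nat_lit 9977)]))) (.node (.leaf (.cyc (nat_lit 29) [(nat_lit 7315), (nat_lit 8041)])) (.leaf .df))))))) (.node (.node (.node (.node (.node (.node (.leaf .df) (.leaf (.cyc (nat_lit 3) [(nat_lit 7693), (nat_lit 5728), (nat_lit 8427), (nat_lit 1638), (nat_lit 1639)]))) (.node (.leaf .df) (.leaf (.cyc (nat_lit 5) [(nat_lit 12524), (nat_lit 11613)])))) (.node (.node (.leaf .df) (.leaf (.cyc (nat_lit 19) [(nat_lit 10273), (nat_lit 10475)]))) (.node (.leaf (.cyc (nat_lit 4) [(nat_lit 6353), (nat_lit 6354), (nat_lit 772), (nat_lit 775), (nat_lit 2187)])) (.leaf .df)))) (.node (.node (.node (.leaf .df) (.leaf (.cyc (nat_lit 6) [(nat_lit 9452),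 (nat_lit 8385)]))) (.node (.leaf (.cyc (nat_lit 11) [(nat_lit 1113), (nat_lit 377), (nat_lit 120), (nat_lit 4377), (nat_lit 125), (nat_lit 394), (nat_lit 1159)])) (.leaf .df))) (.node (.node (.leaf .df) (.leaf (.cyc (nat_lit 5) [(nat_lit 3951), (nat_lit 3950)]))) (.node (.leaf (.cyc (nat_lit 6) [(nat_lit 3039), (nat_lit 3038)])) (.leaf .df))))) (.node (.node (.node (.node (.leaf .df) (.leaf (.cyc (nat_lit 29) [(nat_lit 5842), (nat_lit 8940), (nat_lit 5538)]))) (.node (.leaf (.cyc (nat_lit 2) [(nat_lit 595), (nat_lit 594)])) (.leaf (.cyc (nat_lit 1) [(nat_lit 11664), (nat_lit 13036)])))) (.node (.node (.leaf .df) (.leaf (.cyc (nat_lit 29) [(nat_lit 1788), (nat_lit 10985)]))) (.node (.leaf (.cyc (nat_lit 5) [(nat_lit 2620), (nat_lit 2619)])) (.leaf .df)))) (.node (.node (.node (.leaf .df) (.leaf (.cyc (nat_lit 29) [(nat_lit 3554), (nat_lit 9963)]))) (.node (.leaf (.cyc (nat_lit 15) [(nat_lit 1629), (nat_lit 4822), (nat_lit 4790), (nat_lit 4788), (nat_lit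 177), (nat_lit 175), (nat_lit 546), (nat_lit 1570), (nat_lit 5831)])) (.leaf .df))) (.node (.node (.leaf .df) (.leaf (.cyc (nat_lit 6) [(nat_lit 4087), (nat_lit 8554)]))) (.node (.leaf (.cyc (nat_lit 29) [(nat_lit 3270), (nat_lit 7910), (nat_lit 6249)])) (.leaf .df)))))) (.node (.node (.node (.node (.node (.leaf .df) (.leaf (.cyc (nat_lit 13) [(nat_lit 6788), (nat_lit 8683), (nat_lit 1797), (nat_lit 624), (nat_lit 4504), (nat_lit 627), (nat_lit 1804)]))) (.node (.leaf (.cyc (nat_lit 5) [(nat_lit 294), (nat_lit 293)])) (.leaf (.cyc (nat_lit 3) [(nat_lit 11460), (nat_lit 11259), (nat_lit 7413), (nat_lit 8577), (nat_lit 4250)])))) (.node (.node (.leaf .df) (.leaf (.cyc (nat_lit 4) [(nat_lit 9520), (nat_lit 10641), (nat_lit 3724), (nat_lit 5839), (nat_lit 3743)]))) (.node (.leaf (.cyc (nat_lit 8) [(nat_lit 2396), (nat_lit 2394), (nat_lit 6634), (nat_lit 2429), (nat_lit 2431)])) (.leaf .df)))) (.node (.node (.node (.leaf .df) (.leaf (.cyc (nat_lit 4) [(nat_lit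 3442), (nat_lit 1366), (nat_lit 467), (nat_lit 470), (nat_lit 1376)]))) (.node (.leaf (.cyc (nat_lit 2) [(nat_lit 1368), (nat_lit 1367)])) (.leaf .df))) (.node (.node (.leaf .df) (.leaf (.cyc (nat_lit 20) [(nat_lit 10023), (nat_lit 3143), (nat_lit 9276), (nat_lit 3482), (nat_lit 10512), (nat_lit 10520), (nat_lit 4016)]))) (.node (.leaf (.cyc (nat_lit 5) [(nat_lit 3277), (nat_lit 3276)])) (.leaf .df))))) (.node (.node (.node (.node (.leaf .df) (.leaf (.cyc (nat_lit 29) [(nat_lit 1678), (nat_lit 9196), (nat_lit 2135)]))) (.node (.leaf (.cyc (nat_lit 9) [(nat_lit 869), (nat_lit 289), (nat_lit 89), (nat_lit 91), (nat_lit 295)])) (.leaf .df))) (.node (.node (.leaf .df) (.leaf (.cyc (nat_lit 22) [(nat_lit 3885), (nat_lit 11236), (nat_lit 11238), (nat_lit 1754), (nat_lit 4859), (nat_lit 5093), (nat_lit 2402)]))) (.node (.leaf (.cyc (nat_lit 2) [(nat_lit 2792), (nat_lit 2791)])) (.leaf .df)))) (.node (.node (.node (.leaf .df) (.leaf (.cyc (nat_lit 8) [(nat_lit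 3619), (nat_lit 3617), (nat_lit 10219), (nat_lit 3629), (nat_lit 3631)]))) (.node (.leaf (.cyc (nat_lit 5) [(nat_lit 1912), (nat_lit 1911)])) (.leaf .df))) (.node (.node (.leaf .df) (.leaf (.cyc (nat_lit 1) [(nat_lit 10953), (nat_lit 12268)]))) (.node (.leaf (.cyc (nat_lit 29) [(nat_lit 5573), (nat_lit 8169)])) (.leaf .df))))))))
noncomputable def c4P101101 : BT Pf := .node c4P1011010 c4P1011011
noncomputable def c4P10110 : BT Pf := .node c4P101100 c4P101101
noncomputable def c4P1011100 : BT Pf := (.node (.node (.node (.node (.node (.node (.node (.leaf .df) (.leaf (.cyc (nat_lit 25) [(nat_lit 7687), (nat_lit 8208), (nat_lit 3046)]))) (.node (.leaf .df) (.leaf (.cyc (nat_lit 8) [(nat_lit 10712), (nat_lit 8570), (nat_lit 8037), (nat_lit 9889), (nat_lit 12315)])))) (.node (.node (.leaf .df) (.leaf (.cyc (nat_lit 15) [(nat_lit 3642), (nat_lit 1498), (nat_lit 1499), (nat_lit 9597), (nat_lit 9599), (nat_lit 3094), (nat_lit 3096), (nat_lit 10261), (nat_lit 10262)])))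 (.node (.leaf (.cyc (nat_lit 3) [(nat_lit 1943), (nat_lit 680), (nat_lit 4528), (nat_lit 685), (nat_lit 1958)])) (.leaf .df)))) (.node (.node (.node (.leaf .df) (.leaf (.cyc (nat_lit 25) [(nat_lit 6318), (nat_lit 9242), (nat_lit 6299)]))) (.node (.leaf (.cyc (nat_lit 2) [(nat_lit 923), (nat_lit 922)])) (.leaf .df))) (.node (.node (.leaf .df) (.leaf (.cyc (nat_lit 18) [(nat_lit 3834), (nat_lit 11291)]))) (.node (.leaf (.cyc (nat_lit 6) [(nat_lit 2856), (nat_lit 2855)])) (.leaf .df))))) (.node (.node (.node (.node (.leaf .df) (.leaf (.cyc (nat_lit 28) [(nat_lit 5396), (nat_lit 8726), (nat_lit 1799)]))) (.node (.leaf (.cyc (nat_lit 6) [(nat_lit 359), (nat_lit 4514)])) (.leaf (.cyc (nat_lit 3) [(nat_lit 12612), (nat_lit 10637), (nat_lit 10809), (nat_lit 10808), (nat_lit 12828)])))) (.node (.node (.leaf .df) (.leaf (.cyc (nat_lit 9) [(nat_lit 9588), (nat_lit 6893), (nat_lit 10479), (nat_lit 10478), (nat_lit 3753)]))) (.node (.leaf (.cyc (nat_lit 25) [(nat_lit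 6268), (nat_lit 6683)])) (.leaf .df)))) (.node (.node (.node (.leaf .df) (.leaf (.cyc (nat_lit 29) [(nat_lit 9468), (nat_lit 9756)]))) (.node (.leaf (.cyc (nat_lit 5) [(nat_lit 1423), (nat_lit 1422)])) (.leaf .df))) (.node (.node (.leaf .df) (.leaf (.cyc (nat_lit 2) [(nat_lit 4028), (nat_lit 4027)]))) (.node (.leaf (.cyc (nat_lit 14) [(nat_lit 6182), (nat_lit 3313)])) (.leaf .df)))))) (.node (.node (.node (.node (.node (.leaf .df) (.leaf (.cyc (nat_lit 19) [(nat_lit 6633), (nat_lit 8474)]))) (.node (.leaf (.cyc (nat_lit 10) [(nat_lit 20), (nat_lit 4), (nat_lit 2), (nat_lit 11), (nat_lit 42)])) (.leaf (.cyc (nat_lit 20) [(nat_lit 11861), (nat_lit 11769), (nat_lit 6988), (nat_lit 12438), (nat_lit 10424), (nat_lit 11347), (nat_lit 4205)])))) (.node (.node (.leaf .df) (.leaf (.cyc (nat_lit 32) [(nat_lit 6527), (nat_lit 7345), (nat_lit 9818), (nat_lit 10522), (nat_lit 10524), (nat_lit 9428), (nat_lit 7416), (nat_lit 9564), (nat_lit 9566)]))) (.node (.leaf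 (.cyc (nat_lit 5) [(nat_lit 2238), (nat_lit 2237)])) (.leaf .df)))) (.node (.node (.node (.leaf .df) (.leaf (.cyc (nat_lit 6) [(nat_lit 3347), (nat_lit 3346)]))) (.node (.leaf (.cyc (nat_lit 2) [(nat_lit 1208), (nat_lit 1207)])) (.leaf .df))) (.node (.node (.leaf .df) (.leaf (.cyc (nat_lit 18) [(nat_lit 6964), (nat_lit 11548)]))) (.node (.leaf (.cyc (nat_lit 2) [(nat_lit 3075), (nat_lit 3074)])) (.leaf .df))))) (.node (.node (.node (.node (.leaf .df) (.leaf (.cyc (nat_lit 19) [(nat_lit 1186), (nat_lit 8985), (nat_lit 1581)]))) (.node (.leaf (.cyc (nat_lit 6) [(nat_lit 653), (nat_lit 652)])) (.leaf (.cyc (nat_lit 3) [(nat_lit 13083), (nat_lit 13080), (nat_lit 13081), (nat_lit 4154), (nat_lit 11245)])))) (.node (.node (.leaf .df) (.leaf (.cyc (nat_lit 31) [(nat_lit 2612), (nat_lit 2614), (nat_lit 10866), (nat_lit 8824), (nat_lit 6176), (nat_lit 11035), (nat_lit 3818), (nat_lit 6108)]))) (.node (.leaf (.cyc (nat_lit 1) [(nat_lit 6562), (nat_lit 6939)]))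 (.leaf .df)))) (.node (.node (.node (.leaf .df) (.leaf (.cyc (nat_lit 11) [(nat_lit 3306), (nat_lit 1261), (nat_lit 1263), (nat_lit 3308), (nat_lit 8485), (nat_lit 8873), (nat_lit 3577)]))) (.node (.leaf (.cyc (nat_lit 2) [(nat_lit 1683), (nat_lit 1682)])) (.leaf .df))) (.node (.node (.leaf .df) (.leaf (.cyc (nat_lit 21) [(nat_lit 11500), (nat_lit 12060), (nat_lit 4095), (nat_lit 6400), (nat_lit 4097)]))) (.node (.leaf (.cyc (nat_lit 10) [(nat_lit 6377), (nat_lit 5442), (nat_lit 3271), (nat_lit 7925), (nat_lit 7167)])) (.leaf .df))))))) (.node (.node (.node (.node (.node (.node (.leaf .df) (.leaf (.cyc (nat_lit 19) [(nat_lit 2980), (nat_lit 8347)]))) (.node (.leaf .df) (.leaf (.cyc (nat_lit 13) [(nat_lit 2596), (nat_lit 943), (nat_lit 4605), (nat_lit 5111), (nat_lit 5112), (nat_lit 2471), (nat_lit 4176)])))) (.node (.node (.leaf .df) (.leaf (.cyc (nat_lit 28) [(nat_lit 3337), (nat_lit 10395), (nat_lit 2234)]))) (.node (.leaf (.cyc (nat_lit 8) [(nat_lit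 2065), (nat_lit 2063), (nat_lit 6299), (nat_lit 2103), (nat_lit 2105)])) (.leaf .df)))) (.node (.node (.node (.leaf .df) (.leaf (.cyc (nat_lit 25) [(nat_lit 7533), (nat_lit 9370)]))) (.node (.leaf (.cyc (nat_lit 2) [(nat_lit 1069), (nat_lit 1068)])) (.leaf .df))) (.node (.node (.leaf .df) (.leaf (.cyc (nat_lit 3) [(nat_lit 11258), (nat_lit 11257), (nat_lit 3299), (nat_lit 6066), (nat_lit 3924)]))) (.node (.leaf (.cyc (nat_lit 4) [(nat_lit 2974), (nat_lit 5309), (nat_lit 1154), (nat_lit 6812), (nat_lit 2560)])) (.leaf .df))))) (.node (.node (.node (.node (.leaf .df) (.leaf (.cyc (nat_lit 25) [(nat_lit 7679), (nat_lit 8858)]))) (.node (.leaf (.cyc (nat_lit 5) [(nat_lit 501), (nat_lit 500)])) (.leaf (.cyc (nat_lit 0) [(nat_lit 11811), (nat_lit 12956)])))) (.node (.node (.leaf .df) (.leaf (.cyc (nat_lit 5) [(nat_lit 3791), (nat_lit 3790)]))) (.node (.leaf (.cyc (nat_lit 2) [(nat_lit 2559), (nat_lit 2558)])) (.leaf .df)))) (.node (.node (.node (.leaf .df)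 (.leaf (.cyc (nat_lit 10) [(nat_lit 3533), (nat_lit 1418), (nat_lit 4755), (nat_lit 1419), (nat_lit 3535)]))) (.node (.leaf (.cyc (nat_lit 2) [(nat_lit 1534), (nat_lit 1533)])) (.leaf .df))) (.node (.node (.leaf .df) (.leaf (.cyc (nat_lit 16) [(nat_lit 11662), (nat_lit 11482), (nat_lit 11635), (nat_lit 6977), (nat_lit 9099), (nat_lit 7113), (nat_lit 9098), (nat_lit 11931), (nat_lit 11932)]))) (.node (.leaf (.cyc (nat_lit 6) [(nat_lit 7816), (nat_lit 7729)])) (.leaf .df)))))) (.node (.node (.node (.node (.node (.leaf .df) (.leaf (.cyc (nat_lit 8) [(nat_lit 2205), (nat_lit 781), (nat_lit 4986), (nat_lit 1473), (nat_lit 8603), (nat_lit 6055)]))) (.node (.leaf (.cyc (nat_lit 6) [(nat_lit 207), (nat_lit 206)])) (.leaf (.cyc (nat_lit 6) [(nat_lit 12699), (nat_lit 11724)])))) (.node (.node (.leaf .df) (.leaf (.cyc (nat_lit 13) [(nat_lit 10646), (nat_lit 10645), (nat_lit 10628), (nat_lit 10401), (nat_lit 7224), (nat_lit 7099), (nat_lit 7100)]))) (.node (.leaf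 (.cyc (nat_lit 2) [(nat_lit 2351), (nat_lit 2350)])) (.leaf .df)))) (.node (.node (.node (.leaf .df) (.leaf (.cyc (nat_lit 8) [(nat_lit 9626), (nat_lit 3163), (nat_lit 8786), (nat_lit 5804), (nat_lit 5803)]))) (.node (.leaf (.cyc (nat_lit 2) [(nat_lit 1291), (nat_lit 1290)])) (.leaf .df))) (.node (.node (.leaf .df) (.leaf (.cyc (nat_lit 10) [(nat_lit 10765), (nat_lit 2194), (nat_lit 5007), (nat_lit 1980), (nat_lit 3997)]))) (.node (.leaf (.cyc (nat_lit 2) [(nat_lit 3208), (nat_lit 3207)])) (.leaf .df))))) (.node (.node (.node (.node (.leaf .df) (.leaf (.cyc (nat_lit 25) [(nat_lit 7192), (nat_lit 9116), (nat_lit 6586)]))) (.node (.leaf (.cyc (nat_lit 5) [(nat_lit 795), (nat_lit 794)])) (.leaf (.cyc (nat_lit 8) [(nat_lit 4336), (nat_lit 12532), (nat_lit 12527), (nat_lit 12529), (nat_lit 11114)])))) (.node (.node (.leaf .df) (.leaf (.cyc (nat_lit 1) [(nat_lit 11089), (nat_lit 3858)]))) (.node (.leaf (.cyc (nat_lit 5) [(nat_lit 2729), (nat_lit 2728)])) (.leaf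 .df)))) (.node (.node (.node (.leaf .df) (.leaf (.cyc (nat_lit 6) [(nat_lit 3619), (nat_lit 3618)]))) (.node (.leaf (.cyc (nat_lit 1) [(nat_lit 6009), (nat_lit 1821)])) (.leaf .df))) (.node (.node (.leaf .df) (.leaf (.cyc (nat_lit 3) [(nat_lit 11512), (nat_lit 3952), (nat_lit 11507), (nat_lit 7266), (nat_lit 12188)]))) (.node (.leaf (.cyc (nat_lit 29) [(nat_lit 1904), (nat_lit 8091)])) (.leaf .df))))))))
noncomputable def c4P1011101 : BT Pf := (.node (.node (.node (.node (.node (.node (.node (.leaf .df) (.leaf (.cyc (nat_lit 25) [(nat_lit 7134), (nat_lit 8277)]))) (.node (.leaf .df) (.leaf (.cyc (nat_lit 2) [(nat_lit 4160), (nat_lit 8893)])))) (.node (.node (.leaf .df) (.leaf (.cyc (nat_lit 2) [(nat_lit 3665), (nat_lit 3664)]))) (.node (.leaf (.cyc (nat_lit 5) [(nat_lit 2026), (nat_lit 2025)])) (.leaf .df)))) (.node (.node (.node (.leaf .df) (.leaf (.cyc (nat_lit 25) [(nat_lit 7487), (nat_lit 9307)]))) (.node (.leaf (.cyc (nat_lit 5) [(nat_lit 998), (nat_lit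 997)])) (.leaf .df))) (.node (.node (.leaf .df) (.leaf (.cyc (nat_lit 6) [(nat_lit 3911), (nat_lit 8759)]))) (.node (.leaf (.cyc (nat_lit 3) [(nat_lit 1087), (nat_lit 364), (nat_lit 362), (nat_lit 1081), (nat_lit 2919)])) (.leaf .df))))) (.node (.node (.node (.node (.leaf .df) (.leaf (.cyc (nat_lit 17) [(nat_lit 7565), (nat_lit 8791), (nat_lit 2517)]))) (.node (.leaf (.cyc (nat_lit 17) [(nat_lit 4593), (nat_lit 4700)])) (.leaf (.cyc (nat_lit 4) [(nat_lit 11144), (nat_lit 6338), (nat_lit 4068), (nat_lit 11960), (nat_lit 12891)])))) (.node (.node (.leaf .df) (.leaf (.cyc (nat_lit 18) [(nat_lit 3353), (nat_lit 10843), (nat_lit 3695)]))) (.node (.leaf (.cyc (nat_lit 14) [(nat_lit 5147), (nat_lit 2497)])) (.leaf .df)))) (.node (.node (.node (.leaf .df) (.leaf (.cyc (nat_lit 20) [(nat_lit 1494), (nat_lit 5068), (nat_lit 5069), (nat_lit 9683), (nat_lit 4752), (nat_lit 1399), (nat_lit 3494)]))) (.node (.leaf (.cyc (nat_lit 19) [(nat_lit 5700), (nat_lit 5723)]))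 (.leaf .df))) (.node (.node (.leaf .df) (.leaf (.cyc (nat_lit 25) [(nat_lit 11864), (nat_lit 11866)]))) (.node (.leaf (.cyc (nat_lit 17) [(nat_lit 7741), (nat_lit 7766)])) (.leaf .df)))))) (.node (.node (.node (.node (.node (.leaf .df) (.leaf (.cyc (nat_lit 29) [(nat_lit 6626), (nat_lit 8536)]))) (.node (.leaf (.cyc (nat_lit 6) [(nat_lit 124), (nat_lit 123)])) (.leaf (.cyc (nat_lit 9) [(nat_lit 12636), (nat_lit 11857), (nat_lit 4047), (nat_lit 11838), (nat_lit 12520)])))) (.node (.node (.leaf .df) (.leaf (.cyc (nat_lit 29) [(nat_lit 9827), (nat_lit 10587)]))) (.node (.leaf (.cyc (nat_lit 4) [(nat_lit 2293), (nat_lit 814), (nat_lit 812), (nat_lit 6483), (nat_lit 6484)])) (.leaf .df)))) (.node (.node (.node (.leaf .df) (.leaf (.cyc (nat_lit 0) [(nat_lit 8574), (nat_lit 9564)]))) (.node (.leaf (.cyc (nat_lit 6) [(nat_lit 1264), (nat_lit 1263)])) (.leaf .df))) (.node (.node (.leaf .df) (.leaf (.cyc (nat_lit 10) [(nat_lit 9620), (nat_lit 2899), (nat_lit 2897),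 (nat_lit 11611), (nat_lit 11612)]))) (.node (.leaf (.cyc (nat_lit 4) [(nat_lit 3141), (nat_lit 7436), (nat_lit 2258), (nat_lit 6447), (nat_lit 1621)])) (.leaf .df))))) (.node (.node (.node (.node (.leaf .df) (.leaf (.cyc (nat_lit 21) [(nat_lit 2291), (nat_lit 5050), (nat_lit 5828), (nat_lit 5847), (nat_lit 9052)]))) (.node (.leaf (.cyc (nat_lit 12) [(nat_lit 4956), (nat_lit 708), (nat_lit 231), (nat_lit 70), (nat_lit 19), (nat_lit 21), (nat_lit 76), (nat_lit 4527), (nat_lit 678)])) (.leaf (.cyc (nat_lit 11) [(nat_lit 4028), (nat_lit 9209), (nat_lit 6225), (nat_lit 9213), (nat_lit 2044), (nat_lit 11867), (nat_lit 4323)])))) (.node (.node (.leaf .df) (.leaf (.cyc (nat_lit 8) [(nat_lit 1784), (nat_lit 1782), (nat_lit 11097), (nat_lit 11099), (nat_lit 9518)]))) (.node (.leaf (.cyc (nat_lit 6) [(nat_lit 2683), (nat_lit 2682)])) (.leaf .df)))) (.node (.node (.node (.leaf .df) (.leaf (.cyc (nat_lit 18) [(nat_lit 9666), (nat_lit 10076)]))) (.node (.leaf (.cyc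 (nat_lit 4) [(nat_lit 5848), (nat_lit 5856), (nat_lit 1518), (nat_lit 4861), (nat_lit 1758)])) (.leaf .df))) (.node (.node (.leaf .df) (.leaf (.cyc (nat_lit 13) [(nat_lit 9669), (nat_lit 3472), (nat_lit 10080), (nat_lit 3494), (nat_lit 5640), (nat_lit 3498), (nat_lit 12120)]))) (.node (.leaf (.cyc (nat_lit 19) [(nat_lit 2970), (nat_lit 8025), (nat_lit 1076)])) (.leaf .df))))))) (.node (.node (.node (.node (.node (.node (.leaf .df) (.leaf (.cyc (nat_lit 17) [(nat_lit 5790), (nat_lit 8408)]))) (.node (.leaf .df) (.leaf (.cyc (nat_lit 21) [(nat_lit 12496), (nat_lit 12329), (nat_lit 12413), (nat_lit 12411), (nat_lit 4189)])))) (.node (.node (.leaf .df) (.leaf (.cyc (nat_lit 16) [(nat_lit 9546), (nat_lit 5926), (nat_lit 5967), (nat_lit 8487), (nat_lit 8488), (nat_lit 10457), (nat_lit 10458), (nat_lit 2466), (nat_lit 2468)]))) (.node (.leaf (.cyc (nat_lit 7) [(nat_lit 2150), (nat_lit 760), (nat_lit 4555), (nat_lit 4557), (nat_lit 4556), (nat_lit 768), (nat_lit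 2171)])) (.leaf .df)))) (.node (.node (.node (.leaf .df) (.leaf (.cyc (nat_lit 19) [(nat_lit 3059), (nat_lit 9435)]))) (.node (.leaf (.cyc (nat_lit 14) [(nat_lit 5336), (nat_lit 1142)])) (.leaf .df))) (.node (.node (.leaf .df) (.leaf (.cyc (nat_lit 5) [(nat_lit 3937), (nat_lit 3936)]))) (.node (.leaf (.cyc (nat_lit 6) [(nat_lit 7388), (nat_lit 7378)])) (.leaf .df))))) (.node (.node (.node (.node (.leaf .df) (.leaf (.cyc (nat_lit 21) [(nat_lit 8352), (nat_lit 8923), (nat_lit 903), (nat_lit 900), (nat_lit 2494)]))) (.node (.leaf (.cyc (nat_lit 9) [(nat_lit 579), (nat_lit 186), (nat_lit 4391), (nat_lit 183), (nat_lit 573)])) (.leaf (.cyc (nat_lit 14) [(nat_lit 12609), (nat_lit 4297)])))) (.node (.node (.leaf .df) (.leaf (.cyc (nat_lit 8) [(nat_lit 10774), (nat_lit 3750), (nat_lit 10536), (nat_lit 9565), (nat_lit 10970)]))) (.node (.leaf (.cyc (nat_lit 1) [(nat_lit 5646), (nat_lit 2606)])) (.leaf .df)))) (.node (.node (.node (.leaf .df) (.leaf (.cyc (nat_lit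 5) [(nat_lit 9948), (nat_lit 9029)]))) (.node (.leaf (.cyc (nat_lit 13) [(nat_lit 5779), (nat_lit 5852), (nat_lit 816), (nat_lit 4566), (nat_lit 4436), (nat_lit 342), (nat_lit 1019)])) (.leaf .df))) (.node (.node (.leaf .df) (.leaf (.cyc (nat_lit 20) [(nat_lit 3691), (nat_lit 5808), (nat_lit 5269), (nat_lit 5246), (nat_lit 5001), (nat_lit 2182), (nat_lit 4081)]))) (.node (.leaf (.cyc (nat_lit 28) [(nat_lit 1187), (nat_lit 7895), (nat_lit 1244)])) (.leaf .df)))))) (.node (.node (.node (.node (.node (.leaf .df) (.leaf (.cyc (nat_lit 3) [(nat_lit 2398), (nat_lit 7170), (nat_lit 7410), (nat_lit 8662), (nat_lit 3020), (nat_lit 3022)]))) (.node (.leaf (.cyc (nat_lit 6) [(nat_lit 276), (nat_lit 275)])) (.leaf (.cyc (nat_lit 23) [(nat_lit 12550), (nat_lit 12226), (nat_lit 7054), (nat_lit 2575), (nat_lit 7058), (nat_lit 3967), (nat_lit 11574), (nat_lit 12762), (nat_lit 12763)])))) (.node (.node (.leaf .df) (.leaf (.cyc (nat_lit 3) [(nat_lit 3233), (nat_lit 5421),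 (nat_lit 6870), (nat_lit 5836), (nat_lit 3738)]))) (.node (.leaf (.cyc (nat_lit 5) [(nat_lit 2414), (nat_lit 2413)])) (.leaf .df)))) (.node (.node (.node (.leaf .df) (.leaf (.cyc (nat_lit 18) [(nat_lit 6539), (nat_lit 9690)]))) (.node (.leaf (.cyc (nat_lit 6) [(nat_lit 1344), (nat_lit 1343)])) (.leaf .df))) (.node (.node (.leaf .df) (.leaf (.cyc (nat_lit 2) [(nat_lit 4011), (nat_lit 4010)]))) (.node (.leaf (.cyc (nat_lit 2) [(nat_lit 3263), (nat_lit 3262)])) (.leaf .df))))) (.node (.node (.node (.node (.leaf .df) (.leaf (.cyc (nat_lit 29) [(nat_lit 1882), (nat_lit 9180), (nat_lit 5833)]))) (.node (.leaf (.cyc (nat_lit 11) [(nat_lit 303), (nat_lit 93), (nat_lit 26), (nat_lit 24), (nat_lit 87), (nat_lit 281), (nat_lit 849)])) (.leaf (.cyc (nat_lit 22) [(nat_lit 13275), (nat_lit 12859), (nat_lit 12860), (nat_lit 12507), (nat_lit 12508), (nat_lit 12057), (nat_lit 13242)])))) (.node (.node (.leaf .df) (.leaf (.cyc (nat_lit 28) [(nat_lit 3799), (nat_lit 11228),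 (nat_lit 2403)]))) (.node (.leaf (.cyc (nat_lit 2) [(nat_lit 2782), (nat_lit 2781)])) (.leaf .df)))) (.node (.node (.node (.leaf .df) (.leaf (.cyc (nat_lit 1) [(nat_lit 10202), (nat_lit 10204)]))) (.node (.leaf (.cyc (nat_lit 4) [(nat_lit 4901), (nat_lit 4902), (nat_lit 4863), (nat_lit 4898), (nat_lit 1889)])) (.leaf .df))) (.node (.node (.leaf .df) (.leaf (.cyc (nat_lit 2) [(nat_lit 4139), (nat_lit 10900)]))) (.node (.leaf (.cyc (nat_lit 25) [(nat_lit 7197), (nat_lit 8154), (nat_lit 2831)])) (.leaf .df))))))))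
noncomputable def c4P101110 : BT Pf := .node c4P1011100 c4P1011101
noncomputable def c4P1011110 : BT Pf := (.node (.node (.node (.node (.node (.node (.node (.leaf .df) (.leaf (.cyc (nat_lit 17) [(nat_lit 7403), (nat_lit 8252)]))) (.node (.leaf .df) (.leaf (.cyc (nat_lit 0) [(nat_lit 12223), (nat_lit 4152)])))) (.node (.node (.leaf .df) (.leaf (.cyc (nat_lit 29) [(nat_lit 10026), (nat_lit 10299)]))) (.node (.leaf (.cyc (nat_lit 5) [(nat_lit 1993), (nat_lit 1992)])) (.leaf .df)))) (.node (.node (.node (.leaf .df) (.leaf (.cyc (nat_lit 29) [(nat_lit 1390), (nat_lit 9275)]))) (.node (.leaf (.cyc (nat_lit 4) [(nat_lit 562), (nat_lit 560), (nat_lit 4815), (nat_lit 4610), (nat_lit 960)])) (.leaf .df))) (.node (.node (.leaf .df) (.leaf (.cyc (nat_lit 5) [(nat_lit 3901), (nat_lit 11109)]))) (.node (.leaf (.cyc (nat_lit 6) [(nat_lit 2896), (nat_lit 2895)])) (.leaf .df))))) (.node (.node (.node (.node (.leaf .df) (.leaf (.cyc (nat_lit 29) [(nat_lit 1837), (nat_lit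 8761), (nat_lit 5457)]))) (.node (.leaf (.cyc (nat_lit 14) [(nat_lit 4652), (nat_lit 392)])) (.leaf (.cyc (nat_lit 2) [(nat_lit 4265), (nat_lit 4264)])))) (.node (.node (.leaf .df) (.leaf (.cyc (nat_lit 27) [(nat_lit 3762), (nat_lit 1621), (nat_lit 6447), (nat_lit 2258), (nat_lit 7514), (nat_lit 8422), (nat_lit 1869)]))) (.node (.leaf (.cyc (nat_lit 33) [(nat_lit 2263), (nat_lit 5036), (nat_lit 6461), (nat_lit 6716), (nat_lit 2223), (nat_lit 5017), (nat_lit 2227)])) (.leaf .df)))) (.node (.node (.node (.leaf .df) (.leaf (.cyc (nat_lit 20) [(nat_lit 1625), (nat_lit 1627), (nat_lit 9058), (nat_lit 5129), (nat_lit 6657), (nat_lit 6659), (nat_lit 9787)]))) (.node (.leaf (.cyc (nat_lit 26) [(nat_lit 1343), (nat_lit 459), (nat_lit 4463), (nat_lit 455), (nat_lit 5563), (nat_lit 5564), (nat_lit 502), (nat_lit 500), (nat_lit 1462)])) (.leaf .df))) (.node (.node (.leaf .df) (.leaf (.cyc (nat_lit 10) [(nat_lit 11832), (nat_lit 11836), (nat_lit 9778), (nat_lit 9779),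 (nat_lit 8153)]))) (.node (.leaf (.cyc (nat_lit 25) [(nat_lit 7666), (nat_lit 7739)])) (.leaf .df)))))) (.node (.node (.node (.node (.node (.leaf .df) (.leaf (.cyc (nat_lit 4) [(nat_lit 2663), (nat_lit 2661), (nat_lit 6981), (nat_lit 5669), (nat_lit 8507)]))) (.node (.leaf (.cyc (nat_lit 8) [(nat_lit 82), (nat_lit 4367), (nat_lit 4366), (nat_lit 48), (nat_lit 4394)])) (.leaf (.cyc (nat_lit 2) [(nat_lit 4211), (nat_lit 4210)])))) (.node (.node (.leaf .df) (.leaf (.cyc (nat_lit 0) [(nat_lit 10555), (nat_lit 10556)]))) (.node (.leaf (.cyc (nat_lit 29) [(nat_lit 5661), (nat_lit 6459)])) (.leaf .df)))) (.node (.node (.node (.leaf .df) (.leaf (.cyc (nat_lit 3) [(nat_lit 1506), (nat_lit 4784), (nat_lit 4716), (nat_lit 1304), (nat_lit 3371)]))) (.node (.leaf (.cyc (nat_lit 12) [(nat_lit 5429), (nat_lit 5428), (nat_lit 663), (nat_lit 4513), (nat_lit 4492), (nat_lit 580), (nat_lit 4831), (nat_lit 577), (nat_lit 575)])) (.leaf .df))) (.node (.node (.leaf .df) (.leaf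 (.cyc (nat_lit 2) [(nat_lit 3970), (nat_lit 3969)]))) (.node (.leaf (.cyc (nat_lit 5) [(nat_lit 3111), (nat_lit 3110)])) (.leaf .df))))) (.node (.node (.node (.node (.leaf .df) (.leaf (.cyc (nat_lit 19) [(nat_lit 5778), (nat_lit 9020), (nat_lit 2991)]))) (.node (.leaf (.cyc (nat_lit 2) [(nat_lit 687), (nat_lit 686)])) (.leaf (.cyc (nat_lit 2) [(nat_lit 13116), (nat_lit 12026)])))) (.node (.node (.leaf .df) (.leaf (.cyc (nat_lit 1) [(nat_lit 7587), (nat_lit 11065)]))) (.node (.leaf (.cyc (nat_lit 18) [(nat_lit 1505), (nat_lit 6972)])) (.leaf .df)))) (.node (.node (.node (.leaf .df) (.leaf (.cyc (nat_lit 3) [(nat_lit 3586), (nat_lit 3589), (nat_lit 10044), (nat_lit 6113), (nat_lit 9998)]))) (.node (.leaf (.cyc (nat_lit 2) [(nat_lit 1719), (nat_lit 1718)])) (.leaf .df))) (.node (.node (.leaf .df) (.leaf (.cyc (nat_lit 6) [(nat_lit 4106), (nat_lit 4105)]))) (.node (.leaf (.cyc (nat_lit 19) [(nat_lit 2919), (nat_lit 7990)])) (.leaf .df))))))) (.node (.node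 (.node (.node (.node (.node (.leaf .df) (.leaf (.cyc (nat_lit 29) [(nat_lit 6435), (nat_lit 8380), (nat_lit 1992)]))) (.node (.leaf .df) (.leaf (.cyc (nat_lit 19) [(nat_lit 11043), (nat_lit 12475)])))) (.node (.node (.leaf .df) (.leaf (.cyc (nat_lit 13) [(nat_lit 3019), (nat_lit 7386), (nat_lit 9148), (nat_lit 9356), (nat_lit 6030), (nat_lit 10042), (nat_lit 10428)]))) (.node (.leaf (.cyc (nat_lit 29) [(nat_lit 2053), (nat_lit 6331)])) (.leaf .df)))) (.node (.node (.node (.leaf .df) (.leaf (.cyc (nat_lit 0) [(nat_lit 9391), (nat_lit 9404)]))) (.node (.leaf (.cyc (nat_lit 1) [(nat_lit 4670), (nat_lit 1105)])) (.leaf .df))) (.node (.node (.leaf .df) (.leaf (.cyc (nat_lit 6) [(nat_lit 11452), (nat_lit 10219)]))) (.node (.leaf (.cyc (nat_lit 2) [(nat_lit 2996), (nat_lit 2995)])) (.leaf .df))))) (.node (.node (.node (.node (.leaf .df) (.leaf (.cyc (nat_lit 20) [(nat_lit 8877), (nat_lit 2348), (nat_lit 2345), (nat_lit 8892), (nat_lit 2365), (nat_lit 8544),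 (nat_lit 2421)]))) (.node (.leaf (.cyc (nat_lit 1) [(nat_lit 4495), (nat_lit 537)])) (.leaf (.cyc (nat_lit 4) [(nat_lit 12145), (nat_lit 12864), (nat_lit 12862), (nat_lit 12987), (nat_lit 4291)])))) (.node (.node (.leaf .df) (.leaf (.cyc (nat_lit 19) [(nat_lit 3793), (nat_lit 10939)]))) (.node (.leaf (.cyc (nat_lit 8) [(nat_lit 5454), (nat_lit 2568), (nat_lit 6843), (nat_lit 2586), (nat_lit 2588)])) (.leaf .df)))) (.node (.node (.node (.leaf .df) (.leaf (.cyc (nat_lit 28) [(nat_lit 6420), (nat_lit 9916)]))) (.node (.leaf (.cyc (nat_lit 2) [(nat_lit 1572), (nat_lit 4896)])) (.leaf .df))) (.node (.node (.leaf .df) (.leaf (.cyc (nat_lit 10) [(nat_lit 4034), (nat_lit 11457), (nat_lit 3858), (nat_lit 11954), (nat_lit 11964)]))) (.node (.leaf (.cyc (nat_lit 25) [(nat_lit 3064), (nat_lit 7867), (nat_lit 5353)])) (.leaf .df)))))) (.node (.node (.node (.node (.node (.leaf .df) (.leaf (.cyc (nat_lit 3) [(nat_lit 8636), (nat_lit 8635), (nat_lit 1312), (nat_lit 1314),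 (nat_lit 8559)]))) (.node (.leaf (.cyc (nat_lit 11) [(nat_lit 112), (nat_lit 31), (nat_lit 33), (nat_lit 4427), (nat_lit 4415), (nat_lit 4405), (nat_lit 242)])) (.leaf (.cyc (nat_lit 5) [(nat_lit 4238), (nat_lit 11206)])))) (.node (.node (.leaf .df) (.leaf (.cyc (nat_lit 33) [(nat_lit 9627), (nat_lit 9630), (nat_lit 7187), (nat_lit 9152), (nat_lit 10678), (nat_lit 5819), (nat_lit 3718)]))) (.node (.leaf (.cyc (nat_lit 3) [(nat_lit 2379), (nat_lit 6588), (nat_lit 1111), (nat_lit 4743), (nat_lit 1383)])) (.leaf .df)))) (.node (.node (.node (.leaf .df) (.leaf (.cyc (nat_lit 8) [(nat_lit 9657), (nat_lit 9659), (nat_lit 2312), (nat_lit 8123), (nat_lit 6477)]))) (.node (.leaf (.cyc (nat_lit 2) [(nat_lit 1310), (nat_lit 1309)])) (.leaf .df))) (.node (.node (.leaf .df) (.leaf (.cyc (nat_lit 18) [(nat_lit 10320), (nat_lit 11708)]))) (.node (.leaf (.cyc (nat_lit 5) [(nat_lit 3234), (nat_lit 3233)])) (.leaf .df))))) (.node (.node (.node (.node (.leaf .df) (.leaf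 (.cyc (nat_lit 10) [(nat_lit 2841), (nat_lit 5261), (nat_lit 9129), (nat_lit 7008), (nat_lit 7105)]))) (.node (.leaf (.cyc (nat_lit 14) [(nat_lit 4949), (nat_lit 818)])) (.leaf (.cyc (nat_lit 5) [(nat_lit 4343), (nat_lit 12612)])))) (.node (.node (.leaf .df) (.leaf (.cyc (nat_lit 3) [(nat_lit 11196), (nat_lit 9826), (nat_lit 10589), (nat_lit 10590), (nat_lit 6380)]))) (.node (.leaf (.cyc (nat_lit 5) [(nat_lit 2749), (nat_lit 2748)])) (.leaf .df)))) (.node (.node (.node (.leaf .df) (.leaf (.cyc (nat_lit 8) [(nat_lit 9280), (nat_lit 3129), (nat_lit 3132), (nat_lit 9294), (nat_lit 10172)]))) (.node (.leaf (.cyc (nat_lit 2) [(nat_lit 1851), (nat_lit 1850)])) (.leaf .df))) (.node (.node (.leaf .df) (.leaf (.cyc (nat_lit 3) [(nat_lit 3196), (nat_lit 6472), (nat_lit 8124), (nat_lit 2313), (nat_lit 4132)]))) (.node (.leaf (.cyc (nat_lit 20) [(nat_lit 1361), (nat_lit 4738), (nat_lit 4570), (nat_lit 820), (nat_lit 8124), (nat_lit 6472), (nat_lit 3196)])) (.leaf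 .df))))))))
noncomputable def c4P1011111 : BT Pf := (.node (.node (.node (.node (.node (.node (.node (.leaf .df) (.leaf (.cyc (nat_lit 25) [(nat_lit 2425), (nat_lit 8300)]))) (.node (.leaf .df) (.leaf (.cyc (nat_lit 22) [(nat_lit 12412), (nat_lit 11869), (nat_lit 11867), (nat_lit 6254), (nat_lit 9227), (nat_lit 6605), (nat_lit 4148)])))) (.node (.node (.leaf .df) (.leaf (.cyc (nat_lit 20) [(nat_lit 1792), (nat_lit 1794), (nat_lit 7835), (nat_lit 4941), (nat_lit 5792), (nat_lit 10358), (nat_lit 10363)]))) (.node (.leaf (.cyc (nat_lit 5) [(nat_lit 2063), (nat_lit 2062)])) (.leaf .df)))) (.node (.node (.node (.leaf .df) (.leaf (.cyc (nat_lit 28) [(nat_lit 2904), (nat_lit 9340)]))) (.node (.leaf (.cyc (nat_lit 6) [(nat_lit 1031), (nat_lit 1030)])) (.leaf .df))) (.node (.node (.leaf .df) (.leaf (.cyc (nat_lit 19) [(nat_lit 3254), (nat_lit 11384)]))) (.node (.leaf (.cyc (nat_lit 9) [(nat_lit 2952), (nat_lit 5302), (nat_lit 1049), (nat_lit 1051), (nat_lit 2851)]))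 (.leaf .df))))) (.node (.node (.node (.node (.leaf .df) (.leaf (.cyc (nat_lit 25) [(nat_lit 6532), (nat_lit 8826)]))) (.node (.leaf (.cyc (nat_lit 2) [(nat_lit 465), (nat_lit 464)])) (.leaf (.cyc (nat_lit 13) [(nat_lit 4280), (nat_lit 9462), (nat_lit 11497), (nat_lit 12524), (nat_lit 12523), (nat_lit 12635), (nat_lit 9837)])))) (.node (.node (.leaf .df) (.leaf (.cyc (nat_lit 29) [(nat_lit 10874), (nat_lit 10876)]))) (.node (.leaf (.cyc (nat_lit 9) [(nat_lit 2391), (nat_lit 6777), (nat_lit 602), (nat_lit 604), (nat_lit 1736)])) (.leaf .df)))) (.node (.node (.node (.leaf .df) (.leaf (.cyc (nat_lit 28) [(nat_lit 3463), (nat_lit 9852)]))) (.node (.leaf (.cyc (nat_lit 2) [(nat_lit 1503), (nat_lit 1502)])) (.leaf .df))) (.node (.node (.leaf .df) (.leaf (.cyc (nat_lit 22) [(nat_lit 4055), (nat_lit 10883), (nat_lit 10593), (nat_lit 5978), (nat_lit 11238), (nat_lit 11237), (nat_lit 11455)]))) (.node (.leaf (.cyc (nat_lit 20) [(nat_lit 7435), (nat_lit 7434), (nat_lit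 2249), (nat_lit 6946), (nat_lit 7803), (nat_lit 6358), (nat_lit 6360)])) (.leaf .df)))))) (.node (.node (.node (.node (.node (.leaf .df) (.leaf (.cyc (nat_lit 9) [(nat_lit 8243), (nat_lit 2717), (nat_lit 5207), (nat_lit 2677), (nat_lit 7280)]))) (.node (.leaf (.cyc (nat_lit 2) [(nat_lit 163), (nat_lit 162)])) (.leaf (.cyc (nat_lit 1) [(nat_lit 12619), (nat_lit 4225)])))) (.node (.node (.leaf .df) (.leaf (.cyc (nat_lit 28) [(nat_lit 6222), (nat_lit 10620)]))) (.node (.leaf (.cyc (nat_lit 6) [(nat_lit 2313), (nat_lit 2312)])) (.leaf .df)))) (.node (.node (.node (.leaf .df) (.leaf (.cyc (nat_lit 31) [(nat_lit 1499), (nat_lit 1497), (nat_lit 9595), (nat_lit 606), (nat_lit 4499), (nat_lit 609), (nat_lit 1749)]))) (.node (.leaf (.cyc (nat_lit 3) [(nat_lit 869), (nat_lit 5113), (nat_lit 5498), (nat_lit 5500), (nat_lit 537), (nat_lit 538)])) (.leaf .df))) (.node (.node (.leaf .df) (.leaf (.cyc (nat_lit 20) [(nat_lit 3936), (nat_lit 6089), (nat_lit 5912), (nat_lit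 3815), (nat_lit 11026), (nat_lit 6184), (nat_lit 3988)]))) (.node (.leaf (.cyc (nat_lit 9) [(nat_lit 3182), (nat_lit 1201), (nat_lit 4682), (nat_lit 1198), (nat_lit 5458)])) (.leaf .df))))) (.node (.node (.node (.node (.leaf .df) (.leaf (.cyc (nat_lit 29) [(nat_lit 7520), (nat_lit 9083)]))) (.node (.leaf (.cyc (nat_lit 5) [(nat_lit 762), (nat_lit 761)])) (.leaf (.cyc (nat_lit 13) [(nat_lit 3619), (nat_lit 12115), (nat_lit 12300), (nat_lit 3519), (nat_lit 9838), (nat_lit 9841), (nat_lit 4330)])))) (.node (.node (.leaf .df) (.leaf (.cyc (nat_lit 8) [(nat_lit 3845), (nat_lit 5933), (nat_lit 5528), (nat_lit 1725), (nat_lit 11089)]))) (.node (.leaf (.cyc (nat_lit 15) [(nat_lit 2720), (nat_lit 995), (nat_lit 333), (nat_lit 4434), (nat_lit 338), (nat_lit 4622), (nat_lit 4627), (nat_lit 1027), (nat_lit 6884)])) (.leaf .df)))) (.node (.node (.node (.leaf .df) (.leaf (.cyc (nat_lit 18) [(nat_lit 6160), (nat_lit 10108)]))) (.node (.leaf (.cyc (nat_lit 4) [(nat_lit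 1776), (nat_lit 618), (nat_lit 199), (nat_lit 202), (nat_lit 627)])) (.leaf .df))) (.node (.node (.leaf .df) (.leaf (.cyc (nat_lit 20) [(nat_lit 3768), (nat_lit 5869), (nat_lit 5831), (nat_lit 5820), (nat_lit 12156), (nat_lit 8507), (nat_lit 5669), (nat_lit 6981)]))) (.node (.leaf (.cyc (nat_lit 17) [(nat_lit 2799), (nat_lit 8060)])) (.leaf .df))))))) (.node (.node (.node (.node (.node (.node (.leaf .df) (.leaf (.cyc (nat_lit 18) [(nat_lit 2089), (nat_lit 8443)]))) (.node (.leaf .df) (.leaf (.cyc (nat_lit 20) [(nat_lit 11611), (nat_lit 11609), (nat_lit 2613), (nat_lit 5176), (nat_lit 2617), (nat_lit 7964), (nat_lit 12539)])))) (.node (.node (.leaf .df) (.leaf (.cyc (nat_lit 19) [(nat_lit 6346), (nat_lit 10492), (nat_lit 3636)]))) (.node (.leaf (.cyc (nat_lit 5) [(nat_lit 2196), (nat_lit 2195)])) (.leaf .df)))) (.node (.node (.node (.leaf .df) (.leaf (.cyc (nat_lit 32) [(nat_lit 7768), (nat_lit 7770), (nat_lit 7620), (nat_lit 1245), (nat_lit 7905), (nat_lit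 5408), (nat_lit 1212), (nat_lit 1214), (nat_lit 3212), (nat_lit 7583)]))) (.node (.leaf (.cyc (nat_lit 13) [(nat_lit 1175), (nat_lit 398), (nat_lit 126), (nat_lit 4377), (nat_lit 119), (nat_lit 373), (nat_lit 1106)])) (.leaf .df))) (.node (.node (.leaf .df) (.leaf (.cyc (nat_lit 5) [(nat_lit 3956), (nat_lit 3955)]))) (.node (.leaf (.cyc (nat_lit 8) [(nat_lit 3053), (nat_lit 7390), (nat_lit 7389), (nat_lit 2375), (nat_lit 2377)])) (.leaf .df))))) (.node (.node (.node (.node (.leaf .df) (.leaf (.cyc (nat_lit 19) [(nat_lit 6410), (nat_lit 8956), (nat_lit 7341)]))) (.node (.leaf (.cyc (nat_lit 4) [(nat_lit 612), (nat_lit 196), (nat_lit 194), (nat_lit 603), (nat_lit 4852)])) (.leaf (.cyc (nat_lit 20) [(nat_lit 3672), (nat_lit 5781), (nat_lit 4835), (nat_lit 7798), (nat_lit 10171), (nat_lit 11328), (nat_lit 13050)])))) (.node (.node (.leaf .df) (.leaf (.cyc (nat_lit 25) [(nat_lit 10045), (nat_lit 11001)]))) (.node (.leaf (.cyc (nat_lit 9) [(nat_lit 2633), (nat_lit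 961), (nat_lit 321), (nat_lit 323), (nat_lit 968)])) (.leaf .df)))) (.node (.node (.node (.leaf .df) (.leaf (.cyc (nat_lit 2) [(nat_lit 3563), (nat_lit 3562)]))) (.node (.leaf (.cyc (nat_lit 6) [(nat_lit 1642), (nat_lit 1641)])) (.leaf .df))) (.node (.node (.leaf .df) (.leaf (.cyc (nat_lit 4) [(nat_lit 4090), (nat_lit 11627), (nat_lit 11626), (nat_lit 9503), (nat_lit 11433)]))) (.node (.leaf (.cyc (nat_lit 17) [(nat_lit 6133), (nat_lit 7929), (nat_lit 1039)])) (.leaf .df)))))) (.node (.node (.node (.node (.node (.leaf .df) (.leaf (.cyc (nat_lit 25) [(nat_lit 2075), (nat_lit 8698), (nat_lit 1122)]))) (.node (.leaf (.cyc (nat_lit 2) [(nat_lit 316), (nat_lit 315)])) (.leaf (.cyc (nat_lit 6) [(nat_lit 4253), (nat_lit 7969)])))) (.node (.node (.leaf .df) (.leaf (.cyc (nat_lit 4) [(nat_lit 8379), (nat_lit 6890), (nat_lit 10748), (nat_lit 10743), (nat_lit 2082)]))) (.node (.leaf (.cyc (nat_lit 2) [(nat_lit 2440), (nat_lit 2439)])) (.leaf .df)))) (.node (.node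 (.node (.leaf .df) (.leaf (.cyc (nat_lit 25) [(nat_lit 6547), (nat_lit 9723)]))) (.node (.leaf (.cyc (nat_lit 2) [(nat_lit 1384), (nat_lit 1383)])) (.leaf .df))) (.node (.node (.leaf .df) (.leaf (.cyc (nat_lit 2) [(nat_lit 11771), (nat_lit 11410)]))) (.node (.leaf (.cyc (nat_lit 2) [(nat_lit 3294), (nat_lit 3293)])) (.leaf .df))))) (.node (.node (.node (.node (.leaf .df) (.leaf (.cyc (nat_lit 28) [(nat_lit 2043), (nat_lit 9212)]))) (.node (.leaf (.cyc (nat_lit 8) [(nat_lit 5114), (nat_lit 440), (nat_lit 4701), (nat_lit 4498), (nat_lit 603)])) (.leaf .df))) (.node (.node (.leaf .df) (.leaf (.cyc (nat_lit 9) [(nat_lit 6023), (nat_lit 7835), (nat_lit 2021), (nat_lit 8325), (nat_lit 3889)]))) (.node (.leaf (.cyc (nat_lit 2) [(nat_lit 2810), (nat_lit 2809)])) (.leaf .df)))) (.node (.node (.node (.leaf .df) (.leaf (.cyc (nat_lit 8) [(nat_lit 6168), (nat_lit 8699), (nat_lit 7368), (nat_lit 10151), (nat_lit 3638)]))) (.node (.leaf (.cyc (nat_lit 2) [(nat_lit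 1930), (nat_lit 1929)])) (.leaf .df))) (.node (.node (.leaf .df) (.leaf (.cyc (nat_lit 28) [(nat_lit 4108), (nat_lit 12284)]))) (.node (.leaf (.cyc (nat_lit 29) [(nat_lit 7965), (nat_lit 8184), (nat_lit 1323)])) (.leaf .df))))))))
noncomputable def c4P101111 : BT Pf := .node c4P1011110 c4P1011111
noncomputable def c4P10111 : BT Pf := .node c4P101110 c4P101111
noncomputable def c4P1011 : BT Pf := .node c4P10110 c4P10111
noncomputable def c4P101 : BT Pf := .node c4P1010 c4P1011
noncomputable def c4P10 : BT Pf := .node c4P100 c4P101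
noncomputable def c4P1100000 : BT Pf := (.node (.node (.node (.node (.node (.node (.node (.leaf .df) (.leaf (.cyc (nat_lit 10) [(nat_lit 1329), (nat_lit 454), (nat_lit 452), (nat_lit 8172), (nat_lit 2822)]))) (.node (.leaf .df) (.leaf (.cyc (nat_lit 3) [(nat_lit 11214), (nat_lit 2002), (nat_lit 2000), (nat_lit 8330), (nat_lit 4146)])))) (.node (.node (.leaf .df) (.leaf (.cyc (nat_lit 4) [(nat_lit 7018), (nat_lit 7558), (nat_lit 3188), (nat_lit 3190), (nat_lit 10241)]))) (.node (.leaf (.cyc (nat_lit 1) [(nat_lit 4963), (nat_lit 1934)])) (.leaf .df)))) (.node (.node (.node (.leaf .df) (.leaf (.cyc (nat_lit 17) [(nat_lit 7381), (nat_lit 9216)]))) (.node (.leaf (.cyc (nat_lit 6) [(nat_lit 897), (nat_lit 896)])) (.leaf .df))) (.node (.node (.leaf .df) (.leaf (.cyc (nat_lit 8) [(nat_lit 3890), (nat_lit 1755), (nat_lit 1757), (nat_lit 8374), (nat_lit 3648)]))) (.node (.leaf (.cyc (nat_lit 12) [(nat_lit 7170), (nat_lit 2398), (nat_lit 856), (nat_lit 4579), (nat_lit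 5076), (nat_lit 5150), (nat_lit 6580), (nat_lit 2367), (nat_lit 2365)])) (.leaf .df))))) (.node (.node (.node (.node (.leaf .df) (.leaf (.cyc (nat_lit 19) [(nat_lit 1123), (nat_lit 8703)]))) (.node (.leaf (.cyc (nat_lit 2) [(nat_lit 324), (nat_lit 323)])) (.leaf (.cyc (nat_lit 11) [(nat_lit 4046), (nat_lit 2082), (nat_lit 10743), (nat_lit 10748), (nat_lit 6813), (nat_lit 11360), (nat_lit 12802)])))) (.node (.node (.leaf .df) (.leaf (.cyc (nat_lit 29) [(nat_lit 3744), (nat_lit 10754), (nat_lit 6372)]))) (.node (.leaf (.cyc (nat_lit 6) [(nat_lit 2446), (nat_lit 2445)])) (.leaf .df)))) (.node (.node (.node (.leaf .df) (.leaf (.cyc (nat_lit 19) [(nat_lit 3137), (nat_lit 9729)]))) (.node (.leaf (.cyc (nat_lit 10) [(nat_lit 1392), (nat_lit 475), (nat_lit 4468), (nat_lit 477), (nat_lit 1394)])) (.leaf .df))) (.node (.node (.leaf .df) (.leaf (.cyc (nat_lit 23) [(nat_lit 11602), (nat_lit 3877), (nat_lit 7951), (nat_lit 7954), (nat_lit 5274), (nat_lit 5279), (nat_lit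 2901), (nat_lit 9625), (nat_lit 11777)]))) (.node (.leaf (.cyc (nat_lit 6) [(nat_lit 3297), (nat_lit 5599)])) (.leaf .df)))))) (.node (.node (.node (.node (.node (.leaf .df) (.leaf (.cyc (nat_lit 28) [(nat_lit 2118), (nat_lit 8447)]))) (.node (.leaf (.cyc (nat_lit 3) [(nat_lit 1), (nat_lit 0), (nat_lit 4351), (nat_lit 0), (nat_lit 5)])) (.leaf (.cyc (nat_lit 2) [(nat_lit 4198), (nat_lit 10484)])))) (.node (.node (.leaf .df) (.leaf (.cyc (nat_lit 18) [(nat_lit 9622), (nat_lit 10498)]))) (.node (.leaf (.cyc (nat_lit 5) [(nat_lit 2203), (nat_lit 2202)])) (.leaf .df)))) (.node (.node (.node (.leaf .df) (.leaf (.cyc (nat_lit 13) [(nat_lit 9473), (nat_lit 1931), (nat_lit 4917), (nat_lit 4954), (nat_lit 4955), (nat_lit 8711), (nat_lit 3005)]))) (.node (.leaf (.cyc (nat_lit 4) [(nat_lit 1184), (nat_lit 400), (nat_lit 398), (nat_lit 1175), (nat_lit 5373)])) (.leaf .df))) (.node (.node (.leaf .df) (.leaf (.cyc (nat_lit 3) [(nat_lit 7824), (nat_lit 2139), (nat_lit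 11519), (nat_lit 11522), (nat_lit 2593), (nat_lit 2595)]))) (.node (.leaf (.cyc (nat_lit 17) [(nat_lit 7422), (nat_lit 7426)])) (.leaf .df))))) (.node (.node (.node (.node (.leaf .df) (.leaf (.cyc (nat_lit 25) [(nat_lit 7545), (nat_lit 8958), (nat_lit 2209)]))) (.node (.leaf (.cyc (nat_lit 1) [(nat_lit 4547), (nat_lit 621)])) (.leaf (.cyc (nat_lit 0) [(nat_lit 11574), (nat_lit 4304)])))) (.node (.node (.leaf .df) (.leaf (.cyc (nat_lit 8) [(nat_lit 3789), (nat_lit 10907), (nat_lit 10906), (nat_lit 3444), (nat_lit 11009)]))) (.node (.leaf (.cyc (nat_lit 23) [(nat_lit 1759), (nat_lit 5774), (nat_lit 5855), (nat_lit 4817), (nat_lit 5184), (nat_lit 5185), (nat_lit 2294), (nat_lit 6494), (nat_lit 2640)])) (.leaf .df)))) (.node (.node (.node (.leaf .df) (.leaf (.cyc (nat_lit 9) [(nat_lit 8332), (nat_lit 8847), (nat_lit 1438), (nat_lit 1439), (nat_lit 3571)]))) (.node (.leaf (.cyc (nat_lit 2) [(nat_lit 1652), (nat_lit 1651)])) (.leaf .df))) (.node (.node (.leaf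 .df) (.leaf (.cyc (nat_lit 31) [(nat_lit 5410), (nat_lit 5199), (nat_lit 5416), (nat_lit 12034), (nat_lit 2215), (nat_lit 785), (nat_lit 782), (nat_lit 2207)]))) (.node (.leaf (.cyc (nat_lit 18) [(nat_lit 1053), (nat_lit 7934), (nat_lit 1239)])) (.leaf .df))))))) (.node (.node (.node (.node (.node (.node (.leaf .df) (.leaf (.cyc (nat_lit 19) [(nat_lit 2384), (nat_lit 8315)]))) (.node (.leaf .df) (.leaf (.cyc (nat_lit 19) [(nat_lit 11803), (nat_lit 12417)])))) (.node (.node (.leaf .df) (.leaf (.cyc (nat_lit 8) [(nat_lit 3483), (nat_lit 7800), (nat_lit 10364), (nat_lit 1555), (nat_lit 1553), (nat_lit 10368)]))) (.node (.leaf (.cyc (nat_lit 6) [(nat_lit 2070), (nat_lit 2069)])) (.leaf .df)))) (.node (.node (.node (.leaf .df) (.leaf (.cyc (nat_lit 19) [(nat_lit 6952), (nat_lit 9345)]))) (.node (.leaf (.cyc (nat_lit 6) [(nat_lit 1039), (nat_lit 5089)])) (.leaf .df))) (.node (.node (.leaf .df) (.leaf (.cyc (nat_lit 20) [(nat_lit 2550), (nat_lit 2551), (nat_lit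 9457), (nat_lit 7201), (nat_lit 11393), (nat_lit 11392), (nat_lit 6280)]))) (.node (.leaf (.cyc (nat_lit 2) [(nat_lit 2955), (nat_lit 2954)])) (.leaf .df))))) (.node (.node (.node (.node (.leaf .df) (.leaf (.cyc (nat_lit 17) [(nat_lit 6717), (nat_lit 8831)]))) (.node (.leaf (.cyc (nat_lit 5) [(nat_lit 468), (nat_lit 467)])) (.leaf (.cyc (nat_lit 20) [(nat_lit 4266), (nat_lit 12016), (nat_lit 11965), (nat_lit 11840), (nat_lit 7523), (nat_lit 7522), (nat_lit 4281)])))) (.node (.node (.leaf .df) (.leaf (.cyc (nat_lit 4) [(nat_lit 2110), (nat_lit 2108), (nat_lit 10881), (nat_lit 10879), (nat_lit 3703)]))) (.node (.leaf (.cyc (nat_lit 2) [(nat_lit 2533), (nat_lit 2532)])) (.leaf .df)))) (.node (.node (.node (.leaf .df) (.leaf (.cyc (nat_lit 20) [(nat_lit 8134), (nat_lit 8139), (nat_lit 5997), (nat_lit 9858), (nat_lit 6723), (nat_lit 9484), (nat_lit 7710)]))) (.node (.leaf (.cyc (nat_lit 25) [(nat_lit 5735), (nat_lit 5761)])) (.leaf .df))) (.node (.node (.leaf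 .df) (.leaf (.cyc (nat_lit 17) [(nat_lit 11847), (nat_lit 11904)]))) (.node (.leaf (.cyc (nat_lit 32) [(nat_lit 7504), (nat_lit 3066), (nat_lit 1148), (nat_lit 1150), (nat_lit 7756), (nat_lit 4832), (nat_lit 4829), (nat_lit 573), (nat_lit 571), (nat_lit 1646)])) (.leaf .df)))))) (.node (.node (.node (.node (.node (.leaf .df) (.leaf (.cyc (nat_lit 28) [(nat_lit 8234), (nat_lit 8578)]))) (.node (.leaf (.cyc (nat_lit 5) [(nat_lit 173), (nat_lit 172)])) (.leaf (.cyc (nat_lit 18) [(nat_lit 10849), (nat_lit 12674)])))) (.node (.node (.leaf .df) (.leaf (.cyc (nat_lit 9) [(nat_lit 3710), (nat_lit 1567), (nat_lit 545), (nat_lit 547), (nat_lit 1575)]))) (.node (.leaf (.cyc (nat_lit 10) [(nat_lit 2318), (nat_lit 823), (nat_lit 4571), (nat_lit 825), (nat_lit 2322)])) (.leaf .df)))) (.node (.node (.node (.leaf .df) (.leaf (.cyc (nat_lit 9) [(nat_lit 3400), (nat_lit 5591), (nat_lit 1275), (nat_lit 1277), (nat_lit 3338)]))) (.node (.leaf (.cyc (nat_lit 19) [(nat_lit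 871), (nat_lit 5502)])) (.leaf .df))) (.node (.node (.leaf .df) (.leaf (.cyc (nat_lit 3) [(nat_lit 11649), (nat_lit 11644), (nat_lit 8258), (nat_lit 7160), (nat_lit 10947)]))) (.node (.leaf (.cyc (nat_lit 14) [(nat_lit 7025), (nat_lit 3187)])) (.leaf .df))))) (.node (.node (.node (.node (.leaf .df) (.leaf (.cyc (nat_lit 28) [(nat_lit 9084), (nat_lit 9090)]))) (.node (.leaf (.cyc (nat_lit 6) [(nat_lit 764), (nat_lit 763)])) (.leaf (.cyc (nat_lit 3) [(nat_lit 13186), (nat_lit 3843), (nat_lit 9779), (nat_lit 9778), (nat_lit 11516)])))) (.node (.node (.leaf .df) (.leaf (.cyc (nat_lit 14) [(nat_lit 7286), (nat_lit 3848)]))) (.node (.leaf (.cyc (nat_lit 9) [(nat_lit 2096), (nat_lit 7041), (nat_lit 7036), (nat_lit 999), (nat_lit 4620), (nat_lit 1003)])) (.leaf .df)))) (.node (.node (.node (.leaf .df) (.leaf (.cyc (nat_lit 10) [(nat_lit 6043), (nat_lit 1469), (nat_lit 4767), (nat_lit 1471), (nat_lit 3613)]))) (.node (.leaf (.cyc (nat_lit 2) [(nat_lit 1787), (nat_lit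 1786)])) (.leaf .df))) (.node (.node (.leaf .df) (.leaf (.cyc (nat_lit 3) [(nat_lit 12162), (nat_lit 12161), (nat_lit 7596), (nat_lit 7599), (nat_lit 7029)]))) (.node (.leaf (.cyc (nat_lit 4) [(nat_lit 2228), (nat_lit 789), (nat_lit 786), (nat_lit 2220), (nat_lit 8065), (nat_lit 7638)])) (.leaf .df))))))))
noncomputable def c4P1100001 : BT Pf := (.node (.node (.node (.node (.node (.node (.node (.leaf .df) (.leaf (.cyc (nat_lit 29) [(nat_lit 7404), (nat_lit 8257)]))) (.node (.leaf .df) (.leaf (.cyc (nat_lit 0) [(nat_lit 12264), (nat_lit 12354)])))) (.node (.node (.leaf .df) (.leaf (.cyc (nat_lit 8) [(nat_lit 10303), (nat_lit 10301), (nat_lit 10304), (nat_lit 3655), (nat_lit 3656)]))) (.node (.leaf (.cyc (nat_lit 14) [(nat_lit 6196), (nat_lit 1997)])) (.leaf .df)))) (.node (.node (.node (.leaf .df) (.leaf (.cyc (nat_lit 18) [(nat_lit 3230), (nat_lit 9282)]))) (.node (.leaf (.cyc (nat_lit 4) [(nat_lit 965), (nat_lit 322), (nat_lit 102), (nat_lit 104), (nat_lit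 329)])) (.leaf .df))) (.node (.node (.leaf .df) (.leaf (.cyc (nat_lit 11) [(nat_lit 10991), (nat_lit 2195), (nat_lit 6261), (nat_lit 9205), (nat_lit 9206), (nat_lit 1785), (nat_lit 3903)]))) (.node (.leaf (.cyc (nat_lit 5) [(nat_lit 2904), (nat_lit 2903)])) (.leaf .df))))) (.node (.node (.node (.node (.leaf .df) (.leaf (.cyc (nat_lit 17) [(nat_lit 1839), (nat_lit 8769)]))) (.node (.leaf (.cyc (nat_lit 1) [(nat_lit 4657), (nat_lit 401)])) (.leaf (.cyc (nat_lit 4) [(nat_lit 11458), (nat_lit 4034), (nat_lit 11965), (nat_lit 12016), (nat_lit 4266)])))) (.node (.node (.leaf .df) (.leaf (.cyc (nat_lit 14) [(nat_lit 10341), (nat_lit 3764)]))) (.node (.leaf (.cyc (nat_lit 5) [(nat_lit 2460), (nat_lit 2459)])) (.leaf .df)))) (.node (.node (.node (.leaf .df) (.leaf (.cyc (nat_lit 6) [(nat_lit 3479), (nat_lit 3478)]))) (.node (.leaf (.cyc (nat_lit 19) [(nat_lit 5055), (nat_lit 5697)])) (.leaf .df))) (.node (.node (.leaf .df) (.leaf (.cyc (nat_lit 11) [(nat_lit 9663),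 (nat_lit 8906), (nat_lit 8907), (nat_lit 729), (nat_lit 730), (nat_lit 2074), (nat_lit 4040)]))) (.node (.leaf (.cyc (nat_lit 19) [(nat_lit 7645), (nat_lit 7744), (nat_lit 5347)])) (.leaf .df)))))) (.node (.node (.node (.node (.node (.leaf .df) (.leaf (.cyc (nat_lit 3) [(nat_lit 1963), (nat_lit 1961), (nat_lit 8512), (nat_lit 7312), (nat_lit 7313), (nat_lit 5684)]))) (.node (.leaf (.cyc (nat_lit 2) [(nat_lit 92), (nat_lit 91)])) (.leaf (.cyc (nat_lit 2) [(nat_lit 4213), (nat_lit 12452)])))) (.node (.node (.leaf .df) (.leaf (.cyc (nat_lit 15) [(nat_lit 10562), (nat_lit 1731), (nat_lit 5301), (nat_lit 7254), (nat_lit 7257), (nat_lit 1704), (nat_lit 7259), (nat_lit 9403), (nat_lit 7244)]))) (.node (.leaf (.cyc (nat_lit 7) [(nat_lit 1316), (nat_lit 451), (nat_lit 143), (nat_lit 145), (nat_lit 455), (nat_lit 1332), (nat_lit 6466)])) (.leaf .df)))) (.node (.node (.node (.leaf .df) (.leaf (.cyc (nat_lit 8) [(nat_lit 8646), (nat_lit 8648), (nat_lit 4887), (nat_lit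 5562), (nat_lit 3375)]))) (.node (.leaf (.cyc (nat_lit 1) [(nat_lit 5314), (nat_lit 1238)])) (.leaf .df))) (.node (.node (.leaf .df) (.leaf (.cyc (nat_lit 1) [(nat_lit 9077), (nat_lit 3972)]))) (.node (.leaf (.cyc (nat_lit 20) [(nat_lit 3091), (nat_lit 1160), (nat_lit 394), (nat_lit 4447), (nat_lit 398), (nat_lit 1174), (nat_lit 3120)])) (.leaf .df))))) (.node (.node (.node (.node (.leaf .df) (.leaf (.cyc (nat_lit 18) [(nat_lit 7879), (nat_lit 9025)]))) (.node (.leaf (.cyc (nat_lit 2) [(nat_lit 697), (nat_lit 696)])) (.leaf (.cyc (nat_lit 14) [(nat_lit 12575), (nat_lit 13122)])))) (.node (.node (.leaf .df) (.leaf (.cyc (nat_lit 28) [(nat_lit 10277), (nat_lit 11074)]))) (.node (.leaf (.cyc (nat_lit 2) [(nat_lit 2660), (nat_lit 2659)])) (.leaf .df)))) (.node (.node (.node (.leaf .df) (.leaf (.cyc (nat_lit 28) [(nat_lit 10027), (nat_lit 10050)]))) (.node (.leaf (.cyc (nat_lit 5) [(nat_lit 1726), (nat_lit 1725)])) (.leaf .df))) (.node (.node (.leaf .df) (.leaf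 (.cyc (nat_lit 0) [(nat_lit 7600), (nat_lit 12098)]))) (.node (.leaf (.cyc (nat_lit 33) [(nat_lit 2925), (nat_lit 1083), (nat_lit 362), (nat_lit 364), (nat_lit 8002), (nat_lit 5264), (nat_lit 2854)])) (.leaf .df))))))) (.node (.node (.node (.node (.node (.node (.leaf .df) (.leaf (.cyc (nat_lit 29) [(nat_lit 6205), (nat_lit 8382)]))) (.node (.leaf .df) (.leaf (.cyc (nat_lit 0) [(nat_lit 10178), (nat_lit 4184)])))) (.node (.node (.leaf .df) (.leaf (.cyc (nat_lit 9) [(nat_lit 3684), (nat_lit 5794), (nat_lit 8486), (nat_lit 5816), (nat_lit 9563)]))) (.node (.leaf (.cyc (nat_lit 5) [(nat_lit 2146), (nat_lit 2145)])) (.leaf .df)))) (.node (.node (.node (.leaf .df) (.leaf (.cyc (nat_lit 28) [(nat_lit 2776), (nat_lit 9410)]))) (.node (.leaf (.cyc (nat_lit 2) [(nat_lit 1110), (nat_lit 1109)])) (.leaf .df))) (.node (.node (.leaf .df) (.leaf (.cyc (nat_lit 8) [(nat_lit 10503), (nat_lit 11455), (nat_lit 11237), (nat_lit 11238), (nat_lit 3888)]))) (.node (.leaf (.cyc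 (nat_lit 6) [(nat_lit 3002), (nat_lit 3001)])) (.leaf .df))))) (.node (.node (.node (.node (.leaf .df) (.leaf (.cyc (nat_lit 29) [(nat_lit 8069), (nat_lit 8897)]))) (.node (.leaf (.cyc (nat_lit 6) [(nat_lit 546), (nat_lit 545)])) (.leaf (.cyc (nat_lit 22) [(nat_lit 12992), (nat_lit 12653), (nat_lit 10515), (nat_lit 9250), (nat_lit 6269), (nat_lit 4034), (nat_lit 12799)])))) (.node (.node (.leaf .df) (.leaf (.cyc (nat_lit 22) [(nat_lit 3796), (nat_lit 10946), (nat_lit 10944), (nat_lit 5533), (nat_lit 3359), (nat_lit 9517), (nat_lit 7215)]))) (.node (.leaf (.cyc (nat_lit 1) [(nat_lit 6824), (nat_lit 2590)])) (.leaf .df)))) (.node (.node (.node (.leaf .df) (.leaf (.cyc (nat_lit 17) [(nat_lit 3453), (nat_lit 9920)]))) (.node (.leaf (.cyc (nat_lit 4) [(nat_lit 559), (nat_lit 178), (nat_lit 176), (nat_lit 550), (nat_lit 1583)])) (.leaf .df))) (.node (.node (.leaf .df) (.leaf (.cyc (nat_lit 5) [(nat_lit 4071), (nat_lit 10709)]))) (.node (.leaf (.cyc (nat_lit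 29) [(nat_lit 7455), (nat_lit 7872)])) (.leaf .df)))))) (.node (.node (.node (.node (.node (.leaf .df) (.leaf (.cyc (nat_lit 25) [(nat_lit 7392), (nat_lit 8641)]))) (.node (.leaf (.cyc (nat_lit 7) [(nat_lit 200), (nat_lit 61), (nat_lit 4380), (nat_lit 4382), (nat_lit 4381), (nat_lit 74), (nat_lit 246)])) (.leaf (.cyc (nat_lit 5) [(nat_lit 4242), (nat_lit 4241)])))) (.node (.node (.leaf .df) (.leaf (.cyc (nat_lit 17) [(nat_lit 10644), (nat_lit 10688), (nat_lit 6793)]))) (.node (.leaf (.cyc (nat_lit 3) [(nat_lit 2369), (nat_lit 845), (nat_lit 4578), (nat_lit 850), (nat_lit 2384)])) (.leaf .df)))) (.node (.node (.node (.leaf .df) (.leaf (.cyc (nat_lit 0) [(nat_lit 8894), (nat_lit 3429)]))) (.node (.leaf (.cyc (nat_lit 4) [(nat_lit 4730), (nat_lit 4731), (nat_lit 4722), (nat_lit 4725), (nat_lit 1319)])) (.leaf .df))) (.node (.node (.leaf .df) (.leaf (.cyc (nat_lit 23) [(nat_lit 3456), (nat_lit 9750), (nat_lit 2481), (nat_lit 2482), (nat_lit 9122), (nat_lit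 9219), (nat_lit 6258), (nat_lit 9226), (nat_lit 4005)]))) (.node (.leaf (.cyc (nat_lit 8) [(nat_lit 1229), (nat_lit 4691), (nat_lit 1225), (nat_lit 3241), (nat_lit 7618)])) (.leaf .df))))) (.node (.node (.node (.node (.leaf .df) (.leaf (.cyc (nat_lit 20) [(nat_lit 6622), (nat_lit 5753), (nat_lit 5752), (nat_lit 8816), (nat_lit 9153), (nat_lit 2842), (nat_lit 2839)]))) (.node (.leaf (.cyc (nat_lit 2) [(nat_lit 826), (nat_lit 4768)])) (.leaf (.cyc (nat_lit 3) [(nat_lit 13250), (nat_lit 13009), (nat_lit 13011), (nat_lit 13224), (nat_lit 13223)])))) (.node (.node (.leaf .df) (.leaf (.cyc (nat_lit 8) [(nat_lit 11202), (nat_lit 3003), (nat_lit 6140), (nat_lit 3276), (nat_lit 9039)]))) (.node (.leaf (.cyc (nat_lit 2) [(nat_lit 2755), (nat_lit 2754)])) (.leaf .df)))) (.node (.node (.node (.leaf .df) (.leaf (.cyc (nat_lit 4) [(nat_lit 3127), (nat_lit 5374), (nat_lit 9290), (nat_lit 9291), (nat_lit 10162), (nat_lit 10178)]))) (.node (.leaf (.cyc (nat_lit 2) [(nat_lit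 1861), (nat_lit 1860)])) (.leaf .df))) (.node (.node (.leaf .df) (.leaf (.cyc (nat_lit 10) [(nat_lit 2579), (nat_lit 935), (nat_lit 932), (nat_lit 2569), (nat_lit 12225)]))) (.node (.leaf (.cyc (nat_lit 16) [(nat_lit 2895), (nat_lit 7976), (nat_lit 5383), (nat_lit 7921), (nat_lit 3272), (nat_lit 7923), (nat_lit 2824), (nat_lit 8128), (nat_lit 7309)])) (.leaf .df))))))))
noncomputable def c4P110000 : BT Pf := .node c4P1100000 c4P1100001
noncomputable def c4P1100010 : BT Pf := (.node (.node (.node (.node (.node (.node (.node (.leaf .df) (.leaf (.cyc (nat_lit 19) [(nat_lit 3029), (nat_lit 8218), (nat_lit 2758)]))) (.node (.leaf .df) (.leaf (.cyc (nat_lit 2) [(nat_lit 4147), (nat_lit 4146)])))) (.node (.node (.leaf .df) (.leaf (.cyc (nat_lit 14) [(nat_lit 8950), (nat_lit 3646)]))) (.node (.leaf (.cyc (nat_lit 6) [(nat_lit 1967), (nat_lit 1966)])) (.leaf .df)))) (.node (.node (.node (.leaf .df) (.leaf (.cyc (nat_lit 3) [(nat_lit 2144), (nat_lit 9240), (nat_lit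 2104), (nat_lit 9243), (nat_lit 6156), (nat_lit 3284)]))) (.node (.leaf (.cyc (nat_lit 2) [(nat_lit 931), (nat_lit 930)])) (.leaf .df))) (.node (.node (.leaf .df) (.leaf (.cyc (nat_lit 5) [(nat_lit 11295), (nat_lit 11030)]))) (.node (.leaf (.cyc (nat_lit 5) [(nat_lit 2871), (nat_lit 2870)])) (.leaf .df))))) (.node (.node (.node (.node (.leaf .df) (.leaf (.cyc (nat_lit 19) [(nat_lit 3295), (nat_lit 8730)]))) (.node (.leaf (.cyc (nat_lit 2) [(nat_lit 368), (nat_lit 367)])) (.leaf (.cyc (nat_lit 6) [(nat_lit 12834), (nat_lit 12831)])))) (.node (.node (.leaf .df) (.leaf (.cyc (nat_lit 2) [(nat_lit 3754), (nat_lit 10775)]))) (.node (.leaf (.cyc (nat_lit 3) [(nat_lit 5032), (nat_lit 2253), (nat_lit 6453), (nat_lit 6690), (nat_lit 2069), (nat_lit 2071)])) (.leaf .df)))) (.node (.node (.node (.leaf .df) (.leaf (.cyc (nat_lit 5) [(nat_lit 9762), (nat_lit 9687)]))) (.node (.leaf (.cyc (nat_lit 3) [(nat_lit 1422), (nat_lit 487), (nat_lit 4470), (nat_lit 490), (nat_lit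 1429)])) (.leaf .df))) (.node (.node (.leaf .df) (.leaf (.cyc (nat_lit 10) [(nat_lit 11530), (nat_lit 7014), (nat_lit 11806), (nat_lit 4029), (nat_lit 4031)]))) (.node (.leaf (.cyc (nat_lit 2) [(nat_lit 3320), (nat_lit 3319)])) (.leaf .df)))))) (.node (.node (.node (.node (.node (.leaf .df) (.leaf (.cyc (nat_lit 20) [(nat_lit 6308), (nat_lit 2112), (nat_lit 744), (nat_lit 745), (nat_lit 8473), (nat_lit 6171), (nat_lit 6172)]))) (.node (.leaf (.cyc (nat_lit 6) [(nat_lit 50), (nat_lit 4366)])) (.leaf (.cyc (nat_lit 1) [(nat_lit 11617), (nat_lit 12574)])))) (.node (.node (.leaf .df) (.leaf (.cyc (nat_lit 20) [(nat_lit 9079), (nat_lit 9078), (nat_lit 2291), (nat_lit 2292), (nat_lit 10529), (nat_lit 8035), (nat_lit 8308)]))) (.node (.leaf (.cyc (nat_lit 5) [(nat_lit 2246), (nat_lit 2245)])) (.leaf .df)))) (.node (.node (.node (.leaf .df) (.leaf (.cyc (nat_lit 5) [(nat_lit 9505), (nat_lit 6908)]))) (.node (.leaf (.cyc (nat_lit 0) [(nat_lit 5398), (nat_lit 5410)]))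 (.leaf .df))) (.node (.node (.leaf .df) (.leaf (.cyc (nat_lit 10) [(nat_lit 11554), (nat_lit 7286), (nat_lit 9397), (nat_lit 6479), (nat_lit 10325)]))) (.node (.leaf (.cyc (nat_lit 1) [(nat_lit 6810), (nat_lit 3080)])) (.leaf .df))))) (.node (.node (.node (.node (.leaf .df) (.leaf (.cyc (nat_lit 18) [(nat_lit 7577), (nat_lit 8987), (nat_lit 1586)]))) (.node (.leaf (.cyc (nat_lit 2) [(nat_lit 661), (nat_lit 660)])) (.leaf (.cyc (nat_lit 11) [(nat_lit 4011), (nat_lit 6303), (nat_lit 6383), (nat_lit 6386), (nat_lit 9825), (nat_lit 3508), (nat_lit 13090)])))) (.node (.node (.leaf .df) (.leaf (.cyc (nat_lit 2) [(nat_lit 3820), (nat_lit 3819)]))) (.node (.leaf (.cyc (nat_lit 1) [(nat_lit 6699), (nat_lit 6942)])) (.leaf .df)))) (.node (.node (.node (.leaf .df) (.leaf (.cyc (nat_lit 8) [(nat_lit 2482), (nat_lit 2481), (nat_lit 9751), (nat_lit 9747), (nat_lit 10011)]))) (.node (.leaf (.cyc (nat_lit 2) [(nat_lit 1691), (nat_lit 1690)])) (.leaf .df))) (.node (.node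 (.leaf .df) (.leaf (.cyc (nat_lit 11) [(nat_lit 4095), (nat_lit 6399), (nat_lit 6356), (nat_lit 4997), (nat_lit 780), (nat_lit 2201), (nat_lit 4099)]))) (.node (.leaf (.cyc (nat_lit 18) [(nat_lit 7302), (nat_lit 7970)])) (.leaf .df))))))) (.node (.node (.node (.node (.node (.node (.leaf .df) (.leaf (.cyc (nat_lit 18) [(nat_lit 2381), (nat_lit 8354), (nat_lit 6325)]))) (.node (.leaf .df) (.leaf (.cyc (nat_lit 0) [(nat_lit 12171), (nat_lit 12449)])))) (.node (.node (.leaf .df) (.leaf (.cyc (nat_lit 8) [(nat_lit 7299), (nat_lit 8054), (nat_lit 7099), (nat_lit 7224), (nat_lit 10401), (nat_lit 6428)]))) (.node (.leaf (.cyc (nat_lit 9) [(nat_lit 2111), (nat_lit 744), (nat_lit 4539), (nat_lit 741), (nat_lit 2104)])) (.leaf .df)))) (.node (.node (.node (.leaf .df) (.leaf (.cyc (nat_lit 29) [(nat_lit 7546), (nat_lit 9378), (nat_lit 8144)]))) (.node (.leaf (.cyc (nat_lit 6) [(nat_lit 1075), (nat_lit 1074)])) (.leaf .df))) (.node (.node (.leaf .df) (.leaf (.cyc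 (nat_lit 1) [(nat_lit 11423), (nat_lit 11426)]))) (.node (.leaf (.cyc (nat_lit 14) [(nat_lit 6811), (nat_lit 2980)])) (.leaf .df))))) (.node (.node (.node (.node (.leaf .df) (.leaf (.cyc (nat_lit 8) [(nat_lit 2240), (nat_lit 2238), (nat_lit 8863), (nat_lit 6827), (nat_lit 7375)]))) (.node (.leaf (.cyc (nat_lit 8) [(nat_lit 439), (nat_lit 437), (nat_lit 4769), (nat_lit 505), (nat_lit 507)])) (.leaf (.cyc (nat_lit 19) [(nat_lit 11694), (nat_lit 12962), (nat_lit 3480)])))) (.node (.node (.leaf .df) (.leaf (.cyc (nat_lit 1) [(nat_lit 10911), (nat_lit 3792)]))) (.node (.leaf (.cyc (nat_lit 5) [(nat_lit 2568), (nat_lit 2567)])) (.leaf .df)))) (.node (.node (.node (.leaf .df) (.leaf (.cyc (nat_lit 13) [(nat_lit 3539), (nat_lit 8562), (nat_lit 8031), (nat_lit 1091), (nat_lit 4642), (nat_lit 4905), (nat_lit 1915)]))) (.node (.leaf (.cyc (nat_lit 3) [(nat_lit 5791), (nat_lit 1535), (nat_lit 530), (nat_lit 532), (nat_lit 1542)])) (.leaf .df))) (.node (.node (.leaf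 .df) (.leaf (.cyc (nat_lit 1) [(nat_lit 9455), (nat_lit 4065)]))) (.node (.leaf (.cyc (nat_lit 29) [(nat_lit 3243), (nat_lit 7842), (nat_lit 1422)])) (.leaf .df)))))) (.node (.node (.node (.node (.node (.leaf .df) (.leaf (.cyc (nat_lit 29) [(nat_lit 1487), (nat_lit 8609)]))) (.node (.leaf (.cyc (nat_lit 5) [(nat_lit 216), (nat_lit 215)])) (.leaf (.cyc (nat_lit 2) [(nat_lit 12706), (nat_lit 11472)])))) (.node (.node (.leaf .df) (.leaf (.cyc (nat_lit 2) [(nat_lit 3730), (nat_lit 3729)]))) (.node (.leaf (.cyc (nat_lit 20) [(nat_lit 2294), (nat_lit 5185), (nat_lit 964), (nat_lit 5047), (nat_lit 5065), (nat_lit 5072), (nat_lit 2357)])) (.leaf .df)))) (.node (.node (.node (.leaf .df) (.leaf (.cyc (nat_lit 14) [(nat_lit 8166), (nat_lit 3411)]))) (.node (.leaf (.cyc (nat_lit 9) [(nat_lit 859), (nat_lit 4580), (nat_lit 4581), (nat_lit 443), (nat_lit 1297)])) (.leaf .df))) (.node (.node (.leaf .df) (.leaf (.cyc (nat_lit 25) [(nat_lit 3996), (nat_lit 11680)])))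 (.node (.leaf (.cyc (nat_lit 3) [(nat_lit 7101), (nat_lit 7585), (nat_lit 3213), (nat_lit 5413), (nat_lit 3210)])) (.leaf .df))))) (.node (.node (.node (.node (.leaf .df) (.leaf (.cyc (nat_lit 8) [(nat_lit 2923), (nat_lit 8975), (nat_lit 2482), (nat_lit 9122), (nat_lit 7381)]))) (.node (.leaf (.cyc (nat_lit 8) [(nat_lit 5025), (nat_lit 662), (nat_lit 4513), (nat_lit 4492), (nat_lit 580)])) (.leaf (.cyc (nat_lit 7) [(nat_lit 12896), (nat_lit 3893), (nat_lit 5979), (nat_lit 3889), (nat_lit 11263), (nat_lit 9958), (nat_lit 4338)])))) (.node (.node (.leaf .df) (.leaf (.cyc (nat_lit 4) [(nat_lit 3864), (nat_lit 1727), (nat_lit 1726), (nat_lit 11090), (nat_lit 11145)]))) (.node (.leaf (.cyc (nat_lit 15) [(nat_lit 2735), (nat_lit 1006), (nat_lit 337), (nat_lit 106), (nat_lit 108), (nat_lit 342), (nat_lit 5144), (nat_lit 2483), (nat_lit 6750)])) (.leaf .df)))) (.node (.node (.node (.leaf .df) (.leaf (.cyc (nat_lit 4) [(nat_lit 5742), (nat_lit 1337), (nat_lit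 8110), (nat_lit 8112), (nat_lit 3623)]))) (.node (.leaf (.cyc (nat_lit 10) [(nat_lit 1592), (nat_lit 552), (nat_lit 549), (nat_lit 4879), (nat_lit 1829)])) (.leaf .df))) (.node (.node (.leaf .df) (.leaf (.cyc (nat_lit 5) [(nat_lit 4125), (nat_lit 6913)]))) (.node (.leaf (.cyc (nat_lit 3) [(nat_lit 6071), (nat_lit 6072), (nat_lit 1766), (nat_lit 8097), (nat_lit 1480), (nat_lit 1482)])) (.leaf .df))))))))
noncomputable def c4P1100011 : BT Pf := (.node (.node (.node (.node (.node (.node (.node (.leaf .df) (.leaf (.cyc (nat_lit 29) [(nat_lit 1947), (nat_lit 8281)]))) (.node (.leaf .df) (.leaf (.cyc (nat_lit 8) [(nat_lit 3352), (nat_lit 8018), (nat_lit 8020), (nat_lit 10613), (nat_lit 4163)])))) (.node (.node (.leaf .df) (.leaf (.cyc (nat_lit 29) [(nat_lit 2538), (nat_lit 10337)]))) (.node (.leaf (.cyc (nat_lit 2) [(nat_lit 2032), (nat_lit 2031)])) (.leaf .df)))) (.node (.node (.node (.leaf .df) (.leaf (.cyc (nat_lit 8) [(nat_lit 9088), (nat_lit 9310), (nat_lit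 3114), (nat_lit 9314), (nat_lit 6345)]))) (.node (.leaf (.cyc (nat_lit 5) [(nat_lit 1006), (nat_lit 1005)])) (.leaf .df))) (.node (.node (.leaf .df) (.leaf (.cyc (nat_lit 2) [(nat_lit 11356), (nat_lit 11280)]))) (.node (.leaf (.cyc (nat_lit 5) [(nat_lit 2928), (nat_lit 6993)])) (.leaf .df))))) (.node (.node (.node (.node (.leaf .df) (.leaf (.cyc (nat_lit 29) [(nat_lit 7562), (nat_lit 8801)]))) (.node (.leaf (.cyc (nat_lit 5) [(nat_lit 435), (nat_lit 434)])) (.leaf (.cyc (nat_lit 28) [(nat_lit 12014), (nat_lit 12898)])))) (.node (.node (.leaf .df) (.leaf (.cyc (nat_lit 0) [(nat_lit 6559), (nat_lit 3774)]))) (.node (.leaf (.cyc (nat_lit 7) [(nat_lit 2476), (nat_lit 891), (nat_lit 5101), (nat_lit 5103), (nat_lit 5102), (nat_lit 905), (nat_lit 2509)])) (.leaf .df)))) (.node (.node (.node (.leaf .df) (.leaf (.cyc (nat_lit 5) [(nat_lit 3499), (nat_lit 3498)]))) (.node (.leaf (.cyc (nat_lit 27) [(nat_lit 1475), (nat_lit 504), (nat_lit 506), (nat_lit 5552), (nat_lit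 988), (nat_lit 4615), (nat_lit 985)])) (.leaf .df))) (.node (.node (.leaf .df) (.leaf (.cyc (nat_lit 13) [(nat_lit 6991), (nat_lit 11686), (nat_lit 3746), (nat_lit 10757), (nat_lit 11794), (nat_lit 11795), (nat_lit 4050)]))) (.node (.leaf (.cyc (nat_lit 13) [(nat_lit 3328), (nat_lit 5482), (nat_lit 7777), (nat_lit 766), (nat_lit 249), (nat_lit 250), (nat_lit 767), (nat_lit 2168)])) (.leaf .df)))))) (.node (.node (.node (.node (.node (.leaf .df) (.leaf (.cyc (nat_lit 17) [(nat_lit 1962), (nat_lit 8538), (nat_lit 2420)]))) (.node (.leaf (.cyc (nat_lit 2) [(nat_lit 133), (nat_lit 132)])) (.leaf (.cyc (nat_lit 3) [(nat_lit 12642), (nat_lit 12641), (nat_lit 3934), (nat_lit 3935), (nat_lit 12074)])))) (.node (.node (.leaf .df) (.leaf (.cyc (nat_lit 6) [(nat_lit 3705), (nat_lit 3704)]))) (.node (.leaf (.cyc (nat_lit 10) [(nat_lit 1520), (nat_lit 524), (nat_lit 522), (nat_lit 5851), (nat_lit 2297)])) (.leaf .df)))) (.node (.node (.node (.leaf .df) (.leaf (.cyc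 (nat_lit 0) [(nat_lit 8904), (nat_lit 9570)]))) (.node (.leaf (.cyc (nat_lit 5) [(nat_lit 1268), (nat_lit 1267)])) (.leaf .df))) (.node (.node (.leaf .df) (.leaf (.cyc (nat_lit 8) [(nat_lit 11187), (nat_lit 11454), (nat_lit 6270), (nat_lit 11618), (nat_lit 11617)]))) (.node (.leaf (.cyc (nat_lit 5) [(nat_lit 3147), (nat_lit 3146)])) (.leaf .df))))) (.node (.node (.node (.node (.leaf .df) (.leaf (.cyc (nat_lit 28) [(nat_lit 6756), (nat_lit 9057), (nat_lit 7501)]))) (.node (.leaf (.cyc (nat_lit 3) [(nat_lit 4954), (nat_lit 721), (nat_lit 235), (nat_lit 237), (nat_lit 730)])) (.leaf (.cyc (nat_lit 22) [(nat_lit 13153), (nat_lit 13055), (nat_lit 11496), (nat_lit 12847), (nat_lit 12637), (nat_lit 12638), (nat_lit 13092)])))) (.node (.node (.leaf .df) (.leaf (.cyc (nat_lit 18) [(nat_lit 2192), (nat_lit 11106)]))) (.node (.leaf (.cyc (nat_lit 2) [(nat_lit 2691), (nat_lit 2690)])) (.leaf .df)))) (.node (.node (.node (.leaf .df) (.leaf (.cyc (nat_lit 5) [(nat_lit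 3599), (nat_lit 3598)]))) (.node (.leaf (.cyc (nat_lit 3) [(nat_lit 5985), (nat_lit 5981), (nat_lit 5983), (nat_lit 5529), (nat_lit 1290)])) (.leaf .df))) (.node (.node (.leaf .df) (.leaf (.cyc (nat_lit 20) [(nat_lit 2786), (nat_lit 1026), (nat_lit 1024), (nat_lit 8394), (nat_lit 8392), (nat_lit 6421), (nat_lit 4111)]))) (.node (.leaf (.cyc (nat_lit 17) [(nat_lit 2912), (nat_lit 8033)])) (.leaf .df))))))) (.node (.node (.node (.node (.node (.node (.leaf .df) (.leaf (.cyc (nat_lit 29) [(nat_lit 1636), (nat_lit 8412)]))) (.node (.leaf .df) (.leaf (.cyc (nat_lit 8) [(nat_lit 4190), (nat_lit 10799), (nat_lit 3757), (nat_lit 5861), (nat_lit 3759)])))) (.node (.node (.leaf .df) (.leaf (.cyc (nat_lit 29) [(nat_lit 2465), (nat_lit 10465)]))) (.node (.leaf (.cyc (nat_lit 9) [(nat_lit 5673), (nat_lit 5671), (nat_lit 5672), (nat_lit 4998), (nat_lit 2174)])) (.leaf .df)))) (.node (.node (.node (.leaf .df) (.leaf (.cyc (nat_lit 8) [(nat_lit 6456), (nat_lit 9442),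 (nat_lit 1329), (nat_lit 1327), (nat_lit 8686)]))) (.node (.leaf (.cyc (nat_lit 20) [(nat_lit 947), (nat_lit 4607), (nat_lit 4470), (nat_lit 4652), (nat_lit 4453), (nat_lit 422), (nat_lit 5346)])) (.leaf .df))) (.node (.node (.leaf .df) (.leaf (.cyc (nat_lit 6) [(nat_lit 3941), (nat_lit 7711)]))) (.node (.leaf (.cyc (nat_lit 23) [(nat_lit 2972), (nat_lit 1105), (nat_lit 4649), (nat_lit 1108), (nat_lit 5311), (nat_lit 386), (nat_lit 384), (nat_lit 1131), (nat_lit 3031)])) (.leaf .df))))) (.node (.node (.node (.node (.leaf .df) (.leaf (.cyc (nat_lit 28) [(nat_lit 8928), (nat_lit 8930)]))) (.node (.leaf (.cyc (nat_lit 5) [(nat_lit 584), (nat_lit 583)])) (.leaf (.cyc (nat_lit 6) [(nat_lit 13026), (nat_lit 12916)])))) (.node (.node (.leaf .df) (.leaf (.cyc (nat_lit 22) [(nat_lit 6534), (nat_lit 10977), (nat_lit 2928), (nat_lit 9070), (nat_lit 6443), (nat_lit 7511), (nat_lit 7510)]))) (.node (.leaf (.cyc (nat_lit 14) [(nat_lit 5282), (nat_lit 2611)])) (.leaf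 .df)))) (.node (.node (.node (.leaf .df) (.leaf (.cyc (nat_lit 5) [(nat_lit 3551), (nat_lit 6714)]))) (.node (.leaf (.cyc (nat_lit 2) [(nat_lit 1616), (nat_lit 1615)])) (.leaf .df))) (.node (.node (.leaf .df) (.leaf (.cyc (nat_lit 3) [(nat_lit 4084), (nat_lit 12002), (nat_lit 4072), (nat_lit 6357), (nat_lit 4025)]))) (.node (.leaf (.cyc (nat_lit 19) [(nat_lit 7624), (nat_lit 7900), (nat_lit 3153)])) (.leaf .df)))))) (.node (.node (.node (.node (.node (.leaf .df) (.leaf (.cyc (nat_lit 22) [(nat_lit 2552), (nat_lit 2554), (nat_lit 8674), (nat_lit 8348), (nat_lit 6809), (nat_lit 6808), (nat_lit 8523)]))) (.node (.leaf (.cyc (nat_lit 6) [(nat_lit 283), (nat_lit 282)])) (.leaf (.cyc (nat_lit 1) [(nat_lit 8268), (nat_lit 4248)])))) (.node (.node (.leaf .df) (.leaf (.cyc (nat_lit 3) [(nat_lit 7613), (nat_lit 10717), (nat_lit 10719), (nat_lit 3291), (nat_lit 3293)]))) (.node (.leaf (.cyc (nat_lit 1) [(nat_lit 6615), (nat_lit 2425)])) (.leaf .df)))) (.node (.node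 (.node (.leaf .df) (.leaf (.cyc (nat_lit 29) [(nat_lit 2355), (nat_lit 9695)]))) (.node (.leaf (.cyc (nat_lit 2) [(nat_lit 1353), (nat_lit 1352)])) (.leaf .df))) (.node (.node (.leaf .df) (.leaf (.cyc (nat_lit 20) [(nat_lit 3666), (nat_lit 1521), (nat_lit 5523), (nat_lit 5147), (nat_lit 8952), (nat_lit 11742), (nat_lit 11746)]))) (.node (.leaf (.cyc (nat_lit 6) [(nat_lit 3268), (nat_lit 7635)])) (.leaf .df))))) (.node (.node (.node (.node (.leaf .df) (.leaf (.cyc (nat_lit 28) [(nat_lit 1911), (nat_lit 9184), (nat_lit 1886)]))) (.node (.leaf (.cyc (nat_lit 5) [(nat_lit 856), (nat_lit 855)])) (.leaf .df))) (.node (.node (.leaf .df) (.leaf (.cyc (nat_lit 13) [(nat_lit 3801), (nat_lit 11230), (nat_lit 5094), (nat_lit 8346), (nat_lit 5309), (nat_lit 1153), (nat_lit 3081)]))) (.node (.leaf (.cyc (nat_lit 17) [(nat_lit 2753), (nat_lit 7138)])) (.leaf .df)))) (.node (.node (.node (.leaf .df) (.leaf (.cyc (nat_lit 3) [(nat_lit 6442), (nat_lit 10209), (nat_lit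 10210), (nat_lit 8683), (nat_lit 8687), (nat_lit 3391)]))) (.node (.leaf (.cyc (nat_lit 6) [(nat_lit 1900), (nat_lit 1899)])) (.leaf .df))) (.node (.node (.leaf .df) (.leaf (.cyc (nat_lit 5) [(nat_lit 12258), (nat_lit 9813)]))) (.node (.leaf (.cyc (nat_lit 17) [(nat_lit 2832), (nat_lit 8158)])) (.leaf .df))))))))
noncomputable def c4P110001 : BT Pf := .node c4P1100010 c4P1100011
noncomputable def c4P11000 : BT Pf := .node c4P110000 c4P110001
noncomputable def c4P1100100 : BT Pf := (.node (.node (.node (.node (.node (.node (.node (.leaf .df) (.leaf (.cyc (nat_lit 25) [(nat_lit 2730), (nat_lit 8203)]))) (.node (.leaf .df) (.leaf (.cyc (nat_lit 25) [(nat_lit 12183), (nat_lit 12304), (nat_lit 9836)])))) (.node (.node (.leaf .df) (.leaf (.cyc (nat_lit 33) [(nat_lit 7471), (nat_lit 10257), (nat_lit 10258), (nat_lit 1769), (nat_lit 1767), (nat_lit 9384), (nat_lit 7567)]))) (.node (.leaf (.cyc (nat_lit 2) [(nat_lit 1942), (nat_lit 1941)])) (.leaf .df)))) (.node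 (.node (.node (.leaf .df) (.leaf (.cyc (nat_lit 6) [(nat_lit 9234), (nat_lit 7818)]))) (.node (.leaf (.cyc (nat_lit 2) [(nat_lit 919), (nat_lit 918)])) (.leaf .df))) (.node (.node (.leaf .df) (.leaf (.cyc (nat_lit 29) [(nat_lit 11278), (nat_lit 11281)]))) (.node (.leaf (.cyc (nat_lit 5) [(nat_lit 2840), (nat_lit 2839)])) (.leaf .df))))) (.node (.node (.node (.node (.leaf .df) (.leaf (.cyc (nat_lit 19) [(nat_lit 2693), (nat_lit 8719)]))) (.node (.leaf (.cyc (nat_lit 4) [(nat_lit 345), (nat_lit 108), (nat_lit 106), (nat_lit 338), (nat_lit 4622)])) (.leaf (.cyc (nat_lit 20) [(nat_lit 11506), (nat_lit 2927), (nat_lit 2924), (nat_lit 12318), (nat_lit 10104), (nat_lit 12816), (nat_lit 12817)])))) (.node (.node (.leaf .df) (.leaf (.cyc (nat_lit 25) [(nat_lit 9408), (nat_lit 10768)]))) (.node (.leaf (.cyc (nat_lit 5) [(nat_lit 2457), (nat_lit 2456)])) (.leaf .df)))) (.node (.node (.node (.leaf .df) (.leaf (.cyc (nat_lit 5) [(nat_lit 9746), (nat_lit 9744)])))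 (.node (.leaf (.cyc (nat_lit 19) [(nat_lit 5641), (nat_lit 5649)])) (.leaf .df))) (.node (.node (.leaf .df) (.leaf (.cyc (nat_lit 10) [(nat_lit 10742), (nat_lit 5840), (nat_lit 3749), (nat_lit 10753), (nat_lit 11793)]))) (.node (.leaf (.cyc (nat_lit 3) [(nat_lit 6181), (nat_lit 5468), (nat_lit 3304), (nat_lit 7695), (nat_lit 1720), (nat_lit 1722)])) (.leaf .df)))))) (.node (.node (.node (.node (.node (.leaf .df) (.leaf (.cyc (nat_lit 28) [(nat_lit 7485), (nat_lit 8466)]))) (.node (.leaf (.cyc (nat_lit 5) [(nat_lit 28), (nat_lit 27)])) (.leaf (.cyc (nat_lit 14) [(nat_lit 11527), (nat_lit 4202)])))) (.node (.node (.leaf .df) (.leaf (.cyc (nat_lit 0) [(nat_lit 3697), (nat_lit 10514)]))) (.node (.leaf (.cyc (nat_lit 3) [(nat_lit 1055), (nat_lit 4634), (nat_lit 5239), (nat_lit 5016), (nat_lit 2221)])) (.leaf .df)))) (.node (.node (.node (.leaf .df) (.leaf (.cyc (nat_lit 0) [(nat_lit 7806), (nat_lit 3337)]))) (.node (.leaf (.cyc (nat_lit 2) [(nat_lit 1199),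 (nat_lit 1198)])) (.leaf .df))) (.node (.node (.leaf .df) (.leaf (.cyc (nat_lit 3) [(nat_lit 3963), (nat_lit 1887), (nat_lit 1885), (nat_lit 9188), (nat_lit 10448)]))) (.node (.leaf (.cyc (nat_lit 29) [(nat_lit 2290), (nat_lit 7441)])) (.leaf .df))))) (.node (.node (.node (.node (.leaf .df) (.leaf (.cyc (nat_lit 4) [(nat_lit 6414), (nat_lit 6415), (nat_lit 6351), (nat_lit 6409), (nat_lit 8965)]))) (.node (.leaf (.cyc (nat_lit 3) [(nat_lit 630), (nat_lit 203), (nat_lit 4398), (nat_lit 207), (nat_lit 642)])) (.leaf (.cyc (nat_lit 6) [(nat_lit 13074), (nat_lit 13071)])))) (.node (.node (.leaf .df) (.leaf (.cyc (nat_lit 13) [(nat_lit 1970), (nat_lit 1972), (nat_lit 11026), (nat_lit 11022), (nat_lit 9948), (nat_lit 9947), (nat_lit 2460), (nat_lit 2461)]))) (.node (.leaf (.cyc (nat_lit 28) [(nat_lit 6918), (nat_lit 6930)])) (.leaf .df)))) (.node (.node (.node (.leaf .df) (.leaf (.cyc (nat_lit 28) [(nat_lit 7496), (nat_lit 10001), (nat_lit 1894)]))) (.node (.leaf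 (.cyc (nat_lit 2) [(nat_lit 1667), (nat_lit 1666)])) (.leaf .df))) (.node (.node (.leaf .df) (.leaf (.cyc (nat_lit 8) [(nat_lit 11912), (nat_lit 10958), (nat_lit 12049), (nat_lit 3567), (nat_lit 3569)]))) (.node (.leaf (.cyc (nat_lit 18) [(nat_lit 7214), (nat_lit 7946), (nat_lit 2888)])) (.leaf .df))))))) (.node (.node (.node (.node (.node (.node (.leaf .df) (.leaf (.cyc (nat_lit 21) [(nat_lit 8336), (nat_lit 8337), (nat_lit 2978), (nat_lit 1107), (nat_lit 1105), (nat_lit 8214)]))) (.node (.leaf .df) (.leaf (.cyc (nat_lit 9) [(nat_lit 11791), (nat_lit 6413), (nat_lit 8978), (nat_lit 6728), (nat_lit 4174)])))) (.node (.node (.leaf .df) (.leaf (.cyc (nat_lit 13) [(nat_lit 10385), (nat_lit 10014), (nat_lit 6438), (nat_lit 7148), (nat_lit 7147), (nat_lit 7118), (nat_lit 7120)]))) (.node (.leaf (.cyc (nat_lit 5) [(nat_lit 2096), (nat_lit 2095)])) (.leaf .df)))) (.node (.node (.node (.leaf .df) (.leaf (.cyc (nat_lit 19) [(nat_lit 1871), (nat_lit 9361)]))) (.node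 (.leaf (.cyc (nat_lit 3) [(nat_lit 5262), (nat_lit 1049), (nat_lit 353), (nat_lit 355), (nat_lit 1057)])) (.leaf .df))) (.node (.node (.leaf .df) (.leaf (.cyc (nat_lit 2) [(nat_lit 3921), (nat_lit 10805)]))) (.node (.leaf (.cyc (nat_lit 5) [(nat_lit 7314), (nat_lit 7148)])) (.leaf .df))))) (.node (.node (.node (.node (.leaf .df) (.leaf (.cyc (nat_lit 19) [(nat_lit 5677), (nat_lit 8849)]))) (.node (.leaf (.cyc (nat_lit 6) [(nat_lit 486), (nat_lit 485)])) (.leaf (.cyc (nat_lit 29) [(nat_lit 12943), (nat_lit 12945)])))) (.node (.node (.leaf .df) (.leaf (.cyc (nat_lit 23) [(nat_lit 6546), (nat_lit 8627), (nat_lit 8625), (nat_lit 9726), (nat_lit 9727), (nat_lit 2093), (nat_lit 2091), (nat_lit 10894), (nat_lit 3788)]))) (.node (.leaf (.cyc (nat_lit 7) [(nat_lit 2553), (nat_lit 926), (nat_lit 308), (nat_lit 4423), (nat_lit 4588), (nat_lit 879), (nat_lit 2453)])) (.leaf .df)))) (.node (.node (.node (.leaf .df) (.leaf (.cyc (nat_lit 29) [(nat_lit 3526), (nat_lit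 9873)]))) (.node (.leaf (.cyc (nat_lit 3) [(nat_lit 1514), (nat_lit 522), (nat_lit 4481), (nat_lit 526), (nat_lit 1524)])) (.leaf .df))) (.node (.node (.leaf .df) (.leaf (.cyc (nat_lit 25) [(nat_lit 3604), (nat_lit 11921)]))) (.node (.leaf (.cyc (nat_lit 19) [(nat_lit 7339), (nat_lit 7822)])) (.leaf .df)))))) (.node (.node (.node (.node (.node (.leaf .df) (.leaf (.cyc (nat_lit 17) [(nat_lit 7145), (nat_lit 8590)]))) (.node (.leaf (.cyc (nat_lit 6) [(nat_lit 196), (nat_lit 195)])) (.leaf (.cyc (nat_lit 0) [(nat_lit 12622), (nat_lit 12690)])))) (.node (.node (.leaf .df) (.leaf (.cyc (nat_lit 5) [(nat_lit 3725), (nat_lit 3724)]))) (.node (.leaf (.cyc (nat_lit 6) [(nat_lit 2342), (nat_lit 2341)])) (.leaf .df)))) (.node (.node (.node (.leaf .df) (.leaf (.cyc (nat_lit 3) [(nat_lit 9618), (nat_lit 9611), (nat_lit 2883), (nat_lit 9616), (nat_lit 5594)]))) (.node (.leaf (.cyc (nat_lit 28) [(nat_lit 5140), (nat_lit 5522)])) (.leaf .df))) (.node (.node (.leaf .df)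 (.leaf (.cyc (nat_lit 4) [(nat_lit 11042), (nat_lit 6107), (nat_lit 11039), (nat_lit 2615), (nat_lit 11666)]))) (.node (.leaf (.cyc (nat_lit 1) [(nat_lit 5438), (nat_lit 3199)])) (.leaf .df))))) (.node (.node (.node (.node (.leaf .df) (.leaf (.cyc (nat_lit 28) [(nat_lit 2838), (nat_lit 9106)]))) (.node (.leaf (.cyc (nat_lit 3) [(nat_lit 4993), (nat_lit 251), (nat_lit 4407), (nat_lit 255), (nat_lit 780)])) (.leaf (.cyc (nat_lit 14) [(nat_lit 12358), (nat_lit 13202)])))) (.node (.node (.leaf .df) (.leaf (.cyc (nat_lit 13) [(nat_lit 10268), (nat_lit 10265), (nat_lit 5064), (nat_lit 2340), (nat_lit 9714), (nat_lit 9713), (nat_lit 3854)]))) (.node (.leaf (.cyc (nat_lit 11) [(nat_lit 2092), (nat_lit 4969), (nat_lit 2096), (nat_lit 7042), (nat_lit 995), (nat_lit 996), (nat_lit 7055), (nat_lit 6826)])) (.leaf .df)))) (.node (.node (.node (.leaf .df) (.leaf (.cyc (nat_lit 17) [(nat_lit 7370), (nat_lit 10130)]))) (.node (.leaf (.cyc (nat_lit 2) [(nat_lit 1809),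 (nat_lit 1808)])) (.leaf .df))) (.node (.node (.leaf .df) (.leaf (.cyc (nat_lit 5) [(nat_lit 4121), (nat_lit 10472)]))) (.node (.leaf (.cyc (nat_lit 8) [(nat_lit 7650), (nat_lit 8080), (nat_lit 2224), (nat_lit 2222), (nat_lit 8082)])) (.leaf .df))))))))
noncomputable def c4P1100101 : BT Pf := (.node (.node (.node (.node (.node (.node (.node (.leaf .df) (.leaf (.cyc (nat_lit 25) [(nat_lit 7316), (nat_lit 8272), (nat_lit 4921)]))) (.node (.leaf .df) (.leaf (.cyc (nat_lit 22) [(nat_lit 12369), (nat_lit 10871), (nat_lit 3778), (nat_lit 5879), (nat_lit 6995), (nat_lit 7000), (nat_lit 6999)])))) (.node (.node (.leaf .df) (.leaf (.cyc (nat_lit 6) [(nat_lit 10321), (nat_lit 9510)]))) (.node (.leaf (.cyc (nat_lit 2) [(nat_lit 2014), (nat_lit 2013)])) (.leaf .df)))) (.node (.node (.node (.leaf .df) (.leaf (.cyc (nat_lit 29) [(nat_lit 8467), (nat_lit 9297)]))) (.node (.leaf (.cyc (nat_lit 4) [(nat_lit 988), (nat_lit 4616), (nat_lit 4478), (nat_lit 4501), (nat_lit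 613)])) (.leaf .df))) (.node (.node (.leaf .df) (.leaf (.cyc (nat_lit 3) [(nat_lit 11346), (nat_lit 11345), (nat_lit 6279), (nat_lit 10739), (nat_lit 10745)]))) (.node (.leaf (.cyc (nat_lit 19) [(nat_lit 5385), (nat_lit 7248)])) (.leaf .df))))) (.node (.node (.node (.node (.leaf .df) (.leaf (.cyc (nat_lit 25) [(nat_lit 2511), (nat_lit 8784), (nat_lit 1191)]))) (.node (.leaf (.cyc (nat_lit 5) [(nat_lit 418), (nat_lit 417)])) (.leaf (.cyc (nat_lit 5) [(nat_lit 12882), (nat_lit 12412)])))) (.node (.node (.leaf .df) (.leaf (.cyc (nat_lit 3) [(nat_lit 7602), (nat_lit 7017), (nat_lit 9019), (nat_lit 5868), (nat_lit 3767)]))) (.node (.leaf (.cyc (nat_lit 6) [(nat_lit 2482), (nat_lit 6729)])) (.leaf .df)))) (.node (.node (.node (.leaf .df) (.leaf (.cyc (nat_lit 4) [(nat_lit 2845), (nat_lit 5263), (nat_lit 2846), (nat_lit 9809), (nat_lit 3489)]))) (.node (.leaf (.cyc (nat_lit 27) [(nat_lit 1455), (nat_lit 4763), (nat_lit 5711), (nat_lit 5175), (nat_lit 4757),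 (nat_lit 5614), (nat_lit 5615)])) (.leaf .df))) (.node (.node (.leaf .df) (.leaf (.cyc (nat_lit 6) [(nat_lit 4048), (nat_lit 4047)]))) (.node (.leaf (.cyc (nat_lit 25) [(nat_lit 2606), (nat_lit 7753)])) (.leaf .df)))))) (.node (.node (.node (.node (.node (.leaf .df) (.leaf (.cyc (nat_lit 29) [(nat_lit 7460), (nat_lit 8529)]))) (.node (.leaf (.cyc (nat_lit 9) [(nat_lit 4412), (nat_lit 4410), (nat_lit 4411), (nat_lit 4372), (nat_lit 107)])) (.leaf (.cyc (nat_lit 4) [(nat_lit 4216), (nat_lit 7561), (nat_lit 8804), (nat_lit 7564), (nat_lit 11565)])))) (.node (.node (.leaf .df) (.leaf (.cyc (nat_lit 25) [(nat_lit 6599), (nat_lit 10577), (nat_lit 3600)]))) (.node (.leaf (.cyc (nat_lit 3) [(nat_lit 5048), (nat_lit 2283), (nat_lit 6480), (nat_lit 1021), (nat_lit 1022)])) (.leaf .df)))) (.node (.node (.node (.leaf .df) (.leaf (.cyc (nat_lit 1) [(nat_lit 8978), (nat_lit 9554)]))) (.node (.leaf (.cyc (nat_lit 2) [(nat_lit 1256), (nat_lit 1255)])) (.leaf .df))) (.node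 (.node (.leaf .df) (.leaf (.cyc (nat_lit 10) [(nat_lit 11058), (nat_lit 10671), (nat_lit 7005), (nat_lit 10668), (nat_lit 3976)]))) (.node (.leaf (.cyc (nat_lit 8) [(nat_lit 7506), (nat_lit 6714), (nat_lit 6715), (nat_lit 2223), (nat_lit 2225)])) (.leaf .df))))) (.node (.node (.node (.node (.leaf .df) (.leaf (.cyc (nat_lit 29) [(nat_lit 7661), (nat_lit 9041)]))) (.node (.leaf (.cyc (nat_lit 6) [(nat_lit 714), (nat_lit 4628)])) (.leaf (.cyc (nat_lit 15) [(nat_lit 13137), (nat_lit 13134), (nat_lit 12683), (nat_lit 12679), (nat_lit 12685), (nat_lit 12688), (nat_lit 4239), (nat_lit 13056), (nat_lit 13057)])))) (.node (.node (.leaf .df) (.leaf (.cyc (nat_lit 8) [(nat_lit 11089), (nat_lit 1725), (nat_lit 1727), (nat_lit 11082), (nat_lit 9639)]))) (.node (.leaf (.cyc (nat_lit 11) [(nat_lit 1640), (nat_lit 569), (nat_lit 182), (nat_lit 179), (nat_lit 4816), (nat_lit 976), (nat_lit 2678)])) (.leaf .df)))) (.node (.node (.node (.leaf .df) (.leaf (.cyc (nat_lit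 7) [(nat_lit 3597), (nat_lit 5725), (nat_lit 1027), (nat_lit 4627), (nat_lit 360), (nat_lit 1076), (nat_lit 2910)]))) (.node (.leaf (.cyc (nat_lit 6) [(nat_lit 1746), (nat_lit 1745)])) (.leaf .df))) (.node (.node (.leaf .df) (.leaf (.cyc (nat_lit 29) [(nat_lit 3616), (nat_lit 12113)]))) (.node (.leaf (.cyc (nat_lit 29) [(nat_lit 1286), (nat_lit 8017)])) (.leaf .df))))))) (.node (.node (.node (.node (.node (.node (.leaf .df) (.leaf (.cyc (nat_lit 3) [(nat_lit 8402), (nat_lit 6204), (nat_lit 6203), (nat_lit 8398), (nat_lit 5019), (nat_lit 2230)]))) (.node (.leaf .df) (.leaf (.cyc (nat_lit 31) [(nat_lit 12330), (nat_lit 12329), (nat_lit 12494), (nat_lit 12498), (nat_lit 3881), (nat_lit 1740), (nat_lit 8179), (nat_lit 3414)])))) (.node (.node (.leaf .df) (.leaf (.cyc (nat_lit 2) [(nat_lit 10450), (nat_lit 9407)]))) (.node (.leaf (.cyc (nat_lit 14) [(nat_lit 5668), (nat_lit 2161)])) (.leaf .df)))) (.node (.node (.node (.leaf .df) (.leaf (.cyc (nat_lit 31)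 [(nat_lit 2997), (nat_lit 1118), (nat_lit 4660), (nat_lit 8707), (nat_lit 729), (nat_lit 2069), (nat_lit 6273), (nat_lit 7347)]))) (.node (.leaf (.cyc (nat_lit 6) [(nat_lit 1131), (nat_lit 1130)])) (.leaf .df))) (.node (.node (.leaf .df) (.leaf (.cyc (nat_lit 28) [(nat_lit 3783), (nat_lit 11474), (nat_lit 3592)]))) (.node (.leaf (.cyc (nat_lit 5) [(nat_lit 3017), (nat_lit 3016)])) (.leaf .df))))) (.node (.node (.node (.node (.leaf .df) (.leaf (.cyc (nat_lit 25) [(nat_lit 6750), (nat_lit 8912)]))) (.node (.leaf (.cyc (nat_lit 1) [(nat_lit 4565), (nat_lit 563)])) (.leaf (.cyc (nat_lit 11) [(nat_lit 12738), (nat_lit 12583), (nat_lit 11979), (nat_lit 4073), (nat_lit 9980), (nat_lit 10442), (nat_lit 13010)])))) (.node (.node (.leaf .df) (.leaf (.cyc (nat_lit 22) [(nat_lit 3805), (nat_lit 5896), (nat_lit 5429), (nat_lit 5436), (nat_lit 9104), (nat_lit 8015), (nat_lit 3344)]))) (.node (.leaf (.cyc (nat_lit 1) [(nat_lit 5387), (nat_lit 2601)])) (.leaf .df))))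 (.node (.node (.node (.leaf .df) (.leaf (.cyc (nat_lit 28) [(nat_lit 9707), (nat_lit 9938)]))) (.node (.leaf (.cyc (nat_lit 6) [(nat_lit 1604), (nat_lit 1603)])) (.leaf .df))) (.node (.node (.leaf .df) (.leaf (.cyc (nat_lit 0) [(nat_lit 6855), (nat_lit 4079)]))) (.node (.leaf (.cyc (nat_lit 18) [(nat_lit 3104), (nat_lit 7889)])) (.leaf .df)))))) (.node (.node (.node (.node (.node (.leaf .df) (.leaf (.cyc (nat_lit 29) [(nat_lit 2793), (nat_lit 8657)]))) (.node (.leaf (.cyc (nat_lit 0) [(nat_lit 4410), (nat_lit 265)])) (.leaf (.cyc (nat_lit 10) [(nat_lit 11328), (nat_lit 2275), (nat_lit 2273), (nat_lit 12102), (nat_lit 4244)])))) (.node (.node (.leaf .df) (.leaf (.cyc (nat_lit 8) [(nat_lit 10549), (nat_lit 1617), (nat_lit 1619), (nat_lit 9815), (nat_lit 10704)]))) (.node (.leaf (.cyc (nat_lit 5) [(nat_lit 2405), (nat_lit 2404)])) (.leaf .df)))) (.node (.node (.node (.leaf .df) (.leaf (.cyc (nat_lit 18) [(nat_lit 1406), (nat_lit 9682)]))) (.node (.leaf (.cyc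 (nat_lit 2) [(nat_lit 1333), (nat_lit 1332)])) (.leaf .df))) (.node (.node (.leaf .df) (.leaf (.cyc (nat_lit 8) [(nat_lit 11726), (nat_lit 3191), (nat_lit 3194), (nat_lit 8804), (nat_lit 7561)]))) (.node (.leaf (.cyc (nat_lit 4) [(nat_lit 1235), (nat_lit 419), (nat_lit 418), (nat_lit 1229), (nat_lit 3252)])) (.leaf .df))))) (.node (.node (.node (.node (.leaf .df) (.leaf (.cyc (nat_lit 19) [(nat_lit 6326), (nat_lit 9167), (nat_lit 6117)]))) (.node (.leaf (.cyc (nat_lit 15) [(nat_lit 841), (nat_lit 278), (nat_lit 85), (nat_lit 4368), (nat_lit 90), (nat_lit 4422), (nat_lit 4423), (nat_lit 308), (nat_lit 4655)])) (.leaf (.cyc (nat_lit 3) [(nat_lit 13082), (nat_lit 4085), (nat_lit 4083), (nat_lit 12778), (nat_lit 13266)])))) (.node (.node (.leaf .df) (.leaf (.cyc (nat_lit 0) [(nat_lit 11217), (nat_lit 3881)]))) (.node (.leaf (.cyc (nat_lit 0) [(nat_lit 6508), (nat_lit 2772)])) (.leaf .df)))) (.node (.node (.node (.leaf .df) (.leaf (.cyc (nat_lit 17) [(nat_lit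 2841), (nat_lit 10189), (nat_lit 2488)]))) (.node (.leaf (.cyc (nat_lit 3) [(nat_lit 1858), (nat_lit 648), (nat_lit 4511), (nat_lit 653), (nat_lit 1874)])) (.leaf .df))) (.node (.node (.leaf .df) (.leaf (.cyc (nat_lit 3) [(nat_lit 4135), (nat_lit 12242), (nat_lit 9984), (nat_lit 2198), (nat_lit 2200), (nat_lit 4098)]))) (.node (.leaf (.cyc (nat_lit 18) [(nat_lit 7276), (nat_lit 8145), (nat_lit 7308)])) (.leaf .df))))))))
noncomputable def c4P110010 : BT Pf := .node c4P1100100 c4P1100101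
noncomputable def c4P1100110 : BT Pf := (.node (.node (.node (.node (.node (.node (.node (.leaf .df) (.leaf (.cyc (nat_lit 17) [(nat_lit 7405), (nat_lit 8232)]))) (.node (.leaf .df) (.leaf (.cyc (nat_lit 28) [(nat_lit 3575), (nat_lit 12338)])))) (.node (.node (.leaf .df) (.leaf (.cyc (nat_lit 0) [(nat_lit 10287), (nat_lit 10289)]))) (.node (.leaf (.cyc (nat_lit 23) [(nat_lit 1071), (nat_lit 4637), (nat_lit 4515), (nat_lit 669), (nat_lit 4908), (nat_lit 228), (nat_lit 226), (nat_lit 695), (nat_lit 1987)])) (.leaf .df)))) (.node (.node (.node (.leaf .df) (.leaf (.cyc (nat_lit 17) [(nat_lit 7205), (nat_lit 9265)]))) (.node (.leaf (.cyc (nat_lit 26) [(nat_lit 369), (nat_lit 118), (nat_lit 4376), (nat_lit 4427), (nat_lit 4416), (nat_lit 277), (nat_lit 4574), (nat_lit 318), (nat_lit 950)])) (.leaf .df))) (.node (.node (.leaf .df) (.leaf (.cyc (nat_lit 0) [(nat_lit 11301), (nat_lit 3900)]))) (.node (.leaf (.cyc (nat_lit 3) [(nat_lit 2567), (nat_lit 5454), (nat_lit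 5456), (nat_lit 5272), (nat_lit 2880)])) (.leaf .df))))) (.node (.node (.node (.node (.leaf .df) (.leaf (.cyc (nat_lit 18) [(nat_lit 3181), (nat_lit 8744)]))) (.node (.leaf (.cyc (nat_lit 4) [(nat_lit 379), (nat_lit 120), (nat_lit 35), (nat_lit 38), (nat_lit 130)])) (.leaf (.cyc (nat_lit 8) [(nat_lit 3943), (nat_lit 6091), (nat_lit 3944), (nat_lit 12849), (nat_lit 11095), (nat_lit 12247)])))) (.node (.node (.leaf .df) (.leaf (.cyc (nat_lit 18) [(nat_lit 1831), (nat_lit 10802)]))) (.node (.leaf (.cyc (nat_lit 8) [(nat_lit 1000), (nat_lit 998), (nat_lit 6512), (nat_lit 6704), (nat_lit 6239)])) (.leaf .df)))) (.node (.node (.node (.leaf .df) (.leaf (.cyc (nat_lit 5) [(nat_lit 9777), (nat_lit 8152)]))) (.node (.leaf (.cyc (nat_lit 6) [(nat_lit 1449), (nat_lit 1448)])) (.leaf .df))) (.node (.node (.leaf .df) (.leaf (.cyc (nat_lit 3) [(nat_lit 2121), (nat_lit 9249), (nat_lit 2063), (nat_lit 2065), (nat_lit 4036)]))) (.node (.leaf (.cyc (nat_lit 2) [(nat_lit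 3331), (nat_lit 3330)])) (.leaf .df)))))) (.node (.node (.node (.node (.node (.leaf .df) (.leaf (.cyc (nat_lit 6) [(nat_lit 8486), (nat_lit 8402)]))) (.node (.leaf (.cyc (nat_lit 1) [(nat_lit 4373), (nat_lit 70)])) (.leaf (.cyc (nat_lit 6) [(nat_lit 12594), (nat_lit 12592)])))) (.node (.node (.leaf .df) (.leaf (.cyc (nat_lit 21) [(nat_lit 6986), (nat_lit 6911), (nat_lit 10521), (nat_lit 7181), (nat_lit 2902)]))) (.node (.leaf (.cyc (nat_lit 26) [(nat_lit 985), (nat_lit 4615), (nat_lit 4777), (nat_lit 4778), (nat_lit 263), (nat_lit 261), (nat_lit 799), (nat_lit 2252), (nat_lit 6450)])) (.leaf .df)))) (.node (.node (.node (.leaf .df) (.leaf (.cyc (nat_lit 2) [(nat_lit 3363), (nat_lit 8946)]))) (.node (.leaf (.cyc (nat_lit 2) [(nat_lit 1231), (nat_lit 1230)])) (.leaf .df))) (.node (.node (.leaf .df) (.leaf (.cyc (nat_lit 8) [(nat_lit 6473), (nat_lit 7055), (nat_lit 2575), (nat_lit 7058), (nat_lit 3967)]))) (.node (.leaf (.cyc (nat_lit 8) [(nat_lit 2283),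 (nat_lit 811), (nat_lit 814), (nat_lit 7443), (nat_lit 3099)])) (.leaf .df))))) (.node (.node (.node (.node (.leaf .df) (.leaf (.cyc (nat_lit 19) [(nat_lit 8688), (nat_lit 8995)]))) (.node (.leaf (.cyc (nat_lit 4) [(nat_lit 391), (nat_lit 4445), (nat_lit 4453), (nat_lit 4524), (nat_lit 673)])) (.leaf (.cyc (nat_lit 8) [(nat_lit 4314), (nat_lit 12596), (nat_lit 12595), (nat_lit 3583), (nat_lit 3584)])))) (.node (.node (.leaf .df) (.leaf (.cyc (nat_lit 1) [(nat_lit 8690), (nat_lit 3823)]))) (.node (.leaf (.cyc (nat_lit 6) [(nat_lit 2647), (nat_lit 2646)])) (.leaf .df)))) (.node (.node (.node (.leaf .df) (.leaf (.cyc (nat_lit 6) [(nat_lit 3590), (nat_lit 5803)]))) (.node (.leaf (.cyc (nat_lit 9) [(nat_lit 5301), (nat_lit 5937), (nat_lit 1706), (nat_lit 4840), (nat_lit 1709)])) (.leaf .df))) (.node (.node (.leaf .df) (.leaf (.cyc (nat_lit 7) [(nat_lit 3205), (nat_lit 1210), (nat_lit 5401), (nat_lit 983), (nat_lit 5410), (nat_lit 12041), (nat_lit 4103)])))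 (.node (.leaf (.cyc (nat_lit 29) [(nat_lit 7295), (nat_lit 7984), (nat_lit 7238)])) (.leaf .df))))))) (.node (.node (.node (.node (.node (.node (.leaf .df) (.leaf (.cyc (nat_lit 22) [(nat_lit 8326), (nat_lit 5083), (nat_lit 8365), (nat_lit 1305), (nat_lit 4716), (nat_lit 4784), (nat_lit 1506)]))) (.node (.leaf .df) (.leaf (.cyc (nat_lit 9) [(nat_lit 4180), (nat_lit 6759), (nat_lit 2445), (nat_lit 2447), (nat_lit 4171)])))) (.node (.node (.leaf .df) (.leaf (.cyc (nat_lit 6) [(nat_lit 3680), (nat_lit 9983)]))) (.node (.leaf (.cyc (nat_lit 13) [(nat_lit 6322), (nat_lit 1731), (nat_lit 601), (nat_lit 193), (nat_lit 195), (nat_lit 606), (nat_lit 1741)])) (.leaf .df)))) (.node (.node (.node (.leaf .df) (.leaf (.cyc (nat_lit 11) [(nat_lit 2281), (nat_lit 809), (nat_lit 808), (nat_lit 2276), (nat_lit 6475), (nat_lit 9393), (nat_lit 5936), (nat_lit 7544)]))) (.node (.leaf (.cyc (nat_lit 3) [(nat_lit 690), (nat_lit 4529), (nat_lit 4906), (nat_lit 4642), (nat_lit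 1093)])) (.leaf .df))) (.node (.node (.leaf .df) (.leaf (.cyc (nat_lit 0) [(nat_lit 9658), (nat_lit 3928)]))) (.node (.leaf (.cyc (nat_lit 18) [(nat_lit 6533), (nat_lit 7346)])) (.leaf .df))))) (.node (.node (.node (.node (.leaf .df) (.leaf (.cyc (nat_lit 9) [(nat_lit 2574), (nat_lit 8882), (nat_lit 7570), (nat_lit 1228), (nat_lit 1230), (nat_lit 3257)]))) (.node (.leaf (.cyc (nat_lit 2) [(nat_lit 524), (nat_lit 523)])) (.leaf (.cyc (nat_lit 4) [(nat_lit 12978), (nat_lit 12778), (nat_lit 4083), (nat_lit 12003), (nat_lit 12666)])))) (.node (.node (.leaf .df) (.leaf (.cyc (nat_lit 29) [(nat_lit 3258), (nat_lit 10929)]))) (.node (.leaf (.cyc (nat_lit 6) [(nat_lit 6834), (nat_lit 6733)])) (.leaf .df)))) (.node (.node (.node (.leaf .df) (.leaf (.cyc (nat_lit 6) [(nat_lit 9906), (nat_lit 7647)]))) (.node (.leaf (.cyc (nat_lit 5) [(nat_lit 1558), (nat_lit 1557)])) (.leaf .df))) (.node (.node (.leaf .df) (.leaf (.cyc (nat_lit 8) [(nat_lit 3825), (nat_lit 3823),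 (nat_lit 11088), (nat_lit 11165), (nat_lit 11953), (nat_lit 11453)]))) (.node (.leaf (.cyc (nat_lit 25) [(nat_lit 7632), (nat_lit 7854)])) (.leaf .df)))))) (.node (.node (.node (.node (.node (.leaf .df) (.leaf (.cyc (nat_lit 17) [(nat_lit 8482), (nat_lit 8624)]))) (.node (.leaf (.cyc (nat_lit 6) [(nat_lit 229), (nat_lit 228)])) (.leaf (.cyc (nat_lit 0) [(nat_lit 9144), (nat_lit 4236)])))) (.node (.node (.leaf .df) (.leaf (.cyc (nat_lit 18) [(nat_lit 3728), (nat_lit 10674)]))) (.node (.leaf (.cyc (nat_lit 5) [(nat_lit 2366), (nat_lit 2365)])) (.leaf .df)))) (.node (.node (.node (.leaf .df) (.leaf (.cyc (nat_lit 8) [(nat_lit 9647), (nat_lit 9571), (nat_lit 9572), (nat_lit 9359), (nat_lit 9360)]))) (.node (.leaf (.cyc (nat_lit 6) [(nat_lit 1304), (nat_lit 1303)])) (.leaf .df))) (.node (.node (.leaf .df) (.leaf (.cyc (nat_lit 14) [(nat_lit 8390), (nat_lit 4001)]))) (.node (.leaf (.cyc (nat_lit 8) [(nat_lit 5836), (nat_lit 6870), (nat_lit 1222), (nat_lit 1220),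 (nat_lit 3225)])) (.leaf .df))))) (.node (.node (.node (.node (.leaf .df) (.leaf (.cyc (nat_lit 25) [(nat_lit 8923), (nat_lit 9135)]))) (.node (.leaf (.cyc (nat_lit 17) [(nat_lit 4775), (nat_lit 5042)])) (.leaf (.cyc (nat_lit 14) [(nat_lit 10873), (nat_lit 4341)])))) (.node (.node (.leaf .df) (.leaf (.cyc (nat_lit 1) [(nat_lit 11136), (nat_lit 3867)]))) (.node (.leaf (.cyc (nat_lit 9) [(nat_lit 5283), (nat_lit 5991), (nat_lit 5992), (nat_lit 5220), (nat_lit 2744)])) (.leaf .df)))) (.node (.node (.node (.leaf .df) (.leaf (.cyc (nat_lit 32) [(nat_lit 2255), (nat_lit 2257), (nat_lit 9449), (nat_lit 10161), (nat_lit 5652), (nat_lit 7789), (nat_lit 6829), (nat_lit 7796), (nat_lit 9536), (nat_lit 9537)]))) (.node (.leaf (.cyc (nat_lit 11) [(nat_lit 1563), (nat_lit 543), (nat_lit 4485), (nat_lit 4398), (nat_lit 208), (nat_lit 643), (nat_lit 1842)])) (.leaf .df))) (.node (.node (.leaf .df) (.leaf (.cyc (nat_lit 5) [(nat_lit 12210), (nat_lit 10139)]))) (.node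 (.leaf (.cyc (nat_lit 18) [(nat_lit 1892), (nat_lit 8114)])) (.leaf .df))))))))
noncomputable def c4P1100111 : BT Pf := (.node (.node (.node (.node (.node (.node (.node (.leaf .df) (.leaf (.cyc (nat_lit 18) [(nat_lit 2364), (nat_lit 8294), (nat_lit 1955)]))) (.node (.leaf .df) (.leaf (.cyc (nat_lit 26) [(nat_lit 11483), (nat_lit 11036), (nat_lit 11035), (nat_lit 6176), (nat_lit 8512), (nat_lit 7312), (nat_lit 7313), (nat_lit 10052), (nat_lit 4167)])))) (.node (.node (.leaf .df) (.leaf (.cyc (nat_lit 10) [(nat_lit 10353), (nat_lit 10352), (nat_lit 7329), (nat_lit 9807), (nat_lit 9959)]))) (.node (.leaf (.cyc (nat_lit 5) [(nat_lit 2054), (nat_lit 2053)])) (.leaf .df)))) (.node (.node (.node (.leaf .df) (.leaf (.cyc (nat_lit 29) [(nat_lit 6014), (nat_lit 9327)]))) (.node (.leaf (.cyc (nat_lit 5) [(nat_lit 1028), (nat_lit 1027)])) (.leaf .df))) (.node (.node (.leaf .df) (.leaf (.cyc (nat_lit 8) [(nat_lit 7198), (nat_lit 10400), (nat_lit 6428), (nat_lit 10393),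 (nat_lit 11376)]))) (.node (.leaf (.cyc (nat_lit 15) [(nat_lit 7282), (nat_lit 7252), (nat_lit 1095), (nat_lit 5509), (nat_lit 589), (nat_lit 190), (nat_lit 192), (nat_lit 596), (nat_lit 5928)])) (.leaf .df))))) (.node (.node (.node (.node (.leaf .df) (.leaf (.cyc (nat_lit 29) [(nat_lit 6526), (nat_lit 8818), (nat_lit 2629)]))) (.node (.leaf (.cyc (nat_lit 8) [(nat_lit 4719), (nat_lit 4720), (nat_lit 198), (nat_lit 4460), (nat_lit 442)])) (.leaf (.cyc (nat_lit 5) [(nat_lit 4276), (nat_lit 12260)])))) (.node (.node (.leaf .df) (.leaf (.cyc (nat_lit 4) [(nat_lit 2288), (nat_lit 2286), (nat_lit 10866), (nat_lit 2614), (nat_lit 2612)]))) (.node (.leaf (.cyc (nat_lit 4) [(nat_lit 6613), (nat_lit 6614), (nat_lit 2358), (nat_lit 5132), (nat_lit 2524)])) (.leaf .df)))) (.node (.node (.node (.leaf .df) (.leaf (.cyc (nat_lit 3) [(nat_lit 3494), (nat_lit 1399), (nat_lit 4752), (nat_lit 1404), (nat_lit 3509)]))) (.node (.leaf (.cyc (nat_lit 3) [(nat_lit 5731), (nat_lit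 985), (nat_lit 4615), (nat_lit 4777), (nat_lit 1495)])) (.leaf .df))) (.node (.node (.leaf .df) (.leaf (.cyc (nat_lit 20) [(nat_lit 10819), (nat_lit 10340), (nat_lit 10738), (nat_lit 11671), (nat_lit 11889), (nat_lit 11890), (nat_lit 2501), (nat_lit 2498)]))) (.node (.leaf (.cyc (nat_lit 19) [(nat_lit 1408), (nat_lit 7793)])) (.leaf .df)))))) (.node (.node (.node (.node (.node (.leaf .df) (.leaf (.cyc (nat_lit 9) [(nat_lit 7089), (nat_lit 8274), (nat_lit 680), (nat_lit 682), (nat_lit 1951)]))) (.node (.leaf (.cyc (nat_lit 11) [(nat_lit 75), (nat_lit 4381), (nat_lit 42), (nat_lit 11), (nat_lit 12), (nat_lit 46), (nat_lit 151)])) (.leaf (.cyc (nat_lit 4) [(nat_lit 4212), (nat_lit 6911), (nat_lit 6986), (nat_lit 12655), (nat_lit 12658)])))) (.node (.node (.leaf .df) (.leaf (.cyc (nat_lit 29) [(nat_lit 2999), (nat_lit 10609)]))) (.node (.leaf (.cyc (nat_lit 5) [(nat_lit 2303), (nat_lit 2302)])) (.leaf .df)))) (.node (.node (.node (.leaf .df) (.leaf (.cyc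 (nat_lit 4) [(nat_lit 3397), (nat_lit 1330), (nat_lit 1328), (nat_lit 3393), (nat_lit 9576)]))) (.node (.leaf (.cyc (nat_lit 8) [(nat_lit 5488), (nat_lit 759), (nat_lit 247), (nat_lit 245), (nat_lit 754)])) (.leaf .df))) (.node (.node (.leaf .df) (.leaf (.cyc (nat_lit 3) [(nat_lit 11482), (nat_lit 11623), (nat_lit 11625), (nat_lit 9474), (nat_lit 11547)]))) (.node (.leaf (.cyc (nat_lit 4) [(nat_lit 3162), (nat_lit 1192), (nat_lit 404), (nat_lit 407), (nat_lit 1200)])) (.leaf .df))))) (.node (.node (.node (.node (.leaf .df) (.leaf (.cyc (nat_lit 8) [(nat_lit 2947), (nat_lit 5297), (nat_lit 5296), (nat_lit 1918), (nat_lit 9072)]))) (.node (.leaf (.cyc (nat_lit 6) [(nat_lit 754), (nat_lit 753)])) (.leaf (.cyc (nat_lit 10) [(nat_lit 13170), (nat_lit 3947), (nat_lit 6094), (nat_lit 3949), (nat_lit 12060)])))) (.node (.node (.leaf .df) (.leaf (.cyc (nat_lit 2) [(nat_lit 3842), (nat_lit 3841)]))) (.node (.leaf (.cyc (nat_lit 2) [(nat_lit 2707), (nat_lit 2706)]))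 (.leaf .df)))) (.node (.node (.node (.leaf .df) (.leaf (.cyc (nat_lit 1) [(nat_lit 10064), (nat_lit 3609)]))) (.node (.leaf (.cyc (nat_lit 16) [(nat_lit 631), (nat_lit 203), (nat_lit 4398), (nat_lit 207), (nat_lit 4508), (nat_lit 201), (nat_lit 199), (nat_lit 618), (nat_lit 1774), (nat_lit 6002)])) (.leaf .df))) (.node (.node (.leaf .df) (.leaf (.cyc (nat_lit 14) [(nat_lit 9443), (nat_lit 4116)]))) (.node (.leaf (.cyc (nat_lit 3) [(nat_lit 2245), (nat_lit 2247), (nat_lit 8045), (nat_lit 2779), (nat_lit 2781)])) (.leaf .df))))))) (.node (.node (.node (.node (.node (.node (.leaf .df) (.leaf (.cyc (nat_lit 25) [(nat_lit 6199), (nat_lit 8432), (nat_lit 4878)]))) (.node (.leaf .df) (.leaf (.cyc (nat_lit 28) [(nat_lit 3956), (nat_lit 12530)])))) (.node (.node (.leaf .df) (.leaf (.cyc (nat_lit 0) [(nat_lit 10480), (nat_lit 10482)]))) (.node (.leaf (.cyc (nat_lit 3) [(nat_lit 6386), (nat_lit 6383), (nat_lit 6303), (nat_lit 2033), (nat_lit 2035)])) (.leaf .df))))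 (.node (.node (.node (.leaf .df) (.leaf (.cyc (nat_lit 20) [(nat_lit 7968), (nat_lit 6419), (nat_lit 5266), (nat_lit 2866), (nat_lit 9457), (nat_lit 6801), (nat_lit 3204)]))) (.node (.leaf (.cyc (nat_lit 3) [(nat_lit 5321), (nat_lit 5361), (nat_lit 5360), (nat_lit 1143), (nat_lit 1145)])) (.leaf .df))) (.node (.node (.leaf .df) (.leaf (.cyc (nat_lit 29) [(nat_lit 3950), (nat_lit 11505)]))) (.node (.leaf (.cyc (nat_lit 6) [(nat_lit 7410), (nat_lit 7171)])) (.leaf .df))))) (.node (.node (.node (.node (.leaf .df) (.leaf (.cyc (nat_lit 22) [(nat_lit 1596), (nat_lit 8945), (nat_lit 1296), (nat_lit 4714), (nat_lit 5545), (nat_lit 2624), (nat_lit 8630)]))) (.node (.leaf (.cyc (nat_lit 8) [(nat_lit 603), (nat_lit 4498), (nat_lit 4702), (nat_lit 4420), (nat_lit 304)])) (.leaf (.cyc (nat_lit 8) [(nat_lit 4300), (nat_lit 9872), (nat_lit 9871), (nat_lit 9870), (nat_lit 12455)])))) (.node (.node (.leaf .df) (.leaf (.cyc (nat_lit 0) [(nat_lit 9830), (nat_lit 3807)])))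 (.node (.leaf (.cyc (nat_lit 8) [(nat_lit 6898), (nat_lit 1467), (nat_lit 502), (nat_lit 500), (nat_lit 1462)])) (.leaf .df)))) (.node (.node (.node (.leaf .df) (.leaf (.cyc (nat_lit 5) [(nat_lit 3559), (nat_lit 3558)]))) (.node (.leaf (.cyc (nat_lit 6) [(nat_lit 1635), (nat_lit 1634)])) (.leaf .df))) (.node (.node (.leaf .df) (.leaf (.cyc (nat_lit 21) [(nat_lit 12017), (nat_lit 7129), (nat_lit 10697), (nat_lit 6104), (nat_lit 11514)]))) (.node (.leaf (.cyc (nat_lit 10) [(nat_lit 2824), (nat_lit 1041), (nat_lit 4951), (nat_lit 7922), (nat_lit 3272)])) (.leaf .df)))))) (.node (.node (.node (.node (.node (.leaf .df) (.leaf (.cyc (nat_lit 16) [(nat_lit 1699), (nat_lit 5559), (nat_lit 1307), (nat_lit 8677), (nat_lit 8684), (nat_lit 8682), (nat_lit 8656), (nat_lit 5922), (nat_lit 8690)]))) (.node (.leaf (.cyc (nat_lit 10) [(nat_lit 137), (nat_lit 40), (nat_lit 4369), (nat_lit 94), (nat_lit 304)])) (.leaf (.cyc (nat_lit 3) [(nat_lit 12354), (nat_lit 11502),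 (nat_lit 11512), (nat_lit 12189), (nat_lit 12786)])))) (.node (.node (.leaf .df) (.leaf (.cyc (nat_lit 7) [(nat_lit 2077), (nat_lit 5026), (nat_lit 553), (nat_lit 4487), (nat_lit 556), (nat_lit 1601), (nat_lit 3748)]))) (.node (.leaf (.cyc (nat_lit 9) [(nat_lit 6642), (nat_lit 2435), (nat_lit 868), (nat_lit 4582), (nat_lit 866), (nat_lit 2430)])) (.leaf .df)))) (.node (.node (.node (.leaf .df) (.leaf (.cyc (nat_lit 8) [(nat_lit 3443), (nat_lit 8626), (nat_lit 7046), (nat_lit 2095), (nat_lit 8643)]))) (.node (.leaf (.cyc (nat_lit 3) [(nat_lit 4761), (nat_lit 5618), (nat_lit 5617), (nat_lit 1354), (nat_lit 1356)])) (.leaf .df))) (.node (.node (.leaf .df) (.leaf (.cyc (nat_lit 31) [(nat_lit 2363), (nat_lit 2360), (nat_lit 11760), (nat_lit 991), (nat_lit 5195), (nat_lit 5196), (nat_lit 2680)]))) (.node (.leaf (.cyc (nat_lit 2) [(nat_lit 3283), (nat_lit 7665)])) (.leaf .df))))) (.node (.node (.node (.node (.leaf .df) (.leaf (.cyc (nat_lit 25) [(nat_lit 6363),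 (nat_lit 9198)]))) (.node (.leaf (.cyc (nat_lit 6) [(nat_lit 878), (nat_lit 877)])) (.leaf .df))) (.node (.node (.leaf .df) (.leaf (.cyc (nat_lit 29) [(nat_lit 11234), (nat_lit 11249)]))) (.node (.leaf (.cyc (nat_lit 2) [(nat_lit 2797), (nat_lit 2796)])) (.leaf .df)))) (.node (.node (.node (.leaf .df) (.leaf (.cyc (nat_lit 9) [(nat_lit 3634), (nat_lit 1491), (nat_lit 4774), (nat_lit 1488), (nat_lit 3630)]))) (.node (.leaf (.cyc (nat_lit 6) [(nat_lit 1920), (nat_lit 5296)])) (.leaf .df))) (.node (.node (.leaf .df) (.leaf (.cyc (nat_lit 1) [(nat_lit 12240), (nat_lit 4142)]))) (.node (.leaf (.cyc (nat_lit 29) [(nat_lit 1737), (nat_lit 8177)])) (.leaf .df))))))))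
noncomputable def c4P110011 : BT Pf := .node c4P1100110 c4P1100111
noncomputable def c4P11001 : BT Pf := .node c4P110010 c4P110011
noncomputable def c4P1100 : BT Pf := .node c4P11000 c4P11001
noncomputable def c4P1101000 : BT Pf := (.node (.node (.node (.node (.node (.node (.node (.leaf .df) (.leaf (.cyc (nat_lit 17) [(nat_lit 7406), (nat_lit 8198), (nat_lit 7070)]))) (.node (.leaf .df) (.leaf (.cyc (nat_lit 18) [(nat_lit 12053), (nat_lit 12295)])))) (.node (.node (.leaf .df) (.leaf (.cyc (nat_lit 31) [(nat_lit 6842), (nat_lit 6214), (nat_lit 10249), (nat_lit 1349), (nat_lit 4731), (nat_lit 4884), (nat_lit 1843)]))) (.node (.leaf (.cyc (nat_lit 18) [(nat_lit 724), (nat_lit 6153)])) (.leaf .df)))) (.node (.node (.node (.leaf .df) (.leaf (.cyc (nat_lit 27) [(nat_lit 2045), (nat_lit 9213), (nat_lit 6136), (nat_lit 5328), (nat_lit 8671), (nat_lit 5091), (nat_lit 2397)]))) (.node (.leaf (.cyc (nat_lit 2) [(nat_lit 910), (nat_lit 909)])) (.leaf .df))) (.node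 (.node (.leaf .df) (.leaf (.cyc (nat_lit 2) [(nat_lit 3894), (nat_lit 11272)]))) (.node (.leaf (.cyc (nat_lit 8) [(nat_lit 2822), (nat_lit 2820), (nat_lit 7176), (nat_lit 1738), (nat_lit 1740)])) (.leaf .df))))) (.node (.node (.node (.node (.leaf .df) (.leaf (.cyc (nat_lit 17) [(nat_lit 7012), (nat_lit 8708)]))) (.node (.leaf (.cyc (nat_lit 6) [(nat_lit 334), (nat_lit 333)])) (.leaf (.cyc (nat_lit 13) [(nat_lit 12808), (nat_lit 12810), (nat_lit 3415), (nat_lit 8179), (nat_lit 1739), (nat_lit 3878), (nat_lit 12809)])))) (.node (.node (.leaf .df) (.leaf (.cyc (nat_lit 28) [(nat_lit 10690), (nat_lit 10762)]))) (.node (.leaf (.cyc (nat_lit 19) [(nat_lit 2017), (nat_lit 6665)])) (.leaf .df)))) (.node (.node (.node (.leaf .df) (.leaf (.cyc (nat_lit 1) [(nat_lit 6550), (nat_lit 3454)]))) (.node (.leaf (.cyc (nat_lit 6) [(nat_lit 1404), (nat_lit 1403)])) (.leaf .df))) (.node (.node (.leaf .df) (.leaf (.cyc (nat_lit 17) [(nat_lit 6655), (nat_lit 11786)]))) (.node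 (.leaf (.cyc (nat_lit 13) [(nat_lit 7690), (nat_lit 3299), (nat_lit 1256), (nat_lit 4841), (nat_lit 4842), (nat_lit 4802), (nat_lit 1564)])) (.leaf .df)))))) (.node (.node (.node (.node (.node (.leaf .df) (.leaf (.cyc (nat_lit 29) [(nat_lit 6339), (nat_lit 8455)]))) (.node (.leaf (.cyc (nat_lit 6) [(nat_lit 17), (nat_lit 16)])) (.leaf (.cyc (nat_lit 3) [(nat_lit 11593), (nat_lit 11592), (nat_lit 7234), (nat_lit 10547), (nat_lit 12553)])))) (.node (.node (.leaf .df) (.leaf (.cyc (nat_lit 4) [(nat_lit 10373), (nat_lit 10368), (nat_lit 1553), (nat_lit 1556), (nat_lit 3697)]))) (.node (.leaf (.cyc (nat_lit 0) [(nat_lit 5489), (nat_lit 2212)])) (.leaf .df)))) (.node (.node (.node (.leaf .df) (.leaf (.cyc (nat_lit 25) [(nat_lit 9478), (nat_lit 9480)]))) (.node (.leaf (.cyc (nat_lit 12) [(nat_lit 5386), (nat_lit 413), (nat_lit 131), (nat_lit 4378), (nat_lit 127), (nat_lit 4657), (nat_lit 5168), (nat_lit 946), (nat_lit 945)])) (.leaf .df))) (.node (.node (.leaf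 .df) (.leaf (.cyc (nat_lit 10) [(nat_lit 1887), (nat_lit 658), (nat_lit 656), (nat_lit 1880), (nat_lit 3959)]))) (.node (.leaf (.cyc (nat_lit 10) [(nat_lit 6446), (nat_lit 801), (nat_lit 798), (nat_lit 2249), (nat_lit 7434)])) (.leaf .df))))) (.node (.node (.node (.node (.leaf .df) (.leaf (.cyc (nat_lit 19) [(nat_lit 8006), (nat_lit 8968)]))) (.node (.leaf (.cyc (nat_lit 7) [(nat_lit 614), (nat_lit 197), (nat_lit 59), (nat_lit 4363), (nat_lit 62), (nat_lit 204), (nat_lit 635)])) (.leaf (.cyc (nat_lit 0) [(nat_lit 9834), (nat_lit 13065)])))) (.node (.node (.leaf .df) (.leaf (.cyc (nat_lit 20) [(nat_lit 1933), (nat_lit 1934), (nat_lit 7692), (nat_lit 9477), (nat_lit 7698), (nat_lit 5946), (nat_lit 3813)]))) (.node (.leaf (.cyc (nat_lit 28) [(nat_lit 1714), (nat_lit 6921)])) (.leaf .df)))) (.node (.node (.node (.leaf .df) (.leaf (.cyc (nat_lit 5) [(nat_lit 3575), (nat_lit 9450)]))) (.node (.leaf (.cyc (nat_lit 2) [(nat_lit 1660), (nat_lit 1659)])) (.leaf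 .df))) (.node (.node (.leaf .df) (.leaf (.cyc (nat_lit 1) [(nat_lit 6848), (nat_lit 4091)]))) (.node (.leaf (.cyc (nat_lit 19) [(nat_lit 5445), (nat_lit 7938)])) (.leaf .df))))))) (.node (.node (.node (.node (.node (.node (.leaf .df) (.leaf (.cyc (nat_lit 3) [(nat_lit 6215), (nat_lit 8330), (nat_lit 2372), (nat_lit 5083), (nat_lit 2370)]))) (.node (.leaf .df) (.leaf (.cyc (nat_lit 14) [(nat_lit 6830), (nat_lit 4172)])))) (.node (.node (.leaf .df) (.leaf (.cyc (nat_lit 6) [(nat_lit 10378), (nat_lit 10217)]))) (.node (.leaf (.cyc (nat_lit 6) [(nat_lit 2085), (nat_lit 2084)])) (.leaf .df)))) (.node (.node (.node (.leaf .df) (.leaf (.cyc (nat_lit 9) [(nat_lit 1876), (nat_lit 1879), (nat_lit 9256), (nat_lit 9352), (nat_lit 1805), (nat_lit 1803)]))) (.node (.leaf (.cyc (nat_lit 8) [(nat_lit 5016), (nat_lit 5239), (nat_lit 354), (nat_lit 352), (nat_lit 1046)])) (.leaf .df))) (.node (.node (.leaf .df) (.leaf (.cyc (nat_lit 14) [(nat_lit 8980), (nat_lit 3919)])))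 (.node (.leaf (.cyc (nat_lit 30) [(nat_lit 7304), (nat_lit 7305), (nat_lit 2620), (nat_lit 5722), (nat_lit 4785), (nat_lit 5584), (nat_lit 5585), (nat_lit 5586), (nat_lit 1767)])) (.leaf .df))))) (.node (.node (.node (.node (.leaf .df) (.leaf (.cyc (nat_lit 33) [(nat_lit 2628), (nat_lit 5179), (nat_lit 8823), (nat_lit 2315), (nat_lit 7345), (nat_lit 7342), (nat_lit 5630)]))) (.node (.leaf (.cyc (nat_lit 4) [(nat_lit 158), (nat_lit 47), (nat_lit 46), (nat_lit 152), (nat_lit 476)])) (.leaf (.cyc (nat_lit 4) [(nat_lit 12086), (nat_lit 6577), (nat_lit 12010), (nat_lit 12582), (nat_lit 12937)])))) (.node (.node (.leaf .df) (.leaf (.cyc (nat_lit 16) [(nat_lit 3136), (nat_lit 5377), (nat_lit 3139), (nat_lit 7510), (nat_lit 3135), (nat_lit 7813), (nat_lit 5887), (nat_lit 3786), (nat_lit 10890)]))) (.node (.leaf (.cyc (nat_lit 5) [(nat_lit 2546), (nat_lit 2545)])) (.leaf .df)))) (.node (.node (.node (.leaf .df) (.leaf (.cyc (nat_lit 0) [(nat_lit 6389), (nat_lit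 9866)]))) (.node (.leaf (.cyc (nat_lit 5) [(nat_lit 1515), (nat_lit 1514)])) (.leaf .df))) (.node (.node (.leaf .df) (.leaf (.cyc (nat_lit 10) [(nat_lit 4058), (nat_lit 9472), (nat_lit 7564), (nat_lit 10242), (nat_lit 10243)]))) (.node (.leaf (.cyc (nat_lit 9) [(nat_lit 3092), (nat_lit 7818), (nat_lit 2132), (nat_lit 753), (nat_lit 755), (nat_lit 2140)])) (.leaf .df)))))) (.node (.node (.node (.node (.node (.leaf .df) (.leaf (.cyc (nat_lit 29) [(nat_lit 7064), (nat_lit 8584)]))) (.node (.leaf (.cyc (nat_lit 4) [(nat_lit 65), (nat_lit 17), (nat_lit 15), (nat_lit 56), (nat_lit 185)])) (.leaf (.cyc (nat_lit 6) [(nat_lit 4227), (nat_lit 4226)])))) (.node (.node (.leaf .df) (.leaf (.cyc (nat_lit 10) [(nat_lit 3719), (nat_lit 1569), (nat_lit 4803), (nat_lit 1571), (nat_lit 5870)]))) (.node (.leaf (.cyc (nat_lit 20) [(nat_lit 2306), (nat_lit 819), (nat_lit 270), (nat_lit 4414), (nat_lit 274), (nat_lit 828), (nat_lit 2331)])) (.leaf .df)))) (.node (.node (.node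 (.leaf .df) (.leaf (.cyc (nat_lit 17) [(nat_lit 9495), (nat_lit 9609)]))) (.node (.leaf (.cyc (nat_lit 3) [(nat_lit 4932), (nat_lit 4934), (nat_lit 535), (nat_lit 5514), (nat_lit 4590), (nat_lit 890)])) (.leaf .df))) (.node (.node (.leaf .df) (.leaf (.cyc (nat_lit 13) [(nat_lit 11452), (nat_lit 3629), (nat_lit 5740), (nat_lit 6642), (nat_lit 6650), (nat_lit 6646), (nat_lit 3990)]))) (.node (.leaf (.cyc (nat_lit 9) [(nat_lit 7103), (nat_lit 6961), (nat_lit 6962), (nat_lit 5403), (nat_lit 3193)])) (.leaf .df))))) (.node (.node (.node (.node (.leaf .df) (.leaf (.cyc (nat_lit 1) [(nat_lit 9095), (nat_lit 9096)]))) (.node (.leaf (.cyc (nat_lit 0) [(nat_lit 4991), (nat_lit 5002)])) (.leaf (.cyc (nat_lit 4) [(nat_lit 12920), (nat_lit 12329), (nat_lit 12496), (nat_lit 13190), (nat_lit 13193)])))) (.node (.node (.leaf .df) (.leaf (.cyc (nat_lit 14) [(nat_lit 5970), (nat_lit 3853)]))) (.node (.leaf (.cyc (nat_lit 2) [(nat_lit 2722), (nat_lit 2721)])) (.leaf .df))))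 (.node (.node (.node (.leaf .df) (.leaf (.cyc (nat_lit 6) [(nat_lit 10122), (nat_lit 10119)]))) (.node (.leaf (.cyc (nat_lit 8) [(nat_lit 1769), (nat_lit 1768), (nat_lit 6026), (nat_lit 1799), (nat_lit 1801)])) (.leaf .df))) (.node (.node (.leaf .df) (.leaf (.cyc (nat_lit 10) [(nat_lit 10145), (nat_lit 8621), (nat_lit 8211), (nat_lit 3062), (nat_lit 12170)]))) (.node (.leaf (.cyc (nat_lit 20) [(nat_lit 1602), (nat_lit 556), (nat_lit 178), (nat_lit 175), (nat_lit 547), (nat_lit 1574), (nat_lit 8071), (nat_lit 2226)])) (.leaf .df))))))))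
noncomputable def c4P1101001 : BT Pf := (.node (.node (.node (.node (.node (.node (.node (.leaf .df) (.leaf (.cyc (nat_lit 29) [(nat_lit 2807), (nat_lit 8265)]))) (.node (.leaf .df) (.leaf (.cyc (nat_lit 8) [(nat_lit 4128), (nat_lit 6515), (nat_lit 4126), (nat_lit 12362), (nat_lit 12361)])))) (.node (.node (.leaf .df) (.leaf (.cyc (nat_lit 3) [(nat_lit 2566), (nat_lit 5682), (nat_lit 8523), (nat_lit 10126), (nat_lit 10313)]))) (.node (.leaf (.cyc (nat_lit 3) [(nat_lit 6166), (nat_lit 6175), (nat_lit 6218), (nat_lit 2004), (nat_lit 2005)])) (.leaf .df)))) (.node (.node (.node (.leaf .df) (.leaf (.cyc (nat_lit 28) [(nat_lit 6441), (nat_lit 9288)]))) (.node (.leaf (.cyc (nat_lit 4) [(nat_lit 332), (nat_lit 104), (nat_lit 103), (nat_lit 326), (nat_lit 975)])) (.leaf .df))) (.node (.node (.leaf .df) (.leaf (.cyc (nat_lit 5) [(nat_lit 11338), (nat_lit 11288)]))) (.node (.leaf (.cyc (nat_lit 8) [(nat_lit 2172), (nat_lit 2171), (nat_lit 7240), (nat_lit 2915),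 (nat_lit 2916)])) (.leaf .df))))) (.node (.node (.node (.node (.leaf .df) (.leaf (.cyc (nat_lit 29) [(nat_lit 3164), (nat_lit 8778), (nat_lit 6892)]))) (.node (.leaf (.cyc (nat_lit 0) [(nat_lit 4612), (nat_lit 408)])) (.leaf (.cyc (nat_lit 8) [(nat_lit 4268), (nat_lit 7303), (nat_lit 8054), (nat_lit 8693), (nat_lit 3467)])))) (.node (.node (.leaf .df) (.leaf (.cyc (nat_lit 22) [(nat_lit 6556), (nat_lit 10346), (nat_lit 10824), (nat_lit 7516), (nat_lit 9368), (nat_lit 6760), (nat_lit 3470)]))) (.node (.leaf (.cyc (nat_lit 3) [(nat_lit 2459), (nat_lit 881), (nat_lit 4589), (nat_lit 886), (nat_lit 2473)])) (.leaf .df)))) (.node (.node (.node (.leaf .df) (.leaf (.cyc (nat_lit 1) [(nat_lit 9732), (nat_lit 9800)]))) (.node (.leaf (.cyc (nat_lit 32) [(nat_lit 319), (nat_lit 320), (nat_lit 956), (nat_lit 5703), (nat_lit 5702), (nat_lit 5579), (nat_lit 5580), (nat_lit 498), (nat_lit 496), (nat_lit 1449)])) (.leaf .df))) (.node (.node (.leaf .df) (.leaf (.cyc (nat_lit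 6) [(nat_lit 11850), (nat_lit 10883)]))) (.node (.leaf (.cyc (nat_lit 19) [(nat_lit 2607), (nat_lit 7748)])) (.leaf .df)))))) (.node (.node (.node (.node (.node (.leaf .df) (.leaf (.cyc (nat_lit 28) [(nat_lit 6621), (nat_lit 8522)]))) (.node (.leaf (.cyc (nat_lit 5) [(nat_lit 4426), (nat_lit 4425)])) (.leaf (.cyc (nat_lit 3) [(nat_lit 9711), (nat_lit 9710), (nat_lit 2637), (nat_lit 2639), (nat_lit 4215)])))) (.node (.node (.leaf .df) (.leaf (.cyc (nat_lit 3) [(nat_lit 5944), (nat_lit 10567), (nat_lit 10570), (nat_lit 3441), (nat_lit 5612), (nat_lit 3438)]))) (.node (.leaf (.cyc (nat_lit 9) [(nat_lit 2276), (nat_lit 808), (nat_lit 4562), (nat_lit 805), (nat_lit 5998)])) (.leaf .df)))) (.node (.node (.node (.leaf .df) (.leaf (.cyc (nat_lit 8) [(nat_lit 3297), (nat_lit 7682), (nat_lit 1313), (nat_lit 1311), (nat_lit 3377)]))) (.node (.leaf (.cyc (nat_lit 3) [(nat_lit 1248), (nat_lit 5450), (nat_lit 677), (nat_lit 4540), (nat_lit 747)])) (.leaf .df))) (.node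 (.node (.leaf .df) (.leaf (.cyc (nat_lit 18) [(nat_lit 11486), (nat_lit 11594)]))) (.node (.leaf (.cyc (nat_lit 6) [(nat_lit 3132), (nat_lit 3131)])) (.leaf .df))))) (.node (.node (.node (.node (.leaf .df) (.leaf (.cyc (nat_lit 19) [(nat_lit 7703), (nat_lit 9032)]))) (.node (.leaf (.cyc (nat_lit 27) [(nat_lit 704), (nat_lit 4908), (nat_lit 669), (nat_lit 216), (nat_lit 217), (nat_lit 4913), (nat_lit 4661)])) (.leaf (.cyc (nat_lit 3) [(nat_lit 4199), (nat_lit 2579), (nat_lit 2577), (nat_lit 9581), (nat_lit 4319)])))) (.node (.node (.leaf .df) (.leaf (.cyc (nat_lit 6) [(nat_lit 3829), (nat_lit 3828)]))) (.node (.leaf (.cyc (nat_lit 2) [(nat_lit 2668), (nat_lit 2667)])) (.leaf .df)))) (.node (.node (.node (.leaf .df) (.leaf (.cyc (nat_lit 25) [(nat_lit 7082), (nat_lit 10056)]))) (.node (.leaf (.cyc (nat_lit 0) [(nat_lit 5276), (nat_lit 1735)])) (.leaf .df))) (.node (.node (.leaf .df) (.leaf (.cyc (nat_lit 4) [(nat_lit 4109), (nat_lit 8062), (nat_lit 8877),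 (nat_lit 6555), (nat_lit 9680)]))) (.node (.leaf (.cyc (nat_lit 18) [(nat_lit 7211), (nat_lit 8009), (nat_lit 1281)])) (.leaf .df))))))) (.node (.node (.node (.node (.node (.node (.leaf .df) (.leaf (.cyc (nat_lit 29) [(nat_lit 2243), (nat_lit 8389)]))) (.node (.leaf .df) (.leaf (.cyc (nat_lit 21) [(nat_lit 12490), (nat_lit 11851), (nat_lit 12465), (nat_lit 3261), (nat_lit 3259)])))) (.node (.node (.leaf .df) (.leaf (.cyc (nat_lit 4) [(nat_lit 3302), (nat_lit 1260), (nat_lit 8419), (nat_lit 5795), (nat_lit 3686)]))) (.node (.leaf (.cyc (nat_lit 10) [(nat_lit 2151), (nat_lit 760), (nat_lit 4550), (nat_lit 762), (nat_lit 2156)])) (.leaf .df)))) (.node (.node (.node (.leaf .df) (.leaf (.cyc (nat_lit 19) [(nat_lit 3319), (nat_lit 9417)]))) (.node (.leaf (.cyc (nat_lit 6) [(nat_lit 1118), (nat_lit 1117)])) (.leaf .df))) (.node (.node (.leaf .df) (.leaf (.cyc (nat_lit 3) [(nat_lit 2349), (nat_lit 5883), (nat_lit 1632), (nat_lit 8423), (nat_lit 3931)]))) (.node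 (.leaf (.cyc (nat_lit 2) [(nat_lit 3010), (nat_lit 3009)])) (.leaf .df))))) (.node (.node (.node (.node (.leaf .df) (.leaf (.cyc (nat_lit 17) [(nat_lit 2070), (nat_lit 8905)]))) (.node (.leaf (.cyc (nat_lit 2) [(nat_lit 555), (nat_lit 554)])) (.leaf (.cyc (nat_lit 13) [(nat_lit 12450), (nat_lit 12451), (nat_lit 4119), (nat_lit 6469), (nat_lit 7598), (nat_lit 7596), (nat_lit 4293)])))) (.node (.node (.leaf .df) (.leaf (.cyc (nat_lit 4) [(nat_lit 3803), (nat_lit 7817), (nat_lit 5984), (nat_lit 5531), (nat_lit 1728)]))) (.node (.leaf (.cyc (nat_lit 2) [(nat_lit 2597), (nat_lit 6721)])) (.leaf .df)))) (.node (.node (.node (.leaf .df) (.leaf (.cyc (nat_lit 8) [(nat_lit 8484), (nat_lit 1540), (nat_lit 4793), (nat_lit 1538), (nat_lit 9930)]))) (.node (.leaf (.cyc (nat_lit 0) [(nat_lit 5800), (nat_lit 1594)])) (.leaf .df))) (.node (.node (.leaf .df) (.leaf (.cyc (nat_lit 3) [(nat_lit 11978), (nat_lit 6876), (nat_lit 3540), (nat_lit 9974), (nat_lit 3761)]))) (.node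 (.leaf (.cyc (nat_lit 25) [(nat_lit 7480), (nat_lit 7881), (nat_lit 1969)])) (.leaf .df)))))) (.node (.node (.node (.node (.node (.leaf .df) (.leaf (.cyc (nat_lit 22) [(nat_lit 5934), (nat_lit 5600), (nat_lit 7683), (nat_lit 8650), (nat_lit 1384), (nat_lit 4741), (nat_lit 1380), (nat_lit 6672)]))) (.node (.leaf (.cyc (nat_lit 9) [(nat_lit 254), (nat_lit 77), (nat_lit 4365), (nat_lit 74), (nat_lit 247)])) (.leaf (.cyc (nat_lit 20) [(nat_lit 10457), (nat_lit 8488), (nat_lit 8489), (nat_lit 6324), (nat_lit 11920), (nat_lit 11919), (nat_lit 12743)])))) (.node (.node (.leaf .df) (.leaf (.cyc (nat_lit 28) [(nat_lit 10679), (nat_lit 10698)]))) (.node (.leaf (.cyc (nat_lit 8) [(nat_lit 1952), (nat_lit 1950), (nat_lit 6601), (nat_lit 2394), (nat_lit 2396)])) (.leaf .df)))) (.node (.node (.node (.leaf .df) (.leaf (.cyc (nat_lit 2) [(nat_lit 3434), (nat_lit 3433)]))) (.node (.leaf (.cyc (nat_lit 1) [(nat_lit 5563), (nat_lit 1331)])) (.leaf .df))) (.node (.node (.leaf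 .df) (.leaf (.cyc (nat_lit 22) [(nat_lit 11721), (nat_lit 11718), (nat_lit 3471), (nat_lit 5631), (nat_lit 10071), (nat_lit 10073), (nat_lit 3596)]))) (.node (.leaf (.cyc (nat_lit 29) [(nat_lit 7269), (nat_lit 7625)])) (.leaf .df))))) (.node (.node (.node (.node (.leaf .df) (.leaf (.cyc (nat_lit 20) [(nat_lit 2864), (nat_lit 1055), (nat_lit 355), (nat_lit 352), (nat_lit 1047), (nat_lit 2840), (nat_lit 9154), (nat_lit 9067)]))) (.node (.leaf (.cyc (nat_lit 2) [(nat_lit 834), (nat_lit 833)])) (.leaf (.cyc (nat_lit 7) [(nat_lit 13024), (nat_lit 9981), (nat_lit 12129), (nat_lit 12133), (nat_lit 11010), (nat_lit 11011), (nat_lit 4346)])))) (.node (.node (.leaf .df) (.leaf (.cyc (nat_lit 0) [(nat_lit 6782), (nat_lit 3878)]))) (.node (.leaf (.cyc (nat_lit 4) [(nat_lit 2766), (nat_lit 1016), (nat_lit 1014), (nat_lit 2757), (nat_lit 7109)])) (.leaf .df)))) (.node (.node (.node (.leaf .df) (.leaf (.cyc (nat_lit 25) [(nat_lit 9129), (nat_lit 10183)]))) (.node (.leaf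 (.cyc (nat_lit 6) [(nat_lit 1866), (nat_lit 1865)])) (.leaf .df))) (.node (.node (.leaf .df) (.leaf (.cyc (nat_lit 17) [(nat_lit 12232), (nat_lit 12234)]))) (.node (.leaf (.cyc (nat_lit 25) [(nat_lit 7227), (nat_lit 8136)])) (.leaf .df))))))))
noncomputable def c4P110100 : BT Pf := .node c4P1101000 c4P1101001
noncomputable def c4P1101010 : BT Pf := (.node (.node (.node (.node (.node (.node (.node (.leaf .df) (.leaf (.cyc (nat_lit 29) [(nat_lit 3298), (nat_lit 8222)]))) (.node (.leaf .df) (.leaf (.cyc (nat_lit 3) [(nat_lit 12330), (nat_lit 12328), (nat_lit 10582), (nat_lit 2526), (nat_lit 2528)])))) (.node (.node (.leaf .df) (.leaf (.cyc (nat_lit 22) [(nat_lit 3649), (nat_lit 8521), (nat_lit 2537), (nat_lit 5628), (nat_lit 8693), (nat_lit 8054), (nat_lit 7303)]))) (.node (.leaf (.cyc (nat_lit 10) [(nat_lit 1972), (nat_lit 689), (nat_lit 4529), (nat_lit 691), (nat_lit 1976)])) (.leaf .df)))) (.node (.node (.node (.leaf .df) (.leaf (.cyc (nat_lit 3) [(nat_lit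 6101), (nat_lit 9257), (nat_lit 2143), (nat_lit 9239), (nat_lit 2111), (nat_lit 2113)]))) (.node (.leaf (.cyc (nat_lit 5) [(nat_lit 942), (nat_lit 941)])) (.leaf .df))) (.node (.node (.leaf .df) (.leaf (.cyc (nat_lit 21) [(nat_lit 3130), (nat_lit 3132), (nat_lit 10169), (nat_lit 6011), (nat_lit 3898)]))) (.node (.leaf (.cyc (nat_lit 2) [(nat_lit 2875), (nat_lit 2874)])) (.leaf .df))))) (.node (.node (.node (.node (.leaf .df) (.leaf (.cyc (nat_lit 25) [(nat_lit 3224), (nat_lit 8736)]))) (.node (.leaf (.cyc (nat_lit 23) [(nat_lit 156), (nat_lit 4385), (nat_lit 4371), (nat_lit 100), (nat_lit 4429), (nat_lit 37), (nat_lit 35), (nat_lit 120), (nat_lit 377)])) (.leaf (.cyc (nat_lit 27) [(nat_lit 4263), (nat_lit 2948), (nat_lit 5299), (nat_lit 4927), (nat_lit 1977), (nat_lit 3993), (nat_lit 11669)])))) (.node (.node (.leaf .df) (.leaf (.cyc (nat_lit 2) [(nat_lit 3756), (nat_lit 3755)]))) (.node (.leaf (.cyc (nat_lit 25) [(nat_lit 6453), (nat_lit 6696)])) (.leaf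 .df)))) (.node (.node (.node (.leaf .df) (.leaf (.cyc (nat_lit 2) [(nat_lit 3465), (nat_lit 9650)]))) (.node (.leaf (.cyc (nat_lit 1) [(nat_lit 5618), (nat_lit 1438)])) (.leaf .df))) (.node (.node (.leaf .df) (.leaf (.cyc (nat_lit 8) [(nat_lit 11617), (nat_lit 11618), (nat_lit 2064), (nat_lit 2062), (nat_lit 4035)]))) (.node (.leaf (.cyc (nat_lit 9) [(nat_lit 2543), (nat_lit 7720), (nat_lit 648), (nat_lit 650), (nat_lit 1865)])) (.leaf .df)))))) (.node (.node (.node (.node (.node (.leaf .df) (.leaf (.cyc (nat_lit 1) [(nat_lit 8488), (nat_lit 8490)]))) (.node (.leaf (.cyc (nat_lit 3) [(nat_lit 4386), (nat_lit 4394), (nat_lit 4393), (nat_lit 41), (nat_lit 43)])) (.leaf (.cyc (nat_lit 22) [(nat_lit 12586), (nat_lit 12409), (nat_lit 12403), (nat_lit 12074), (nat_lit 12072), (nat_lit 11638), (nat_lit 9889)])))) (.node (.node (.leaf .df) (.leaf (.cyc (nat_lit 29) [(nat_lit 3264), (nat_lit 10537)]))) (.node (.leaf (.cyc (nat_lit 5) [(nat_lit 2259), (nat_lit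 2258)])) (.leaf .df)))) (.node (.node (.node (.leaf .df) (.leaf (.cyc (nat_lit 3) [(nat_lit 9514), (nat_lit 9512), (nat_lit 5972), (nat_lit 1649), (nat_lit 1651)]))) (.node (.leaf (.cyc (nat_lit 3) [(nat_lit 5400), (nat_lit 410), (nat_lit 4450), (nat_lit 414), (nat_lit 1219)])) (.leaf .df))) (.node (.node (.leaf .df) (.leaf (.cyc (nat_lit 4) [(nat_lit 3965), (nat_lit 9039), (nat_lit 3276), (nat_lit 7366), (nat_lit 10663)]))) (.node (.leaf (.cyc (nat_lit 1) [(nat_lit 7466), (nat_lit 3090)])) (.leaf .df))))) (.node (.node (.node (.node (.leaf .df) (.leaf (.cyc (nat_lit 25) [(nat_lit 8961), (nat_lit 8993)]))) (.node (.leaf (.cyc (nat_lit 8) [(nat_lit 370), (nat_lit 4442), (nat_lit 4577), (nat_lit 4905), (nat_lit 668)])) (.leaf (.cyc (nat_lit 9) [(nat_lit 10503), (nat_lit 2122), (nat_lit 9249), (nat_lit 11825), (nat_lit 4312)])))) (.node (.node (.leaf .df) (.leaf (.cyc (nat_lit 20) [(nat_lit 10558), (nat_lit 6228), (nat_lit 6230), (nat_lit 6229), (nat_lit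 11049), (nat_lit 9964), (nat_lit 3222), (nat_lit 3219)]))) (.node (.leaf (.cyc (nat_lit 5) [(nat_lit 6954), (nat_lit 5397)])) (.leaf .df)))) (.node (.node (.node (.leaf .df) (.leaf (.cyc (nat_lit 5) [(nat_lit 3583), (nat_lit 3582)]))) (.node (.leaf (.cyc (nat_lit 1) [(nat_lit 5560), (nat_lit 1699)])) (.leaf .df))) (.node (.node (.leaf .df) (.leaf (.cyc (nat_lit 21) [(nat_lit 7101), (nat_lit 12039), (nat_lit 2208), (nat_lit 2206), (nat_lit 4102)]))) (.node (.leaf (.cyc (nat_lit 19) [(nat_lit 7663), (nat_lit 7977)])) (.leaf .df))))))) (.node (.node (.node (.node (.node (.node (.leaf .df) (.leaf (.cyc (nat_lit 8) [(nat_lit 1305), (nat_lit 1303), (nat_lit 5551), (nat_lit 5988), (nat_lit 8361), (nat_lit 1983)]))) (.node (.leaf .df) (.leaf (.cyc (nat_lit 6) [(nat_lit 4179), (nat_lit 9413)])))) (.node (.node (.leaf .df) (.leaf (.cyc (nat_lit 8) [(nat_lit 9493), (nat_lit 10410), (nat_lit 1579), (nat_lit 7760), (nat_lit 3067)]))) (.node (.leaf (.cyc (nat_lit 5)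 [(nat_lit 2122), (nat_lit 2121)])) (.leaf .df)))) (.node (.node (.node (.leaf .df) (.leaf (.cyc (nat_lit 29) [(nat_lit 2914), (nat_lit 9385)]))) (.node (.leaf (.cyc (nat_lit 2) [(nat_lit 1086), (nat_lit 1085)])) (.leaf .df))) (.node (.node (.leaf .df) (.leaf (.cyc (nat_lit 10) [(nat_lit 3346), (nat_lit 5492), (nat_lit 3349), (nat_lit 9502), (nat_lit 11434)]))) (.node (.leaf (.cyc (nat_lit 22) [(nat_lit 2984), (nat_lit 2985), (nat_lit 7338), (nat_lit 1989), (nat_lit 6198), (nat_lit 6124), (nat_lit 2117)])) (.leaf .df))))) (.node (.node (.node (.node (.leaf .df) (.leaf (.cyc (nat_lit 25) [(nat_lit 6212), (nat_lit 8872)]))) (.node (.leaf (.cyc (nat_lit 15) [(nat_lit 515), (nat_lit 165), (nat_lit 4387), (nat_lit 4367), (nat_lit 82), (nat_lit 4435), (nat_lit 107), (nat_lit 105), (nat_lit 334)])) (.leaf (.cyc (nat_lit 9) [(nat_lit 11406), (nat_lit 12213), (nat_lit 4130), (nat_lit 10981), (nat_lit 4286)])))) (.node (.node (.leaf .df) (.leaf (.cyc (nat_lit 28)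 [(nat_lit 2574), (nat_lit 10922)]))) (.node (.leaf (.cyc (nat_lit 5) [(nat_lit 2578), (nat_lit 2577)])) (.leaf .df)))) (.node (.node (.node (.leaf .df) (.leaf (.cyc (nat_lit 12) [(nat_lit 3543), (nat_lit 8896), (nat_lit 5823), (nat_lit 8900), (nat_lit 8898), (nat_lit 5426), (nat_lit 5425), (nat_lit 5438), (nat_lit 3264)]))) (.node (.leaf (.cyc (nat_lit 21) [(nat_lit 1458), (nat_lit 4764), (nat_lit 5583), (nat_lit 4796), (nat_lit 1549)])) (.leaf .df))) (.node (.node (.leaf .df) (.leaf (.cyc (nat_lit 8) [(nat_lit 11946), (nat_lit 4067), (nat_lit 11688), (nat_lit 2674), (nat_lit 2676)]))) (.node (.leaf (.cyc (nat_lit 17) [(nat_lit 3245), (nat_lit 7847)])) (.leaf .df)))))) (.node (.node (.node (.node (.node (.leaf .df) (.leaf (.cyc (nat_lit 8) [(nat_lit 1846), (nat_lit 644), (nat_lit 647), (nat_lit 1854), (nat_lit 8618)]))) (.node (.leaf (.cyc (nat_lit 0) [(nat_lit 219), (nat_lit 4522)])) (.leaf (.cyc (nat_lit 22) [(nat_lit 4235), (nat_lit 11186), (nat_lit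 11185), (nat_lit 6141), (nat_lit 11419), (nat_lit 10654), (nat_lit 12202)])))) (.node (.node (.leaf .df) (.leaf (.cyc (nat_lit 3) [(nat_lit 10666), (nat_lit 10660), (nat_lit 7365), (nat_lit 1928), (nat_lit 1929)]))) (.node (.leaf (.cyc (nat_lit 1) [(nat_lit 5132), (nat_lit 2359)])) (.leaf .df)))) (.node (.node (.node (.leaf .df) (.leaf (.cyc (nat_lit 4) [(nat_lit 1922), (nat_lit 5312), (nat_lit 5338), (nat_lit 7400), (nat_lit 9642)]))) (.node (.leaf (.cyc (nat_lit 2) [(nat_lit 1302), (nat_lit 4748)])) (.leaf .df))) (.node (.node (.leaf .df) (.leaf (.cyc (nat_lit 19) [(nat_lit 3863), (nat_lit 11687)]))) (.node (.leaf (.cyc (nat_lit 5) [(nat_lit 3218), (nat_lit 3217)])) (.leaf .df))))) (.node (.node (.node (.node (.leaf .df) (.leaf (.cyc (nat_lit 8) [(nat_lit 2687), (nat_lit 5197), (nat_lit 2689), (nat_lit 9129), (nat_lit 6296), (nat_lit 9130)]))) (.node (.leaf (.cyc (nat_lit 13) [(nat_lit 802), (nat_lit 262), (nat_lit 4409), (nat_lit 4410), (nat_lit 4412),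 (nat_lit 4435), (nat_lit 341)])) (.leaf (.cyc (nat_lit 0) [(nat_lit 13120), (nat_lit 13225)])))) (.node (.node (.leaf .df) (.leaf (.cyc (nat_lit 19) [(nat_lit 9888), (nat_lit 11177)]))) (.node (.leaf (.cyc (nat_lit 13) [(nat_lit 7082), (nat_lit 2484), (nat_lit 5145), (nat_lit 4780), (nat_lit 4562), (nat_lit 807), (nat_lit 2274)])) (.leaf .df)))) (.node (.node (.node (.leaf .df) (.leaf (.cyc (nat_lit 3) [(nat_lit 10153), (nat_lit 10147), (nat_lit 10150), (nat_lit 4887), (nat_lit 1852)]))) (.node (.leaf (.cyc (nat_lit 5) [(nat_lit 1835), (nat_lit 5732)])) (.leaf .df))) (.node (.node (.leaf .df) (.leaf (.cyc (nat_lit 8) [(nat_lit 4127), (nat_lit 12202), (nat_lit 10654), (nat_lit 11419), (nat_lit 3977)]))) (.node (.leaf (.cyc (nat_lit 29) [(nat_lit 1316), (nat_lit 8106), (nat_lit 1334)])) (.leaf .df))))))))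
noncomputable def c4P1101011 : BT Pf := (.node (.node (.node (.node (.node (.node (.node (.leaf .df) (.leaf (.cyc (nat_lit 29) [(nat_lit 6631), (nat_lit 8290), (nat_lit 1956)]))) (.node (.leaf .df) (.leaf (.cyc (nat_lit 14) [(nat_lit 10508), (nat_lit 12394)])))) (.node (.node (.leaf .df) (.leaf (.cyc (nat_lit 3) [(nat_lit 10344), (nat_lit 10343), (nat_lit 10346), (nat_lit 6556), (nat_lit 1641), (nat_lit 1643)]))) (.node (.leaf (.cyc (nat_lit 4) [(nat_lit 2041), (nat_lit 716), (nat_lit 715), (nat_lit 4950), (nat_lit 4960)])) (.leaf .df)))) (.node (.node (.node (.leaf .df) (.leaf (.cyc (nat_lit 25) [(nat_lit 3114), (nat_lit 9319)]))) (.node (.leaf (.cyc (nat_lit 3) [(nat_lit 904), (nat_lit 299), (nat_lit 297), (nat_lit 5143), (nat_lit 1019)])) (.leaf .df))) (.node (.node (.leaf .df) (.leaf (.cyc (nat_lit 2) [(nat_lit 3915), (nat_lit 3914)]))) (.node (.leaf (.cyc (nat_lit 4) [(nat_lit 2940), (nat_lit 5490), (nat_lit 782), (nat_lit 785), (nat_lit 2215)]))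 (.leaf .df))))) (.node (.node (.node (.node (.leaf .df) (.leaf (.cyc (nat_lit 17) [(nat_lit 6771), (nat_lit 8807), (nat_lit 5798)]))) (.node (.leaf (.cyc (nat_lit 4) [(nat_lit 4479), (nat_lit 4480), (nat_lit 4396), (nat_lit 142), (nat_lit 445)])) (.leaf (.cyc (nat_lit 20) [(nat_lit 4199), (nat_lit 6828), (nat_lit 4200), (nat_lit 12554), (nat_lit 3975), (nat_lit 9643), (nat_lit 12906)])))) (.node (.node (.leaf .df) (.leaf (.cyc (nat_lit 9) [(nat_lit 10858), (nat_lit 10528), (nat_lit 949), (nat_lit 951), (nat_lit 2614)]))) (.node (.leaf (.cyc (nat_lit 8) [(nat_lit 6239), (nat_lit 6704), (nat_lit 5747), (nat_lit 6508), (nat_lit 6761)])) (.leaf .df)))) (.node (.node (.node (.leaf .df) (.leaf (.cyc (nat_lit 5) [(nat_lit 3502), (nat_lit 3501)]))) (.node (.leaf (.cyc (nat_lit 0) [(nat_lit 5554), (nat_lit 1487)])) (.leaf .df))) (.node (.node (.leaf .df) (.leaf (.cyc (nat_lit 3) [(nat_lit 10271), (nat_lit 3630), (nat_lit 11450), (nat_lit 6302), (nat_lit 4052)])))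 (.node (.leaf (.cyc (nat_lit 16) [(nat_lit 1411), (nat_lit 4753), (nat_lit 1407), (nat_lit 7762), (nat_lit 5908), (nat_lit 7773), (nat_lit 2165), (nat_lit 7776), (nat_lit 6833), (nat_lit 7742)])) (.leaf .df)))))) (.node (.node (.node (.node (.node (.leaf .df) (.leaf (.cyc (nat_lit 13) [(nat_lit 8554), (nat_lit 2949), (nat_lit 5298), (nat_lit 8292), (nat_lit 8043), (nat_lit 5233), (nat_lit 2784)]))) (.node (.leaf (.cyc (nat_lit 3) [(nat_lit 93), (nat_lit 4369), (nat_lit 4360), (nat_lit 42), (nat_lit 140)])) (.leaf (.cyc (nat_lit 5) [(nat_lit 12650), (nat_lit 11925)])))) (.node (.node (.leaf .df) (.leaf (.cyc (nat_lit 11) [(nat_lit 7362), (nat_lit 9936), (nat_lit 7086), (nat_lit 8498), (nat_lit 10459), (nat_lit 10466), (nat_lit 10602)]))) (.node (.leaf (.cyc (nat_lit 1) [(nat_lit 5779), (nat_lit 6500)])) (.leaf .df)))) (.node (.node (.node (.leaf .df) (.leaf (.cyc (nat_lit 21) [(nat_lit 2238), (nat_lit 2240), (nat_lit 8868), (nat_lit 5578), (nat_lit 3395)])))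 (.node (.leaf (.cyc (nat_lit 14) [(nat_lit 4830), (nat_lit 1274)])) (.leaf .df))) (.node (.node (.leaf .df) (.leaf (.cyc (nat_lit 23) [(nat_lit 2196), (nat_lit 6262), (nat_lit 9208), (nat_lit 6230), (nat_lit 6228), (nat_lit 2009), (nat_lit 10622), (nat_lit 3350), (nat_lit 11626)]))) (.node (.leaf (.cyc (nat_lit 20) [(nat_lit 1918), (nat_lit 5296), (nat_lit 5297), (nat_lit 7250), (nat_lit 4680), (nat_lit 1191), (nat_lit 3159)])) (.leaf .df))))) (.node (.node (.node (.node (.leaf .df) (.leaf (.cyc (nat_lit 29) [(nat_lit 6736), (nat_lit 9060)]))) (.node (.leaf (.cyc (nat_lit 2) [(nat_lit 742), (nat_lit 741)])) (.leaf (.cyc (nat_lit 10) [(nat_lit 4320), (nat_lit 3415), (nat_lit 3412), (nat_lit 11782), (nat_lit 4326)])))) (.node (.node (.leaf .df) (.leaf (.cyc (nat_lit 20) [(nat_lit 3837), (nat_lit 1698), (nat_lit 1695), (nat_lit 11112), (nat_lit 3549), (nat_lit 5665), (nat_lit 3462)]))) (.node (.leaf (.cyc (nat_lit 0) [(nat_lit 6965), (nat_lit 2702)])) (.leaf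 .df)))) (.node (.node (.node (.leaf .df) (.leaf (.cyc (nat_lit 8) [(nat_lit 6708), (nat_lit 6236), (nat_lit 5441), (nat_lit 2179), (nat_lit 10089)]))) (.node (.leaf (.cyc (nat_lit 1) [(nat_lit 4902), (nat_lit 1766)])) (.leaf .df))) (.node (.node (.leaf .df) (.leaf (.cyc (nat_lit 4) [(nat_lit 10486), (nat_lit 2741), (nat_lit 2740), (nat_lit 8268), (nat_lit 12138)]))) (.node (.leaf (.cyc (nat_lit 25) [(nat_lit 2963), (nat_lit 8040)])) (.leaf .df))))))) (.node (.node (.node (.node (.node (.node (.leaf .df) (.leaf (.cyc (nat_lit 29) [(nat_lit 1817), (nat_lit 8425)]))) (.node (.leaf .df) (.leaf (.cyc (nat_lit 4) [(nat_lit 4193), (nat_lit 2541), (nat_lit 2539), (nat_lit 4192), (nat_lit 12521)])))) (.node (.node (.leaf .df) (.leaf (.cyc (nat_lit 22) [(nat_lit 3644), (nat_lit 5749), (nat_lit 9594), (nat_lit 10462), (nat_lit 10460), (nat_lit 2870), (nat_lit 5494), (nat_lit 7191)]))) (.node (.leaf (.cyc (nat_lit 2) [(nat_lit 2184), (nat_lit 2183)])) (.leaf .df))))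 (.node (.node (.node (.leaf .df) (.leaf (.cyc (nat_lit 22) [(nat_lit 9450), (nat_lit 8094), (nat_lit 1890), (nat_lit 8117), (nat_lit 5759), (nat_lit 8373), (nat_lit 6022)]))) (.node (.leaf (.cyc (nat_lit 6) [(nat_lit 1156), (nat_lit 1155)])) (.leaf .df))) (.node (.node (.leaf .df) (.leaf (.cyc (nat_lit 4) [(nat_lit 10827), (nat_lit 5885), (nat_lit 8422), (nat_lit 1870), (nat_lit 3948)]))) (.node (.leaf (.cyc (nat_lit 4) [(nat_lit 2810), (nat_lit 1036), (nat_lit 1034), (nat_lit 7159), (nat_lit 3034)])) (.leaf .df))))) (.node (.node (.node (.node (.leaf .df) (.leaf (.cyc (nat_lit 5) [(nat_lit 8926), (nat_lit 8500)]))) (.node (.leaf (.cyc (nat_lit 8) [(nat_lit 207), (nat_lit 4398), (nat_lit 4485), (nat_lit 543), (nat_lit 4842)])) (.leaf (.cyc (nat_lit 13) [(nat_lit 13033), (nat_lit 13034), (nat_lit 4289), (nat_lit 7575), (nat_lit 10616), (nat_lit 10223), (nat_lit 4161)])))) (.node (.node (.leaf .df) (.leaf (.cyc (nat_lit 25) [(nat_lit 10035), (nat_lit 10984),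 (nat_lit 1790)]))) (.node (.leaf (.cyc (nat_lit 4) [(nat_lit 1333), (nat_lit 1331), (nat_lit 5581), (nat_lit 5720), (nat_lit 2619)])) (.leaf .df)))) (.node (.node (.node (.leaf .df) (.leaf (.cyc (nat_lit 10) [(nat_lit 9961), (nat_lit 9962), (nat_lit 9621), (nat_lit 7598), (nat_lit 3219), (nat_lit 3222)]))) (.node (.leaf (.cyc (nat_lit 6) [(nat_lit 1628), (nat_lit 1627)])) (.leaf .df))) (.node (.node (.leaf .df) (.leaf (.cyc (nat_lit 5) [(nat_lit 12010), (nat_lit 11763)]))) (.node (.leaf (.cyc (nat_lit 19) [(nat_lit 3153), (nat_lit 7907)])) (.leaf .df)))))) (.node (.node (.node (.node (.node (.leaf .df) (.leaf (.cyc (nat_lit 29) [(nat_lit 6671), (nat_lit 8681)]))) (.node (.leaf (.cyc (nat_lit 2) [(nat_lit 291), (nat_lit 290)])) (.leaf (.cyc (nat_lit 5) [(nat_lit 4249), (nat_lit 12138)])))) (.node (.node (.leaf .df) (.leaf (.cyc (nat_lit 8) [(nat_lit 10729), (nat_lit 5873), (nat_lit 8423), (nat_lit 7721), (nat_lit 2544)]))) (.node (.leaf (.cyc (nat_lit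 5) [(nat_lit 2429), (nat_lit 2428)])) (.leaf .df)))) (.node (.node (.node (.leaf .df) (.leaf (.cyc (nat_lit 5) [(nat_lit 3441), (nat_lit 3440)]))) (.node (.leaf (.cyc (nat_lit 2) [(nat_lit 1364), (nat_lit 1363)])) (.leaf .df))) (.node (.node (.leaf .df) (.leaf (.cyc (nat_lit 0) [(nat_lit 10519), (nat_lit 4016)]))) (.node (.leaf (.cyc (nat_lit 6) [(nat_lit 3275), (nat_lit 7618)])) (.leaf .df))))) (.node (.node (.node (.node (.leaf .df) (.leaf (.cyc (nat_lit 8) [(nat_lit 1676), (nat_lit 1674), (nat_lit 9193), (nat_lit 8458), (nat_lit 2147)]))) (.node (.leaf (.cyc (nat_lit 14) [(nat_lit 5079), (nat_lit 866)])) (.leaf .df))) (.node (.node (.leaf .df) (.leaf (.cyc (nat_lit 20) [(nat_lit 6607), (nat_lit 2399), (nat_lit 856), (nat_lit 857), (nat_lit 11230), (nat_lit 3800), (nat_lit 11241)]))) (.node (.leaf (.cyc (nat_lit 1) [(nat_lit 7050), (nat_lit 2790)])) (.leaf .df)))) (.node (.node (.node (.leaf .df) (.leaf (.cyc (nat_lit 7) [(nat_lit 3617), (nat_lit 1477),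 (nat_lit 5550), (nat_lit 5555), (nat_lit 5554), (nat_lit 1488), (nat_lit 3629)]))) (.node (.leaf (.cyc (nat_lit 0) [(nat_lit 4968), (nat_lit 1909)])) (.leaf .df))) (.node (.node (.leaf .df) (.leaf (.cyc (nat_lit 11) [(nat_lit 3771), (nat_lit 1632), (nat_lit 5883), (nat_lit 2349), (nat_lit 4140), (nat_lit 12259), (nat_lit 9812)]))) (.node (.leaf (.cyc (nat_lit 17) [(nat_lit 7176), (nat_lit 8168), (nat_lit 5571)])) (.leaf .df))))))))
noncomputable def c4P110101 : BT Pf := .node c4P1101010 c4P1101011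
noncomputable def c4P11010 : BT Pf := .node c4P110100 c4P110101
noncomputable def c4P1101100 : BT Pf := (.node (.node (.node (.node (.node (.node (.node (.leaf .df) (.leaf (.cyc (nat_lit 17) [(nat_lit 7108), (nat_lit 8207), (nat_lit 1131)]))) (.node (.leaf .df) (.leaf (.cyc (nat_lit 30) [(nat_lit 9835), (nat_lit 12314), (nat_lit 7265), (nat_lit 8003), (nat_lit 2854), (nat_lit 8164), (nat_lit 8161), (nat_lit 8037), (nat_lit 9889)])))) (.node (.node (.leaf .df) (.leaf (.cyc (nat_lit 17) [(nat_lit 6542), (nat_lit 10264)]))) (.node (.leaf (.cyc (nat_lit 4) [(nat_lit 693), (nat_lit 225), (nat_lit 223), (nat_lit 685), (nat_lit 1956)])) (.leaf .df)))) (.node (.node (.node (.leaf .df) (.leaf (.cyc (nat_lit 29) [(nat_lit 2102), (nat_lit 9241)]))) (.node (.leaf (.cyc (nat_lit 8) [(nat_lit 901), (nat_lit 4591), (nat_lit 5143), (nat_lit 4625), (nat_lit 5141)])) (.leaf .df))) (.node (.node (.leaf .df) (.leaf (.cyc (nat_lit 18) [(nat_lit 3207), (nat_lit 11289), (nat_lit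 3834)]))) (.node (.leaf (.cyc (nat_lit 6) [(nat_lit 2852), (nat_lit 2851)])) (.leaf .df))))) (.node (.node (.node (.node (.leaf .df) (.leaf (.cyc (nat_lit 25) [(nat_lit 3228), (nat_lit 8725)]))) (.node (.leaf (.cyc (nat_lit 1) [(nat_lit 4542), (nat_lit 356)])) (.leaf (.cyc (nat_lit 20) [(nat_lit 11435), (nat_lit 11434), (nat_lit 9502), (nat_lit 12101), (nat_lit 3408), (nat_lit 9619), (nat_lit 4259)])))) (.node (.node (.leaf .df) (.leaf (.cyc (nat_lit 14) [(nat_lit 10696), (nat_lit 3752)]))) (.node (.leaf (.cyc (nat_lit 15) [(nat_lit 1398), (nat_lit 5601), (nat_lit 6681), (nat_lit 6676), (nat_lit 1114), (nat_lit 4675), (nat_lit 4948), (nat_lit 4950), (nat_lit 4960), (nat_lit 6251)])) (.leaf .df)))) (.node (.node (.node (.leaf .df) (.leaf (.cyc (nat_lit 9) [(nat_lit 2153), (nat_lit 4989), (nat_lit 2156), (nat_lit 9753), (nat_lit 9739)]))) (.node (.leaf (.cyc (nat_lit 2) [(nat_lit 1421), (nat_lit 1420)])) (.leaf .df))) (.node (.node (.leaf .df) (.leaf (.cyc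 (nat_lit 2) [(nat_lit 4026), (nat_lit 4025)]))) (.node (.leaf (.cyc (nat_lit 27) [(nat_lit 3310), (nat_lit 5814), (nat_lit 5813), (nat_lit 4841), (nat_lit 1255), (nat_lit 7682), (nat_lit 5568)])) (.leaf .df)))))) (.node (.node (.node (.node (.node (.leaf .df) (.leaf (.cyc (nat_lit 28) [(nat_lit 8359), (nat_lit 8474)]))) (.node (.leaf (.cyc (nat_lit 2) [(nat_lit 40), (nat_lit 39)])) (.leaf (.cyc (nat_lit 5) [(nat_lit 4204), (nat_lit 12445)])))) (.node (.node (.leaf .df) (.leaf (.cyc (nat_lit 0) [(nat_lit 9901), (nat_lit 10522)]))) (.node (.leaf (.cyc (nat_lit 5) [(nat_lit 2232), (nat_lit 5285)])) (.leaf .df)))) (.node (.node (.node (.leaf .df) (.leaf (.cyc (nat_lit 0) [(nat_lit 6850), (nat_lit 3345)]))) (.node (.leaf (.cyc (nat_lit 2) [(nat_lit 1205), (nat_lit 1204)])) (.leaf .df))) (.node (.node (.leaf .df) (.leaf (.cyc (nat_lit 19) [(nat_lit 3961), (nat_lit 11546)]))) (.node (.leaf (.cyc (nat_lit 2) [(nat_lit 3073), (nat_lit 3072)])) (.leaf .df)))))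 (.node (.node (.node (.node (.leaf .df) (.leaf (.cyc (nat_lit 25) [(nat_lit 3150), (nat_lit 8985), (nat_lit 4806)]))) (.node (.leaf (.cyc (nat_lit 11) [(nat_lit 626), (nat_lit 4508), (nat_lit 207), (nat_lit 63), (nat_lit 64), (nat_lit 211), (nat_lit 652)])) (.leaf (.cyc (nat_lit 11) [(nat_lit 11189), (nat_lit 13082), (nat_lit 12007), (nat_lit 12666), (nat_lit 12664), (nat_lit 13081), (nat_lit 13080)])))) (.node (.node (.leaf .df) (.leaf (.cyc (nat_lit 21) [(nat_lit 6176), (nat_lit 8512), (nat_lit 11032), (nat_lit 5913), (nat_lit 3818)]))) (.node (.leaf (.cyc (nat_lit 4) [(nat_lit 6934), (nat_lit 1156), (nat_lit 393), (nat_lit 396), (nat_lit 1166)])) (.leaf .df)))) (.node (.node (.node (.leaf .df) (.leaf (.cyc (nat_lit 1) [(nat_lit 8875), (nat_lit 3577)]))) (.node (.leaf (.cyc (nat_lit 6) [(nat_lit 1680), (nat_lit 1679)])) (.leaf .df))) (.node (.node (.leaf .df) (.leaf (.cyc (nat_lit 2) [(nat_lit 4095), (nat_lit 11716)]))) (.node (.leaf (.cyc (nat_lit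 17) [(nat_lit 7220), (nat_lit 7959)])) (.leaf .df))))))) (.node (.node (.node (.node (.node (.node (.leaf .df) (.leaf (.cyc (nat_lit 17) [(nat_lit 7332), (nat_lit 8341), (nat_lit 2406)]))) (.node (.leaf .df) (.leaf (.cyc (nat_lit 14) [(nat_lit 6746), (nat_lit 4176)])))) (.node (.node (.leaf .df) (.leaf (.cyc (nat_lit 7) [(nat_lit 2235), (nat_lit 10393), (nat_lit 7494), (nat_lit 5429), (nat_lit 5437), (nat_lit 4827), (nat_lit 1663), (nat_lit 9491)]))) (.node (.leaf (.cyc (nat_lit 7) [(nat_lit 2063), (nat_lit 727), (nat_lit 4942), (nat_lit 4944), (nat_lit 4943), (nat_lit 741), (nat_lit 2103)])) (.leaf .df)))) (.node (.node (.node (.leaf .df) (.leaf (.cyc (nat_lit 28) [(nat_lit 8796), (nat_lit 9370)]))) (.node (.leaf (.cyc (nat_lit 6) [(nat_lit 1067), (nat_lit 1066)])) (.leaf .df))) (.node (.node (.leaf .df) (.leaf (.cyc (nat_lit 5) [(nat_lit 11418), (nat_lit 11415)]))) (.node (.leaf (.cyc (nat_lit 3) [(nat_lit 6817), (nat_lit 6816), (nat_lit 1154), (nat_lit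 5309), (nat_lit 2973)])) (.leaf .df))))) (.node (.node (.node (.node (.leaf .df) (.leaf (.cyc (nat_lit 28) [(nat_lit 7680), (nat_lit 8858)]))) (.node (.leaf (.cyc (nat_lit 5) [(nat_lit 497), (nat_lit 496)])) (.leaf (.cyc (nat_lit 4) [(nat_lit 4285), (nat_lit 7528), (nat_lit 5409), (nat_lit 7554), (nat_lit 12128)])))) (.node (.node (.leaf .df) (.leaf (.cyc (nat_lit 0) [(nat_lit 3788), (nat_lit 10904)]))) (.node (.leaf (.cyc (nat_lit 8) [(nat_lit 1108), (nat_lit 4649), (nat_lit 4670), (nat_lit 1153), (nat_lit 6810)])) (.leaf .df)))) (.node (.node (.node (.leaf .df) (.leaf (.cyc (nat_lit 1) [(nat_lit 9794), (nat_lit 3533)]))) (.node (.leaf (.cyc (nat_lit 6) [(nat_lit 1532), (nat_lit 1531)])) (.leaf .df))) (.node (.node (.leaf .df) (.leaf (.cyc (nat_lit 13) [(nat_lit 9098), (nat_lit 2764), (nat_lit 8344), (nat_lit 2404), (nat_lit 6591), (nat_lit 8335), (nat_lit 4063)]))) (.node (.leaf (.cyc (nat_lit 28) [(nat_lit 2020), (nat_lit 7834)])) (.leaf .df))))))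 (.node (.node (.node (.node (.node (.leaf .df) (.leaf (.cyc (nat_lit 0) [(nat_lit 6051), (nat_lit 8602)]))) (.node (.leaf (.cyc (nat_lit 9) [(nat_lit 206), (nat_lit 63), (nat_lit 4363), (nat_lit 60), (nat_lit 198)])) (.leaf (.cyc (nat_lit 4) [(nat_lit 4231), (nat_lit 2676), (nat_lit 2674), (nat_lit 11689), (nat_lit 11692)])))) (.node (.node (.leaf .df) (.leaf (.cyc (nat_lit 1) [(nat_lit 10646), (nat_lit 10649)]))) (.node (.leaf (.cyc (nat_lit 6) [(nat_lit 2348), (nat_lit 2347)])) (.leaf .df)))) (.node (.node (.node (.leaf .df) (.leaf (.cyc (nat_lit 5) [(nat_lit 3407), (nat_lit 3406)]))) (.node (.leaf (.cyc (nat_lit 3) [(nat_lit 5530), (nat_lit 5529), (nat_lit 441), (nat_lit 4701), (nat_lit 600)])) (.leaf .df))) (.node (.node (.leaf .df) (.leaf (.cyc (nat_lit 27) [(nat_lit 11672), (nat_lit 9867), (nat_lit 9865), (nat_lit 11295), (nat_lit 11014), (nat_lit 11016), (nat_lit 6304)]))) (.node (.leaf (.cyc (nat_lit 5) [(nat_lit 3205), (nat_lit 3204)])) (.leaf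 .df))))) (.node (.node (.node (.node (.leaf .df) (.leaf (.cyc (nat_lit 18) [(nat_lit 3123), (nat_lit 9113)]))) (.node (.leaf (.cyc (nat_lit 6) [(nat_lit 791), (nat_lit 790)])) (.leaf (.cyc (nat_lit 10) [(nat_lit 12269), (nat_lit 3771), (nat_lit 8424), (nat_lit 12531), (nat_lit 4336)])))) (.node (.node (.leaf .df) (.leaf (.cyc (nat_lit 8) [(nat_lit 6345), (nat_lit 9314), (nat_lit 9328), (nat_lit 1777), (nat_lit 11160)]))) (.node (.leaf (.cyc (nat_lit 19) [(nat_lit 6968), (nat_lit 7065)])) (.leaf .df)))) (.node (.node (.node (.leaf .df) (.leaf (.cyc (nat_lit 9) [(nat_lit 9993), (nat_lit 10127), (nat_lit 3615), (nat_lit 5733), (nat_lit 3618)]))) (.node (.leaf (.cyc (nat_lit 6) [(nat_lit 1819), (nat_lit 5728)])) (.leaf .df))) (.node (.node (.leaf .df) (.leaf (.cyc (nat_lit 4) [(nat_lit 10599), (nat_lit 10600), (nat_lit 3626), (nat_lit 10158), (nat_lit 4123)]))) (.node (.leaf (.cyc (nat_lit 27) [(nat_lit 6120), (nat_lit 8089), (nat_lit 6371), (nat_lit 1435),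 (nat_lit 492), (nat_lit 4472), (nat_lit 494), (nat_lit 1441)])) (.leaf .df))))))))
noncomputable def c4P1101101 : BT Pf := (.node (.node (.node (.node (.node (.node (.node (.leaf .df) (.leaf (.cyc (nat_lit 29) [(nat_lit 8038), (nat_lit 8276), (nat_lit 4528)]))) (.node (.leaf .df) (.leaf (.cyc (nat_lit 8) [(nat_lit 2492), (nat_lit 10624), (nat_lit 4106), (nat_lit 12095), (nat_lit 12378)])))) (.node (.node (.leaf .df) (.leaf (.cyc (nat_lit 14) [(nat_lit 9049), (nat_lit 3663)]))) (.node (.leaf (.cyc (nat_lit 2) [(nat_lit 2023), (nat_lit 2022)])) (.leaf .df)))) (.node (.node (.node (.leaf .df) (.leaf (.cyc (nat_lit 4) [(nat_lit 7487), (nat_lit 9305), (nat_lit 7818), (nat_lit 7470), (nat_lit 7468), (nat_lit 3107)]))) (.node (.leaf (.cyc (nat_lit 14) [(nat_lit 5031), (nat_lit 996)])) (.leaf .df))) (.node (.node (.leaf .df) (.leaf (.cyc (nat_lit 4) [(nat_lit 11354), (nat_lit 11240), (nat_lit 7471), (nat_lit 10259), (nat_lit 7567)]))) (.node (.leaf (.cyc (nat_lit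 25) [(nat_lit 7246), (nat_lit 7256)])) (.leaf .df))))) (.node (.node (.node (.node (.leaf .df) (.leaf (.cyc (nat_lit 28) [(nat_lit 3161), (nat_lit 8791)]))) (.node (.leaf (.cyc (nat_lit 10) [(nat_lit 195), (nat_lit 58), (nat_lit 55), (nat_lit 4455), (nat_lit 428)])) (.leaf (.cyc (nat_lit 27) [(nat_lit 4272), (nat_lit 9428), (nat_lit 10524), (nat_lit 10523), (nat_lit 5909), (nat_lit 3814), (nat_lit 11271)])))) (.node (.node (.leaf .df) (.leaf (.cyc (nat_lit 13) [(nat_lit 5809), (nat_lit 10367), (nat_lit 10842), (nat_lit 6652), (nat_lit 10613), (nat_lit 8020), (nat_lit 8018), (nat_lit 3353)]))) (.node (.leaf (.cyc (nat_lit 5) [(nat_lit 2494), (nat_lit 2493)])) (.leaf .df)))) (.node (.node (.node (.leaf .df) (.leaf (.cyc (nat_lit 8) [(nat_lit 9818), (nat_lit 7345), (nat_lit 2315), (nat_lit 8823), (nat_lit 5663)]))) (.node (.leaf (.cyc (nat_lit 20) [(nat_lit 1464), (nat_lit 500), (nat_lit 502), (nat_lit 1467), (nat_lit 5705), (nat_lit 5173), (nat_lit 4639),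 (nat_lit 1027)])) (.leaf .df))) (.node (.node (.leaf .df) (.leaf (.cyc (nat_lit 28) [(nat_lit 4018), (nat_lit 11866)]))) (.node (.leaf (.cyc (nat_lit 29) [(nat_lit 7732), (nat_lit 7766), (nat_lit 2165)])) (.leaf .df)))))) (.node (.node (.node (.node (.node (.leaf .df) (.leaf (.cyc (nat_lit 28) [(nat_lit 2422), (nat_lit 8535)]))) (.node (.leaf (.cyc (nat_lit 6) [(nat_lit 120), (nat_lit 119)])) (.leaf (.cyc (nat_lit 13) [(nat_lit 12634), (nat_lit 4217), (nat_lit 11481), (nat_lit 9678), (nat_lit 9677), (nat_lit 9676), (nat_lit 3505)])))) (.node (.node (.leaf .df) (.leaf (.cyc (nat_lit 18) [(nat_lit 9634), (nat_lit 10585), (nat_lit 9828)]))) (.node (.leaf (.cyc (nat_lit 5) [(nat_lit 2291), (nat_lit 2290)])) (.leaf .df)))) (.node (.node (.node (.leaf .df) (.leaf (.cyc (nat_lit 6) [(nat_lit 3388), (nat_lit 6068)]))) (.node (.leaf (.cyc (nat_lit 6) [(nat_lit 1260), (nat_lit 4844)])) (.leaf .df))) (.node (.node (.leaf .df) (.leaf (.cyc (nat_lit 0) [(nat_lit 11494),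 (nat_lit 11610)]))) (.node (.leaf (.cyc (nat_lit 22) [(nat_lit 3134), (nat_lit 3135), (nat_lit 7513), (nat_lit 1616), (nat_lit 5855), (nat_lit 5774), (nat_lit 1758)])) (.leaf .df))))) (.node (.node (.node (.node (.leaf .df) (.leaf (.cyc (nat_lit 28) [(nat_lit 3168), (nat_lit 9050)]))) (.node (.leaf (.cyc (nat_lit 6) [(nat_lit 722), (nat_lit 721)])) (.leaf (.cyc (nat_lit 1) [(nat_lit 11869), (nat_lit 4323)])))) (.node (.node (.leaf .df) (.leaf (.cyc (nat_lit 13) [(nat_lit 11097), (nat_lit 1782), (nat_lit 620), (nat_lit 199), (nat_lit 201), (nat_lit 624), (nat_lit 1796)]))) (.node (.leaf (.cyc (nat_lit 11) [(nat_lit 1613), (nat_lit 4815), (nat_lit 322), (nat_lit 4432), (nat_lit 327), (nat_lit 978), (nat_lit 2682)])) (.leaf .df)))) (.node (.node (.node (.leaf .df) (.leaf (.cyc (nat_lit 7) [(nat_lit 2622), (nat_lit 955), (nat_lit 4608), (nat_lit 949), (nat_lit 5307), (nat_lit 2968), (nat_lit 10072)]))) (.node (.leaf (.cyc (nat_lit 5) [(nat_lit 1756), (nat_lit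 1755)])) (.leaf .df))) (.node (.node (.leaf .df) (.leaf (.cyc (nat_lit 4) [(nat_lit 12122), (nat_lit 6848), (nat_lit 2197), (nat_lit 2200), (nat_lit 4096)]))) (.node (.leaf (.cyc (nat_lit 28) [(nat_lit 2905), (nat_lit 8024)])) (.leaf .df))))))) (.node (.node (.node (.node (.node (.node (.leaf .df) (.leaf (.cyc (nat_lit 29) [(nat_lit 5791), (nat_lit 8408), (nat_lit 5466)]))) (.node (.leaf .df) (.leaf (.cyc (nat_lit 8) [(nat_lit 4188), (nat_lit 11852), (nat_lit 11851), (nat_lit 10593), (nat_lit 3887)])))) (.node (.node (.leaf .df) (.leaf (.cyc (nat_lit 8) [(nat_lit 10458), (nat_lit 10457), (nat_lit 8491), (nat_lit 1558), (nat_lit 1560)]))) (.node (.leaf (.cyc (nat_lit 3) [(nat_lit 6334), (nat_lit 6330), (nat_lit 6332), (nat_lit 6260), (nat_lit 2168)])) (.leaf .df)))) (.node (.node (.node (.leaf .df) (.leaf (.cyc (nat_lit 31) [(nat_lit 1735), (nat_lit 1736), (nat_lit 6783), (nat_lit 6773), (nat_lit 9431), (nat_lit 7402), (nat_lit 5340), (nat_lit 3059)])))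 (.node (.leaf (.cyc (nat_lit 14) [(nat_lit 5313), (nat_lit 1139)])) (.leaf .df))) (.node (.node (.leaf .df) (.leaf (.cyc (nat_lit 6) [(nat_lit 3935), (nat_lit 11033)]))) (.node (.leaf (.cyc (nat_lit 6) [(nat_lit 3021), (nat_lit 3020)])) (.leaf .df))))) (.node (.node (.node (.node (.leaf .df) (.leaf (.cyc (nat_lit 25) [(nat_lit 2504), (nat_lit 8919)]))) (.node (.leaf (.cyc (nat_lit 5) [(nat_lit 576), (nat_lit 575)])) (.leaf (.cyc (nat_lit 8) [(nat_lit 13016), (nat_lit 4186), (nat_lit 4188), (nat_lit 12505), (nat_lit 9871)])))) (.node (.node (.leaf .df) (.leaf (.cyc (nat_lit 6) [(nat_lit 10970), (nat_lit 8049)]))) (.node (.leaf (.cyc (nat_lit 27) [(nat_lit 2605), (nat_lit 5168), (nat_lit 4657), (nat_lit 4448), (nat_lit 317), (nat_lit 948), (nat_lit 6361)])) (.leaf .df)))) (.node (.node (.node (.leaf .df) (.leaf (.cyc (nat_lit 3) [(nat_lit 6723), (nat_lit 6731), (nat_lit 9853), (nat_lit 5665), (nat_lit 3550)]))) (.node (.leaf (.cyc (nat_lit 28) [(nat_lit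 1515), (nat_lit 5850)])) (.leaf .df))) (.node (.node (.leaf .df) (.leaf (.cyc (nat_lit 0) [(nat_lit 11248), (nat_lit 4081)]))) (.node (.leaf (.cyc (nat_lit 28) [(nat_lit 2298), (nat_lit 7894), (nat_lit 7627)])) (.leaf .df)))))) (.node (.node (.node (.node (.node (.leaf .df) (.leaf (.cyc (nat_lit 3) [(nat_lit 2335), (nat_lit 2338), (nat_lit 8665), (nat_lit 7683), (nat_lit 6088)]))) (.node (.leaf (.cyc (nat_lit 6) [(nat_lit 272), (nat_lit 271)])) (.leaf (.cyc (nat_lit 11) [(nat_lit 3999), (nat_lit 6190), (nat_lit 3994), (nat_lit 11685), (nat_lit 11947), (nat_lit 10330), (nat_lit 12759)])))) (.node (.node (.leaf .df) (.leaf (.cyc (nat_lit 4) [(nat_lit 3737), (nat_lit 1593), (nat_lit 9185), (nat_lit 1884), (nat_lit 10598)]))) (.node (.leaf (.cyc (nat_lit 22) [(nat_lit 2411), (nat_lit 5755), (nat_lit 518), (nat_lit 4479), (nat_lit 521), (nat_lit 1511), (nat_lit 5996)])) (.leaf .df)))) (.node (.node (.node (.leaf .df) (.leaf (.cyc (nat_lit 29) [(nat_lit 2331),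 (nat_lit 9690)]))) (.node (.leaf (.cyc (nat_lit 9) [(nat_lit 1343), (nat_lit 459), (nat_lit 4463), (nat_lit 456), (nat_lit 1336)])) (.leaf .df))) (.node (.node (.leaf .df) (.leaf (.cyc (nat_lit 25) [(nat_lit 2500), (nat_lit 11736)]))) (.node (.leaf (.cyc (nat_lit 3) [(nat_lit 1665), (nat_lit 577), (nat_lit 575), (nat_lit 5437), (nat_lit 3262)])) (.leaf .df))))) (.node (.node (.node (.node (.leaf .df) (.leaf (.cyc (nat_lit 19) [(nat_lit 6117), (nat_lit 9171)]))) (.node (.leaf (.cyc (nat_lit 6) [(nat_lit 846), (nat_lit 845)])) (.leaf (.cyc (nat_lit 5) [(nat_lit 4349), (nat_lit 13011)])))) (.node (.node (.leaf .df) (.leaf (.cyc (nat_lit 10) [(nat_lit 3800), (nat_lit 1652), (nat_lit 1649), (nat_lit 5972), (nat_lit 3882)]))) (.node (.leaf (.cyc (nat_lit 8) [(nat_lit 2736), (nat_lit 5219), (nat_lit 5217), (nat_lit 1024), (nat_lit 2780)])) (.leaf .df)))) (.node (.node (.node (.leaf .df) (.leaf (.cyc (nat_lit 10) [(nat_lit 8491), (nat_lit 9125), (nat_lit 10191),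 (nat_lit 6741), (nat_lit 10202)]))) (.node (.leaf (.cyc (nat_lit 6) [(nat_lit 1888), (nat_lit 1887)])) (.leaf .df))) (.node (.node (.leaf .df) (.leaf (.cyc (nat_lit 13) [(nat_lit 12249), (nat_lit 10846), (nat_lit 3354), (nat_lit 8018), (nat_lit 3333), (nat_lit 9516), (nat_lit 11641)]))) (.node (.leaf (.cyc (nat_lit 29) [(nat_lit 7992), (nat_lit 8154), (nat_lit 2829)])) (.leaf .df))))))))
noncomputable def c4P110110 : BT Pf := .node c4P1101100 c4P1101101
noncomputable def c4P1101110 : BT Pf := (.node (.node (.node (.node (.node (.node (.node (.leaf .df) (.leaf (.cyc (nat_lit 20) [(nat_lit 2807), (nat_lit 1036), (nat_lit 1033), (nat_lit 8249), (nat_lit 2654), (nat_lit 5189), (nat_lit 2657)]))) (.node (.leaf .df) (.leaf (.cyc (nat_lit 22) [(nat_lit 8804), (nat_lit 3194), (nat_lit 12344), (nat_lit 2448), (nat_lit 5104), (nat_lit 11788), (nat_lit 4017)])))) (.node (.node (.leaf .df) (.leaf (.cyc (nat_lit 3) [(nat_lit 10298), (nat_lit 10297), (nat_lit 8285),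 (nat_lit 2548), (nat_lit 2549), (nat_lit 7144)]))) (.node (.leaf (.cyc (nat_lit 4) [(nat_lit 1543), (nat_lit 532), (nat_lit 530), (nat_lit 5788), (nat_lit 1990)])) (.leaf .df)))) (.node (.node (.node (.leaf .df) (.leaf (.cyc (nat_lit 28) [(nat_lit 3142), (nat_lit 9274), (nat_lit 5633)]))) (.node (.leaf (.cyc (nat_lit 2) [(nat_lit 959), (nat_lit 958)])) (.leaf .df))) (.node (.node (.leaf .df) (.leaf (.cyc (nat_lit 21) [(nat_lit 10892), (nat_lit 6290), (nat_lit 11306), (nat_lit 6017), (nat_lit 3901)]))) (.node (.leaf (.cyc (nat_lit 6) [(nat_lit 2892), (nat_lit 2891)])) (.leaf .df))))) (.node (.node (.node (.node (.leaf .df) (.leaf (.cyc (nat_lit 18) [(nat_lit 6035), (nat_lit 8760)]))) (.node (.leaf (.cyc (nat_lit 5) [(nat_lit 389), (nat_lit 388)])) (.leaf (.cyc (nat_lit 3) [(nat_lit 12858), (nat_lit 11421), (nat_lit 12012), (nat_lit 7026), (nat_lit 4240)])))) (.node (.node (.leaf .df) (.leaf (.cyc (nat_lit 14) [(nat_lit 10810), (nat_lit 3760)]))) (.node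 (.leaf (.cyc (nat_lit 7) [(nat_lit 6714), (nat_lit 2242), (nat_lit 794), (nat_lit 260), (nat_lit 258), (nat_lit 788), (nat_lit 2223)])) (.leaf .df)))) (.node (.node (.node (.leaf .df) (.leaf (.cyc (nat_lit 9) [(nat_lit 6659), (nat_lit 6657), (nat_lit 6658), (nat_lit 5631), (nat_lit 3473)]))) (.node (.leaf (.cyc (nat_lit 6) [(nat_lit 5690), (nat_lit 5068)])) (.leaf .df))) (.node (.node (.leaf .df) (.leaf (.cyc (nat_lit 0) [(nat_lit 11820), (nat_lit 11833)]))) (.node (.leaf (.cyc (nat_lit 21) [(nat_lit 7666), (nat_lit 7732), (nat_lit 7733), (nat_lit 1667), (nat_lit 4828), (nat_lit 1669)])) (.leaf .df)))))) (.node (.node (.node (.node (.node (.leaf .df) (.leaf (.cyc (nat_lit 28) [(nat_lit 6429), (nat_lit 8506)]))) (.node (.leaf (.cyc (nat_lit 3) [(nat_lit 4410), (nat_lit 81), (nat_lit 23), (nat_lit 4357), (nat_lit 29)])) (.leaf (.cyc (nat_lit 2) [(nat_lit 12602), (nat_lit 12601)])))) (.node (.node (.leaf .df) (.leaf (.cyc (nat_lit 27) [(nat_lit 3699), (nat_lit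 5811), (nat_lit 8493), (nat_lit 8398), (nat_lit 5247), (nat_lit 8059), (nat_lit 9460)]))) (.node (.leaf (.cyc (nat_lit 28) [(nat_lit 2266), (nat_lit 6458), (nat_lit 1423)])) (.leaf .df)))) (.node (.node (.node (.leaf .df) (.leaf (.cyc (nat_lit 2) [(nat_lit 3370), (nat_lit 3369)]))) (.node (.leaf (.cyc (nat_lit 8) [(nat_lit 5433), (nat_lit 794), (nat_lit 4560), (nat_lit 4534), (nat_lit 709)])) (.leaf .df))) (.node (.node (.leaf .df) (.leaf (.cyc (nat_lit 4) [(nat_lit 9766), (nat_lit 7463), (nat_lit 11578), (nat_lit 11577), (nat_lit 9654)]))) (.node (.leaf (.cyc (nat_lit 5) [(nat_lit 3108), (nat_lit 3107)])) (.leaf .df))))) (.node (.node (.node (.node (.leaf .df) (.leaf (.cyc (nat_lit 15) [(nat_lit 5868), (nat_lit 9018), (nat_lit 7865), (nat_lit 1116), (nat_lit 4685), (nat_lit 5400), (nat_lit 5419), (nat_lit 6906), (nat_lit 7017)]))) (.node (.leaf (.cyc (nat_lit 11) [(nat_lit 253), (nat_lit 76), (nat_lit 21), (nat_lit 18), (nat_lit 68), (nat_lit 223), (nat_lit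 684)])) (.leaf (.cyc (nat_lit 11) [(nat_lit 4311), (nat_lit 9509), (nat_lit 8100), (nat_lit 6070), (nat_lit 6468), (nat_lit 3385), (nat_lit 4315)])))) (.node (.node (.leaf .df) (.leaf (.cyc (nat_lit 22) [(nat_lit 11066), (nat_lit 9780), (nat_lit 3441), (nat_lit 5676), (nat_lit 8847), (nat_lit 8332), (nat_lit 9987)]))) (.node (.leaf (.cyc (nat_lit 3) [(nat_lit 5206), (nat_lit 5205), (nat_lit 6970), (nat_lit 6969), (nat_lit 2633), (nat_lit 2635)])) (.leaf .df)))) (.node (.node (.node (.leaf .df) (.leaf (.cyc (nat_lit 22) [(nat_lit 10042), (nat_lit 6013), (nat_lit 4871), (nat_lit 8764), (nat_lit 5575), (nat_lit 8193), (nat_lit 2179)]))) (.node (.leaf (.cyc (nat_lit 6) [(nat_lit 1716), (nat_lit 1715)])) (.leaf .df))) (.node (.node (.leaf .df) (.leaf (.cyc (nat_lit 8) [(nat_lit 10415), (nat_lit 12090), (nat_lit 4105), (nat_lit 10624), (nat_lit 2492)]))) (.node (.leaf (.cyc (nat_lit 25) [(nat_lit 7262), (nat_lit 7990)])) (.leaf .df))))))) (.node (.node (.node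 (.node (.node (.node (.leaf .df) (.leaf (.cyc (nat_lit 22) [(nat_lit 8378), (nat_lit 8377), (nat_lit 2610), (nat_lit 2611), (nat_lit 7038), (nat_lit 5214), (nat_lit 2728)]))) (.node (.leaf .df) (.leaf (.cyc (nat_lit 31) [(nat_lit 11288), (nat_lit 11287), (nat_lit 11159), (nat_lit 12426), (nat_lit 12467), (nat_lit 12471), (nat_lit 12470), (nat_lit 11043)])))) (.node (.node (.leaf .df) (.leaf (.cyc (nat_lit 6) [(nat_lit 3683), (nat_lit 8501)]))) (.node (.leaf (.cyc (nat_lit 16) [(nat_lit 6259), (nat_lit 6260), (nat_lit 4997), (nat_lit 4557), (nat_lit 4555), (nat_lit 247), (nat_lit 245), (nat_lit 754), (nat_lit 2135), (nat_lit 6330)])) (.leaf .df)))) (.node (.node (.node (.leaf .df) (.leaf (.cyc (nat_lit 29) [(nat_lit 3171), (nat_lit 9401)]))) (.node (.leaf (.cyc (nat_lit 9) [(nat_lit 949), (nat_lit 4608), (nat_lit 5174), (nat_lit 4648), (nat_lit 1103)])) (.leaf .df))) (.node (.node (.leaf .df) (.leaf (.cyc (nat_lit 8) [(nat_lit 6302), (nat_lit 11450), (nat_lit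 10231), (nat_lit 6343), (nat_lit 6365)]))) (.node (.leaf (.cyc (nat_lit 1) [(nat_lit 5363), (nat_lit 2990)])) (.leaf .df))))) (.node (.node (.node (.node (.leaf .df) (.leaf (.cyc (nat_lit 8) [(nat_lit 8881), (nat_lit 3014), (nat_lit 6840), (nat_lit 8664), (nat_lit 6545)]))) (.node (.leaf (.cyc (nat_lit 10) [(nat_lit 535), (nat_lit 171), (nat_lit 4388), (nat_lit 173), (nat_lit 4545)])) (.leaf (.cyc (nat_lit 7) [(nat_lit 12862), (nat_lit 4265), (nat_lit 7287), (nat_lit 11105), (nat_lit 5929), (nat_lit 11292), (nat_lit 4291)])))) (.node (.node (.leaf .df) (.leaf (.cyc (nat_lit 19) [(nat_lit 7027), (nat_lit 10938), (nat_lit 3793)]))) (.node (.leaf (.cyc (nat_lit 7) [(nat_lit 2568), (nat_lit 931), (nat_lit 4653), (nat_lit 4759), (nat_lit 4758), (nat_lit 939), (nat_lit 2586)])) (.leaf .df)))) (.node (.node (.node (.leaf .df) (.leaf (.cyc (nat_lit 24) [(nat_lit 7850), (nat_lit 7849), (nat_lit 2268), (nat_lit 6464), (nat_lit 1428), (nat_lit 1427), (nat_lit 3546),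 (nat_lit 9914), (nat_lit 3452), (nat_lit 3451)]))) (.node (.leaf (.cyc (nat_lit 2) [(nat_lit 1569), (nat_lit 1568)])) (.leaf .df))) (.node (.node (.leaf .df) (.leaf (.cyc (nat_lit 2) [(nat_lit 4069), (nat_lit 10233)]))) (.node (.leaf (.cyc (nat_lit 19) [(nat_lit 1927), (nat_lit 7861), (nat_lit 5345)])) (.leaf .df)))))) (.node (.node (.node (.node (.node (.leaf .df) (.leaf (.cyc (nat_lit 1) [(nat_lit 6980), (nat_lit 8633)]))) (.node (.leaf (.cyc (nat_lit 6) [(nat_lit 241), (nat_lit 240)])) (.leaf (.cyc (nat_lit 0) [(nat_lit 12276), (nat_lit 12729)])))) (.node (.node (.leaf .df) (.leaf (.cyc (nat_lit 29) [(nat_lit 10639), (nat_lit 10682)]))) (.node (.leaf (.cyc (nat_lit 5) [(nat_lit 2379), (nat_lit 2378)])) (.leaf .df)))) (.node (.node (.node (.leaf .df) (.leaf (.cyc (nat_lit 15) [(nat_lit 9657), (nat_lit 9658), (nat_lit 8596), (nat_lit 5235), (nat_lit 7050), (nat_lit 7118), (nat_lit 7119), (nat_lit 9387), (nat_lit 6525)]))) (.node (.leaf (.cyc (nat_lit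 3) [(nat_lit 455), (nat_lit 145), (nat_lit 143), (nat_lit 449), (nat_lit 1309)])) (.leaf .df))) (.node (.node (.leaf .df) (.leaf (.cyc (nat_lit 31) [(nat_lit 2616), (nat_lit 2618), (nat_lit 11704), (nat_lit 11706), (nat_lit 3621), (nat_lit 8098), (nat_lit 6122), (nat_lit 3968)]))) (.node (.leaf (.cyc (nat_lit 1) [(nat_lit 7607), (nat_lit 3228)])) (.leaf .df))))) (.node (.node (.node (.node (.leaf .df) (.leaf (.cyc (nat_lit 33) [(nat_lit 8462), (nat_lit 9146), (nat_lit 2046), (nat_lit 718), (nat_lit 4536), (nat_lit 6154), (nat_lit 1877)]))) (.node (.leaf (.cyc (nat_lit 2) [(nat_lit 816), (nat_lit 815)])) (.leaf (.cyc (nat_lit 21) [(nat_lit 11514), (nat_lit 6104), (nat_lit 10636), (nat_lit 10637), (nat_lit 4343)])))) (.node (.node (.leaf .df) (.leaf (.cyc (nat_lit 3) [(nat_lit 9402), (nat_lit 7244), (nat_lit 10563), (nat_lit 10562), (nat_lit 3872)]))) (.node (.leaf (.cyc (nat_lit 13) [(nat_lit 7097), (nat_lit 7095), (nat_lit 1008), (nat_lit 1006), (nat_lit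 2735), (nat_lit 7074), (nat_lit 2746)])) (.leaf .df)))) (.node (.node (.node (.leaf .df) (.leaf (.cyc (nat_lit 28) [(nat_lit 3513), (nat_lit 10167)]))) (.node (.leaf (.cyc (nat_lit 2) [(nat_lit 1848), (nat_lit 1847)])) (.leaf .df))) (.node (.node (.leaf .df) (.leaf (.cyc (nat_lit 8) [(nat_lit 4131), (nat_lit 6518), (nat_lit 6517), (nat_lit 2325), (nat_lit 11968)]))) (.node (.leaf (.cyc (nat_lit 29) [(nat_lit 2310), (nat_lit 8121)])) (.leaf .df))))))))
noncomputable def c4P1101111 : BT Pf := (.node (.node (.node (.node (.node (.node (.node (.leaf .df) (.leaf (.cyc (nat_lit 18) [(nat_lit 6596), (nat_lit 8299), (nat_lit 6210)]))) (.node (.leaf .df) (.leaf (.cyc (nat_lit 1) [(nat_lit 10290), (nat_lit 4168)])))) (.node (.node (.leaf .df) (.leaf (.cyc (nat_lit 9) [(nat_lit 10358), (nat_lit 5792), (nat_lit 540), (nat_lit 541), (nat_lit 1555)]))) (.node (.leaf (.cyc (nat_lit 4) [(nat_lit 2060), (nat_lit 722), (nat_lit 4536), (nat_lit 718), (nat_lit 2046)])) (.leaf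 .df)))) (.node (.node (.node (.leaf .df) (.leaf (.cyc (nat_lit 8) [(nat_lit 9338), (nat_lit 5866), (nat_lit 9056), (nat_lit 3167), (nat_lit 9053)]))) (.node (.leaf (.cyc (nat_lit 28) [(nat_lit 4976), (nat_lit 5242)])) (.leaf .df))) (.node (.node (.leaf .df) (.leaf (.cyc (nat_lit 25) [(nat_lit 7640), (nat_lit 11384), (nat_lit 6281)]))) (.node (.leaf (.cyc (nat_lit 4) [(nat_lit 2951), (nat_lit 5301), (nat_lit 1731), (nat_lit 6322), (nat_lit 6323)])) (.leaf .df))))) (.node (.node (.node (.node (.leaf .df) (.leaf (.cyc (nat_lit 29) [(nat_lit 6531), (nat_lit 8826), (nat_lit 6454)]))) (.node (.leaf (.cyc (nat_lit 4) [(nat_lit 461), (nat_lit 146), (nat_lit 144), (nat_lit 4721), (nat_lit 4722)])) (.leaf (.cyc (nat_lit 6) [(nat_lit 4280), (nat_lit 9461)])))) (.node (.node (.leaf .df) (.leaf (.cyc (nat_lit 6) [(nat_lit 3779), (nat_lit 8429)]))) (.node (.leaf (.cyc (nat_lit 6) [(nat_lit 2527), (nat_lit 2526)])) (.leaf .df)))) (.node (.node (.node (.leaf .df) (.leaf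 (.cyc (nat_lit 12) [(nat_lit 3518), (nat_lit 5745), (nat_lit 5743), (nat_lit 5061), (nat_lit 9691), (nat_lit 9697), (nat_lit 9699), (nat_lit 5623), (nat_lit 3462)]))) (.node (.leaf (.cyc (nat_lit 3) [(nat_lit 4783), (nat_lit 1501), (nat_lit 5752), (nat_lit 859), (nat_lit 861)])) (.leaf .df))) (.node (.node (.leaf .df) (.leaf (.cyc (nat_lit 0) [(nat_lit 11845), (nat_lit 4055)]))) (.node (.leaf (.cyc (nat_lit 35) [(nat_lit 1661), (nat_lit 576), (nat_lit 578), (nat_lit 1668), (nat_lit 7763), (nat_lit 5169), (nat_lit 5648), (nat_lit 2162), (nat_lit 6358)])) (.leaf .df)))))) (.node (.node (.node (.node (.node (.leaf .df) (.leaf (.cyc (nat_lit 22) [(nat_lit 8263), (nat_lit 8261), (nat_lit 6169), (nat_lit 5336), (nat_lit 1141), (nat_lit 3057), (nat_lit 7424)]))) (.node (.leaf (.cyc (nat_lit 8) [(nat_lit 4473), (nat_lit 59), (nat_lit 16), (nat_lit 14), (nat_lit 52)])) (.leaf (.cyc (nat_lit 29) [(nat_lit 4223), (nat_lit 12665)])))) (.node (.node (.leaf .df) (.leaf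 (.cyc (nat_lit 30) [(nat_lit 7359), (nat_lit 3000), (nat_lit 3002), (nat_lit 10604), (nat_lit 9511), (nat_lit 6403), (nat_lit 8615), (nat_lit 9502), (nat_lit 3349), (nat_lit 3348)]))) (.node (.leaf (.cyc (nat_lit 5) [(nat_lit 2311), (nat_lit 2310)])) (.leaf .df)))) (.node (.node (.node (.leaf .df) (.leaf (.cyc (nat_lit 18) [(nat_lit 1742), (nat_lit 9593)]))) (.node (.leaf (.cyc (nat_lit 9) [(nat_lit 751), (nat_lit 5244), (nat_lit 4947), (nat_lit 4711), (nat_lit 1289)])) (.leaf .df))) (.node (.node (.leaf .df) (.leaf (.cyc (nat_lit 2) [(nat_lit 3987), (nat_lit 10263)]))) (.node (.leaf (.cyc (nat_lit 6) [(nat_lit 3178), (nat_lit 3177)])) (.leaf .df))))) (.node (.node (.node (.node (.leaf .df) (.leaf (.cyc (nat_lit 11) [(nat_lit 3145), (nat_lit 1184), (nat_lit 1182), (nat_lit 7436), (nat_lit 6443), (nat_lit 9069), (nat_lit 7536), (nat_lit 3090)]))) (.node (.leaf (.cyc (nat_lit 17) [(nat_lit 4769), (nat_lit 4984)])) (.leaf (.cyc (nat_lit 14) [(nat_lit 12457),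 (nat_lit 4330)])))) (.node (.node (.leaf .df) (.leaf (.cyc (nat_lit 10) [(nat_lit 3843), (nat_lit 1701), (nat_lit 4839), (nat_lit 1702), (nat_lit 3845)]))) (.node (.leaf (.cyc (nat_lit 2) [(nat_lit 2719), (nat_lit 2718)])) (.leaf .df)))) (.node (.node (.node (.leaf .df) (.leaf (.cyc (nat_lit 15) [(nat_lit 3612), (nat_lit 1471), (nat_lit 4767), (nat_lit 1467), (nat_lit 6898), (nat_lit 8630), (nat_lit 6966), (nat_lit 6965), (nat_lit 6978)]))) (.node (.leaf (.cyc (nat_lit 6) [(nat_lit 6010), (nat_lit 5557)])) (.leaf .df))) (.node (.node (.leaf .df) (.leaf (.cyc (nat_lit 19) [(nat_lit 4113), (nat_lit 12153)]))) (.node (.leaf (.cyc (nat_lit 29) [(nat_lit 6819), (nat_lit 8057)])) (.leaf .df))))))) (.node (.node (.node (.node (.node (.node (.leaf .df) (.leaf (.cyc (nat_lit 18) [(nat_lit 1772), (nat_lit 8440), (nat_lit 2089)]))) (.node (.leaf .df) (.leaf (.cyc (nat_lit 9) [(nat_lit 7964), (nat_lit 2617), (nat_lit 6889), (nat_lit 6813), (nat_lit 4196)])))) (.node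 (.node (.leaf .df) (.leaf (.cyc (nat_lit 32) [(nat_lit 9487), (nat_lit 9516), (nat_lit 10488), (nat_lit 3692), (nat_lit 9267), (nat_lit 10120), (nat_lit 10122), (nat_lit 10124), (nat_lit 10224)]))) (.node (.leaf (.cyc (nat_lit 2) [(nat_lit 2192), (nat_lit 2191)])) (.leaf .df)))) (.node (.node (.node (.leaf .df) (.leaf (.cyc (nat_lit 25) [(nat_lit 8253), (nat_lit 9464)]))) (.node (.leaf (.cyc (nat_lit 2) [(nat_lit 1173), (nat_lit 1172)])) (.leaf .df))) (.node (.node (.leaf .df) (.leaf (.cyc (nat_lit 20) [(nat_lit 9982), (nat_lit 6370), (nat_lit 8395), (nat_lit 3676), (nat_lit 10388), (nat_lit 7266), (nat_lit 11506)]))) (.node (.leaf (.cyc (nat_lit 8) [(nat_lit 3019), (nat_lit 3017), (nat_lit 7388), (nat_lit 7390), (nat_lit 3053)])) (.leaf .df))))) (.node (.node (.node (.node (.leaf .df) (.leaf (.cyc (nat_lit 34) [(nat_lit 6736), (nat_lit 6755), (nat_lit 2509), (nat_lit 8790), (nat_lit 4680), (nat_lit 5290), (nat_lit 6993), (nat_lit 6994), (nat_lit 2943)])))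 (.node (.leaf (.cyc (nat_lit 5) [(nat_lit 610), (nat_lit 609)])) (.leaf (.cyc (nat_lit 11) [(nat_lit 12754), (nat_lit 12089), (nat_lit 9555), (nat_lit 12098), (nat_lit 13029), (nat_lit 12825), (nat_lit 4302)])))) (.node (.node (.leaf .df) (.leaf (.cyc (nat_lit 29) [(nat_lit 3586), (nat_lit 11001)]))) (.node (.leaf (.cyc (nat_lit 2) [(nat_lit 2632), (nat_lit 2631)])) (.leaf .df)))) (.node (.node (.node (.leaf .df) (.leaf (.cyc (nat_lit 6) [(nat_lit 3561), (nat_lit 3560)]))) (.node (.leaf (.cyc (nat_lit 25) [(nat_lit 1634), (nat_lit 5881)])) (.leaf .df))) (.node (.node (.leaf .df) (.leaf (.cyc (nat_lit 9) [(nat_lit 11483), (nat_lit 11036), (nat_lit 11035), (nat_lit 3983), (nat_lit 12025)]))) (.node (.leaf (.cyc (nat_lit 17) [(nat_lit 2815), (nat_lit 7928), (nat_lit 4914)])) (.leaf .df)))))) (.node (.node (.node (.node (.node (.leaf .df) (.leaf (.cyc (nat_lit 29) [(nat_lit 7369), (nat_lit 8697)]))) (.node (.leaf (.cyc (nat_lit 6) [(nat_lit 314), (nat_lit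 313)])) (.leaf (.cyc (nat_lit 2) [(nat_lit 12794), (nat_lit 11441)])))) (.node (.node (.leaf .df) (.leaf (.cyc (nat_lit 28) [(nat_lit 10740), (nat_lit 10746)]))) (.node (.leaf (.cyc (nat_lit 8) [(nat_lit 6221), (nat_lit 6183), (nat_lit 6649), (nat_lit 5100), (nat_lit 2436)])) (.leaf .df)))) (.node (.node (.node (.leaf .df) (.leaf (.cyc (nat_lit 8) [(nat_lit 1719), (nat_lit 1717), (nat_lit 9713), (nat_lit 9714), (nat_lit 2340), (nat_lit 2342)]))) (.node (.leaf (.cyc (nat_lit 6) [(nat_lit 1381), (nat_lit 1380)])) (.leaf .df))) (.node (.node (.leaf .df) (.leaf (.cyc (nat_lit 8) [(nat_lit 11770), (nat_lit 9227), (nat_lit 2397), (nat_lit 5091), (nat_lit 2399)]))) (.node (.leaf (.cyc (nat_lit 6) [(nat_lit 3292), (nat_lit 3291)])) (.leaf .df))))) (.node (.node (.node (.node (.leaf .df) (.leaf (.cyc (nat_lit 20) [(nat_lit 1998), (nat_lit 5520), (nat_lit 875), (nat_lit 6663), (nat_lit 9208), (nat_lit 6262), (nat_lit 2195)]))) (.node (.leaf (.cyc (nat_lit 8) [(nat_lit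 304), (nat_lit 4420), (nat_lit 4459), (nat_lit 440), (nat_lit 5114)])) (.leaf .df))) (.node (.node (.leaf .df) (.leaf (.cyc (nat_lit 6) [(nat_lit 3888), (nat_lit 8575)]))) (.node (.leaf (.cyc (nat_lit 21) [(nat_lit 2808), (nat_lit 5256), (nat_lit 683), (nat_lit 680), (nat_lit 1944)])) (.leaf .df)))) (.node (.node (.node (.leaf .df) (.leaf (.cyc (nat_lit 6) [(nat_lit 3635), (nat_lit 3634)]))) (.node (.leaf (.cyc (nat_lit 11) [(nat_lit 1120), (nat_lit 380), (nat_lit 382), (nat_lit 4913), (nat_lit 4516), (nat_lit 674), (nat_lit 1928)])) (.leaf .df))) (.node (.node (.leaf .df) (.leaf (.cyc (nat_lit 13) [(nat_lit 12281), (nat_lit 11477), (nat_lit 1644), (nat_lit 4824), (nat_lit 1638), (nat_lit 8426), (nat_lit 3914)]))) (.node (.leaf (.cyc (nat_lit 25) [(nat_lit 5576), (nat_lit 8183)])) (.leaf .df))))))))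
noncomputable def c4P110111 : BT Pf := .node c4P1101110 c4P1101111
noncomputable def c4P11011 : BT Pf := .node c4P110110 c4P110111
noncomputable def c4P1101 : BT Pf := .node c4P11010 c4P11011
noncomputable def c4P110 : BT Pf := .node c4P1100 c4P1101
noncomputable def c4P1110000 : BT Pf := (.node (.node (.node (.node (.node (.node (.node (.leaf .df) (.leaf (.cyc (nat_lit 29) [(nat_lit 1743), (nat_lit 8197)]))) (.node (.leaf .df) (.leaf (.cyc (nat_lit 12) [(nat_lit 11984), (nat_lit 12292), (nat_lit 12293), (nat_lit 3495), (nat_lit 1399), (nat_lit 4752), (nat_lit 1404), (nat_lit 3507), (nat_lit 9838), (nat_lit 3519)])))) (.node (.node (.leaf .df) (.leaf (.cyc (nat_lit 15) [(nat_lit 10246), (nat_lit 1999), (nat_lit 5521), (nat_lit 5316), (nat_lit 6837), (nat_lit 6839), (nat_lit 6840), (nat_lit 8664), (nat_lit 6545)]))) (.node (.leaf (.cyc (nat_lit 17) [(nat_lit 1875), (nat_lit 6150), (nat_lit 721)])) (.leaf .df)))) (.node (.node (.node (.leaf .df) (.leaf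 (.cyc (nat_lit 28) [(nat_lit 7382), (nat_lit 9218)]))) (.node (.leaf (.cyc (nat_lit 2) [(nat_lit 903), (nat_lit 902)])) (.leaf .df))) (.node (.node (.leaf .df) (.leaf (.cyc (nat_lit 23) [(nat_lit 3814), (nat_lit 5946), (nat_lit 7698), (nat_lit 9033), (nat_lit 1898), (nat_lit 9037), (nat_lit 3856), (nat_lit 11269), (nat_lit 11270)]))) (.node (.leaf (.cyc (nat_lit 5) [(nat_lit 2820), (nat_lit 2819)])) (.leaf .df))))) (.node (.node (.node (.node (.leaf .df) (.leaf (.cyc (nat_lit 28) [(nat_lit 5414), (nat_lit 8705)]))) (.node (.leaf (.cyc (nat_lit 5) [(nat_lit 330), (nat_lit 329)])) (.leaf (.cyc (nat_lit 8) [(nat_lit 9613), (nat_lit 1338), (nat_lit 5485), (nat_lit 2876), (nat_lit 4256)])))) (.node (.node (.leaf .df) (.leaf (.cyc (nat_lit 17) [(nat_lit 10733), (nat_lit 10756), (nat_lit 2178)]))) (.node (.leaf (.cyc (nat_lit 8) [(nat_lit 2016), (nat_lit 4940), (nat_lit 6202), (nat_lit 6662), (nat_lit 2449)])) (.leaf .df)))) (.node (.node (.node (.leaf .df)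 (.leaf (.cyc (nat_lit 8) [(nat_lit 9732), (nat_lit 3382), (nat_lit 1317), (nat_lit 1315), (nat_lit 8112)]))) (.node (.leaf (.cyc (nat_lit 5) [(nat_lit 1398), (nat_lit 1397)])) (.leaf .df))) (.node (.node (.leaf .df) (.leaf (.cyc (nat_lit 1) [(nat_lit 6297), (nat_lit 4022)]))) (.node (.leaf (.cyc (nat_lit 4) [(nat_lit 2719), (nat_lit 5750), (nat_lit 7048), (nat_lit 5971), (nat_lit 7686)])) (.leaf .df)))))) (.node (.node (.node (.node (.node (.leaf .df) (.leaf (.cyc (nat_lit 29) [(nat_lit 7232), (nat_lit 8454), (nat_lit 6339)]))) (.node (.leaf (.cyc (nat_lit 4) [(nat_lit 6), (nat_lit 0), (nat_lit 4351), (nat_lit 4353), (nat_lit 10)])) (.leaf (.cyc (nat_lit 20) [(nat_lit 3678), (nat_lit 9983), (nat_lit 3564), (nat_lit 8865), (nat_lit 2577), (nat_lit 2579), (nat_lit 4199)])))) (.node (.node (.leaf .df) (.leaf (.cyc (nat_lit 6) [(nat_lit 3693), (nat_lit 6316)]))) (.node (.leaf (.cyc (nat_lit 8) [(nat_lit 1081), (nat_lit 362), (nat_lit 365), (nat_lit 1088),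 (nat_lit 6406)])) (.leaf .df)))) (.node (.node (.node (.leaf .df) (.leaf (.cyc (nat_lit 1) [(nat_lit 8758), (nat_lit 9476)]))) (.node (.leaf (.cyc (nat_lit 6) [(nat_lit 1190), (nat_lit 1189)])) (.leaf .df))) (.node (.node (.leaf .df) (.leaf (.cyc (nat_lit 22) [(nat_lit 11522), (nat_lit 11519), (nat_lit 2139), (nat_lit 4980), (nat_lit 9240), (nat_lit 6302), (nat_lit 11449)]))) (.node (.leaf (.cyc (nat_lit 2) [(nat_lit 3060), (nat_lit 3059)])) (.leaf .df))))) (.node (.node (.node (.node (.leaf .df) (.leaf (.cyc (nat_lit 19) [(nat_lit 8817), (nat_lit 8963)]))) (.node (.leaf (.cyc (nat_lit 5) [(nat_lit 628), (nat_lit 627)])) (.leaf (.cyc (nat_lit 14) [(nat_lit 10497), (nat_lit 4305)])))) (.node (.node (.leaf .df) (.leaf (.cyc (nat_lit 4) [(nat_lit 3812), (nat_lit 7740), (nat_lit 1247), (nat_lit 5451), (nat_lit 2119)]))) (.node (.leaf (.cyc (nat_lit 25) [(nat_lit 6495), (nat_lit 6916), (nat_lit 1716)])) (.leaf .df)))) (.node (.node (.node (.leaf .df) (.leaf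 (.cyc (nat_lit 29) [(nat_lit 5734), (nat_lit 9989)]))) (.node (.leaf (.cyc (nat_lit 2) [(nat_lit 1657), (nat_lit 1656)])) (.leaf .df))) (.node (.node (.leaf .df) (.leaf (.cyc (nat_lit 17) [(nat_lit 7587), (nat_lit 12036)]))) (.node (.leaf (.cyc (nat_lit 29) [(nat_lit 5276), (nat_lit 7938), (nat_lit 2858)])) (.leaf .df))))))) (.node (.node (.node (.node (.node (.node (.leaf .df) (.leaf (.cyc (nat_lit 29) [(nat_lit 2977), (nat_lit 8324)]))) (.node (.leaf .df) (.leaf (.cyc (nat_lit 22) [(nat_lit 12415), (nat_lit 9786), (nat_lit 12125), (nat_lit 4078), (nat_lit 2170), (nat_lit 5672), (nat_lit 2589)])))) (.node (.node (.leaf .df) (.leaf (.cyc (nat_lit 26) [(nat_lit 1603), (nat_lit 557), (nat_lit 4487), (nat_lit 553), (nat_lit 4895), (nat_lit 5784), (nat_lit 1529), (nat_lit 1527), (nat_lit 3673)]))) (.node (.leaf (.cyc (nat_lit 5) [(nat_lit 2077), (nat_lit 2076)])) (.leaf .df)))) (.node (.node (.node (.leaf .df) (.leaf (.cyc (nat_lit 29) [(nat_lit 7470), (nat_lit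 9349)]))) (.node (.leaf (.cyc (nat_lit 9) [(nat_lit 5254), (nat_lit 1042), (nat_lit 351), (nat_lit 4438), (nat_lit 348), (nat_lit 1035)])) (.leaf .df))) (.node (.node (.leaf .df) (.leaf (.cyc (nat_lit 29) [(nat_lit 2078), (nat_lit 11397)]))) (.node (.leaf (.cyc (nat_lit 5) [(nat_lit 2958), (nat_lit 7099)])) (.leaf .df))))) (.node (.node (.node (.node (.leaf .df) (.leaf (.cyc (nat_lit 17) [(nat_lit 6552), (nat_lit 8834), (nat_lit 8078)]))) (.node (.leaf (.cyc (nat_lit 1) [(nat_lit 4656), (nat_lit 4742)])) (.leaf (.cyc (nat_lit 2) [(nat_lit 4282), (nat_lit 11319)])))) (.node (.node (.leaf .df) (.leaf (.cyc (nat_lit 14) [(nat_lit 7514), (nat_lit 3782)]))) (.node (.leaf (.cyc (nat_lit 5) [(nat_lit 2537), (nat_lit 2536)])) (.leaf .df)))) (.node (.node (.node (.leaf .df) (.leaf (.cyc (nat_lit 4) [(nat_lit 3523), (nat_lit 5655), (nat_lit 2201), (nat_lit 9772), (nat_lit 9773)]))) (.node (.leaf (.cyc (nat_lit 2) [(nat_lit 1508), (nat_lit 5208)])) (.leaf .df)))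 (.node (.node (.leaf .df) (.leaf (.cyc (nat_lit 3) [(nat_lit 6314), (nat_lit 11015), (nat_lit 11017), (nat_lit 6309), (nat_lit 4056)]))) (.node (.leaf (.cyc (nat_lit 4) [(nat_lit 7814), (nat_lit 1646), (nat_lit 571), (nat_lit 574), (nat_lit 1654)])) (.leaf .df)))))) (.node (.node (.node (.node (.node (.leaf .df) (.leaf (.cyc (nat_lit 27) [(nat_lit 5213), (nat_lit 2726), (nat_lit 8580), (nat_lit 5460), (nat_lit 643), (nat_lit 4510), (nat_lit 645), (nat_lit 1849)]))) (.node (.leaf (.cyc (nat_lit 6) [(nat_lit 178), (nat_lit 177)])) (.leaf (.cyc (nat_lit 11) [(nat_lit 2696), (nat_lit 5398), (nat_lit 1203), (nat_lit 4683), (nat_lit 973), (nat_lit 2670), (nat_lit 4226)])))) (.node (.node (.leaf .df) (.leaf (.cyc (nat_lit 2) [(nat_lit 3712), (nat_lit 3711)]))) (.node (.leaf (.cyc (nat_lit 6) [(nat_lit 2327), (nat_lit 6517)])) (.leaf .df)))) (.node (.node (.node (.leaf .df) (.leaf (.cyc (nat_lit 29) [(nat_lit 3340), (nat_lit 9605)]))) (.node (.leaf (.cyc (nat_lit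 29) [(nat_lit 4794), (nat_lit 5510), (nat_lit 892)])) (.leaf .df))) (.node (.node (.leaf .df) (.leaf (.cyc (nat_lit 3) [(nat_lit 10767), (nat_lit 7129), (nat_lit 10381), (nat_lit 10379), (nat_lit 11652)]))) (.node (.leaf (.cyc (nat_lit 22) [(nat_lit 3188), (nat_lit 6962), (nat_lit 2645), (nat_lit 965), (nat_lit 964), (nat_lit 6498), (nat_lit 6913)])) (.leaf .df))))) (.node (.node (.node (.node (.leaf .df) (.leaf (.cyc (nat_lit 21) [(nat_lit 2658), (nat_lit 5189), (nat_lit 2655), (nat_lit 9093), (nat_lit 3218)]))) (.node (.leaf (.cyc (nat_lit 2) [(nat_lit 771), (nat_lit 770)])) (.leaf (.cyc (nat_lit 27) [(nat_lit 4332), (nat_lit 9869), (nat_lit 1967), (nat_lit 6392), (nat_lit 3522), (nat_lit 13173), (nat_lit 13172)])))) (.node (.node (.leaf .df) (.leaf (.cyc (nat_lit 14) [(nat_lit 8673), (nat_lit 3851)]))) (.node (.leaf (.cyc (nat_lit 17) [(nat_lit 2098), (nat_lit 7045)])) (.leaf .df)))) (.node (.node (.node (.leaf .df) (.leaf (.cyc (nat_lit 4) [(nat_lit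 3614), (nat_lit 1473), (nat_lit 504), (nat_lit 507), (nat_lit 1478)]))) (.node (.leaf (.cyc (nat_lit 6) [(nat_lit 1795), (nat_lit 1794)])) (.leaf .df))) (.node (.node (.leaf .df) (.leaf (.cyc (nat_lit 3) [(nat_lit 11054), (nat_lit 3221), (nat_lit 3219), (nat_lit 7598), (nat_lit 4118)]))) (.node (.leaf (.cyc (nat_lit 17) [(nat_lit 2229), (nat_lit 8070)])) (.leaf .df))))))))
noncomputable def c4P1110001 : BT Pf := (.node (.node (.node (.node (.node (.node (.node (.leaf .df) (.leaf (.cyc (nat_lit 10) [(nat_lit 2831), (nat_lit 1044), (nat_lit 1042), (nat_lit 6169), (nat_lit 8261)]))) (.node (.leaf .df) (.leaf (.cyc (nat_lit 8) [(nat_lit 11662), (nat_lit 11933), (nat_lit 11999), (nat_lit 11995), (nat_lit 12356)])))) (.node (.node (.leaf .df) (.leaf (.cyc (nat_lit 0) [(nat_lit 8949), (nat_lit 3657)]))) (.node (.leaf (.cyc (nat_lit 5) [(nat_lit 2001), (nat_lit 2000)])) (.leaf .df)))) (.node (.node (.node (.leaf .df) (.leaf (.cyc (nat_lit 11) [(nat_lit 2255),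 (nat_lit 5033), (nat_lit 2259), (nat_lit 9068), (nat_lit 9061), (nat_lit 9285), (nat_lit 3129), (nat_lit 3131)]))) (.node (.leaf (.cyc (nat_lit 7) [(nat_lit 971), (nat_lit 324), (nat_lit 102), (nat_lit 4411), (nat_lit 265), (nat_lit 4735), (nat_lit 477)])) (.leaf .df))) (.node (.node (.leaf .df) (.leaf (.cyc (nat_lit 22) [(nat_lit 11334), (nat_lit 11276), (nat_lit 3857), (nat_lit 1723), (nat_lit 4846), (nat_lit 1717), (nat_lit 7914)]))) (.node (.leaf (.cyc (nat_lit 1) [(nat_lit 6629), (nat_lit 2913)])) (.leaf .df))))) (.node (.node (.node (.node (.leaf .df) (.leaf (.cyc (nat_lit 19) [(nat_lit 3321), (nat_lit 8773)]))) (.node (.leaf (.cyc (nat_lit 7) [(nat_lit 363), (nat_lit 116), (nat_lit 4425), (nat_lit 4430), (nat_lit 4429), (nat_lit 128), (nat_lit 405)])) (.leaf (.cyc (nat_lit 22) [(nat_lit 12869), (nat_lit 11991), (nat_lit 12516), (nat_lit 12512), (nat_lit 12195), (nat_lit 6914), (nat_lit 12510)])))) (.node (.node (.leaf .df) (.leaf (.cyc (nat_lit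 28) [(nat_lit 3669), (nat_lit 10822)]))) (.node (.leaf (.cyc (nat_lit 6) [(nat_lit 2468), (nat_lit 2467)])) (.leaf .df)))) (.node (.node (.node (.leaf .df) (.leaf (.cyc (nat_lit 20) [(nat_lit 7510), (nat_lit 3139), (nat_lit 1182), (nat_lit 1183), (nat_lit 9277), (nat_lit 1392), (nat_lit 3484)]))) (.node (.leaf (.cyc (nat_lit 7) [(nat_lit 5545), (nat_lit 444), (nat_lit 4460), (nat_lit 198), (nat_lit 4720), (nat_lit 1309), (nat_lit 5702)])) (.leaf .df))) (.node (.node (.leaf .df) (.leaf (.cyc (nat_lit 6) [(nat_lit 4042), (nat_lit 4041)]))) (.node (.leaf (.cyc (nat_lit 29) [(nat_lit 1578), (nat_lit 7746), (nat_lit 1147)])) (.leaf .df)))))) (.node (.node (.node (.node (.node (.leaf .df) (.leaf (.cyc (nat_lit 5) [(nat_lit 8518), (nat_lit 6622)]))) (.node (.leaf (.cyc (nat_lit 4) [(nat_lit 96), (nat_lit 26), (nat_lit 25), (nat_lit 90), (nat_lit 4422)])) (.leaf (.cyc (nat_lit 0) [(nat_lit 9462), (nat_lit 12614)])))) (.node (.node (.leaf .df) (.leaf (.cyc (nat_lit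 29) [(nat_lit 10084), (nat_lit 10565)]))) (.node (.leaf (.cyc (nat_lit 3) [(nat_lit 2271), (nat_lit 6470), (nat_lit 990), (nat_lit 4684), (nat_lit 1207)])) (.leaf .df)))) (.node (.node (.node (.leaf .df) (.leaf (.cyc (nat_lit 22) [(nat_lit 9540), (nat_lit 3375), (nat_lit 1308), (nat_lit 5536), (nat_lit 5582), (nat_lit 4764), (nat_lit 1457)]))) (.node (.leaf (.cyc (nat_lit 2) [(nat_lit 1242), (nat_lit 1241)])) (.leaf .df))) (.node (.node (.leaf .df) (.leaf (.cyc (nat_lit 13) [(nat_lit 2647), (nat_lit 5188), (nat_lit 2652), (nat_lit 8161), (nat_lit 8164), (nat_lit 7298), (nat_lit 3973)]))) (.node (.leaf (.cyc (nat_lit 3) [(nat_lit 3110), (nat_lit 1170), (nat_lit 4673), (nat_lit 1175), (nat_lit 3124)])) (.leaf .df))))) (.node (.node (.node (.node (.leaf .df) (.leaf (.cyc (nat_lit 19) [(nat_lit 2284), (nat_lit 9026)]))) (.node (.leaf (.cyc (nat_lit 8) [(nat_lit 229), (nat_lit 227), (nat_lit 699), (nat_lit 4933), (nat_lit 4799)])) (.leaf (.cyc (nat_lit 5)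 [(nat_lit 4318), (nat_lit 11000)])))) (.node (.node (.leaf .df) (.leaf (.cyc (nat_lit 3) [(nat_lit 11078), (nat_lit 10279), (nat_lit 6796), (nat_lit 6797), (nat_lit 2784)]))) (.node (.leaf (.cyc (nat_lit 6) [(nat_lit 2662), (nat_lit 2661)])) (.leaf .df)))) (.node (.node (.node (.leaf .df) (.leaf (.cyc (nat_lit 21) [(nat_lit 3594), (nat_lit 9941), (nat_lit 2738), (nat_lit 2735), (nat_lit 7075)]))) (.node (.leaf (.cyc (nat_lit 5) [(nat_lit 1731), (nat_lit 5939)])) (.leaf .df))) (.node (.node (.leaf .df) (.leaf (.cyc (nat_lit 21) [(nat_lit 10814), (nat_lit 6794), (nat_lit 10696), (nat_lit 9015), (nat_lit 4108)]))) (.node (.leaf (.cyc (nat_lit 19) [(nat_lit 2939), (nat_lit 8004)])) (.leaf .df))))))) (.node (.node (.node (.node (.node (.node (.leaf .df) (.leaf (.cyc (nat_lit 28) [(nat_lit 8085), (nat_lit 8384)]))) (.node (.leaf .df) (.leaf (.cyc (nat_lit 6) [(nat_lit 4185), (nat_lit 12331)])))) (.node (.node (.leaf .df) (.leaf (.cyc (nat_lit 8) [(nat_lit 9476),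 (nat_lit 3311), (nat_lit 5469), (nat_lit 3308), (nat_lit 10434)]))) (.node (.leaf (.cyc (nat_lit 5) [(nat_lit 2150), (nat_lit 2149)])) (.leaf .df)))) (.node (.node (.node (.leaf .df) (.leaf (.cyc (nat_lit 17) [(nat_lit 3318), (nat_lit 9414)]))) (.node (.leaf (.cyc (nat_lit 2) [(nat_lit 1113), (nat_lit 1112)])) (.leaf .df))) (.node (.node (.leaf .df) (.leaf (.cyc (nat_lit 9) [(nat_lit 10238), (nat_lit 10153), (nat_lit 10155), (nat_lit 6078), (nat_lit 3930)]))) (.node (.leaf (.cyc (nat_lit 2) [(nat_lit 3006), (nat_lit 3005)])) (.leaf .df))))) (.node (.node (.node (.node (.leaf .df) (.leaf (.cyc (nat_lit 5) [(nat_lit 8902), (nat_lit 6373)]))) (.node (.leaf (.cyc (nat_lit 2) [(nat_lit 552), (nat_lit 551)])) (.leaf (.cyc (nat_lit 22) [(nat_lit 12997), (nat_lit 11341), (nat_lit 11288), (nat_lit 12476), (nat_lit 1677), (nat_lit 1679), (nat_lit 3821)])))) (.node (.node (.leaf .df) (.leaf (.cyc (nat_lit 13) [(nat_lit 3798), (nat_lit 3796), (nat_lit 10948), (nat_lit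 3661), (nat_lit 5919), (nat_lit 6833), (nat_lit 6653)]))) (.node (.leaf (.cyc (nat_lit 10) [(nat_lit 6368), (nat_lit 940), (nat_lit 4603), (nat_lit 942), (nat_lit 2594)])) (.leaf .df)))) (.node (.node (.node (.leaf .df) (.leaf (.cyc (nat_lit 27) [(nat_lit 3448), (nat_lit 5616), (nat_lit 9918), (nat_lit 2224), (nat_lit 8392), (nat_lit 8496), (nat_lit 1557), (nat_lit 1559)]))) (.node (.leaf (.cyc (nat_lit 4) [(nat_lit 1586), (nat_lit 550), (nat_lit 4486), (nat_lit 546), (nat_lit 1570)])) (.leaf .df))) (.node (.node (.leaf .df) (.leaf (.cyc (nat_lit 17) [(nat_lit 11324), (nat_lit 11972)]))) (.node (.leaf (.cyc (nat_lit 19) [(nat_lit 7457), (nat_lit 7873)])) (.leaf .df)))))) (.node (.node (.node (.node (.node (.leaf .df) (.leaf (.cyc (nat_lit 29) [(nat_lit 3025), (nat_lit 8644)]))) (.node (.leaf (.cyc (nat_lit 0) [(nat_lit 4467), (nat_lit 249)])) (.leaf (.cyc (nat_lit 28) [(nat_lit 12739), (nat_lit 12742)])))) (.node (.node (.leaf .df) (.leaf (.cyc (nat_lit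 25) [(nat_lit 2540), (nat_lit 10691)]))) (.node (.leaf (.cyc (nat_lit 6) [(nat_lit 2389), (nat_lit 2388)])) (.leaf .df)))) (.node (.node (.node (.leaf .df) (.leaf (.cyc (nat_lit 14) [(nat_lit 8125), (nat_lit 3432)]))) (.node (.leaf (.cyc (nat_lit 5) [(nat_lit 1324), (nat_lit 1323)])) (.leaf .df))) (.node (.node (.leaf .df) (.leaf (.cyc (nat_lit 21) [(nat_lit 3687), (nat_lit 5877), (nat_lit 3775), (nat_lit 10855), (nat_lit 4006)]))) (.node (.leaf (.cyc (nat_lit 4) [(nat_lit 3240), (nat_lit 5423), (nat_lit 7621), (nat_lit 1245), (nat_lit 1243)])) (.leaf .df))))) (.node (.node (.node (.node (.leaf .df) (.leaf (.cyc (nat_lit 6) [(nat_lit 9151), (nat_lit 9154), (nat_lit 8955)]))) (.node (.leaf (.cyc (nat_lit 13) [(nat_lit 829), (nat_lit 274), (nat_lit 84), (nat_lit 4367), (nat_lit 4387), (nat_lit 164), (nat_lit 513)])) (.leaf (.cyc (nat_lit 11) [(nat_lit 12703), (nat_lit 12202), (nat_lit 11125), (nat_lit 12084), (nat_lit 12922), (nat_lit 13194), (nat_lit 4345)]))))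 (.node (.node (.leaf .df) (.leaf (.cyc (nat_lit 22) [(nat_lit 11206), (nat_lit 8717), (nat_lit 2074), (nat_lit 8710), (nat_lit 4660), (nat_lit 1117), (nat_lit 2993)]))) (.node (.leaf (.cyc (nat_lit 0) [(nat_lit 7080), (nat_lit 2760)])) (.leaf .df)))) (.node (.node (.node (.leaf .df) (.leaf (.cyc (nat_lit 31) [(nat_lit 7008), (nat_lit 9124), (nat_lit 2834), (nat_lit 9115), (nat_lit 3121), (nat_lit 10182), (nat_lit 10178), (nat_lit 6764)]))) (.node (.leaf (.cyc (nat_lit 0) [(nat_lit 1862), (nat_lit 6086)])) (.leaf .df))) (.node (.node (.leaf .df) (.leaf (.cyc (nat_lit 13) [(nat_lit 11336), (nat_lit 11338), (nat_lit 11286), (nat_lit 9702), (nat_lit 2327), (nat_lit 2325), (nat_lit 4134)]))) (.node (.leaf (.cyc (nat_lit 29) [(nat_lit 2959), (nat_lit 8133)])) (.leaf .df))))))))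
noncomputable def c4P111000 : BT Pf := .node c4P1110000 c4P1110001
noncomputable def c4P1110010 : BT Pf := (.node (.node (.node (.node (.node (.node (.node (.leaf .df) (.leaf (.cyc (nat_lit 28) [(nat_lit 7136), (nat_lit 8220), (nat_lit 3037)]))) (.node (.leaf .df) (.leaf (.cyc (nat_lit 4) [(nat_lit 11581), (nat_lit 11886), (nat_lit 11884), (nat_lit 9739), (nat_lit 12325)])))) (.node (.node (.leaf .df) (.leaf (.cyc (nat_lit 6) [(nat_lit 3648), (nat_lit 8520)]))) (.node (.leaf (.cyc (nat_lit 5) [(nat_lit 1971), (nat_lit 1970)])) (.leaf .df)))) (.node (.node (.node (.leaf .df) (.leaf (.cyc (nat_lit 20) [(nat_lit 5950), (nat_lit 5952), (nat_lit 5951), (nat_lit 6938), (nat_lit 3092), (nat_lit 9235), (nat_lit 9236)]))) (.node (.leaf (.cyc (nat_lit 2) [(nat_lit 937), (nat_lit 936)])) (.leaf .df))) (.node (.node (.leaf .df) (.leaf (.cyc (nat_lit 8) [(nat_lit 3897), (nat_lit 6000), (nat_lit 5999), (nat_lit 2145), (nat_lit 8457)]))) (.node (.leaf (.cyc (nat_lit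 3) [(nat_lit 7186), (nat_lit 7194), (nat_lit 7206), (nat_lit 2873), (nat_lit 2874)])) (.leaf .df))))) (.node (.node (.node (.node (.leaf .df) (.leaf (.cyc (nat_lit 19) [(nat_lit 8146), (nat_lit 8733), (nat_lit 3180)]))) (.node (.leaf (.cyc (nat_lit 22) [(nat_lit 4645), (nat_lit 370), (nat_lit 118), (nat_lit 4375), (nat_lit 77), (nat_lit 254), (nat_lit 4555)])) (.leaf (.cyc (nat_lit 8) [(nat_lit 4262), (nat_lit 7271), (nat_lit 10971), (nat_lit 8242), (nat_lit 3039)])))) (.node (.node (.leaf .df) (.leaf (.cyc (nat_lit 13) [(nat_lit 10282), (nat_lit 10281), (nat_lit 9346), (nat_lit 5184), (nat_lit 4817), (nat_lit 1614), (nat_lit 3755)]))) (.node (.leaf (.cyc (nat_lit 18) [(nat_lit 2251), (nat_lit 6693)])) (.leaf .df)))) (.node (.node (.node (.leaf .df) (.leaf (.cyc (nat_lit 5) [(nat_lit 3463), (nat_lit 3462)]))) (.node (.leaf (.cyc (nat_lit 11) [(nat_lit 940), (nat_lit 4758), (nat_lit 490), (nat_lit 156), (nat_lit 157), (nat_lit 492), (nat_lit 1434)])) (.leaf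 .df))) (.node (.node (.leaf .df) (.leaf (.cyc (nat_lit 6) [(nat_lit 4032), (nat_lit 9421)]))) (.node (.leaf (.cyc (nat_lit 28) [(nat_lit 2542), (nat_lit 7718), (nat_lit 1859)])) (.leaf .df)))))) (.node (.node (.node (.node (.node (.leaf .df) (.leaf (.cyc (nat_lit 31) [(nat_lit 5967), (nat_lit 1693), (nat_lit 5815), (nat_lit 7705), (nat_lit 8484), (nat_lit 5794), (nat_lit 8404)]))) (.node (.leaf (.cyc (nat_lit 6) [(nat_lit 56), (nat_lit 55)])) (.leaf (.cyc (nat_lit 9) [(nat_lit 12482), (nat_lit 12480), (nat_lit 11975), (nat_lit 6881), (nat_lit 4206)])))) (.node (.node (.leaf .df) (.leaf (.cyc (nat_lit 19) [(nat_lit 2995), (nat_lit 10533)]))) (.node (.leaf (.cyc (nat_lit 5) [(nat_lit 2249), (nat_lit 2248)])) (.leaf .df)))) (.node (.node (.node (.leaf .df) (.leaf (.cyc (nat_lit 6) [(nat_lit 3356), (nat_lit 6402)]))) (.node (.leaf (.cyc (nat_lit 1) [(nat_lit 5329), (nat_lit 1216)])) (.leaf .df))) (.node (.node (.leaf .df) (.leaf (.cyc (nat_lit 19) [(nat_lit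 3848), (nat_lit 11557)]))) (.node (.leaf (.cyc (nat_lit 6) [(nat_lit 3087), (nat_lit 3086)])) (.leaf .df))))) (.node (.node (.node (.node (.leaf .df) (.leaf (.cyc (nat_lit 29) [(nat_lit 6051), (nat_lit 8991)]))) (.node (.leaf (.cyc (nat_lit 2) [(nat_lit 667), (nat_lit 666)])) (.leaf (.cyc (nat_lit 3) [(nat_lit 13094), (nat_lit 12783), (nat_lit 11868), (nat_lit 11869), (nat_lit 11855)])))) (.node (.node (.leaf .df) (.leaf (.cyc (nat_lit 0) [(nat_lit 9637), (nat_lit 11046)]))) (.node (.leaf (.cyc (nat_lit 5) [(nat_lit 2641), (nat_lit 2640)])) (.leaf .df)))) (.node (.node (.node (.leaf .df) (.leaf (.cyc (nat_lit 9) [(nat_lit 7518), (nat_lit 7493), (nat_lit 9278), (nat_lit 9448), (nat_lit 3579)]))) (.node (.leaf (.cyc (nat_lit 2) [(nat_lit 1694), (nat_lit 5815)])) (.leaf .df))) (.node (.node (.leaf .df) (.leaf (.cyc (nat_lit 2) [(nat_lit 4100), (nat_lit 8909)]))) (.node (.leaf (.cyc (nat_lit 28) [(nat_lit 7228), (nat_lit 7974)])) (.leaf .df))))))) (.node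 (.node (.node (.node (.node (.node (.leaf .df) (.leaf (.cyc (nat_lit 26) [(nat_lit 7089), (nat_lit 8274), (nat_lit 680), (nat_lit 4528), (nat_lit 685), (nat_lit 1956), (nat_lit 6171), (nat_lit 1981), (nat_lit 8358)]))) (.node (.leaf .df) (.leaf (.cyc (nat_lit 1) [(nat_lit 9550), (nat_lit 12454)])))) (.node (.node (.leaf .df) (.leaf (.cyc (nat_lit 13) [(nat_lit 3339), (nat_lit 10399), (nat_lit 5020), (nat_lit 2238), (nat_lit 9579), (nat_lit 3395), (nat_lit 3396)]))) (.node (.leaf (.cyc (nat_lit 6) [(nat_lit 2116), (nat_lit 6284)])) (.leaf .df)))) (.node (.node (.node (.leaf .df) (.leaf (.cyc (nat_lit 19) [(nat_lit 7657), (nat_lit 9379)]))) (.node (.leaf (.cyc (nat_lit 2) [(nat_lit 1079), (nat_lit 1078)])) (.leaf .df))) (.node (.node (.leaf .df) (.leaf (.cyc (nat_lit 1) [(nat_lit 9483), (nat_lit 3926)]))) (.node (.leaf (.cyc (nat_lit 0) [(nat_lit 5357), (nat_lit 2984)])) (.leaf .df))))) (.node (.node (.node (.node (.leaf .df) (.leaf (.cyc (nat_lit 25) [(nat_lit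 6216), (nat_lit 8869)]))) (.node (.leaf (.cyc (nat_lit 1) [(nat_lit 4501), (nat_lit 512)])) (.leaf (.cyc (nat_lit 25) [(nat_lit 12765), (nat_lit 12963)])))) (.node (.node (.leaf .df) (.leaf (.cyc (nat_lit 14) [(nat_lit 10882), (nat_lit 10918)]))) (.node (.leaf (.cyc (nat_lit 2) [(nat_lit 2572), (nat_lit 6664)])) (.leaf .df)))) (.node (.node (.node (.leaf .df) (.leaf (.cyc (nat_lit 6) [(nat_lit 3542), (nat_lit 6876)]))) (.node (.leaf (.cyc (nat_lit 8) [(nat_lit 1545), (nat_lit 5513), (nat_lit 4590), (nat_lit 889), (nat_lit 5498)])) (.leaf .df))) (.node (.node (.leaf .df) (.leaf (.cyc (nat_lit 20) [(nat_lit 3530), (nat_lit 9879), (nat_lit 11938), (nat_lit 4064), (nat_lit 8335), (nat_lit 6612), (nat_lit 11940)]))) (.node (.leaf (.cyc (nat_lit 17) [(nat_lit 5667), (nat_lit 7843), (nat_lit 3245)])) (.leaf .df)))))) (.node (.node (.node (.node (.node (.leaf .df) (.leaf (.cyc (nat_lit 3) [(nat_lit 6403), (nat_lit 6402), (nat_lit 8614), (nat_lit 8101), (nat_lit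 1847)]))) (.node (.leaf (.cyc (nat_lit 17) [(nat_lit 4517), (nat_lit 4518)])) (.leaf (.cyc (nat_lit 5) [(nat_lit 4234), (nat_lit 11199)])))) (.node (.node (.leaf .df) (.leaf (.cyc (nat_lit 11) [(nat_lit 3335), (nat_lit 5591), (nat_lit 3400), (nat_lit 9603), (nat_lit 10661), (nat_lit 3003), (nat_lit 3004)]))) (.node (.leaf (.cyc (nat_lit 6) [(nat_lit 6566), (nat_lit 6521)])) (.leaf .df)))) (.node (.node (.node (.leaf .df) (.leaf (.cyc (nat_lit 6) [(nat_lit 3413), (nat_lit 3412)]))) (.node (.leaf (.cyc (nat_lit 28) [(nat_lit 1299), (nat_lit 5542), (nat_lit 957)])) (.leaf .df))) (.node (.node (.leaf .df) (.leaf (.cyc (nat_lit 15) [(nat_lit 2674), (nat_lit 2676), (nat_lit 11686), (nat_lit 10738), (nat_lit 10340), (nat_lit 10342), (nat_lit 11062), (nat_lit 11063), (nat_lit 11093), (nat_lit 11169)]))) (.node (.leaf (.cyc (nat_lit 29) [(nat_lit 3011), (nat_lit 7589)])) (.leaf .df))))) (.node (.node (.node (.node (.leaf .df) (.leaf (.cyc (nat_lit 4) [(nat_lit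 2843), (nat_lit 1048), (nat_lit 1045), (nat_lit 2834), (nat_lit 9124), (nat_lit 7008)]))) (.node (.leaf (.cyc (nat_lit 8) [(nat_lit 4619), (nat_lit 4780), (nat_lit 263), (nat_lit 261), (nat_lit 799)])) (.leaf (.cyc (nat_lit 14) [(nat_lit 11818), (nat_lit 4339)])))) (.node (.node (.leaf .df) (.leaf (.cyc (nat_lit 18) [(nat_lit 3326), (nat_lit 11174)]))) (.node (.leaf (.cyc (nat_lit 19) [(nat_lit 7006), (nat_lit 7077)])) (.leaf .df)))) (.node (.node (.node (.leaf .df) (.leaf (.cyc (nat_lit 29) [(nat_lit 8647), (nat_lit 10149)]))) (.node (.leaf (.cyc (nat_lit 6) [(nat_lit 1829), (nat_lit 1828)])) (.leaf .df))) (.node (.node (.leaf .df) (.leaf (.cyc (nat_lit 8) [(nat_lit 4126), (nat_lit 2302), (nat_lit 2305), (nat_lit 12077), (nat_lit 12075)]))) (.node (.leaf (.cyc (nat_lit 32) [(nat_lit 6466), (nat_lit 5769), (nat_lit 5996), (nat_lit 1766), (nat_lit 8097), (nat_lit 1480), (nat_lit 4773), (nat_lit 5588), (nat_lit 1335), (nat_lit 1337)])) (.leaf .df))))))))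
noncomputable def c4P1110011 : BT Pf := (.node (.node (.node (.node (.node (.node (.node (.leaf .df) (.leaf (.cyc (nat_lit 18) [(nat_lit 7290), (nat_lit 8286)]))) (.node (.leaf .df) (.leaf (.cyc (nat_lit 13) [(nat_lit 9501), (nat_lit 11439), (nat_lit 10686), (nat_lit 10409), (nat_lit 10485), (nat_lit 10489), (nat_lit 12390)])))) (.node (.node (.leaf .df) (.leaf (.cyc (nat_lit 5) [(nat_lit 3669), (nat_lit 3668)]))) (.node (.leaf (.cyc (nat_lit 3) [(nat_lit 6244), (nat_lit 2033), (nat_lit 713), (nat_lit 714), (nat_lit 2037)])) (.leaf .df)))) (.node (.node (.node (.leaf .df) (.leaf (.cyc (nat_lit 25) [(nat_lit 6015), (nat_lit 9318), (nat_lit 3114)]))) (.node (.leaf (.cyc (nat_lit 5) [(nat_lit 1014), (nat_lit 1013)])) (.leaf .df))) (.node (.node (.leaf .df) (.leaf (.cyc (nat_lit 3) [(nat_lit 11366), (nat_lit 6623), (nat_lit 8519), (nat_lit 6798), (nat_lit 11310)]))) (.node (.leaf (.cyc (nat_lit 5) [(nat_lit 2936), (nat_lit 2935)])) (.leaf .df))))) (.node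 (.node (.node (.node (.leaf .df) (.leaf (.cyc (nat_lit 29) [(nat_lit 5835), (nat_lit 8806), (nat_lit 2524)]))) (.node (.leaf (.cyc (nat_lit 22) [(nat_lit 440), (nat_lit 4459), (nat_lit 4420), (nat_lit 4520), (nat_lit 4374), (nat_lit 109), (nat_lit 346)])) (.leaf (.cyc (nat_lit 2) [(nat_lit 4273), (nat_lit 12732)])))) (.node (.node (.leaf .df) (.leaf (.cyc (nat_lit 1) [(nat_lit 9226), (nat_lit 10853)]))) (.node (.leaf (.cyc (nat_lit 0) [(nat_lit 6657), (nat_lit 2512)])) (.leaf .df)))) (.node (.node (.node (.leaf .df) (.leaf (.cyc (nat_lit 4) [(nat_lit 3497), (nat_lit 5640), (nat_lit 3499), (nat_lit 9829), (nat_lit 9830)]))) (.node (.leaf (.cyc (nat_lit 6) [(nat_lit 1481), (nat_lit 1480)])) (.leaf .df))) (.node (.node (.leaf .df) (.leaf (.cyc (nat_lit 18) [(nat_lit 11741), (nat_lit 11878)]))) (.node (.leaf (.cyc (nat_lit 6) [(nat_lit 7782), (nat_lit 6363)])) (.leaf .df)))))) (.node (.node (.node (.node (.node (.leaf .df) (.leaf (.cyc (nat_lit 17) [(nat_lit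 2420), (nat_lit 8547)]))) (.node (.leaf (.cyc (nat_lit 0) [(nat_lit 4390), (nat_lit 136)])) (.leaf (.cyc (nat_lit 22) [(nat_lit 12646), (nat_lit 10723), (nat_lit 3234), (nat_lit 3235), (nat_lit 9884), (nat_lit 9886), (nat_lit 9885)])))) (.node (.node (.leaf .df) (.leaf (.cyc (nat_lit 2) [(nat_lit 3709), (nat_lit 3708)]))) (.node (.leaf (.cyc (nat_lit 8) [(nat_lit 937), (nat_lit 5034), (nat_lit 5225), (nat_lit 6500), (nat_lit 5852), (nat_lit 2297)])) (.leaf .df)))) (.node (.node (.node (.leaf .df) (.leaf (.cyc (nat_lit 8) [(nat_lit 3393), (nat_lit 5577), (nat_lit 8686), (nat_lit 2553), (nat_lit 2555)]))) (.node (.leaf (.cyc (nat_lit 1) [(nat_lit 5148), (nat_lit 1271)])) (.leaf .df))) (.node (.node (.leaf .df) (.leaf (.cyc (nat_lit 4) [(nat_lit 3984), (nat_lit 11035), (nat_lit 11036), (nat_lit 11033), (nat_lit 3933)]))) (.node (.leaf (.cyc (nat_lit 8) [(nat_lit 3151), (nat_lit 3149), (nat_lit 7525), (nat_lit 2826), (nat_lit 2828)])) (.leaf .df))))) (.node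 (.node (.node (.node (.leaf .df) (.leaf (.cyc (nat_lit 17) [(nat_lit 7502), (nat_lit 9059), (nat_lit 8793)]))) (.node (.leaf (.cyc (nat_lit 6) [(nat_lit 737), (nat_lit 736)])) (.leaf (.cyc (nat_lit 4) [(nat_lit 12478), (nat_lit 12482), (nat_lit 12938), (nat_lit 12939), (nat_lit 13158)])))) (.node (.node (.leaf .df) (.leaf (.cyc (nat_lit 18) [(nat_lit 11084), (nat_lit 11110)]))) (.node (.leaf (.cyc (nat_lit 5) [(nat_lit 2697), (nat_lit 5416)])) (.leaf .df)))) (.node (.node (.node (.leaf .df) (.leaf (.cyc (nat_lit 5) [(nat_lit 3607), (nat_lit 3606)]))) (.node (.leaf (.cyc (nat_lit 27) [(nat_lit 1762), (nat_lit 613), (nat_lit 4501), (nat_lit 4478), (nat_lit 4781), (nat_lit 4638), (nat_lit 1074)])) (.leaf .df))) (.node (.node (.leaf .df) (.leaf (.cyc (nat_lit 0) [(nat_lit 11700), (nat_lit 12134)]))) (.node (.leaf (.cyc (nat_lit 15) [(nat_lit 5306), (nat_lit 7316), (nat_lit 8027), (nat_lit 1074), (nat_lit 4638), (nat_lit 4621), (nat_lit 1005), (nat_lit 5217),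 (nat_lit 1024), (nat_lit 2780)])) (.leaf .df))))))) (.node (.node (.node (.node (.node (.node (.leaf .df) (.leaf (.cyc (nat_lit 34) [(nat_lit 7721), (nat_lit 2544), (nat_lit 7724), (nat_lit 1869), (nat_lit 8422), (nat_lit 5885), (nat_lit 5880), (nat_lit 5883), (nat_lit 1632)]))) (.node (.leaf .df) (.leaf (.cyc (nat_lit 8) [(nat_lit 11587), (nat_lit 3993), (nat_lit 11667), (nat_lit 10338), (nat_lit 4192)])))) (.node (.node (.leaf .df) (.leaf (.cyc (nat_lit 8) [(nat_lit 2279), (nat_lit 2276), (nat_lit 10255), (nat_lit 10256), (nat_lit 10462), (nat_lit 6727)]))) (.node (.leaf (.cyc (nat_lit 6) [(nat_lit 2178), (nat_lit 2177)])) (.leaf .df)))) (.node (.node (.node (.leaf .df) (.leaf (.cyc (nat_lit 18) [(nat_lit 1683), (nat_lit 9446)]))) (.node (.leaf (.cyc (nat_lit 0) [(nat_lit 1151), (nat_lit 5350)])) (.leaf .df))) (.node (.node (.leaf .df) (.leaf (.cyc (nat_lit 2) [(nat_lit 3943), (nat_lit 3942)]))) (.node (.leaf (.cyc (nat_lit 4) [(nat_lit 3030), (nat_lit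 5331), (nat_lit 7398), (nat_lit 2976), (nat_lit 2975)])) (.leaf .df))))) (.node (.node (.node (.node (.leaf .df) (.leaf (.cyc (nat_lit 9) [(nat_lit 5834), (nat_lit 8602), (nat_lit 5730), (nat_lit 8593), (nat_lit 8933)]))) (.node (.leaf (.cyc (nat_lit 6) [(nat_lit 590), (nat_lit 589)])) (.leaf (.cyc (nat_lit 14) [(nat_lit 12581), (nat_lit 4299)])))) (.node (.node (.leaf .df) (.leaf (.cyc (nat_lit 33) [(nat_lit 8786), (nat_lit 3163), (nat_lit 10982), (nat_lit 1774), (nat_lit 618), (nat_lit 4503), (nat_lit 622), (nat_lit 1789)]))) (.node (.leaf (.cyc (nat_lit 5) [(nat_lit 2617), (nat_lit 2616)])) (.leaf .df)))) (.node (.node (.node (.leaf .df) (.leaf (.cyc (nat_lit 4) [(nat_lit 3553), (nat_lit 5669), (nat_lit 8857), (nat_lit 8854), (nat_lit 3487)]))) (.node (.leaf (.cyc (nat_lit 5) [(nat_lit 1620), (nat_lit 5049)])) (.leaf .df))) (.node (.node (.leaf .df) (.leaf (.cyc (nat_lit 1) [(nat_lit 12003), (nat_lit 4085)]))) (.node (.leaf (.cyc (nat_lit 17) [(nat_lit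 2934), (nat_lit 7902)])) (.leaf .df)))))) (.node (.node (.node (.node (.node (.leaf .df) (.leaf (.cyc (nat_lit 19) [(nat_lit 8675), (nat_lit 8676)]))) (.node (.leaf (.cyc (nat_lit 8) [(nat_lit 287), (nat_lit 285), (nat_lit 4581), (nat_lit 141), (nat_lit 142)])) (.leaf (.cyc (nat_lit 14) [(nat_lit 12005), (nat_lit 12774)])))) (.node (.node (.leaf .df) (.leaf (.cyc (nat_lit 20) [(nat_lit 2728), (nat_lit 1000), (nat_lit 997), (nat_lit 7066), (nat_lit 5188), (nat_lit 2646), (nat_lit 10726)]))) (.node (.leaf (.cyc (nat_lit 5) [(nat_lit 6630), (nat_lit 6628)])) (.leaf .df)))) (.node (.node (.node (.leaf .df) (.leaf (.cyc (nat_lit 29) [(nat_lit 3436), (nat_lit 9701)]))) (.node (.leaf (.cyc (nat_lit 2) [(nat_lit 1357), (nat_lit 1356)])) (.leaf .df))) (.node (.node (.leaf .df) (.leaf (.cyc (nat_lit 5) [(nat_lit 4014), (nat_lit 11196)]))) (.node (.leaf (.cyc (nat_lit 6) [(nat_lit 3272), (nat_lit 3271)])) (.leaf .df))))) (.node (.node (.node (.node (.leaf .df) (.leaf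 (.cyc (nat_lit 17) [(nat_lit 6106), (nat_lit 9187), (nat_lit 1914)]))) (.node (.leaf (.cyc (nat_lit 6) [(nat_lit 860), (nat_lit 859)])) (.leaf .df))) (.node (.node (.leaf .df) (.leaf (.cyc (nat_lit 2) [(nat_lit 3883), (nat_lit 10959)]))) (.node (.leaf (.cyc (nat_lit 8) [(nat_lit 2757), (nat_lit 5223), (nat_lit 7139), (nat_lit 7034), (nat_lit 7137)])) (.leaf .df)))) (.node (.node (.node (.leaf .df) (.leaf (.cyc (nat_lit 22) [(nat_lit 3626), (nat_lit 10157), (nat_lit 9584), (nat_lit 9573), (nat_lit 1688), (nat_lit 4836), (nat_lit 1692)]))) (.node (.leaf (.cyc (nat_lit 2) [(nat_lit 1903), (nat_lit 5901)])) (.leaf .df))) (.node (.node (.leaf .df) (.leaf (.cyc (nat_lit 19) [(nat_lit 3777), (nat_lit 12261)]))) (.node (.leaf (.cyc (nat_lit 34) [(nat_lit 452), (nat_lit 144), (nat_lit 146), (nat_lit 458), (nat_lit 5566), (nat_lit 8165), (nat_lit 7655), (nat_lit 7924), (nat_lit 2821), (nat_lit 2819)])) (.leaf .df))))))))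
noncomputable def c4P111001 : BT Pf := .node c4P1110010 c4P1110011
noncomputable def c4P11100 : BT Pf := .node c4P111000 c4P111001
noncomputable def c4P1110100 : BT Pf := (.node (.node (.node (.node (.node (.node (.node (.leaf .df) (.leaf (.cyc (nat_lit 29) [(nat_lit 7322), (nat_lit 8206)]))) (.node (.leaf .df) (.leaf (.cyc (nat_lit 29) [(nat_lit 11751), (nat_lit 12307)])))) (.node (.node (.leaf .df) (.leaf (.cyc (nat_lit 22) [(nat_lit 3093), (nat_lit 3095), (nat_lit 10260), (nat_lit 5994), (nat_lit 7885), (nat_lit 6188), (nat_lit 6187)]))) (.node (.leaf (.cyc (nat_lit 5) [(nat_lit 1950), (nat_lit 1949)])) (.leaf .df)))) (.node (.node (.node (.leaf .df) (.leaf (.cyc (nat_lit 29) [(nat_lit 2141), (nat_lit 9237)]))) (.node (.leaf (.cyc (nat_lit 17) [(nat_lit 897), (nat_lit 5142)])) (.leaf .df))) (.node (.node (.leaf .df) (.leaf (.cyc (nat_lit 3) [(nat_lit 3855), (nat_lit 9725), (nat_lit 9763), (nat_lit 6340), (nat_lit 3896)]))) (.node (.leaf (.cyc (nat_lit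 5) [(nat_lit 2846), (nat_lit 5493)])) (.leaf .df))))) (.node (.node (.node (.node (.leaf .df) (.leaf (.cyc (nat_lit 28) [(nat_lit 6033), (nat_lit 8724), (nat_lit 5420)]))) (.node (.leaf (.cyc (nat_lit 4) [(nat_lit 233), (nat_lit 4403), (nat_lit 4374), (nat_lit 110), (nat_lit 350)])) (.leaf (.cyc (nat_lit 3) [(nat_lit 12822), (nat_lit 4145), (nat_lit 2366), (nat_lit 2368), (nat_lit 9558)])))) (.node (.node (.leaf .df) (.leaf (.cyc (nat_lit 22) [(nat_lit 3750), (nat_lit 10532), (nat_lit 10525), (nat_lit 2293), (nat_lit 2291), (nat_lit 9053), (nat_lit 9052)]))) (.node (.leaf (.cyc (nat_lit 9) [(nat_lit 5627), (nat_lit 6672), (nat_lit 2454), (nat_lit 5108), (nat_lit 2458)])) (.leaf .df)))) (.node (.node (.node (.leaf .df) (.leaf (.cyc (nat_lit 25) [(nat_lit 9741), (nat_lit 9749)]))) (.node (.leaf (.cyc (nat_lit 1) [(nat_lit 5011), (nat_lit 1414)])) (.leaf .df))) (.node (.node (.leaf .df) (.leaf (.cyc (nat_lit 19) [(nat_lit 10850), (nat_lit 11797)]))) (.node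 (.leaf (.cyc (nat_lit 8) [(nat_lit 7696), (nat_lit 7698), (nat_lit 1712), (nat_lit 1711), (nat_lit 6942)])) (.leaf .df)))))) (.node (.node (.node (.node (.node (.leaf .df) (.leaf (.cyc (nat_lit 28) [(nat_lit 2115), (nat_lit 8470), (nat_lit 8362)]))) (.node (.leaf (.cyc (nat_lit 8) [(nat_lit 21), (nat_lit 19), (nat_lit 4373), (nat_lit 32), (nat_lit 34)])) (.leaf (.cyc (nat_lit 14) [(nat_lit 12401), (nat_lit 4203)])))) (.node (.node (.leaf .df) (.leaf (.cyc (nat_lit 29) [(nat_lit 10294), (nat_lit 10518)]))) (.node (.leaf (.cyc (nat_lit 7) [(nat_lit 2227), (nat_lit 789), (nat_lit 258), (nat_lit 4532), (nat_lit 4534), (nat_lit 710), (nat_lit 2024)])) (.leaf .df)))) (.node (.node (.node (.leaf .df) (.leaf (.cyc (nat_lit 6) [(nat_lit 3343), (nat_lit 3342)]))) (.node (.leaf (.cyc (nat_lit 24) [(nat_lit 410), (nat_lit 4450), (nat_lit 414), (nat_lit 4688), (nat_lit 409), (nat_lit 408), (nat_lit 1203), (nat_lit 5398), (nat_lit 983), (nat_lit 981)])) (.leaf .df)))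 (.node (.node (.leaf .df) (.leaf (.cyc (nat_lit 8) [(nat_lit 2523), (nat_lit 2522), (nat_lit 11540), (nat_lit 11538), (nat_lit 11532)]))) (.node (.leaf (.cyc (nat_lit 6) [(nat_lit 3067), (nat_lit 3066)])) (.leaf .df))))) (.node (.node (.node (.node (.leaf .df) (.leaf (.cyc (nat_lit 30) [(nat_lit 4813), (nat_lit 1607), (nat_lit 8981), (nat_lit 2479), (nat_lit 5167), (nat_lit 5320), (nat_lit 8960), (nat_lit 8959), (nat_lit 3150), (nat_lit 3148)]))) (.node (.leaf (.cyc (nat_lit 6) [(nat_lit 647), (nat_lit 646)])) (.leaf (.cyc (nat_lit 13) [(nat_lit 11930), (nat_lit 11244), (nat_lit 11822), (nat_lit 11835), (nat_lit 11832), (nat_lit 12951), (nat_lit 13078)])))) (.node (.node (.leaf .df) (.leaf (.cyc (nat_lit 20) [(nat_lit 10048), (nat_lit 10047), (nat_lit 10054), (nat_lit 10061), (nat_lit 7584), (nat_lit 11013), (nat_lit 11030)]))) (.node (.leaf (.cyc (nat_lit 17) [(nat_lit 5355), (nat_lit 6933)])) (.leaf .df)))) (.node (.node (.node (.leaf .df) (.leaf (.cyc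 (nat_lit 8) [(nat_lit 3128), (nat_lit 10004), (nat_lit 1896), (nat_lit 10006), (nat_lit 6030)]))) (.node (.leaf (.cyc (nat_lit 2) [(nat_lit 1672), (nat_lit 5906)])) (.leaf .df))) (.node (.node (.leaf .df) (.leaf (.cyc (nat_lit 14) [(nat_lit 12006), (nat_lit 4092)]))) (.node (.leaf (.cyc (nat_lit 18) [(nat_lit 2881), (nat_lit 7949), (nat_lit 2867)])) (.leaf .df))))))) (.node (.node (.node (.node (.node (.node (.leaf .df) (.leaf (.cyc (nat_lit 18) [(nat_lit 8217), (nat_lit 8339)]))) (.node (.leaf .df) (.leaf (.cyc (nat_lit 8) [(nat_lit 7020), (nat_lit 10092), (nat_lit 3608), (nat_lit 10095), (nat_lit 4175)])))) (.node (.node (.leaf .df) (.leaf (.cyc (nat_lit 8) [(nat_lit 3677), (nat_lit 9967), (nat_lit 3556), (nat_lit 9965), (nat_lit 7601)]))) (.node (.leaf (.cyc (nat_lit 15) [(nat_lit 2099), (nat_lit 4970), (nat_lit 4944), (nat_lit 4942), (nat_lit 236), (nat_lit 234), (nat_lit 718), (nat_lit 2046), (nat_lit 6267)])) (.leaf .df)))) (.node (.node (.node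 (.leaf .df) (.leaf (.cyc (nat_lit 35) [(nat_lit 6767), (nat_lit 8795), (nat_lit 8792), (nat_lit 2508), (nat_lit 9068), (nat_lit 2259), (nat_lit 6447), (nat_lit 1621), (nat_lit 7517)]))) (.node (.leaf (.cyc (nat_lit 8) [(nat_lit 669), (nat_lit 4515), (nat_lit 4514), (nat_lit 357), (nat_lit 1063)])) (.leaf .df))) (.node (.node (.leaf .df) (.leaf (.cyc (nat_lit 10) [(nat_lit 11126), (nat_lit 3842), (nat_lit 5931), (nat_lit 1835), (nat_lit 3923)]))) (.node (.leaf (.cyc (nat_lit 1) [(nat_lit 7316), (nat_lit 2967)])) (.leaf .df))))) (.node (.node (.node (.node (.leaf .df) (.leaf (.cyc (nat_lit 25) [(nat_lit 2380), (nat_lit 8852)]))) (.node (.leaf (.cyc (nat_lit 6) [(nat_lit 490), (nat_lit 4651)])) (.leaf (.cyc (nat_lit 9) [(nat_lit 11832), (nat_lit 11835), (nat_lit 11821), (nat_lit 11840), (nat_lit 4284)])))) (.node (.node (.leaf .df) (.leaf (.cyc (nat_lit 20) [(nat_lit 5932), (nat_lit 8152), (nat_lit 2896), (nat_lit 7976), (nat_lit 9719), (nat_lit 6546), (nat_lit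 10899), (nat_lit 10901)]))) (.node (.leaf (.cyc (nat_lit 20) [(nat_lit 2536), (nat_lit 917), (nat_lit 306), (nat_lit 4421), (nat_lit 309), (nat_lit 927), (nat_lit 2556)])) (.leaf .df)))) (.node (.node (.node (.leaf .df) (.leaf (.cyc (nat_lit 17) [(nat_lit 9416), (nat_lit 9878)]))) (.node (.leaf (.cyc (nat_lit 5) [(nat_lit 1528), (nat_lit 1527)])) (.leaf .df))) (.node (.node (.leaf .df) (.leaf (.cyc (nat_lit 8) [(nat_lit 11924), (nat_lit 11829), (nat_lit 7204), (nat_lit 7191), (nat_lit 9809)]))) (.node (.leaf (.cyc (nat_lit 3) [(nat_lit 6018), (nat_lit 5549), (nat_lit 1810), (nat_lit 7830), (nat_lit 7469)])) (.leaf .df)))))) (.node (.node (.node (.node (.node (.leaf .df) (.leaf (.cyc (nat_lit 19) [(nat_lit 1474), (nat_lit 8597)]))) (.node (.leaf (.cyc (nat_lit 5) [(nat_lit 200), (nat_lit 199)])) (.leaf (.cyc (nat_lit 6) [(nat_lit 4230), (nat_lit 12235)])))) (.node (.node (.leaf .df) (.leaf (.cyc (nat_lit 20) [(nat_lit 6681), (nat_lit 5601), (nat_lit 1397),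 (nat_lit 9905), (nat_lit 1573), (nat_lit 1575), (nat_lit 3726)]))) (.node (.leaf (.cyc (nat_lit 2) [(nat_lit 2344), (nat_lit 2343)])) (.leaf .df)))) (.node (.node (.node (.leaf .df) (.leaf (.cyc (nat_lit 0) [(nat_lit 5596), (nat_lit 3404)]))) (.node (.leaf (.cyc (nat_lit 31) [(nat_lit 590), (nat_lit 190), (nat_lit 4392), (nat_lit 194), (nat_lit 602), (nat_lit 5525), (nat_lit 5136)])) (.leaf .df))) (.node (.node (.leaf .df) (.leaf (.cyc (nat_lit 9) [(nat_lit 10738), (nat_lit 10340), (nat_lit 10342), (nat_lit 11176), (nat_lit 3994)]))) (.node (.leaf (.cyc (nat_lit 5) [(nat_lit 3201), (nat_lit 3200)])) (.leaf .df))))) (.node (.node (.node (.node (.leaf .df) (.leaf (.cyc (nat_lit 3) [(nat_lit 5372), (nat_lit 9104), (nat_lit 9109), (nat_lit 9107), (nat_lit 5260), (nat_lit 2835)]))) (.node (.leaf (.cyc (nat_lit 8) [(nat_lit 709), (nat_lit 4534), (nat_lit 4532), (nat_lit 258), (nat_lit 787)])) (.leaf (.cyc (nat_lit 20) [(nat_lit 11159), (nat_lit 11342), (nat_lit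 12997), (nat_lit 13000), (nat_lit 3532), (nat_lit 3533), (nat_lit 4335)])))) (.node (.node (.leaf .df) (.leaf (.cyc (nat_lit 0) [(nat_lit 11086), (nat_lit 3855)]))) (.node (.leaf (.cyc (nat_lit 9) [(nat_lit 2724), (nat_lit 5213), (nat_lit 6512), (nat_lit 1475), (nat_lit 1472)])) (.leaf .df)))) (.node (.node (.node (.leaf .df) (.leaf (.cyc (nat_lit 28) [(nat_lit 2994), (nat_lit 10134)]))) (.node (.leaf (.cyc (nat_lit 2) [(nat_lit 1815), (nat_lit 1814)])) (.leaf .df))) (.node (.node (.leaf .df) (.leaf (.cyc (nat_lit 4) [(nat_lit 4122), (nat_lit 9396), (nat_lit 3172), (nat_lit 11195), (nat_lit 11751)]))) (.node (.leaf (.cyc (nat_lit 25) [(nat_lit 7650), (nat_lit 8084)])) (.leaf .df))))))))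
noncomputable def c4P1110101 : BT Pf := (.node (.node (.node (.node (.node (.node (.node (.leaf .df) (.leaf (.cyc (nat_lit 29) [(nat_lit 1943), (nat_lit 8273)]))) (.node (.leaf .df) (.leaf (.cyc (nat_lit 3) [(nat_lit 3549), (nat_lit 1428), (nat_lit 1427), (nat_lit 3546), (nat_lit 12374)])))) (.node (.node (.leaf .df) (.leaf (.cyc (nat_lit 4) [(nat_lit 3516), (nat_lit 10161), (nat_lit 9449), (nat_lit 6442), (nat_lit 10326)]))) (.node (.leaf (.cyc (nat_lit 2) [(nat_lit 2018), (nat_lit 2017)])) (.leaf .df)))) (.node (.node (.node (.leaf .df) (.leaf (.cyc (nat_lit 17) [(nat_lit 7489), (nat_lit 9302)]))) (.node (.leaf (.cyc (nat_lit 6) [(nat_lit 993), (nat_lit 5195)])) (.leaf .df))) (.node (.node (.leaf .df) (.leaf (.cyc (nat_lit 0) [(nat_lit 8879), (nat_lit 3910)]))) (.node (.leaf (.cyc (nat_lit 17) [(nat_lit 1706), (nat_lit 7253), (nat_lit 5288)])) (.leaf .df))))) (.node (.node (.node (.node (.leaf .df) (.leaf (.cyc (nat_lit 28) [(nat_lit 6765), (nat_lit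 8788), (nat_lit 3161)]))) (.node (.leaf (.cyc (nat_lit 1) [(nat_lit 4524), (nat_lit 422)])) (.leaf (.cyc (nat_lit 20) [(nat_lit 12694), (nat_lit 4230), (nat_lit 6990), (nat_lit 11690), (nat_lit 11172), (nat_lit 11079), (nat_lit 12886)])))) (.node (.node (.leaf .df) (.leaf (.cyc (nat_lit 4) [(nat_lit 6652), (nat_lit 10615), (nat_lit 7575), (nat_lit 9017), (nat_lit 3769)]))) (.node (.leaf (.cyc (nat_lit 5) [(nat_lit 2490), (nat_lit 2489)])) (.leaf .df)))) (.node (.node (.node (.leaf .df) (.leaf (.cyc (nat_lit 28) [(nat_lit 9810), (nat_lit 9814)]))) (.node (.leaf (.cyc (nat_lit 19) [(nat_lit 1454), (nat_lit 5717)])) (.leaf .df))) (.node (.node (.leaf .df) (.leaf (.cyc (nat_lit 34) [(nat_lit 3929), (nat_lit 10751), (nat_lit 6282), (nat_lit 4048), (nat_lit 11860), (nat_lit 11783), (nat_lit 11784), (nat_lit 11787), (nat_lit 4017)]))) (.node (.leaf (.cyc (nat_lit 28) [(nat_lit 7658), (nat_lit 7765)])) (.leaf .df)))))) (.node (.node (.node (.node (.node (.leaf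 .df) (.leaf (.cyc (nat_lit 28) [(nat_lit 6580), (nat_lit 8534), (nat_lit 2422)]))) (.node (.leaf (.cyc (nat_lit 2) [(nat_lit 112), (nat_lit 111)])) (.leaf (.cyc (nat_lit 5) [(nat_lit 4217), (nat_lit 10726)])))) (.node (.node (.leaf .df) (.leaf (.cyc (nat_lit 25) [(nat_lit 3600), (nat_lit 10579)]))) (.node (.leaf (.cyc (nat_lit 2) [(nat_lit 2288), (nat_lit 2287)])) (.leaf .df)))) (.node (.node (.node (.leaf .df) (.leaf (.cyc (nat_lit 0) [(nat_lit 9540), (nat_lit 3382)]))) (.node (.leaf (.cyc (nat_lit 6) [(nat_lit 5462), (nat_lit 5349)])) (.leaf .df))) (.node (.node (.leaf .df) (.leaf (.cyc (nat_lit 5) [(nat_lit 11605), (nat_lit 11428)]))) (.node (.leaf (.cyc (nat_lit 6) [(nat_lit 3139), (nat_lit 7436)])) (.leaf .df))))) (.node (.node (.node (.node (.leaf .df) (.leaf (.cyc (nat_lit 18) [(nat_lit 3288), (nat_lit 9046)]))) (.node (.leaf (.cyc (nat_lit 6) [(nat_lit 716), (nat_lit 4631)])) (.leaf (.cyc (nat_lit 9) [(nat_lit 12126), (nat_lit 3538), (nat_lit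 3539), (nat_lit 11994), (nat_lit 4322)])))) (.node (.node (.leaf .df) (.leaf (.cyc (nat_lit 5) [(nat_lit 3838), (nat_lit 3837)]))) (.node (.leaf (.cyc (nat_lit 10) [(nat_lit 2675), (nat_lit 974), (nat_lit 4613), (nat_lit 976), (nat_lit 2679)])) (.leaf .df)))) (.node (.node (.node (.leaf .df) (.leaf (.cyc (nat_lit 28) [(nat_lit 9665), (nat_lit 10070)]))) (.node (.leaf (.cyc (nat_lit 9) [(nat_lit 1751), (nat_lit 610), (nat_lit 4499), (nat_lit 607), (nat_lit 1745)])) (.leaf .df))) (.node (.node (.leaf .df) (.leaf (.cyc (nat_lit 31) [(nat_lit 3498), (nat_lit 1400), (nat_lit 4752), (nat_lit 1405), (nat_lit 12112), (nat_lit 2172), (nat_lit 2170), (nat_lit 4077)]))) (.node (.leaf (.cyc (nat_lit 3) [(nat_lit 5283), (nat_lit 7992), (nat_lit 2855), (nat_lit 7298), (nat_lit 6131), (nat_lit 2946)])) (.leaf .df))))))) (.node (.node (.node (.node (.node (.node (.leaf .df) (.leaf (.cyc (nat_lit 25) [(nat_lit 1820), (nat_lit 8406), (nat_lit 5788)]))) (.node (.leaf .df)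 (.leaf (.cyc (nat_lit 25) [(nat_lit 12331), (nat_lit 12499)])))) (.node (.node (.leaf .df) (.leaf (.cyc (nat_lit 2) [(nat_lit 10454), (nat_lit 9937)]))) (.node (.leaf (.cyc (nat_lit 22) [(nat_lit 2162), (nat_lit 5648), (nat_lit 948), (nat_lit 4606), (nat_lit 4737), (nat_lit 4571), (nat_lit 824)])) (.leaf .df)))) (.node (.node (.node (.leaf .df) (.leaf (.cyc (nat_lit 32) [(nat_lit 5977), (nat_lit 5975), (nat_lit 1745), (nat_lit 8199), (nat_lit 1134), (nat_lit 385), (nat_lit 387), (nat_lit 1140), (nat_lit 7402)]))) (.node (.leaf (.cyc (nat_lit 5) [(nat_lit 5334), (nat_lit 5088)])) (.leaf .df))) (.node (.node (.leaf .df) (.leaf (.cyc (nat_lit 4) [(nat_lit 3932), (nat_lit 8423), (nat_lit 1632), (nat_lit 1635), (nat_lit 3774)]))) (.node (.leaf (.cyc (nat_lit 10) [(nat_lit 3018), (nat_lit 1126), (nat_lit 4661), (nat_lit 1127), (nat_lit 3021)])) (.leaf .df))))) (.node (.node (.node (.node (.leaf .df) (.leaf (.cyc (nat_lit 25) [(nat_lit 7378), (nat_lit 8916),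 (nat_lit 2504)]))) (.node (.leaf (.cyc (nat_lit 2) [(nat_lit 568), (nat_lit 567)])) (.leaf (.cyc (nat_lit 4) [(nat_lit 4139), (nat_lit 10899), (nat_lit 3788), (nat_lit 3789), (nat_lit 13014)])))) (.node (.node (.leaf .df) (.leaf (.cyc (nat_lit 8) [(nat_lit 1660), (nat_lit 1658), (nat_lit 3806), (nat_lit 10965), (nat_lit 2936), (nat_lit 2938)]))) (.node (.leaf (.cyc (nat_lit 8) [(nat_lit 6867), (nat_lit 1197), (nat_lit 406), (nat_lit 404), (nat_lit 1192)])) (.leaf .df)))) (.node (.node (.node (.leaf .df) (.leaf (.cyc (nat_lit 22) [(nat_lit 9703), (nat_lit 5612), (nat_lit 9940), (nat_lit 2738), (nat_lit 5219), (nat_lit 5234), (nat_lit 2786)]))) (.node (.leaf (.cyc (nat_lit 6) [(nat_lit 1611), (nat_lit 5827)])) (.leaf .df))) (.node (.node (.leaf .df) (.leaf (.cyc (nat_lit 4) [(nat_lit 4080), (nat_lit 10390), (nat_lit 10392), (nat_lit 11376), (nat_lit 11377)]))) (.node (.leaf (.cyc (nat_lit 17) [(nat_lit 6865), (nat_lit 7893), (nat_lit 1245)])) (.leaf .df))))))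 (.node (.node (.node (.node (.node (.leaf .df) (.leaf (.cyc (nat_lit 22) [(nat_lit 3014), (nat_lit 3015), (nat_lit 8661), (nat_lit 8186), (nat_lit 8182), (nat_lit 7178), (nat_lit 8195)]))) (.node (.leaf (.cyc (nat_lit 3) [(nat_lit 182), (nat_lit 180), (nat_lit 4565), (nat_lit 268), (nat_lit 4412), (nat_lit 266)])) (.leaf (.cyc (nat_lit 4) [(nat_lit 10490), (nat_lit 7160), (nat_lit 8258), (nat_lit 8260), (nat_lit 4246)])))) (.node (.node (.leaf .df) (.leaf (.cyc (nat_lit 5) [(nat_lit 3736), (nat_lit 8935)]))) (.node (.leaf (.cyc (nat_lit 3) [(nat_lit 865), (nat_lit 286), (nat_lit 284), (nat_lit 860), (nat_lit 2409)])) (.leaf .df)))) (.node (.node (.node (.leaf .df) (.leaf (.cyc (nat_lit 32) [(nat_lit 2341), (nat_lit 2339), (nat_lit 9686), (nat_lit 3437), (nat_lit 1365), (nat_lit 4739), (nat_lit 1370), (nat_lit 5715), (nat_lit 5716)]))) (.node (.leaf (.cyc (nat_lit 0) [(nat_lit 5484), (nat_lit 1338)])) (.leaf .df))) (.node (.node (.leaf .df) (.leaf (.cyc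 (nat_lit 8) [(nat_lit 4009), (nat_lit 8353), (nat_lit 2377), (nat_lit 9120), (nat_lit 9124)]))) (.node (.leaf (.cyc (nat_lit 14) [(nat_lit 7619), (nat_lit 3254)])) (.leaf .df))))) (.node (.node (.node (.node (.leaf .df) (.leaf (.cyc (nat_lit 25) [(nat_lit 2099), (nat_lit 9170)]))) (.node (.leaf (.cyc (nat_lit 22) [(nat_lit 5077), (nat_lit 842), (nat_lit 278), (nat_lit 279), (nat_lit 4906), (nat_lit 4529), (nat_lit 690)])) (.leaf (.cyc (nat_lit 22) [(nat_lit 4348), (nat_lit 12834), (nat_lit 12833), (nat_lit 10418), (nat_lit 6413), (nat_lit 11791), (nat_lit 12435)])))) (.node (.node (.leaf .df) (.leaf (.cyc (nat_lit 31) [(nat_lit 3386), (nat_lit 6068), (nat_lit 3702), (nat_lit 11222), (nat_lit 11082), (nat_lit 1727), (nat_lit 1725), (nat_lit 3859)]))) (.node (.leaf (.cyc (nat_lit 7) [(nat_lit 2776), (nat_lit 1023), (nat_lit 4625), (nat_lit 5143), (nat_lit 4591), (nat_lit 902), (nat_lit 2499)])) (.leaf .df)))) (.node (.node (.node (.leaf .df) (.leaf (.cyc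 (nat_lit 17) [(nat_lit 2488), (nat_lit 10195)]))) (.node (.leaf (.cyc (nat_lit 5) [(nat_lit 1882), (nat_lit 1881)])) (.leaf .df))) (.node (.node (.leaf .df) (.leaf (.cyc (nat_lit 7) [(nat_lit 3838), (nat_lit 11087), (nat_lit 9687), (nat_lit 5716), (nat_lit 9689), (nat_lit 2333), (nat_lit 4136)]))) (.node (.leaf (.cyc (nat_lit 19) [(nat_lit 3155), (nat_lit 8149)])) (.leaf .df))))))))
noncomputable def c4P111010 : BT Pf := .node c4P1110100 c4P1110101
noncomputable def c4P1110110 : BT Pf := (.node (.node (.node (.node (.node (.node (.node (.leaf .df) (.leaf (.cyc (nat_lit 18) [(nat_lit 7142), (nat_lit 8237), (nat_lit 2803)]))) (.node (.leaf .df) (.leaf (.cyc (nat_lit 28) [(nat_lit 8803), (nat_lit 12342)])))) (.node (.node (.leaf .df) (.leaf (.cyc (nat_lit 23) [(nat_lit 7595), (nat_lit 9095), (nat_lit 2658), (nat_lit 5189), (nat_lit 2654), (nat_lit 7030), (nat_lit 10294), (nat_lit 3653), (nat_lit 3651)]))) (.node (.leaf (.cyc (nat_lit 4) [(nat_lit 1986),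 (nat_lit 4930), (nat_lit 6198), (nat_lit 1910), (nat_lit 1909)])) (.leaf .df)))) (.node (.node (.node (.leaf .df) (.leaf (.cyc (nat_lit 29) [(nat_lit 7780), (nat_lit 9269)]))) (.node (.leaf (.cyc (nat_lit 13) [(nat_lit 5174), (nat_lit 319), (nat_lit 101), (nat_lit 4371), (nat_lit 4385), (nat_lit 155), (nat_lit 488)])) (.leaf .df))) (.node (.node (.leaf .df) (.leaf (.cyc (nat_lit 8) [(nat_lit 3576), (nat_lit 3575), (nat_lit 11318), (nat_lit 11315), (nat_lit 11302)]))) (.node (.leaf (.cyc (nat_lit 6) [(nat_lit 2885), (nat_lit 2884)])) (.leaf .df))))) (.node (.node (.node (.node (.leaf .df) (.leaf (.cyc (nat_lit 3) [(nat_lit 7333), (nat_lit 5394), (nat_lit 1252), (nat_lit 8756), (nat_lit 6035)]))) (.node (.leaf (.cyc (nat_lit 6) [(nat_lit 387), (nat_lit 386)])) (.leaf (.cyc (nat_lit 14) [(nat_lit 12212), (nat_lit 12850)])))) (.node (.node (.leaf .df) (.leaf (.cyc (nat_lit 26) [(nat_lit 10638), (nat_lit 10683), (nat_lit 10684), (nat_lit 10700), (nat_lit 10790),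 (nat_lit 10797), (nat_lit 3757), (nat_lit 5861), (nat_lit 3759)]))) (.node (.leaf (.cyc (nat_lit 29) [(nat_lit 2248), (nat_lit 6709)])) (.leaf .df)))) (.node (.node (.node (.leaf .df) (.leaf (.cyc (nat_lit 7) [(nat_lit 3456), (nat_lit 1375), (nat_lit 5604), (nat_lit 5606), (nat_lit 5605), (nat_lit 1386), (nat_lit 3471)]))) (.node (.leaf (.cyc (nat_lit 2) [(nat_lit 1455), (nat_lit 1454)])) (.leaf .df))) (.node (.node (.leaf .df) (.leaf (.cyc (nat_lit 7) [(nat_lit 11830), (nat_lit 3465), (nat_lit 5625), (nat_lit 913), (nat_lit 4597), (nat_lit 918), (nat_lit 2539)]))) (.node (.leaf (.cyc (nat_lit 3) [(nat_lit 7733), (nat_lit 7732), (nat_lit 3281), (nat_lit 5449), (nat_lit 5450), (nat_lit 1936)])) (.leaf .df)))))) (.node (.node (.node (.node (.node (.leaf .df) (.leaf (.cyc (nat_lit 18) [(nat_lit 2032), (nat_lit 8502)]))) (.node (.leaf (.cyc (nat_lit 5) [(nat_lit 77), (nat_lit 76)])) (.leaf (.cyc (nat_lit 7) [(nat_lit 3385), (nat_lit 8118), (nat_lit 9656),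 (nat_lit 3424), (nat_lit 5608), (nat_lit 10078), (nat_lit 4209)])))) (.node (.node (.leaf .df) (.leaf (.cyc (nat_lit 2) [(nat_lit 10550), (nat_lit 9805)]))) (.node (.leaf (.cyc (nat_lit 9) [(nat_lit 932), (nat_lit 4601), (nat_lit 4602), (nat_lit 803), (nat_lit 2264)])) (.leaf .df)))) (.node (.node (.node (.leaf .df) (.leaf (.cyc (nat_lit 4) [(nat_lit 3366), (nat_lit 1298), (nat_lit 1296), (nat_lit 8945), (nat_lit 1596)]))) (.node (.leaf (.cyc (nat_lit 15) [(nat_lit 5021), (nat_lit 5430), (nat_lit 1233), (nat_lit 4692), (nat_lit 4667), (nat_lit 1144), (nat_lit 5343), (nat_lit 399), (nat_lit 397), (nat_lit 1171)])) (.leaf .df))) (.node (.node (.leaf .df) (.leaf (.cyc (nat_lit 22) [(nat_lit 10964), (nat_lit 11572), (nat_lit 11574), (nat_lit 7791), (nat_lit 5652), (nat_lit 10161), (nat_lit 3625)]))) (.node (.leaf (.cyc (nat_lit 4) [(nat_lit 3101), (nat_lit 6941), (nat_lit 6565), (nat_lit 6490), (nat_lit 2328)])) (.leaf .df))))) (.node (.node (.node (.node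 (.leaf .df) (.leaf (.cyc (nat_lit 1) [(nat_lit 8979), (nat_lit 8981)]))) (.node (.leaf (.cyc (nat_lit 5) [(nat_lit 679), (nat_lit 678)])) (.leaf (.cyc (nat_lit 17) [(nat_lit 13106), (nat_lit 13109)])))) (.node (.node (.leaf .df) (.leaf (.cyc (nat_lit 4) [(nat_lit 3665), (nat_lit 5776), (nat_lit 3667), (nat_lit 10342), (nat_lit 11062)]))) (.node (.leaf (.cyc (nat_lit 13) [(nat_lit 2651), (nat_lit 967), (nat_lit 4611), (nat_lit 971), (nat_lit 5636), (nat_lit 5635), (nat_lit 6859)])) (.leaf .df)))) (.node (.node (.node (.leaf .df) (.leaf (.cyc (nat_lit 29) [(nat_lit 10034), (nat_lit 10038)]))) (.node (.leaf (.cyc (nat_lit 4) [(nat_lit 1029), (nat_lit 4947), (nat_lit 5244), (nat_lit 752), (nat_lit 5941)])) (.leaf .df))) (.node (.node (.leaf .df) (.leaf (.cyc (nat_lit 13) [(nat_lit 9775), (nat_lit 5630), (nat_lit 6688), (nat_lit 5320), (nat_lit 5167), (nat_lit 8966), (nat_lit 4104)]))) (.node (.leaf (.cyc (nat_lit 17) [(nat_lit 2851), (nat_lit 7985), (nat_lit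 7092)])) (.leaf .df))))))) (.node (.node (.node (.node (.node (.node (.leaf .df) (.leaf (.cyc (nat_lit 8) [(nat_lit 5993), (nat_lit 4876), (nat_lit 6009), (nat_lit 8369), (nat_lit 2389)]))) (.node (.leaf .df) (.leaf (.cyc (nat_lit 6) [(nat_lit 4181), (nat_lit 4180)])))) (.node (.node (.leaf .df) (.leaf (.cyc (nat_lit 7) [(nat_lit 3607), (nat_lit 5726), (nat_lit 5727), (nat_lit 1260), (nat_lit 1258), (nat_lit 5793), (nat_lit 3682)]))) (.node (.leaf (.cyc (nat_lit 3) [(nat_lit 2131), (nat_lit 753), (nat_lit 4548), (nat_lit 4867), (nat_lit 1786)])) (.leaf .df)))) (.node (.node (.node (.leaf .df) (.leaf (.cyc (nat_lit 10) [(nat_lit 2926), (nat_lit 1083), (nat_lit 7258), (nat_lit 1705), (nat_lit 9398)]))) (.node (.leaf (.cyc (nat_lit 1) [(nat_lit 5267), (nat_lit 1097)])) (.leaf .df))) (.node (.node (.leaf .df) (.leaf (.cyc (nat_lit 10) [(nat_lit 6270), (nat_lit 7349), (nat_lit 3423), (nat_lit 11443), (nat_lit 11444)]))) (.node (.leaf (.cyc (nat_lit 1) [(nat_lit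 5361), (nat_lit 2988)])) (.leaf .df))))) (.node (.node (.node (.node (.leaf .df) (.leaf (.cyc (nat_lit 17) [(nat_lit 7060), (nat_lit 8884)]))) (.node (.leaf (.cyc (nat_lit 2) [(nat_lit 528), (nat_lit 527)])) (.leaf (.cyc (nat_lit 2) [(nat_lit 4289), (nat_lit 4288)])))) (.node (.node (.leaf .df) (.leaf (.cyc (nat_lit 29) [(nat_lit 10928), (nat_lit 10933)]))) (.node (.leaf (.cyc (nat_lit 13) [(nat_lit 6837), (nat_lit 1111), (nat_lit 376), (nat_lit 374), (nat_lit 4911), (nat_lit 4912), (nat_lit 1125)])) (.leaf .df)))) (.node (.node (.node (.leaf .df) (.leaf (.cyc (nat_lit 9) [(nat_lit 3545), (nat_lit 9700), (nat_lit 9698), (nat_lit 1371), (nat_lit 3449)]))) (.node (.leaf (.cyc (nat_lit 8) [(nat_lit 5813), (nat_lit 593), (nat_lit 191), (nat_lit 189), (nat_lit 586)])) (.leaf .df))) (.node (.node (.leaf .df) (.leaf (.cyc (nat_lit 5) [(nat_lit 4068), (nat_lit 11913)]))) (.node (.leaf (.cyc (nat_lit 25) [(nat_lit 6816), (nat_lit 7857)])) (.leaf .df)))))) (.node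 (.node (.node (.node (.node (.leaf .df) (.leaf (.cyc (nat_lit 5) [(nat_lit 8630), (nat_lit 6967)]))) (.node (.leaf (.cyc (nat_lit 2) [(nat_lit 233), (nat_lit 232)])) (.leaf (.cyc (nat_lit 8) [(nat_lit 12726), (nat_lit 7297), (nat_lit 6131), (nat_lit 5297), (nat_lit 2947)])))) (.node (.node (.leaf .df) (.leaf (.cyc (nat_lit 29) [(nat_lit 10632), (nat_lit 10677)]))) (.node (.leaf (.cyc (nat_lit 2) [(nat_lit 2373), (nat_lit 5151)])) (.leaf .df)))) (.node (.node (.node (.leaf .df) (.leaf (.cyc (nat_lit 8) [(nat_lit 8828), (nat_lit 5058), (nat_lit 5057), (nat_lit 1358), (nat_lit 3424)]))) (.node (.leaf (.cyc (nat_lit 0) [(nat_lit 1306), (nat_lit 5558)])) (.leaf .df))) (.node (.node (.leaf .df) (.leaf (.cyc (nat_lit 7) [(nat_lit 3687), (nat_lit 5796), (nat_lit 8399), (nat_lit 6437), (nat_lit 8304), (nat_lit 6220), (nat_lit 4003)]))) (.node (.leaf (.cyc (nat_lit 3) [(nat_lit 5420), (nat_lit 3225), (nat_lit 7604), (nat_lit 3182), (nat_lit 3184)])) (.leaf .df)))))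 (.node (.node (.node (.node (.leaf .df) (.leaf (.cyc (nat_lit 19) [(nat_lit 2982), (nat_lit 9141)]))) (.node (.leaf (.cyc (nat_lit 8) [(nat_lit 810), (nat_lit 265), (nat_lit 4411), (nat_lit 102), (nat_lit 322)])) (.leaf (.cyc (nat_lit 10) [(nat_lit 3926), (nat_lit 1844), (nat_lit 1842), (nat_lit 10592), (nat_lit 4342)])))) (.node (.node (.leaf .df) (.leaf (.cyc (nat_lit 2) [(nat_lit 3871), (nat_lit 3870)]))) (.node (.leaf (.cyc (nat_lit 28) [(nat_lit 2743), (nat_lit 7094)])) (.leaf .df)))) (.node (.node (.node (.leaf .df) (.leaf (.cyc (nat_lit 29) [(nat_lit 9845), (nat_lit 10164), (nat_lit 9294)]))) (.node (.leaf (.cyc (nat_lit 6) [(nat_lit 1846), (nat_lit 1845)])) (.leaf .df))) (.node (.node (.leaf .df) (.leaf (.cyc (nat_lit 20) [(nat_lit 3703), (nat_lit 10879), (nat_lit 10881), (nat_lit 9233), (nat_lit 6057), (nat_lit 3920), (nat_lit 12213)]))) (.node (.leaf (.cyc (nat_lit 14) [(nat_lit 6468), (nat_lit 8118)])) (.leaf .df))))))))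
noncomputable def c4P1110111 : BT Pf := (.node (.node (.node (.node (.node (.node (.node (.leaf .df) (.leaf (.cyc (nat_lit 18) [(nat_lit 3290), (nat_lit 8298)]))) (.node (.leaf .df) (.leaf (.cyc (nat_lit 13) [(nat_lit 4089), (nat_lit 2196), (nat_lit 5009), (nat_lit 2198), (nat_lit 9984), (nat_lit 12242), (nat_lit 12405)])))) (.node (.node (.leaf .df) (.leaf (.cyc (nat_lit 18) [(nat_lit 9806), (nat_lit 10357)]))) (.node (.leaf (.cyc (nat_lit 2) [(nat_lit 2057), (nat_lit 2056)])) (.leaf .df)))) (.node (.node (.node (.leaf .df) (.leaf (.cyc (nat_lit 17) [(nat_lit 3119), (nat_lit 9334)]))) (.node (.leaf (.cyc (nat_lit 5) [(nat_lit 5238), (nat_lit 5237)])) (.leaf .df))) (.node (.node (.leaf .df) (.leaf (.cyc (nat_lit 4) [(nat_lit 11382), (nat_lit 10069), (nat_lit 2616), (nat_lit 6889), (nat_lit 10747)]))) (.node (.leaf (.cyc (nat_lit 5) [(nat_lit 2949), (nat_lit 2948)])) (.leaf .df))))) (.node (.node (.node (.node (.leaf .df) (.leaf (.cyc (nat_lit 28) [(nat_lit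 2630), (nat_lit 8820)]))) (.node (.leaf (.cyc (nat_lit 0) [(nat_lit 4474), (nat_lit 455)])) (.leaf (.cyc (nat_lit 5) [(nat_lit 4278), (nat_lit 4277)])))) (.node (.node (.leaf .df) (.leaf (.cyc (nat_lit 3) [(nat_lit 10870), (nat_lit 3706), (nat_lit 9874), (nat_lit 10113), (nat_lit 3610)]))) (.node (.leaf (.cyc (nat_lit 24) [(nat_lit 602), (nat_lit 194), (nat_lit 196), (nat_lit 609), (nat_lit 4858), (nat_lit 911), (nat_lit 2527), (nat_lit 6774), (nat_lit 2391), (nat_lit 2390)])) (.leaf .df)))) (.node (.node (.node (.leaf .df) (.leaf (.cyc (nat_lit 2) [(nat_lit 3516), (nat_lit 3515)]))) (.node (.leaf (.cyc (nat_lit 8) [(nat_lit 1304), (nat_lit 4716), (nat_lit 4715), (nat_lit 517), (nat_lit 1501)])) (.leaf .df))) (.node (.node (.leaf .df) (.leaf (.cyc (nat_lit 4) [(nat_lit 11255), (nat_lit 11888), (nat_lit 11890), (nat_lit 11738), (nat_lit 4054)]))) (.node (.leaf (.cyc (nat_lit 11) [(nat_lit 1391), (nat_lit 475), (nat_lit 4551), (nat_lit 763), (nat_lit 4990),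 (nat_lit 7795), (nat_lit 4835), (nat_lit 1681)])) (.leaf .df)))))) (.node (.node (.node (.node (.node (.leaf .df) (.leaf (.cyc (nat_lit 13) [(nat_lit 1949), (nat_lit 1951), (nat_lit 8564), (nat_lit 8476), (nat_lit 865), (nat_lit 4582), (nat_lit 867), (nat_lit 2433)]))) (.node (.leaf (.cyc (nat_lit 3) [(nat_lit 4467), (nat_lit 151), (nat_lit 46), (nat_lit 47), (nat_lit 157)])) (.leaf (.cyc (nat_lit 8) [(nat_lit 12661), (nat_lit 12191), (nat_lit 11932), (nat_lit 11933), (nat_lit 11662)])))) (.node (.node (.leaf .df) (.leaf (.cyc (nat_lit 21) [(nat_lit 10614), (nat_lit 3633), (nat_lit 8613), (nat_lit 9014), (nat_lit 3201)]))) (.node (.leaf (.cyc (nat_lit 3) [(nat_lit 2298), (nat_lit 817), (nat_lit 4570), (nat_lit 819), (nat_lit 2308)])) (.leaf .df)))) (.node (.node (.node (.leaf .df) (.leaf (.cyc (nat_lit 3) [(nat_lit 9590), (nat_lit 9546), (nat_lit 5926), (nat_lit 5967), (nat_lit 5968)]))) (.node (.leaf (.cyc (nat_lit 2) [(nat_lit 1285), (nat_lit 1284)]))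 (.leaf .df))) (.node (.node (.leaf .df) (.leaf (.cyc (nat_lit 27) [(nat_lit 3985), (nat_lit 9551), (nat_lit 9550), (nat_lit 3368), (nat_lit 8629), (nat_lit 7019), (nat_lit 7024)]))) (.node (.leaf (.cyc (nat_lit 5) [(nat_lit 3172), (nat_lit 3171)])) (.leaf .df))))) (.node (.node (.node (.node (.leaf .df) (.leaf (.cyc (nat_lit 10) [(nat_lit 6537), (nat_lit 2289), (nat_lit 5050), (nat_lit 2291), (nat_lit 9078)]))) (.node (.leaf (.cyc (nat_lit 12) [(nat_lit 4982), (nat_lit 254), (nat_lit 77), (nat_lit 4365), (nat_lit 73), (nat_lit 4525), (nat_lit 4709), (nat_lit 438), (nat_lit 436)])) (.leaf (.cyc (nat_lit 10) [(nat_lit 4328), (nat_lit 3506), (nat_lit 5643), (nat_lit 3508), (nat_lit 4329)])))) (.node (.node (.leaf .df) (.leaf (.cyc (nat_lit 1) [(nat_lit 8153), (nat_lit 3843)]))) (.node (.leaf (.cyc (nat_lit 8) [(nat_lit 7030), (nat_lit 2654), (nat_lit 968), (nat_lit 966), (nat_lit 2647)])) (.leaf .df)))) (.node (.node (.node (.leaf .df) (.leaf (.cyc (nat_lit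 27) [(nat_lit 3611), (nat_lit 1470), (nat_lit 503), (nat_lit 500), (nat_lit 1463), (nat_lit 3597), (nat_lit 10068)]))) (.node (.leaf (.cyc (nat_lit 9) [(nat_lit 6004), (nat_lit 631), (nat_lit 203), (nat_lit 204), (nat_lit 636)])) (.leaf .df))) (.node (.node (.leaf .df) (.leaf (.cyc (nat_lit 0) [(nat_lit 10683), (nat_lit 12149)]))) (.node (.leaf (.cyc (nat_lit 1) [(nat_lit 7301), (nat_lit 8054)])) (.leaf .df))))))) (.node (.node (.node (.node (.node (.node (.leaf .df) (.leaf (.cyc (nat_lit 29) [(nat_lit 1826), (nat_lit 8437)]))) (.node (.leaf .df) (.leaf (.cyc (nat_lit 27) [(nat_lit 4195), (nat_lit 6795), (nat_lit 10016), (nat_lit 6114), (nat_lit 3966), (nat_lit 11570), (nat_lit 11007)])))) (.node (.node (.leaf .df) (.leaf (.cyc (nat_lit 21) [(nat_lit 7215), (nat_lit 2804), (nat_lit 2805), (nat_lit 9267), (nat_lit 3692)]))) (.node (.leaf (.cyc (nat_lit 28) [(nat_lit 6178), (nat_lit 6390)])) (.leaf .df)))) (.node (.node (.node (.leaf .df) (.leaf (.cyc (nat_lit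 8) [(nat_lit 6779), (nat_lit 6783), (nat_lit 1736), (nat_lit 1735), (nat_lit 7952)]))) (.node (.leaf (.cyc (nat_lit 5) [(nat_lit 1167), (nat_lit 1166)])) (.leaf .df))) (.node (.node (.leaf .df) (.leaf (.cyc (nat_lit 15) [(nat_lit 11508), (nat_lit 3791), (nat_lit 10911), (nat_lit 1841), (nat_lit 6053), (nat_lit 9183), (nat_lit 1884), (nat_lit 10598), (nat_lit 10715)]))) (.node (.leaf (.cyc (nat_lit 15) [(nat_lit 3048), (nat_lit 5338), (nat_lit 5312), (nat_lit 4912), (nat_lit 382), (nat_lit 380), (nat_lit 1118), (nat_lit 2997), (nat_lit 7372)])) (.leaf .df))))) (.node (.node (.node (.node (.leaf .df) (.leaf (.cyc (nat_lit 20) [(nat_lit 2038), (nat_lit 5244), (nat_lit 751), (nat_lit 5499), (nat_lit 5799), (nat_lit 8810), (nat_lit 5132), (nat_lit 2358)]))) (.node (.leaf (.cyc (nat_lit 3) [(nat_lit 606), (nat_lit 195), (nat_lit 193), (nat_lit 4702), (nat_lit 302)])) (.leaf (.cyc (nat_lit 13) [(nat_lit 3450), (nat_lit 3447), (nat_lit 9931), (nat_lit 3308),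 (nat_lit 5469), (nat_lit 3311), (nat_lit 4301)])))) (.node (.node (.leaf .df) (.leaf (.cyc (nat_lit 8) [(nat_lit 10998), (nat_lit 6376), (nat_lit 10089), (nat_lit 10092), (nat_lit 7020)]))) (.node (.leaf (.cyc (nat_lit 22) [(nat_lit 2627), (nat_lit 5713), (nat_lit 497), (nat_lit 4476), (nat_lit 501), (nat_lit 5054), (nat_lit 2306)])) (.leaf .df)))) (.node (.node (.node (.leaf .df) (.leaf (.cyc (nat_lit 1) [(nat_lit 7517), (nat_lit 9974)]))) (.node (.leaf (.cyc (nat_lit 2) [(nat_lit 1640), (nat_lit 1639)])) (.leaf .df))) (.node (.node (.leaf .df) (.leaf (.cyc (nat_lit 18) [(nat_lit 12000), (nat_lit 12022)]))) (.node (.leaf (.cyc (nat_lit 21) [(nat_lit 2812), (nat_lit 7925), (nat_lit 3271), (nat_lit 1237), (nat_lit 4914), (nat_lit 1924)])) (.leaf .df)))))) (.node (.node (.node (.node (.node (.leaf .df) (.leaf (.cyc (nat_lit 18) [(nat_lit 2785), (nat_lit 8694)]))) (.node (.leaf (.cyc (nat_lit 5) [(nat_lit 309), (nat_lit 308)])) (.leaf (.cyc (nat_lit 13)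 [(nat_lit 12790), (nat_lit 12176), (nat_lit 12173), (nat_lit 6820), (nat_lit 6456), (nat_lit 7966), (nat_lit 7177)])))) (.node (.node (.leaf .df) (.leaf (.cyc (nat_lit 25) [(nat_lit 2084), (nat_lit 10741)]))) (.node (.leaf (.cyc (nat_lit 30) [(nat_lit 2432), (nat_lit 5100), (nat_lit 2436), (nat_lit 6646), (nat_lit 1974), (nat_lit 4927), (nat_lit 1976), (nat_lit 6187), (nat_lit 1972), (nat_lit 1970)])) (.leaf .df)))) (.node (.node (.node (.leaf .df) (.leaf (.cyc (nat_lit 19) [(nat_lit 3158), (nat_lit 9717)]))) (.node (.leaf (.cyc (nat_lit 3) [(nat_lit 5614), (nat_lit 1369), (nat_lit 468), (nat_lit 470), (nat_lit 1378)])) (.leaf .df))) (.node (.node (.leaf .df) (.leaf (.cyc (nat_lit 10) [(nat_lit 4020), (nat_lit 2045), (nat_lit 4952), (nat_lit 2047), (nat_lit 6297)]))) (.node (.leaf (.cyc (nat_lit 2) [(nat_lit 3290), (nat_lit 3289)])) (.leaf .df))))) (.node (.node (.node (.node (.leaf .df) (.leaf (.cyc (nat_lit 19) [(nat_lit 6019), (nat_lit 9200)]))) (.node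 (.leaf (.cyc (nat_lit 11) [(nat_lit 316), (nat_lit 4426), (nat_lit 86), (nat_lit 4368), (nat_lit 91), (nat_lit 294), (nat_lit 885)])) (.leaf .df))) (.node (.node (.leaf .df) (.leaf (.cyc (nat_lit 20) [(nat_lit 2187), (nat_lit 775), (nat_lit 772), (nat_lit 2183), (nat_lit 11251), (nat_lit 8575), (nat_lit 7413)]))) (.node (.leaf (.cyc (nat_lit 3) [(nat_lit 5248), (nat_lit 2801), (nat_lit 7157), (nat_lit 1130), (nat_lit 1132)])) (.leaf .df)))) (.node (.node (.node (.leaf .df) (.leaf (.cyc (nat_lit 17) [(nat_lit 3631), (nat_lit 10230)]))) (.node (.leaf (.cyc (nat_lit 14) [(nat_lit 5322), (nat_lit 1925)])) (.leaf .df))) (.node (.node (.leaf .df) (.leaf (.cyc (nat_lit 14) [(nat_lit 11481), (nat_lit 4143)]))) (.node (.leaf (.cyc (nat_lit 25) [(nat_lit 2812), (nat_lit 8180), (nat_lit 5576)])) (.leaf .df))))))))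
noncomputable def c4P111011 : BT Pf := .node c4P1110110 c4P1110111
noncomputable def c4P11101 : BT Pf := .node c4P111010 c4P111011
noncomputable def c4P1110 : BT Pf := .node c4P11100 c4P11101
noncomputable def c4P1111000 : BT Pf := (.node (.node (.node (.node (.node (.node (.node (.leaf .df) (.leaf (.cyc (nat_lit 28) [(nat_lit 7109), (nat_lit 8201), (nat_lit 4662)]))) (.node (.leaf .df) (.leaf (.cyc (nat_lit 10) [(nat_lit 10597), (nat_lit 12185), (nat_lit 12298), (nat_lit 3519), (nat_lit 3521)])))) (.node (.node (.leaf .df) (.leaf (.cyc (nat_lit 26) [(nat_lit 2276), (nat_lit 808), (nat_lit 4562), (nat_lit 4780), (nat_lit 4619), (nat_lit 994), (nat_lit 5209), (nat_lit 1497), (nat_lit 3641)]))) (.node (.leaf (.cyc (nat_lit 8) [(nat_lit 6158), (nat_lit 725), (nat_lit 236), (nat_lit 234), (nat_lit 718)])) (.leaf .df)))) (.node (.node (.node (.leaf .df) (.leaf (.cyc (nat_lit 8) [(nat_lit 1884), (nat_lit 9183), (nat_lit 6054), (nat_lit 4873), (nat_lit 1816)])))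 (.node (.leaf (.cyc (nat_lit 6) [(nat_lit 913), (nat_lit 912)])) (.leaf .df))) (.node (.node (.leaf .df) (.leaf (.cyc (nat_lit 4) [(nat_lit 8453), (nat_lit 5072), (nat_lit 6522), (nat_lit 6566), (nat_lit 3895)]))) (.node (.leaf (.cyc (nat_lit 6) [(nat_lit 2832), (nat_lit 2831)])) (.leaf .df))))) (.node (.node (.node (.node (.leaf .df) (.leaf (.cyc (nat_lit 3) [(nat_lit 6149), (nat_lit 1933), (nat_lit 4963), (nat_lit 2073), (nat_lit 8716), (nat_lit 2693)]))) (.node (.leaf (.cyc (nat_lit 2) [(nat_lit 340), (nat_lit 339)])) (.leaf (.cyc (nat_lit 13) [(nat_lit 3707), (nat_lit 9874), (nat_lit 11402), (nat_lit 7967), (nat_lit 7198), (nat_lit 7968), (nat_lit 4257)])))) (.node (.node (.leaf .df) (.leaf (.cyc (nat_lit 27) [(nat_lit 6396), (nat_lit 10764), (nat_lit 5822), (nat_lit 4812), (nat_lit 1605), (nat_lit 10381), (nat_lit 7129)]))) (.node (.leaf (.cyc (nat_lit 5) [(nat_lit 2453), (nat_lit 2452)])) (.leaf .df)))) (.node (.node (.node (.leaf .df) (.leaf (.cyc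 (nat_lit 8) [(nat_lit 2639), (nat_lit 2637), (nat_lit 8639), (nat_lit 5622), (nat_lit 3460)]))) (.node (.leaf (.cyc (nat_lit 8) [(nat_lit 490), (nat_lit 4470), (nat_lit 4607), (nat_lit 947), (nat_lit 5646)])) (.leaf .df))) (.node (.node (.leaf .df) (.leaf (.cyc (nat_lit 6) [(nat_lit 11790), (nat_lit 8969)]))) (.node (.leaf (.cyc (nat_lit 26) [(nat_lit 1720), (nat_lit 597), (nat_lit 4497), (nat_lit 593), (nat_lit 5813), (nat_lit 5814), (nat_lit 1263), (nat_lit 1261), (nat_lit 3304)])) (.leaf .df)))))) (.node (.node (.node (.node (.node (.leaf .df) (.leaf (.cyc (nat_lit 29) [(nat_lit 3105), (nat_lit 8461)]))) (.node (.leaf (.cyc (nat_lit 5) [(nat_lit 23), (nat_lit 22)])) (.leaf (.cyc (nat_lit 16) [(nat_lit 11669), (nat_lit 3993), (nat_lit 11587), (nat_lit 11588), (nat_lit 11590), (nat_lit 11593), (nat_lit 12555), (nat_lit 12556), (nat_lit 12558)])))) (.node (.node (.leaf .df) (.leaf (.cyc (nat_lit 28) [(nat_lit 10293), (nat_lit 10510)]))) (.node (.leaf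 (.cyc (nat_lit 4) [(nat_lit 2218), (nat_lit 785), (nat_lit 783), (nat_lit 6350), (nat_lit 6351)])) (.leaf .df)))) (.node (.node (.node (.leaf .df) (.leaf (.cyc (nat_lit 1) [(nat_lit 8020), (nat_lit 3333)]))) (.node (.leaf (.cyc (nat_lit 19) [(nat_lit 887), (nat_lit 5389)])) (.leaf .df))) (.node (.node (.leaf .df) (.leaf (.cyc (nat_lit 27) [(nat_lit 3960), (nat_lit 6102), (nat_lit 5785), (nat_lit 9949), (nat_lit 9946), (nat_lit 6090), (nat_lit 3939)]))) (.node (.leaf (.cyc (nat_lit 29) [(nat_lit 5863), (nat_lit 7437)])) (.leaf .df))))) (.node (.node (.node (.node (.leaf .df) (.leaf (.cyc (nat_lit 29) [(nat_lit 2480), (nat_lit 8973)]))) (.node (.leaf (.cyc (nat_lit 0) [(nat_lit 4805), (nat_lit 638)])) (.leaf (.cyc (nat_lit 4) [(nat_lit 4307), (nat_lit 9503), (nat_lit 11632), (nat_lit 11804), (nat_lit 12604)])))) (.node (.node (.leaf .df) (.leaf (.cyc (nat_lit 3) [(nat_lit 9475), (nat_lit 9474), (nat_lit 9190), (nat_lit 9192), (nat_lit 3815)]))) (.node (.leaf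 (.cyc (nat_lit 8) [(nat_lit 6713), (nat_lit 6926), (nat_lit 1715), (nat_lit 6922), (nat_lit 1004)])) (.leaf .df)))) (.node (.node (.node (.leaf .df) (.leaf (.cyc (nat_lit 15) [(nat_lit 9997), (nat_lit 1890), (nat_lit 659), (nat_lit 213), (nat_lit 214), (nat_lit 662), (nat_lit 5025), (nat_lit 2076), (nat_lit 6288)]))) (.node (.leaf (.cyc (nat_lit 2) [(nat_lit 1664), (nat_lit 1663)])) (.leaf .df))) (.node (.node (.leaf .df) (.leaf (.cyc (nat_lit 29) [(nat_lit 3566), (nat_lit 12045)]))) (.node (.leaf (.cyc (nat_lit 28) [(nat_lit 2859), (nat_lit 7944)])) (.leaf .df))))))) (.node (.node (.node (.node (.node (.node (.leaf .df) (.leaf (.cyc (nat_lit 29) [(nat_lit 6594), (nat_lit 8333)]))) (.node (.leaf .df) (.leaf (.cyc (nat_lit 4) [(nat_lit 4173), (nat_lit 2468), (nat_lit 2466), (nat_lit 10469), (nat_lit 11616)])))) (.node (.node (.leaf .df) (.leaf (.cyc (nat_lit 2) [(nat_lit 3675), (nat_lit 3674)]))) (.node (.leaf (.cyc (nat_lit 14) [(nat_lit 5028), (nat_lit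 2090)])) (.leaf .df)))) (.node (.node (.node (.leaf .df) (.leaf (.cyc (nat_lit 5) [(nat_lit 9358), (nat_lit 9258)]))) (.node (.leaf (.cyc (nat_lit 6) [(nat_lit 1050), (nat_lit 1049)])) (.leaf .df))) (.node (.node (.leaf .df) (.leaf (.cyc (nat_lit 10) [(nat_lit 3920), (nat_lit 10805), (nat_lit 9332), (nat_lit 2386), (nat_lit 2389)]))) (.node (.leaf (.cyc (nat_lit 1) [(nat_lit 6822), (nat_lit 2962)])) (.leaf .df))))) (.node (.node (.node (.node (.leaf .df) (.leaf (.cyc (nat_lit 29) [(nat_lit 6215), (nat_lit 8845)]))) (.node (.leaf (.cyc (nat_lit 3) [(nat_lit 462), (nat_lit 147), (nat_lit 4384), (nat_lit 152), (nat_lit 478)])) (.leaf (.cyc (nat_lit 0) [(nat_lit 12758), (nat_lit 12942)])))) (.node (.node (.leaf .df) (.leaf (.cyc (nat_lit 14) [(nat_lit 7814), (nat_lit 3787)]))) (.node (.leaf (.cyc (nat_lit 8) [(nat_lit 2549), (nat_lit 2548), (nat_lit 6797), (nat_lit 1025), (nat_lit 1026)])) (.leaf .df)))) (.node (.node (.node (.leaf .df) (.leaf (.cyc (nat_lit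 6) [(nat_lit 3529), (nat_lit 3528)]))) (.node (.leaf (.cyc (nat_lit 8) [(nat_lit 913), (nat_lit 305), (nat_lit 307), (nat_lit 5524), (nat_lit 1521)])) (.leaf .df))) (.node (.node (.leaf .df) (.leaf (.cyc (nat_lit 1) [(nat_lit 11911), (nat_lit 4060)]))) (.node (.leaf (.cyc (nat_lit 17) [(nat_lit 5358), (nat_lit 7820)])) (.leaf .df)))))) (.node (.node (.node (.node (.node (.leaf .df) (.leaf (.cyc (nat_lit 29) [(nat_lit 6074), (nat_lit 8586)]))) (.node (.leaf (.cyc (nat_lit 4) [(nat_lit 188), (nat_lit 56), (nat_lit 4362), (nat_lit 52), (nat_lit 172)])) (.leaf (.cyc (nat_lit 3) [(nat_lit 12686), (nat_lit 4058), (nat_lit 6314), (nat_lit 11911), (nat_lit 11910)])))) (.node (.node (.leaf .df) (.leaf (.cyc (nat_lit 9) [(nat_lit 3721), (nat_lit 1571), (nat_lit 4803), (nat_lit 1568), (nat_lit 3715)]))) (.node (.leaf (.cyc (nat_lit 5) [(nat_lit 2336), (nat_lit 2335)])) (.leaf .df)))) (.node (.node (.node (.leaf .df) (.leaf (.cyc (nat_lit 3) [(nat_lit 2885), (nat_lit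 2883), (nat_lit 9612), (nat_lit 9607), (nat_lit 1340), (nat_lit 1341)]))) (.node (.leaf (.cyc (nat_lit 3) [(nat_lit 878), (nat_lit 876), (nat_lit 5317), (nat_lit 5516), (nat_lit 698), (nat_lit 700)])) (.leaf .df))) (.node (.node (.leaf .df) (.leaf (.cyc (nat_lit 14) [(nat_lit 8553), (nat_lit 3992)]))) (.node (.leaf (.cyc (nat_lit 5) [(nat_lit 3197), (nat_lit 3196)])) (.leaf .df))))) (.node (.node (.node (.node (.leaf .df) (.leaf (.cyc (nat_lit 20) [(nat_lit 1517), (nat_lit 5851), (nat_lit 5849), (nat_lit 5854), (nat_lit 9089), (nat_lit 3144), (nat_lit 5379), (nat_lit 2975)]))) (.node (.leaf (.cyc (nat_lit 1) [(nat_lit 4928), (nat_lit 777)])) (.leaf (.cyc (nat_lit 20) [(nat_lit 12392), (nat_lit 12396), (nat_lit 7535), (nat_lit 12146), (nat_lit 11485), (nat_lit 12660), (nat_lit 13197)])))) (.node (.node (.leaf .df) (.leaf (.cyc (nat_lit 5) [(nat_lit 11150), (nat_lit 6607)]))) (.node (.leaf (.cyc (nat_lit 0) [(nat_lit 2723), (nat_lit 7054)])) (.leaf .df))))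 (.node (.node (.node (.leaf .df) (.leaf (.cyc (nat_lit 9) [(nat_lit 3571), (nat_lit 9990), (nat_lit 4772), (nat_lit 1476), (nat_lit 3615)]))) (.node (.leaf (.cyc (nat_lit 2) [(nat_lit 1805), (nat_lit 1804)])) (.leaf .df))) (.node (.node (.leaf .df) (.leaf (.cyc (nat_lit 6) [(nat_lit 12174), (nat_lit 11141)]))) (.node (.leaf (.cyc (nat_lit 4) [(nat_lit 2224), (nat_lit 5017), (nat_lit 2228), (nat_lit 8069), (nat_lit 7635), (nat_lit 3266)])) (.leaf .df))))))))
noncomputable def c4P1111001 : BT Pf := (.node (.node (.node (.node (.node (.node (.node (.leaf .df) (.leaf (.cyc (nat_lit 25) [(nat_lit 7163), (nat_lit 8266), (nat_lit 5992)]))) (.node (.leaf .df) (.leaf (.cyc (nat_lit 29) [(nat_lit 3922), (nat_lit 12365)])))) (.node (.node (.leaf .df) (.leaf (.cyc (nat_lit 18) [(nat_lit 3574), (nat_lit 10318)]))) (.node (.leaf (.cyc (nat_lit 8) [(nat_lit 1973), (nat_lit 1971), (nat_lit 6221), (nat_lit 2008), (nat_lit 2010)])) (.leaf .df)))) (.node (.node (.node (.leaf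 .df) (.leaf (.cyc (nat_lit 20) [(nat_lit 5622), (nat_lit 8639), (nat_lit 2637), (nat_lit 5183), (nat_lit 2641), (nat_lit 9088), (nat_lit 9086)]))) (.node (.leaf (.cyc (nat_lit 6) [(nat_lit 984), (nat_lit 983)])) (.leaf .df))) (.node (.node (.leaf .df) (.leaf (.cyc (nat_lit 2) [(nat_lit 3908), (nat_lit 10007)]))) (.node (.leaf (.cyc (nat_lit 4) [(nat_lit 1196), (nat_lit 4679), (nat_lit 4640), (nat_lit 1081), (nat_lit 2918)])) (.leaf .df))))) (.node (.node (.node (.node (.leaf .df) (.leaf (.cyc (nat_lit 17) [(nat_lit 6737), (nat_lit 8779), (nat_lit 3166)]))) (.node (.leaf (.cyc (nat_lit 9) [(nat_lit 413), (nat_lit 131), (nat_lit 4378), (nat_lit 128), (nat_lit 406)])) (.leaf (.cyc (nat_lit 20) [(nat_lit 10029), (nat_lit 6200), (nat_lit 4937), (nat_lit 1917), (nat_lit 10483), (nat_lit 10312), (nat_lit 12877)])))) (.node (.node (.leaf .df) (.leaf (.cyc (nat_lit 8) [(nat_lit 10685), (nat_lit 3406), (nat_lit 9617), (nat_lit 10830), (nat_lit 3766)]))) (.node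 (.leaf (.cyc (nat_lit 20) [(nat_lit 6457), (nat_lit 933), (nat_lit 4601), (nat_lit 936), (nat_lit 6734), (nat_lit 6733), (nat_lit 6725)])) (.leaf .df)))) (.node (.node (.node (.leaf .df) (.leaf (.cyc (nat_lit 0) [(nat_lit 8853), (nat_lit 3487)]))) (.node (.leaf (.cyc (nat_lit 25) [(nat_lit 1448), (nat_lit 5709)])) (.leaf .df))) (.node (.node (.leaf .df) (.leaf (.cyc (nat_lit 2) [(nat_lit 4046), (nat_lit 4045)]))) (.node (.leaf (.cyc (nat_lit 17) [(nat_lit 3065), (nat_lit 7751), (nat_lit 1580)])) (.leaf .df)))))) (.node (.node (.node (.node (.node (.leaf .df) (.leaf (.cyc (nat_lit 28) [(nat_lit 5754), (nat_lit 8526)]))) (.node (.leaf (.cyc (nat_lit 2) [(nat_lit 101), (nat_lit 4428)])) (.leaf (.cyc (nat_lit 17) [(nat_lit 4185), (nat_lit 12621)])))) (.node (.node (.leaf .df) (.leaf (.cyc (nat_lit 17) [(nat_lit 3605), (nat_lit 10574)]))) (.node (.leaf (.cyc (nat_lit 5) [(nat_lit 2281), (nat_lit 2280)])) (.leaf .df)))) (.node (.node (.node (.leaf .df) (.leaf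 (.cyc (nat_lit 10) [(nat_lit 6179), (nat_lit 8556), (nat_lit 5546), (nat_lit 3368), (nat_lit 9550)]))) (.node (.leaf (.cyc (nat_lit 9) [(nat_lit 1238), (nat_lit 421), (nat_lit 4454), (nat_lit 425), (nat_lit 1251)])) (.leaf .df))) (.node (.node (.leaf .df) (.leaf (.cyc (nat_lit 11) [(nat_lit 3010), (nat_lit 8700), (nat_lit 1952), (nat_lit 1949), (nat_lit 8568), (nat_lit 9465), (nat_lit 3974)]))) (.node (.leaf (.cyc (nat_lit 8) [(nat_lit 3133), (nat_lit 7439), (nat_lit 813), (nat_lit 811), (nat_lit 2283)])) (.leaf .df))))) (.node (.node (.node (.node (.leaf .df) (.leaf (.cyc (nat_lit 30) [(nat_lit 6114), (nat_lit 9034), (nat_lit 5468), (nat_lit 7702), (nat_lit 7700), (nat_lit 6138), (nat_lit 6139), (nat_lit 6140), (nat_lit 3276)]))) (.node (.leaf (.cyc (nat_lit 10) [(nat_lit 240), (nat_lit 72), (nat_lit 70), (nat_lit 231), (nat_lit 709)])) (.leaf (.cyc (nat_lit 8) [(nat_lit 11209), (nat_lit 7213), (nat_lit 4256), (nat_lit 12810), (nat_lit 4321)])))) (.node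 (.node (.leaf .df) (.leaf (.cyc (nat_lit 8) [(nat_lit 9725), (nat_lit 11086), (nat_lit 3832), (nat_lit 1696), (nat_lit 1698)]))) (.node (.leaf (.cyc (nat_lit 6) [(nat_lit 2676), (nat_lit 2675)])) (.leaf .df)))) (.node (.node (.node (.leaf .df) (.leaf (.cyc (nat_lit 2) [(nat_lit 3595), (nat_lit 6899)]))) (.node (.leaf (.cyc (nat_lit 3) [(nat_lit 5926), (nat_lit 5924), (nat_lit 1350), (nat_lit 4856), (nat_lit 1741)])) (.leaf .df))) (.node (.node (.leaf .df) (.leaf (.cyc (nat_lit 28) [(nat_lit 11987), (nat_lit 12110)]))) (.node (.leaf (.cyc (nat_lit 25) [(nat_lit 7209), (nat_lit 8011)])) (.leaf .df))))))) (.node (.node (.node (.node (.node (.node (.leaf .df) (.leaf (.cyc (nat_lit 29) [(nat_lit 6427), (nat_lit 8397)]))) (.node (.leaf .df) (.leaf (.cyc (nat_lit 11) [(nat_lit 12348), (nat_lit 7432), (nat_lit 10546), (nat_lit 10545), (nat_lit 12492), (nat_lit 4186), (nat_lit 4187)])))) (.node (.node (.leaf .df) (.leaf (.cyc (nat_lit 19) [(nat_lit 7694), (nat_lit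 10444)]))) (.node (.leaf (.cyc (nat_lit 13) [(nat_lit 6350), (nat_lit 783), (nat_lit 257), (nat_lit 4407), (nat_lit 251), (nat_lit 4993), (nat_lit 1415)])) (.leaf .df)))) (.node (.node (.node (.leaf .df) (.leaf (.cyc (nat_lit 26) [(nat_lit 6635), (nat_lit 6636), (nat_lit 1950), (nat_lit 1952), (nat_lit 8700), (nat_lit 5326), (nat_lit 5325), (nat_lit 5329), (nat_lit 3023), (nat_lit 9421)]))) (.node (.leaf (.cyc (nat_lit 2) [(nat_lit 1126), (nat_lit 1125)])) (.leaf .df))) (.node (.node (.leaf .df) (.leaf (.cyc (nat_lit 9) [(nat_lit 11469), (nat_lit 10824), (nat_lit 10825), (nat_lit 5886), (nat_lit 3784)]))) (.node (.leaf (.cyc (nat_lit 7) [(nat_lit 2578), (nat_lit 935), (nat_lit 311), (nat_lit 313), (nat_lit 938), (nat_lit 2583), (nat_lit 7374)])) (.leaf .df))))) (.node (.node (.node (.node (.leaf .df) (.leaf (.cyc (nat_lit 8) [(nat_lit 8829), (nat_lit 2262), (nat_lit 2265), (nat_lit 7966), (nat_lit 7178)]))) (.node (.leaf (.cyc (nat_lit 15) [(nat_lit 560),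 (nat_lit 4488), (nat_lit 4565), (nat_lit 268), (nat_lit 4412), (nat_lit 4410), (nat_lit 4411), (nat_lit 102), (nat_lit 322)])) (.leaf (.cyc (nat_lit 4) [(nat_lit 4294), (nat_lit 7601), (nat_lit 9965), (nat_lit 3557), (nat_lit 10441)])))) (.node (.node (.leaf .df) (.leaf (.cyc (nat_lit 8) [(nat_lit 10235), (nat_lit 10236), (nat_lit 10957), (nat_lit 3804), (nat_lit 5973)]))) (.node (.leaf (.cyc (nat_lit 30) [(nat_lit 6513), (nat_lit 6862), (nat_lit 2599), (nat_lit 5165), (nat_lit 715), (nat_lit 716), (nat_lit 5382), (nat_lit 1189), (nat_lit 1187)])) (.leaf .df)))) (.node (.node (.node (.leaf .df) (.leaf (.cyc (nat_lit 28) [(nat_lit 6743), (nat_lit 9934)]))) (.node (.leaf (.cyc (nat_lit 1) [(nat_lit 5822), (nat_lit 1600)])) (.leaf .df))) (.node (.node (.leaf .df) (.leaf (.cyc (nat_lit 15) [(nat_lit 11981), (nat_lit 11044), (nat_lit 10897), (nat_lit 6086), (nat_lit 1675), (nat_lit 1673), (nat_lit 6089), (nat_lit 3936), (nat_lit 11586)]))) (.node (.leaf (.cyc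 (nat_lit 17) [(nat_lit 5472), (nat_lit 7884)])) (.leaf .df)))))) (.node (.node (.node (.node (.node (.leaf .df) (.leaf (.cyc (nat_lit 25) [(nat_lit 2454), (nat_lit 8651)]))) (.node (.leaf (.cyc (nat_lit 5) [(nat_lit 259), (nat_lit 258)])) (.leaf (.cyc (nat_lit 8) [(nat_lit 9986), (nat_lit 12750), (nat_lit 4243), (nat_lit 12744), (nat_lit 11919)])))) (.node (.node (.leaf .df) (.leaf (.cyc (nat_lit 21) [(nat_lit 2846), (nat_lit 5263), (nat_lit 9377), (nat_lit 5832), (nat_lit 3734)]))) (.node (.leaf (.cyc (nat_lit 10) [(nat_lit 2395), (nat_lit 854), (nat_lit 4579), (nat_lit 856), (nat_lit 2399)])) (.leaf .df)))) (.node (.node (.node (.leaf .df) (.leaf (.cyc (nat_lit 22) [(nat_lit 3435), (nat_lit 5744), (nat_lit 5743), (nat_lit 5202), (nat_lit 5552), (nat_lit 4772), (nat_lit 1478)]))) (.node (.leaf (.cyc (nat_lit 20) [(nat_lit 4795), (nat_lit 4545), (nat_lit 173), (nat_lit 4475), (nat_lit 4727), (nat_lit 1331), (nat_lit 5580)])) (.leaf .df))) (.node (.node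 (.leaf .df) (.leaf (.cyc (nat_lit 5) [(nat_lit 4008), (nat_lit 4007)]))) (.node (.leaf (.cyc (nat_lit 7) [(nat_lit 3247), (nat_lit 1227), (nat_lit 417), (nat_lit 4664), (nat_lit 4667), (nat_lit 1145), (nat_lit 6800)])) (.leaf .df))))) (.node (.node (.node (.node (.leaf .df) (.leaf (.cyc (nat_lit 27) [(nat_lit 6328), (nat_lit 7832), (nat_lit 9160), (nat_lit 9151), (nat_lit 2840), (nat_lit 5261), (nat_lit 6293), (nat_lit 6292)]))) (.node (.leaf (.cyc (nat_lit 4) [(nat_lit 838), (nat_lit 276), (nat_lit 274), (nat_lit 829), (nat_lit 5063)])) (.leaf (.cyc (nat_lit 0) [(nat_lit 13211), (nat_lit 4347)])))) (.node (.node (.leaf .df) (.leaf (.cyc (nat_lit 0) [(nat_lit 6670), (nat_lit 11214)]))) (.node (.leaf (.cyc (nat_lit 4) [(nat_lit 1079), (nat_lit 4639), (nat_lit 1028), (nat_lit 7050), (nat_lit 7118)])) (.leaf .df)))) (.node (.node (.node (.leaf .df) (.leaf (.cyc (nat_lit 25) [(nat_lit 9126), (nat_lit 10188)]))) (.node (.leaf (.cyc (nat_lit 8) [(nat_lit 1870),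 (nat_lit 1868), (nat_lit 6093), (nat_lit 1259), (nat_lit 1260)])) (.leaf .df))) (.node (.node (.leaf .df) (.leaf (.cyc (nat_lit 11) [(nat_lit 2351), (nat_lit 835), (nat_lit 276), (nat_lit 273), (nat_lit 827), (nat_lit 2329), (nat_lit 4135)]))) (.node (.leaf (.cyc (nat_lit 28) [(nat_lit 2890), (nat_lit 8141)])) (.leaf .df))))))))
noncomputable def c4P111100 : BT Pf := .node c4P1111000 c4P1111001
noncomputable def c4P1111010 : BT Pf := (.node (.node (.node (.node (.node (.node (.node (.leaf .df) (.leaf (.cyc (nat_lit 17) [(nat_lit 7519), (nat_lit 8227)]))) (.node (.leaf .df) (.leaf (.cyc (nat_lit 9) [(nat_lit 11787), (nat_lit 4017), (nat_lit 11863), (nat_lit 11461), (nat_lit 4150)])))) (.node (.node (.leaf .df) (.leaf (.cyc (nat_lit 13) [(nat_lit 9044), (nat_lit 9042), (nat_lit 7891), (nat_lit 5367), (nat_lit 6941), (nat_lit 6564), (nat_lit 10286)]))) (.node (.leaf (.cyc (nat_lit 5) [(nat_lit 1982), (nat_lit 1981)])) (.leaf .df)))) (.node (.node (.node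 (.leaf .df) (.leaf (.cyc (nat_lit 18) [(nat_lit 2983), (nat_lit 9262)]))) (.node (.leaf (.cyc (nat_lit 1) [(nat_lit 5121), (nat_lit 946)])) (.leaf .df))) (.node (.node (.leaf .df) (.leaf (.cyc (nat_lit 2) [(nat_lit 3899), (nat_lit 9329)]))) (.node (.leaf (.cyc (nat_lit 0) [(nat_lit 7161), (nat_lit 2878)])) (.leaf .df))))) (.node (.node (.node (.node (.leaf .df) (.leaf (.cyc (nat_lit 18) [(nat_lit 7603), (nat_lit 8737)]))) (.node (.leaf (.cyc (nat_lit 3) [(nat_lit 308), (nat_lit 310), (nat_lit 4654), (nat_lit 4443), (nat_lit 375)])) (.leaf (.cyc (nat_lit 14) [(nat_lit 12519), (nat_lit 12846)])))) (.node (.node (.leaf .df) (.leaf (.cyc (nat_lit 0) [(nat_lit 10791), (nat_lit 10797)]))) (.node (.leaf (.cyc (nat_lit 28) [(nat_lit 6451), (nat_lit 6702)])) (.leaf .df)))) (.node (.node (.node (.leaf .df) (.leaf (.cyc (nat_lit 3) [(nat_lit 1385), (nat_lit 473), (nat_lit 471), (nat_lit 1381), (nat_lit 3466)]))) (.node (.leaf (.cyc (nat_lit 2) [(nat_lit 1443), (nat_lit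 1442)])) (.leaf .df))) (.node (.node (.leaf .df) (.leaf (.cyc (nat_lit 31) [(nat_lit 3364), (nat_lit 1298), (nat_lit 1295), (nat_lit 10761), (nat_lit 11820), (nat_lit 4035), (nat_lit 6269), (nat_lit 10552)]))) (.node (.leaf (.cyc (nat_lit 14) [(nat_lit 6110), (nat_lit 3327)])) (.leaf .df)))))) (.node (.node (.node (.node (.node (.leaf .df) (.leaf (.cyc (nat_lit 18) [(nat_lit 2782), (nat_lit 8492)]))) (.node (.leaf (.cyc (nat_lit 3) [(nat_lit 4390), (nat_lit 55), (nat_lit 15), (nat_lit 17), (nat_lit 64)])) (.leaf (.cyc (nat_lit 2) [(nat_lit 4208), (nat_lit 11034)])))) (.node (.node (.leaf .df) (.leaf (.cyc (nat_lit 20) [(nat_lit 2165), (nat_lit 7773), (nat_lit 1669), (nat_lit 1670), (nat_lit 10523), (nat_lit 10542), (nat_lit 7415)]))) (.node (.leaf (.cyc (nat_lit 25) [(nat_lit 1623), (nat_lit 6445)])) (.leaf .df)))) (.node (.node (.node (.leaf .df) (.leaf (.cyc (nat_lit 11) [(nat_lit 1451), (nat_lit 496), (nat_lit 498), (nat_lit 5582), (nat_lit 1294),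 (nat_lit 1293), (nat_lit 3360)]))) (.node (.leaf (.cyc (nat_lit 6) [(nat_lit 1225), (nat_lit 1224)])) (.leaf .df))) (.node (.node (.leaf .df) (.leaf (.cyc (nat_lit 14) [(nat_lit 9035), (nat_lit 3966)]))) (.node (.leaf (.cyc (nat_lit 5) [(nat_lit 3094), (nat_lit 3093)])) (.leaf .df))))) (.node (.node (.node (.node (.leaf .df) (.leaf (.cyc (nat_lit 19) [(nat_lit 1585), (nat_lit 8994)]))) (.node (.leaf (.cyc (nat_lit 23) [(nat_lit 374), (nat_lit 119), (nat_lit 4377), (nat_lit 124), (nat_lit 4446), (nat_lit 4452), (nat_lit 420), (nat_lit 4693), (nat_lit 671)])) (.leaf (.cyc (nat_lit 11) [(nat_lit 11182), (nat_lit 11010), (nat_lit 11701), (nat_lit 12134), (nat_lit 12058), (nat_lit 12721), (nat_lit 4313)])))) (.node (.node (.leaf .df) (.leaf (.cyc (nat_lit 0) [(nat_lit 7597), (nat_lit 11054)]))) (.node (.leaf (.cyc (nat_lit 29) [(nat_lit 977), (nat_lit 6957)])) (.leaf .df)))) (.node (.node (.node (.leaf .df) (.leaf (.cyc (nat_lit 23) [(nat_lit 9945), (nat_lit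 6465), (nat_lit 6462), (nat_lit 1426), (nat_lit 5305), (nat_lit 8511), (nat_lit 1961), (nat_lit 8516), (nat_lit 3585)]))) (.node (.leaf (.cyc (nat_lit 3) [(nat_lit 1688), (nat_lit 585), (nat_lit 4496), (nat_lit 590), (nat_lit 1703)])) (.leaf .df))) (.node (.node (.leaf .df) (.leaf (.cyc (nat_lit 20) [(nat_lit 4044), (nat_lit 11391), (nat_lit 5423), (nat_lit 3241), (nat_lit 12078), (nat_lit 12077), (nat_lit 2305), (nat_lit 2302)]))) (.node (.leaf (.cyc (nat_lit 25) [(nat_lit 2745), (nat_lit 7982), (nat_lit 2952)])) (.leaf .df))))))) (.node (.node (.node (.node (.node (.node (.leaf .df) (.leaf (.cyc (nat_lit 25) [(nat_lit 6192), (nat_lit 8363)]))) (.node (.leaf .df) (.leaf (.cyc (nat_lit 5) [(nat_lit 12461), (nat_lit 12400)])))) (.node (.node (.leaf .df) (.leaf (.cyc (nat_lit 7) [(nat_lit 9553), (nat_lit 9556), (nat_lit 9965), (nat_lit 3556), (nat_lit 9967), (nat_lit 5789), (nat_lit 3679)]))) (.node (.leaf (.cyc (nat_lit 8) [(nat_lit 2124), (nat_lit 2122),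 (nat_lit 6316), (nat_lit 1554), (nat_lit 1556)])) (.leaf .df)))) (.node (.node (.node (.leaf .df) (.leaf (.cyc (nat_lit 11) [(nat_lit 7727), (nat_lit 1889), (nat_lit 4898), (nat_lit 4863), (nat_lit 4864), (nat_lit 1768), (nat_lit 8752)]))) (.node (.leaf (.cyc (nat_lit 14) [(nat_lit 4681), (nat_lit 1090)])) (.leaf .df))) (.node (.node (.leaf .df) (.leaf (.cyc (nat_lit 28) [(nat_lit 10634), (nat_lit 11438)]))) (.node (.leaf (.cyc (nat_lit 3) [(nat_lit 1397), (nat_lit 5601), (nat_lit 6681), (nat_lit 6676), (nat_lit 2987)])) (.leaf .df))))) (.node (.node (.node (.node (.leaf .df) (.leaf (.cyc (nat_lit 13) [(nat_lit 2588), (nat_lit 8878), (nat_lit 8832), (nat_lit 6236), (nat_lit 8194), (nat_lit 5575), (nat_lit 8763)]))) (.node (.leaf (.cyc (nat_lit 5) [(nat_lit 518), (nat_lit 517)])) (.leaf (.cyc (nat_lit 2) [(nat_lit 12974), (nat_lit 12973)])))) (.node (.node (.leaf .df) (.leaf (.cyc (nat_lit 3) [(nat_lit 3198), (nat_lit 5438), (nat_lit 10539), (nat_lit 10541),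 (nat_lit 10926)]))) (.node (.leaf (.cyc (nat_lit 3) [(nat_lit 2581), (nat_lit 6510), (nat_lit 5128), (nat_lit 5103), (nat_lit 2439)])) (.leaf .df)))) (.node (.node (.node (.leaf .df) (.leaf (.cyc (nat_lit 3) [(nat_lit 8896), (nat_lit 3543), (nat_lit 9900), (nat_lit 9901), (nat_lit 3491), (nat_lit 3492)]))) (.node (.leaf (.cyc (nat_lit 14) [(nat_lit 5481), (nat_lit 1552)])) (.leaf .df))) (.node (.node (.leaf .df) (.leaf (.cyc (nat_lit 19) [(nat_lit 3861), (nat_lit 11950)]))) (.node (.leaf (.cyc (nat_lit 29) [(nat_lit 3246), (nat_lit 7852)])) (.leaf .df)))))) (.node (.node (.node (.node (.node (.leaf .df) (.leaf (.cyc (nat_lit 19) [(nat_lit 2731), (nat_lit 8622)]))) (.node (.leaf (.cyc (nat_lit 4) [(nat_lit 221), (nat_lit 67), (nat_lit 18), (nat_lit 21), (nat_lit 76)])) (.leaf (.cyc (nat_lit 4) [(nat_lit 4094), (nat_lit 9984), (nat_lit 12246), (nat_lit 12240), (nat_lit 12718)])))) (.node (.node (.leaf .df) (.leaf (.cyc (nat_lit 19) [(nat_lit 10659), (nat_lit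 10669)]))) (.node (.leaf (.cyc (nat_lit 7) [(nat_lit 2361), (nat_lit 840), (nat_lit 277), (nat_lit 4416), (nat_lit 4426), (nat_lit 315), (nat_lit 943)])) (.leaf .df)))) (.node (.node (.node (.leaf .df) (.leaf (.cyc (nat_lit 1) [(nat_lit 5660), (nat_lit 3419)]))) (.node (.leaf (.cyc (nat_lit 15) [(nat_lit 1303), (nat_lit 446), (nat_lit 4461), (nat_lit 49), (nat_lit 50), (nat_lit 164), (nat_lit 4501), (nat_lit 613), (nat_lit 5203)])) (.leaf .df))) (.node (.node (.leaf .df) (.leaf (.cyc (nat_lit 7) [(nat_lit 2329), (nat_lit 5060), (nat_lit 8441), (nat_lit 1910), (nat_lit 6198), (nat_lit 1988), (nat_lit 4000)]))) (.node (.leaf (.cyc (nat_lit 3) [(nat_lit 7596), (nat_lit 7598), (nat_lit 6469), (nat_lit 6470), (nat_lit 2709)])) (.leaf .df))))) (.node (.node (.node (.node (.leaf .df) (.leaf (.cyc (nat_lit 8) [(nat_lit 2101), (nat_lit 2099), (nat_lit 6295), (nat_lit 9134), (nat_lit 9132), (nat_lit 7389)]))) (.node (.leaf (.cyc (nat_lit 2) [(nat_lit 809), (nat_lit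 4604)])) (.leaf (.cyc (nat_lit 0) [(nat_lit 12708), (nat_lit 13230)])))) (.node (.node (.leaf .df) (.leaf (.cyc (nat_lit 2) [(nat_lit 3866), (nat_lit 8718)]))) (.node (.leaf (.cyc (nat_lit 2) [(nat_lit 2738), (nat_lit 2737)])) (.leaf .df)))) (.node (.node (.node (.leaf .df) (.leaf (.cyc (nat_lit 8) [(nat_lit 5738), (nat_lit 10157), (nat_lit 9585), (nat_lit 9587), (nat_lit 9834), (nat_lit 9846)]))) (.node (.leaf (.cyc (nat_lit 6) [(nat_lit 1839), (nat_lit 1838)])) (.leaf .df))) (.node (.node (.leaf .df) (.leaf (.cyc (nat_lit 14) [(nat_lit 12203), (nat_lit 4129)]))) (.node (.leaf (.cyc (nat_lit 17) [(nat_lit 5588), (nat_lit 8108)])) (.leaf .df))))))))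
noncomputable def c4P1111011 : BT Pf := (.node (.node (.node (.node (.node (.node (.node (.leaf .df) (.leaf (.cyc (nat_lit 28) [(nat_lit 8044), (nat_lit 8293)]))) (.node (.leaf .df) (.leaf (.cyc (nat_lit 8) [(nat_lit 4165), (nat_lit 10951), (nat_lit 10950), (nat_lit 10944), (nat_lit 6925)])))) (.node (.node (.leaf .df) (.leaf (.cyc (nat_lit 0) [(nat_lit 9019), (nat_lit 10345)]))) (.node (.leaf (.cyc (nat_lit 5) [(nat_lit 2047), (nat_lit 2046)])) (.leaf .df)))) (.node (.node (.node (.leaf .df) (.leaf (.cyc (nat_lit 28) [(nat_lit 3107), (nat_lit 9320), (nat_lit 1778)]))) (.node (.leaf (.cyc (nat_lit 9) [(nat_lit 1021), (nat_lit 343), (nat_lit 4436), (nat_lit 341), (nat_lit 1018)])) (.leaf .df))) (.node (.node (.leaf .df) (.leaf (.cyc (nat_lit 3) [(nat_lit 11374), (nat_lit 10789), (nat_lit 7613), (nat_lit 10723), (nat_lit 7677)]))) (.node (.leaf (.cyc (nat_lit 8) [(nat_lit 1812), (nat_lit 1811), (nat_lit 7277), (nat_lit 2944), (nat_lit 2945)])) (.leaf .df)))))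 (.node (.node (.node (.node (.leaf .df) (.leaf (.cyc (nat_lit 18) [(nat_lit 6613), (nat_lit 8811)]))) (.node (.leaf (.cyc (nat_lit 6) [(nat_lit 449), (nat_lit 448)])) (.leaf (.cyc (nat_lit 20) [(nat_lit 4067), (nat_lit 11313), (nat_lit 11692), (nat_lit 7007), (nat_lit 9133), (nat_lit 3052), (nat_lit 4275)])))) (.node (.node (.leaf .df) (.leaf (.cyc (nat_lit 29) [(nat_lit 9082), (nat_lit 10862)]))) (.node (.leaf (.cyc (nat_lit 6) [(nat_lit 2518), (nat_lit 2517)])) (.leaf .df)))) (.node (.node (.node (.leaf .df) (.leaf (.cyc (nat_lit 20) [(nat_lit 2328), (nat_lit 6490), (nat_lit 6565), (nat_lit 5611), (nat_lit 5642), (nat_lit 5643), (nat_lit 3507)]))) (.node (.leaf (.cyc (nat_lit 0) [(nat_lit 5063), (nat_lit 1493)])) (.leaf .df))) (.node (.node (.leaf .df) (.leaf (.cyc (nat_lit 10) [(nat_lit 10878), (nat_lit 2036), (nat_lit 2033), (nat_lit 6303), (nat_lit 4053)]))) (.node (.leaf (.cyc (nat_lit 19) [(nat_lit 7731), (nat_lit 7787)])) (.leaf .df)))))) (.node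 (.node (.node (.node (.node (.leaf .df) (.leaf (.cyc (nat_lit 18) [(nat_lit 6900), (nat_lit 8557)]))) (.node (.leaf (.cyc (nat_lit 6) [(nat_lit 146), (nat_lit 145)])) (.leaf (.cyc (nat_lit 3) [(nat_lit 2666), (nat_lit 972), (nat_lit 970), (nat_lit 2662), (nat_lit 4222)])))) (.node (.node (.leaf .df) (.leaf (.cyc (nat_lit 19) [(nat_lit 10383), (nat_lit 10605)]))) (.node (.leaf (.cyc (nat_lit 7) [(nat_lit 6508), (nat_lit 1020), (nat_lit 342), (nat_lit 108), (nat_lit 105), (nat_lit 335), (nat_lit 998)])) (.leaf .df)))) (.node (.node (.node (.leaf .df) (.leaf (.cyc (nat_lit 10) [(nat_lit 1579), (nat_lit 548), (nat_lit 545), (nat_lit 1567), (nat_lit 9582)]))) (.node (.leaf (.cyc (nat_lit 2) [(nat_lit 1278), (nat_lit 1277)])) (.leaf .df))) (.node (.node (.leaf .df) (.leaf (.cyc (nat_lit 11) [(nat_lit 2214), (nat_lit 5489), (nat_lit 5488), (nat_lit 4982), (nat_lit 778), (nat_lit 2196), (nat_lit 11627)]))) (.node (.leaf (.cyc (nat_lit 28) [(nat_lit 7464), (nat_lit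 7534)])) (.leaf .df))))) (.node (.node (.node (.node (.leaf .df) (.leaf (.cyc (nat_lit 17) [(nat_lit 3099), (nat_lit 9064)]))) (.node (.leaf (.cyc (nat_lit 2) [(nat_lit 748), (nat_lit 747)])) (.leaf (.cyc (nat_lit 2) [(nat_lit 4327), (nat_lit 12317)])))) (.node (.node (.leaf .df) (.leaf (.cyc (nat_lit 4) [(nat_lit 11118), (nat_lit 6185), (nat_lit 2949), (nat_lit 8554), (nat_lit 8555)]))) (.node (.leaf (.cyc (nat_lit 4) [(nat_lit 1939), (nat_lit 1937), (nat_lit 7022), (nat_lit 2703), (nat_lit 2702)])) (.leaf .df)))) (.node (.node (.node (.leaf .df) (.leaf (.cyc (nat_lit 29) [(nat_lit 3606), (nat_lit 10093)]))) (.node (.leaf (.cyc (nat_lit 3) [(nat_lit 1770), (nat_lit 617), (nat_lit 4503), (nat_lit 4547), (nat_lit 757)])) (.leaf .df))) (.node (.node (.leaf .df) (.leaf (.cyc (nat_lit 20) [(nat_lit 7535), (nat_lit 9373), (nat_lit 9371), (nat_lit 9976), (nat_lit 3558), (nat_lit 3560), (nat_lit 12141)]))) (.node (.leaf (.cyc (nat_lit 18) [(nat_lit 7318), (nat_lit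 8042)])) (.leaf .df))))))) (.node (.node (.node (.node (.node (.node (.leaf .df) (.leaf (.cyc (nat_lit 19) [(nat_lit 6048), (nat_lit 8430), (nat_lit 1985)]))) (.node (.leaf .df) (.leaf (.cyc (nat_lit 4) [(nat_lit 4194), (nat_lit 2544), (nat_lit 7721), (nat_lit 6099), (nat_lit 3955)])))) (.node (.node (.leaf .df) (.leaf (.cyc (nat_lit 3) [(nat_lit 6893), (nat_lit 6891), (nat_lit 8781), (nat_lit 8786), (nat_lit 3690)]))) (.node (.leaf (.cyc (nat_lit 17) [(nat_lit 6381), (nat_lit 6382)])) (.leaf .df)))) (.node (.node (.node (.leaf .df) (.leaf (.cyc (nat_lit 4) [(nat_lit 8893), (nat_lit 8061), (nat_lit 8059), (nat_lit 7962), (nat_lit 9454)]))) (.node (.leaf (.cyc (nat_lit 2) [(nat_lit 1162), (nat_lit 1161)])) (.leaf .df))) (.node (.node (.leaf .df) (.leaf (.cyc (nat_lit 8) [(nat_lit 10017), (nat_lit 2545), (nat_lit 5479), (nat_lit 6097), (nat_lit 3954)]))) (.node (.leaf (.cyc (nat_lit 20) [(nat_lit 3007), (nat_lit 1122), (nat_lit 381), (nat_lit 4444), (nat_lit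 385), (nat_lit 1134), (nat_lit 3040)])) (.leaf .df))))) (.node (.node (.node (.node (.leaf .df) (.leaf (.cyc (nat_lit 25) [(nat_lit 5843), (nat_lit 8940)]))) (.node (.leaf (.cyc (nat_lit 3) [(nat_lit 4838), (nat_lit 589), (nat_lit 190), (nat_lit 192), (nat_lit 598)])) (.leaf (.cyc (nat_lit 1) [(nat_lit 12386), (nat_lit 13033)])))) (.node (.node (.leaf .df) (.leaf (.cyc (nat_lit 18) [(nat_lit 10037), (nat_lit 10987)]))) (.node (.leaf (.cyc (nat_lit 1) [(nat_lit 6842), (nat_lit 6894)])) (.leaf .df)))) (.node (.node (.node (.leaf .df) (.leaf (.cyc (nat_lit 0) [(nat_lit 8505), (nat_lit 9966)]))) (.node (.leaf (.cyc (nat_lit 2) [(nat_lit 1631), (nat_lit 1630)])) (.leaf .df))) (.node (.node (.leaf .df) (.leaf (.cyc (nat_lit 3) [(nat_lit 12014), (nat_lit 12013), (nat_lit 2949), (nat_lit 6185), (nat_lit 3990)]))) (.node (.leaf (.cyc (nat_lit 18) [(nat_lit 7582), (nat_lit 7913)])) (.leaf .df)))))) (.node (.node (.node (.node (.node (.leaf .df) (.leaf (.cyc (nat_lit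 1) [(nat_lit 8684), (nat_lit 8686)]))) (.node (.leaf (.cyc (nat_lit 5) [(nat_lit 298), (nat_lit 297)])) (.leaf (.cyc (nat_lit 3) [(nat_lit 12782), (nat_lit 12741), (nat_lit 4242), (nat_lit 12745), (nat_lit 12734)])))) (.node (.node (.leaf .df) (.leaf (.cyc (nat_lit 3) [(nat_lit 10339), (nat_lit 2541), (nat_lit 10689), (nat_lit 5839), (nat_lit 3745)]))) (.node (.leaf (.cyc (nat_lit 8) [(nat_lit 2431), (nat_lit 2429), (nat_lit 6636), (nat_lit 1950), (nat_lit 1952)])) (.leaf .df)))) (.node (.node (.node (.leaf .df) (.leaf (.cyc (nat_lit 11) [(nat_lit 2668), (nat_lit 6910), (nat_lit 2634), (nat_lit 961), (nat_lit 962), (nat_lit 2637), (nat_lit 9710)]))) (.node (.leaf (.cyc (nat_lit 6) [(nat_lit 1370), (nat_lit 1369)])) (.leaf .df))) (.node (.node (.leaf .df) (.leaf (.cyc (nat_lit 8) [(nat_lit 2713), (nat_lit 2711), (nat_lit 11755), (nat_lit 11756), (nat_lit 9804), (nat_lit 9549)]))) (.node (.leaf (.cyc (nat_lit 2) [(nat_lit 3280), (nat_lit 7656)])) (.leaf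 .df))))) (.node (.node (.node (.node (.leaf .df) (.leaf (.cyc (nat_lit 29) [(nat_lit 2135), (nat_lit 9197)]))) (.node (.leaf (.cyc (nat_lit 6) [(nat_lit 870), (nat_lit 869)])) (.leaf .df))) (.node (.node (.leaf .df) (.leaf (.cyc (nat_lit 3) [(nat_lit 2402), (nat_lit 5093), (nat_lit 4859), (nat_lit 1752), (nat_lit 3886)]))) (.node (.leaf (.cyc (nat_lit 7) [(nat_lit 1738), (nat_lit 605), (nat_lit 4498), (nat_lit 4701), (nat_lit 440), (nat_lit 5236), (nat_lit 2794)])) (.leaf .df)))) (.node (.node (.node (.leaf .df) (.leaf (.cyc (nat_lit 0) [(nat_lit 6642), (nat_lit 3632)]))) (.node (.leaf (.cyc (nat_lit 2) [(nat_lit 1916), (nat_lit 1915)])) (.leaf .df))) (.node (.node (.leaf .df) (.leaf (.cyc (nat_lit 13) [(nat_lit 12150), (nat_lit 12151), (nat_lit 10810), (nat_lit 9816), (nat_lit 3490), (nat_lit 12259), (nat_lit 12270)]))) (.node (.leaf (.cyc (nat_lit 29) [(nat_lit 7152), (nat_lit 8170)])) (.leaf .df))))))))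
noncomputable def c4P111101 : BT Pf := .node c4P1111010 c4P1111011
noncomputable def c4P11110 : BT Pf := .node c4P111100 c4P111101
noncomputable def c4P1111100 : BT Pf := (.node (.node (.node (.node (.node (.node (.node (.leaf .df) (.leaf (.cyc (nat_lit 18) [(nat_lit 1137), (nat_lit 8209)]))) (.node (.leaf .df) (.leaf (.cyc (nat_lit 6) [(nat_lit 12315), (nat_lit 12126)])))) (.node (.node (.leaf .df) (.leaf (.cyc (nat_lit 13) [(nat_lit 10232), (nat_lit 6343), (nat_lit 9388), (nat_lit 10255), (nat_lit 3641), (nat_lit 5749), (nat_lit 3643)]))) (.node (.leaf (.cyc (nat_lit 4) [(nat_lit 1959), (nat_lit 685), (nat_lit 4528), (nat_lit 681), (nat_lit 1947)])) (.leaf .df)))) (.node (.node (.node (.leaf .df) (.leaf (.cyc (nat_lit 18) [(nat_lit 7981), (nat_lit 9242)]))) (.node (.leaf (.cyc (nat_lit 8) [(nat_lit 5150), (nat_lit 5076), (nat_lit 282), (nat_lit 280), (nat_lit 846)])) (.leaf .df))) (.node (.node (.leaf .df) (.leaf (.cyc (nat_lit 9) [(nat_lit 9865), (nat_lit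 9867), (nat_lit 6393), (nat_lit 11294), (nat_lit 11013)]))) (.node (.leaf (.cyc (nat_lit 2) [(nat_lit 2864), (nat_lit 2863)])) (.leaf .df))))) (.node (.node (.node (.node (.leaf .df) (.leaf (.cyc (nat_lit 17) [(nat_lit 3183), (nat_lit 8726), (nat_lit 1801)]))) (.node (.leaf (.cyc (nat_lit 1) [(nat_lit 4627), (nat_lit 361)])) (.leaf (.cyc (nat_lit 4) [(nat_lit 4260), (nat_lit 7240), (nat_lit 6366), (nat_lit 12297), (nat_lit 9860)])))) (.node (.node (.leaf .df) (.leaf (.cyc (nat_lit 3) [(nat_lit 10782), (nat_lit 3753), (nat_lit 1608), (nat_lit 4880), (nat_lit 1833)]))) (.node (.leaf (.cyc (nat_lit 19) [(nat_lit 6250), (nat_lit 6683)])) (.leaf .df)))) (.node (.node (.node (.leaf .df) (.leaf (.cyc (nat_lit 25) [(nat_lit 2304), (nat_lit 9756)]))) (.node (.leaf (.cyc (nat_lit 1) [(nat_lit 5180), (nat_lit 1426)])) (.leaf .df))) (.node (.node (.leaf .df) (.leaf (.cyc (nat_lit 7) [(nat_lit 3951), (nat_lit 1872), (nat_lit 6029), (nat_lit 6149), (nat_lit 6146),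 (nat_lit 2056), (nat_lit 4030)]))) (.node (.leaf (.cyc (nat_lit 7) [(nat_lit 3315), (nat_lit 1266), (nat_lit 431), (nat_lit 4456), (nat_lit 210), (nat_lit 650), (nat_lit 1864)])) (.leaf .df)))))) (.node (.node (.node (.node (.node (.leaf .df) (.leaf (.cyc (nat_lit 28) [(nat_lit 2734), (nat_lit 8478)]))) (.node (.leaf (.cyc (nat_lit 2) [(nat_lit 44), (nat_lit 43)])) (.leaf (.cyc (nat_lit 8) [(nat_lit 12574), (nat_lit 4205), (nat_lit 11347), (nat_lit 10424), (nat_lit 10425)])))) (.node (.node (.leaf .df) (.leaf (.cyc (nat_lit 22) [(nat_lit 6492), (nat_lit 10525), (nat_lit 9566), (nat_lit 9565), (nat_lit 2966), (nat_lit 1101), (nat_lit 1103), (nat_lit 6882)]))) (.node (.leaf (.cyc (nat_lit 3) [(nat_lit 1178), (nat_lit 399), (nat_lit 397), (nat_lit 5432), (nat_lit 2241)])) (.leaf .df)))) (.node (.node (.node (.leaf .df) (.leaf (.cyc (nat_lit 6) [(nat_lit 3350), (nat_lit 3349)]))) (.node (.leaf (.cyc (nat_lit 4) [(nat_lit 1210), (nat_lit 4685), (nat_lit 1116),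 (nat_lit 5363), (nat_lit 5364)])) (.leaf .df))) (.node (.node (.leaf .df) (.leaf (.cyc (nat_lit 2) [(nat_lit 3964), (nat_lit 10354)]))) (.node (.leaf (.cyc (nat_lit 5) [(nat_lit 3077), (nat_lit 3076)])) (.leaf .df))))) (.node (.node (.node (.node (.leaf .df) (.leaf (.cyc (nat_lit 29) [(nat_lit 2826), (nat_lit 8986), (nat_lit 6051)]))) (.node (.leaf (.cyc (nat_lit 1) [(nat_lit 4809), (nat_lit 656)])) (.leaf (.cyc (nat_lit 6) [(nat_lit 4309), (nat_lit 11926)])))) (.node (.node (.leaf .df) (.leaf (.cyc (nat_lit 29) [(nat_lit 2612), (nat_lit 11037)]))) (.node (.leaf (.cyc (nat_lit 8) [(nat_lit 5952), (nat_lit 6929), (nat_lit 6713), (nat_lit 5375), (nat_lit 5344)])) (.leaf .df)))) (.node (.node (.node (.leaf .df) (.leaf (.cyc (nat_lit 21) [(nat_lit 10014), (nat_lit 6121), (nat_lit 6110), (nat_lit 5479), (nat_lit 2546)]))) (.node (.leaf (.cyc (nat_lit 3) [(nat_lit 5918), (nat_lit 1684), (nat_lit 584), (nat_lit 4786), (nat_lit 1516)])) (.leaf .df))) (.node (.node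 (.leaf .df) (.leaf (.cyc (nat_lit 21) [(nat_lit 4097), (nat_lit 6400), (nat_lit 11716), (nat_lit 11718), (nat_lit 9784)]))) (.node (.leaf (.cyc (nat_lit 9) [(nat_lit 2862), (nat_lit 5266), (nat_lit 7957), (nat_lit 1064), (nat_lit 2884)])) (.leaf .df))))))) (.node (.node (.node (.node (.node (.node (.leaf .df) (.leaf (.cyc (nat_lit 13) [(nat_lit 2374), (nat_lit 2376), (nat_lit 8338), (nat_lit 2127), (nat_lit 5243), (nat_lit 714), (nat_lit 712), (nat_lit 2031)]))) (.node (.leaf .df) (.leaf (.cyc (nat_lit 14) [(nat_lit 10019), (nat_lit 4177)])))) (.node (.node (.leaf .df) (.leaf (.cyc (nat_lit 28) [(nat_lit 2234), (nat_lit 10397)]))) (.node (.leaf (.cyc (nat_lit 0) [(nat_lit 6244), (nat_lit 2106)])) (.leaf .df)))) (.node (.node (.node (.leaf .df) (.leaf (.cyc (nat_lit 13) [(nat_lit 6050), (nat_lit 6055), (nat_lit 8999), (nat_lit 5258), (nat_lit 8160), (nat_lit 7988), (nat_lit 5302), (nat_lit 2844)]))) (.node (.leaf (.cyc (nat_lit 3) [(nat_lit 5274), (nat_lit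 1066), (nat_lit 358), (nat_lit 359), (nat_lit 1072)])) (.leaf .df))) (.node (.node (.leaf .df) (.leaf (.cyc (nat_lit 4) [(nat_lit 3880), (nat_lit 5966), (nat_lit 11217), (nat_lit 10253), (nat_lit 3925)]))) (.node (.leaf (.cyc (nat_lit 1) [(nat_lit 5379), (nat_lit 2976)])) (.leaf .df))))) (.node (.node (.node (.node (.leaf .df) (.leaf (.cyc (nat_lit 17) [(nat_lit 8509), (nat_lit 8862)]))) (.node (.leaf (.cyc (nat_lit 6) [(nat_lit 503), (nat_lit 502)])) (.leaf (.cyc (nat_lit 6) [(nat_lit 12958), (nat_lit 12955)])))) (.node (.node (.leaf .df) (.leaf (.cyc (nat_lit 3) [(nat_lit 3791), (nat_lit 10910), (nat_lit 1873), (nat_lit 4893), (nat_lit 9363)]))) (.node (.leaf (.cyc (nat_lit 5) [(nat_lit 2561), (nat_lit 2560)])) (.leaf .df)))) (.node (.node (.node (.leaf .df) (.leaf (.cyc (nat_lit 8) [(nat_lit 3535), (nat_lit 5658), (nat_lit 777), (nat_lit 776), (nat_lit 2190)]))) (.node (.leaf (.cyc (nat_lit 11) [(nat_lit 568), (nat_lit 4789), (nat_lit 526), (nat_lit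 169), (nat_lit 170), (nat_lit 530), (nat_lit 1535)])) (.leaf .df))) (.node (.node (.leaf .df) (.leaf (.cyc (nat_lit 4) [(nat_lit 4064), (nat_lit 6320), (nat_lit 5001), (nat_lit 6354), (nat_lit 10709)]))) (.node (.leaf (.cyc (nat_lit 3) [(nat_lit 1650), (nat_lit 4825), (nat_lit 1646), (nat_lit 7812), (nat_lit 3066), (nat_lit 3068)])) (.leaf .df)))))) (.node (.node (.node (.node (.node (.leaf .df) (.leaf (.cyc (nat_lit 19) [(nat_lit 6405), (nat_lit 8605)]))) (.node (.leaf (.cyc (nat_lit 5) [(nat_lit 211), (nat_lit 210)])) (.leaf (.cyc (nat_lit 8) [(nat_lit 12205), (nat_lit 12206), (nat_lit 10722), (nat_lit 12367), (nat_lit 4233)])))) (.node (.node (.leaf .df) (.leaf (.cyc (nat_lit 13) [(nat_lit 5846), (nat_lit 10651), (nat_lit 10653), (nat_lit 2747), (nat_lit 7074), (nat_lit 7081), (nat_lit 7080), (nat_lit 2761)]))) (.node (.leaf (.cyc (nat_lit 10) [(nat_lit 5882), (nat_lit 834), (nat_lit 4573), (nat_lit 836), (nat_lit 2353)])) (.leaf .df)))) (.node (.node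 (.node (.leaf .df) (.leaf (.cyc (nat_lit 0) [(nat_lit 8636), (nat_lit 3408)]))) (.node (.leaf (.cyc (nat_lit 5) [(nat_lit 1293), (nat_lit 1292)])) (.leaf .df))) (.node (.node (.leaf .df) (.leaf (.cyc (nat_lit 5) [(nat_lit 11677), (nat_lit 10806)]))) (.node (.leaf (.cyc (nat_lit 4) [(nat_lit 7553), (nat_lit 7554), (nat_lit 1211), (nat_lit 1214), (nat_lit 3212)])) (.leaf .df))))) (.node (.node (.node (.node (.leaf .df) (.leaf (.cyc (nat_lit 19) [(nat_lit 2847), (nat_lit 9116)]))) (.node (.leaf (.cyc (nat_lit 15) [(nat_lit 4900), (nat_lit 5022), (nat_lit 795), (nat_lit 4560), (nat_lit 4534), (nat_lit 709), (nat_lit 4943), (nat_lit 240), (nat_lit 238), (nat_lit 733)])) (.leaf (.cyc (nat_lit 11) [(nat_lit 12836), (nat_lit 7337), (nat_lit 6661), (nat_lit 5160), (nat_lit 1429), (nat_lit 3551), (nat_lit 4337)])))) (.node (.node (.leaf .df) (.leaf (.cyc (nat_lit 2) [(nat_lit 3860), (nat_lit 3859)]))) (.node (.leaf (.cyc (nat_lit 2) [(nat_lit 2732), (nat_lit 2731)]))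 (.leaf .df)))) (.node (.node (.node (.leaf .df) (.leaf (.cyc (nat_lit 0) [(nat_lit 9230), (nat_lit 3621)]))) (.node (.leaf (.cyc (nat_lit 2) [(nat_lit 1823), (nat_lit 1822)])) (.leaf .df))) (.node (.node (.leaf .df) (.leaf (.cyc (nat_lit 27) [(nat_lit 4124), (nat_lit 7442), (nat_lit 3098), (nat_lit 9076), (nat_lit 3991), (nat_lit 11933), (nat_lit 11932)]))) (.node (.leaf (.cyc (nat_lit 32) [(nat_lit 1526), (nat_lit 4898), (nat_lit 1889), (nat_lit 6109), (nat_lit 8093), (nat_lit 1441), (nat_lit 494), (nat_lit 495), (nat_lit 1444), (nat_lit 5763)])) (.leaf .df))))))))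
noncomputable def c4P1111101 : BT Pf := (.node (.node (.node (.node (.node (.node (.node (.leaf .df) (.leaf (.cyc (nat_lit 18) [(nat_lit 1946), (nat_lit 8278)]))) (.node (.leaf .df) (.leaf (.cyc (nat_lit 26) [(nat_lit 10141), (nat_lit 12211), (nat_lit 12209), (nat_lit 3205), (nat_lit 6801), (nat_lit 9457), (nat_lit 9458), (nat_lit 10555), (nat_lit 12382)])))) (.node (.node (.leaf .df) (.leaf (.cyc (nat_lit 16) [(nat_lit 3323), (nat_lit 5478), (nat_lit 916), (nat_lit 306), (nat_lit 307), (nat_lit 5524), (nat_lit 1521), (nat_lit 3666), (nat_lit 10334)]))) (.node (.leaf (.cyc (nat_lit 6) [(nat_lit 2028), (nat_lit 2027)])) (.leaf .df)))) (.node (.node (.node (.leaf .df) (.leaf (.cyc (nat_lit 20) [(nat_lit 7034), (nat_lit 7139), (nat_lit 5223), (nat_lit 2758), (nat_lit 9310), (nat_lit 9309), (nat_lit 7483)]))) (.node (.leaf (.cyc (nat_lit 5) [(nat_lit 1002), (nat_lit 1001)])) (.leaf .df))) (.node (.node (.leaf .df) (.leaf (.cyc (nat_lit 3) [(nat_lit 11358),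 (nat_lit 11357), (nat_lit 2981), (nat_lit 5443), (nat_lit 3273)]))) (.node (.leaf (.cyc (nat_lit 5) [(nat_lit 2921), (nat_lit 2920)])) (.leaf .df))))) (.node (.node (.node (.node (.leaf .df) (.leaf (.cyc (nat_lit 18) [(nat_lit 2520), (nat_lit 8798)]))) (.node (.leaf (.cyc (nat_lit 6) [(nat_lit 428), (nat_lit 427)])) (.leaf (.cyc (nat_lit 16) [(nat_lit 12569), (nat_lit 10958), (nat_lit 11912), (nat_lit 11959), (nat_lit 11960), (nat_lit 12891), (nat_lit 12893), (nat_lit 11146), (nat_lit 12894)])))) (.node (.node (.leaf .df) (.leaf (.cyc (nat_lit 19) [(nat_lit 3694), (nat_lit 10844)]))) (.node (.leaf (.cyc (nat_lit 5) [(nat_lit 2499), (nat_lit 2498)])) (.leaf .df)))) (.node (.node (.node (.leaf .df) (.leaf (.cyc (nat_lit 2) [(nat_lit 3497), (nat_lit 3496)]))) (.node (.leaf (.cyc (nat_lit 27) [(nat_lit 1469), (nat_lit 5564), (nat_lit 5563), (nat_lit 4727), (nat_lit 4484), (nat_lit 544), (nat_lit 5467)])) (.leaf .df))) (.node (.node (.leaf .df) (.leaf (.cyc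 (nat_lit 8) [(nat_lit 11859), (nat_lit 11861), (nat_lit 4020), (nat_lit 9228), (nat_lit 7429)]))) (.node (.leaf (.cyc (nat_lit 17) [(nat_lit 7734), (nat_lit 7771)])) (.leaf .df)))))) (.node (.node (.node (.node (.node (.leaf .df) (.leaf (.cyc (nat_lit 19) [(nat_lit 7681), (nat_lit 8536)]))) (.node (.leaf (.cyc (nat_lit 2) [(nat_lit 126), (nat_lit 125)])) (.leaf (.cyc (nat_lit 2) [(nat_lit 4218), (nat_lit 7031)])))) (.node (.node (.leaf .df) (.leaf (.cyc (nat_lit 18) [(nat_lit 9828), (nat_lit 10587)]))) (.node (.leaf (.cyc (nat_lit 7) [(nat_lit 1002), (nat_lit 336), (nat_lit 105), (nat_lit 107), (nat_lit 4566), (nat_lit 815), (nat_lit 2295)])) (.leaf .df)))) (.node (.node (.node (.leaf .df) (.leaf (.cyc (nat_lit 2) [(nat_lit 3390), (nat_lit 3389)]))) (.node (.leaf (.cyc (nat_lit 13) [(nat_lit 5470), (nat_lit 674), (nat_lit 218), (nat_lit 216), (nat_lit 668), (nat_lit 4904), (nat_lit 688)])) (.leaf .df))) (.node (.node (.leaf .df) (.leaf (.cyc (nat_lit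 14) [(nat_lit 11204), (nat_lit 3979)]))) (.node (.leaf (.cyc (nat_lit 4) [(nat_lit 7394), (nat_lit 7399), (nat_lit 2975), (nat_lit 5379), (nat_lit 3144)])) (.leaf .df))))) (.node (.node (.node (.node (.leaf .df) (.leaf (.cyc (nat_lit 17) [(nat_lit 7542), (nat_lit 9054)]))) (.node (.leaf (.cyc (nat_lit 3) [(nat_lit 4919), (nat_lit 4957), (nat_lit 4956), (nat_lit 708), (nat_lit 710)])) (.leaf (.cyc (nat_lit 20) [(nat_lit 10482), (nat_lit 10479), (nat_lit 2620), (nat_lit 5177), (nat_lit 2622), (nat_lit 4207), (nat_lit 13148)])))) (.node (.node (.leaf .df) (.leaf (.cyc (nat_lit 25) [(nat_lit 11083), (nat_lit 11102), (nat_lit 8552)]))) (.node (.leaf (.cyc (nat_lit 2) [(nat_lit 2687), (nat_lit 2686)])) (.leaf .df)))) (.node (.node (.node (.leaf .df) (.leaf (.cyc (nat_lit 8) [(nat_lit 10075), (nat_lit 6896), (nat_lit 6894), (nat_lit 6214), (nat_lit 6213)]))) (.node (.leaf (.cyc (nat_lit 28) [(nat_lit 1724), (nat_lit 5982)])) (.leaf .df))) (.node (.node (.leaf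 .df) (.leaf (.cyc (nat_lit 14) [(nat_lit 10374), (nat_lit 4110)]))) (.node (.leaf (.cyc (nat_lit 19) [(nat_lit 7237), (nat_lit 8026)])) (.leaf .df))))))) (.node (.node (.node (.node (.node (.node (.leaf .df) (.leaf (.cyc (nat_lit 19) [(nat_lit 1536), (nat_lit 8409)]))) (.node (.leaf .df) (.leaf (.cyc (nat_lit 22) [(nat_lit 12510), (nat_lit 2639), (nat_lit 2636), (nat_lit 12452), (nat_lit 9784), (nat_lit 11499), (nat_lit 11500)])))) (.node (.node (.leaf .df) (.leaf (.cyc (nat_lit 3) [(nat_lit 2465), (nat_lit 2468), (nat_lit 10461), (nat_lit 9546), (nat_lit 10215)]))) (.node (.leaf (.cyc (nat_lit 8) [(nat_lit 2152), (nat_lit 2150), (nat_lit 6365), (nat_lit 2171), (nat_lit 2172)])) (.leaf .df)))) (.node (.node (.node (.leaf .df) (.leaf (.cyc (nat_lit 20) [(nat_lit 9076), (nat_lit 9072), (nat_lit 6130), (nat_lit 9438), (nat_lit 5340), (nat_lit 7428), (nat_lit 6602)]))) (.node (.leaf (.cyc (nat_lit 10) [(nat_lit 399), (nat_lit 126), (nat_lit 123), (nat_lit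 389), (nat_lit 1144)])) (.leaf .df))) (.node (.node (.leaf .df) (.leaf (.cyc (nat_lit 1) [(nat_lit 9892), (nat_lit 3939)]))) (.node (.leaf (.cyc (nat_lit 5) [(nat_lit 3024), (nat_lit 3023)])) (.leaf .df))))) (.node (.node (.node (.node (.leaf .df) (.leaf (.cyc (nat_lit 4) [(nat_lit 2029), (nat_lit 2031), (nat_lit 8925), (nat_lit 6747), (nat_lit 6745), (nat_lit 2521)]))) (.node (.leaf (.cyc (nat_lit 10) [(nat_lit 577), (nat_lit 184), (nat_lit 4391), (nat_lit 186), (nat_lit 580)])) (.leaf (.cyc (nat_lit 13) [(nat_lit 12174), (nat_lit 12100), (nat_lit 2710), (nat_lit 5204), (nat_lit 2704), (nat_lit 10930), (nat_lit 4297)])))) (.node (.node (.leaf .df) (.leaf (.cyc (nat_lit 17) [(nat_lit 10969), (nat_lit 10974)]))) (.node (.leaf (.cyc (nat_lit 8) [(nat_lit 6877), (nat_lit 1407), (nat_lit 481), (nat_lit 479), (nat_lit 1400)])) (.leaf .df)))) (.node (.node (.node (.leaf .df) (.leaf (.cyc (nat_lit 17) [(nat_lit 9910), (nat_lit 9950)]))) (.node (.leaf (.cyc (nat_lit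 0) [(nat_lit 1614), (nat_lit 5854)])) (.leaf .df))) (.node (.node (.leaf .df) (.leaf (.cyc (nat_lit 1) [(nat_lit 11932), (nat_lit 11996)]))) (.node (.leaf (.cyc (nat_lit 28) [(nat_lit 7627), (nat_lit 7899)])) (.leaf .df)))))) (.node (.node (.node (.node (.node (.leaf .df) (.leaf (.cyc (nat_lit 18) [(nat_lit 2401), (nat_lit 8670)]))) (.node (.leaf (.cyc (nat_lit 5) [(nat_lit 278), (nat_lit 277)])) (.leaf (.cyc (nat_lit 3) [(nat_lit 2760), (nat_lit 1015), (nat_lit 1013), (nat_lit 7139), (nat_lit 4247)])))) (.node (.node (.leaf .df) (.leaf (.cyc (nat_lit 0) [(nat_lit 10629), (nat_lit 10718)]))) (.node (.leaf (.cyc (nat_lit 6) [(nat_lit 2416), (nat_lit 2415)])) (.leaf .df)))) (.node (.node (.node (.leaf .df) (.leaf (.cyc (nat_lit 29) [(nat_lit 5614), (nat_lit 9692), (nat_lit 2355)]))) (.node (.leaf (.cyc (nat_lit 4) [(nat_lit 5459), (nat_lit 5460), (nat_lit 4884), (nat_lit 4731), (nat_lit 1349)])) (.leaf .df))) (.node (.node (.leaf .df) (.leaf (.cyc (nat_lit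 20) [(nat_lit 2121), (nat_lit 9246), (nat_lit 2103), (nat_lit 4971), (nat_lit 6244), (nat_lit 6245), (nat_lit 4012)]))) (.node (.leaf (.cyc (nat_lit 7) [(nat_lit 1908), (nat_lit 665), (nat_lit 663), (nat_lit 5428), (nat_lit 1233), (nat_lit 1234), (nat_lit 3265)])) (.leaf .df))))) (.node (.node (.node (.node (.leaf .df) (.leaf (.cyc (nat_lit 29) [(nat_lit 5833), (nat_lit 9181)]))) (.node (.leaf (.cyc (nat_lit 2) [(nat_lit 852), (nat_lit 851)])) (.leaf (.cyc (nat_lit 10) [(nat_lit 4337), (nat_lit 12707), (nat_lit 11369), (nat_lit 12135), (nat_lit 4350)])))) (.node (.node (.leaf .df) (.leaf (.cyc (nat_lit 29) [(nat_lit 6610), (nat_lit 11229)]))) (.node (.leaf (.cyc (nat_lit 2) [(nat_lit 2785), (nat_lit 2784)])) (.leaf .df)))) (.node (.node (.node (.leaf .df) (.leaf (.cyc (nat_lit 4) [(nat_lit 3624), (nat_lit 8112), (nat_lit 1315), (nat_lit 1318), (nat_lit 3384)]))) (.node (.leaf (.cyc (nat_lit 5) [(nat_lit 1890), (nat_lit 1889)])) (.leaf .df))) (.node (.node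 (.leaf .df) (.leaf (.cyc (nat_lit 4) [(nat_lit 11031), (nat_lit 8512), (nat_lit 6176), (nat_lit 11113), (nat_lit 12254)]))) (.node (.leaf (.cyc (nat_lit 29) [(nat_lit 2829), (nat_lit 8155)])) (.leaf .df))))))))
noncomputable def c4P111110 : BT Pf := .node c4P1111100 c4P1111101
noncomputable def c4P1111110 : BT Pf := (.node (.node (.node (.node (.node (.node (.node (.leaf .df) (.leaf (.cyc (nat_lit 19) [(nat_lit 7165), (nat_lit 8252)]))) (.node (.leaf .df) (.leaf (.cyc (nat_lit 20) [(nat_lit 2640), (nat_lit 6935), (nat_lit 6931), (nat_lit 3853), (nat_lit 11151), (nat_lit 6604), (nat_lit 4152)])))) (.node (.node (.leaf .df) (.leaf (.cyc (nat_lit 7) [(nat_lit 10300), (nat_lit 5681), (nat_lit 8524), (nat_lit 2415), (nat_lit 8519), (nat_lit 7144), (nat_lit 10301)]))) (.node (.leaf (.cyc (nat_lit 6) [(nat_lit 1995), (nat_lit 1994)])) (.leaf .df)))) (.node (.node (.node (.leaf .df) (.leaf (.cyc (nat_lit 10) [(nat_lit 3131), (nat_lit 1177), (nat_lit 1174), (nat_lit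 3121), (nat_lit 9278)]))) (.node (.leaf (.cyc (nat_lit 2) [(nat_lit 963), (nat_lit 962)])) (.leaf .df))) (.node (.node (.leaf .df) (.leaf (.cyc (nat_lit 3) [(nat_lit 9877), (nat_lit 10175), (nat_lit 1782), (nat_lit 1784), (nat_lit 3902)]))) (.node (.leaf (.cyc (nat_lit 2) [(nat_lit 2899), (nat_lit 2898)])) (.leaf .df))))) (.node (.node (.node (.node (.leaf .df) (.leaf (.cyc (nat_lit 25) [(nat_lit 6061), (nat_lit 8761)]))) (.node (.leaf (.cyc (nat_lit 5) [(nat_lit 394), (nat_lit 393)])) (.leaf (.cyc (nat_lit 0) [(nat_lit 12168), (nat_lit 12862)])))) (.node (.node (.leaf .df) (.leaf (.cyc (nat_lit 1) [(nat_lit 9973), (nat_lit 3763)]))) (.node (.leaf (.cyc (nat_lit 8) [(nat_lit 2265), (nat_lit 2263), (nat_lit 6717), (nat_lit 2227), (nat_lit 2229)])) (.leaf .df)))) (.node (.node (.node (.leaf .df) (.leaf (.cyc (nat_lit 6) [(nat_lit 3475), (nat_lit 3474)]))) (.node (.leaf (.cyc (nat_lit 5) [(nat_lit 5693), (nat_lit 5595)])) (.leaf .df))) (.node (.node (.leaf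 .df) (.leaf (.cyc (nat_lit 8) [(nat_lit 11821), (nat_lit 11835), (nat_lit 4038), (nat_lit 4037), (nat_lit 11831)]))) (.node (.leaf (.cyc (nat_lit 6) [(nat_lit 7742), (nat_lit 6831)])) (.leaf .df)))))) (.node (.node (.node (.node (.node (.leaf .df) (.leaf (.cyc (nat_lit 17) [(nat_lit 6822), (nat_lit 8510)]))) (.node (.leaf (.cyc (nat_lit 8) [(nat_lit 42), (nat_lit 4360), (nat_lit 4359), (nat_lit 24), (nat_lit 86)])) (.leaf (.cyc (nat_lit 3) [(nat_lit 12606), (nat_lit 7026), (nat_lit 10930), (nat_lit 12491), (nat_lit 12493)])))) (.node (.node (.leaf .df) (.leaf (.cyc (nat_lit 2) [(nat_lit 3701), (nat_lit 10459)]))) (.node (.leaf (.cyc (nat_lit 0) [(nat_lit 6457), (nat_lit 6462)])) (.leaf .df)))) (.node (.node (.node (.leaf .df) (.leaf (.cyc (nat_lit 2) [(nat_lit 3373), (nat_lit 3372)]))) (.node (.leaf (.cyc (nat_lit 2) [(nat_lit 1235), (nat_lit 1234)])) (.leaf .df))) (.node (.node (.leaf .df) (.leaf (.cyc (nat_lit 0) [(nat_lit 10261), (nat_lit 11582)])))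 (.node (.leaf (.cyc (nat_lit 6) [(nat_lit 3115), (nat_lit 3114)])) (.leaf .df))))) (.node (.node (.node (.node (.leaf .df) (.leaf (.cyc (nat_lit 19) [(nat_lit 2991), (nat_lit 9021)]))) (.node (.leaf (.cyc (nat_lit 5) [(nat_lit 691), (nat_lit 690)])) (.leaf (.cyc (nat_lit 6) [(nat_lit 4316), (nat_lit 12867)])))) (.node (.node (.leaf .df) (.leaf (.cyc (nat_lit 3) [(nat_lit 6786), (nat_lit 6785), (nat_lit 8692), (nat_lit 7292), (nat_lit 3827)]))) (.node (.leaf (.cyc (nat_lit 20) [(nat_lit 1617), (nat_lit 5181), (nat_lit 5182), (nat_lit 6973), (nat_lit 4783), (nat_lit 1500), (nat_lit 6622)])) (.leaf .df)))) (.node (.node (.node (.leaf .df) (.leaf (.cyc (nat_lit 4) [(nat_lit 3469), (nat_lit 8843), (nat_lit 6904), (nat_lit 6901), (nat_lit 3593)]))) (.node (.leaf (.cyc (nat_lit 10) [(nat_lit 1715), (nat_lit 595), (nat_lit 4497), (nat_lit 597), (nat_lit 1721)])) (.leaf .df))) (.node (.node (.leaf .df) (.leaf (.cyc (nat_lit 13) [(nat_lit 4106), (nat_lit 10624),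 (nat_lit 899), (nat_lit 297), (nat_lit 299), (nat_lit 904), (nat_lit 2506)]))) (.node (.leaf (.cyc (nat_lit 28) [(nat_lit 1087), (nat_lit 7991), (nat_lit 2850)])) (.leaf .df))))))) (.node (.node (.node (.node (.node (.node (.leaf .df) (.leaf (.cyc (nat_lit 25) [(nat_lit 8088), (nat_lit 8380), (nat_lit 1994)]))) (.node (.leaf .df) (.leaf (.cyc (nat_lit 27) [(nat_lit 4183), (nat_lit 2512), (nat_lit 2513), (nat_lit 9368), (nat_lit 3141), (nat_lit 5377), (nat_lit 3136)])))) (.node (.node (.leaf .df) (.leaf (.cyc (nat_lit 22) [(nat_lit 6258), (nat_lit 9219), (nat_lit 10429), (nat_lit 10426), (nat_lit 2179), (nat_lit 5441), (nat_lit 6236)]))) (.node (.leaf (.cyc (nat_lit 2) [(nat_lit 2137), (nat_lit 5491)])) (.leaf .df)))) (.node (.node (.node (.leaf .df) (.leaf (.cyc (nat_lit 22) [(nat_lit 8976), (nat_lit 2922), (nat_lit 9405), (nat_lit 3162), (nat_lit 8795), (nat_lit 6767), (nat_lit 6766)]))) (.node (.leaf (.cyc (nat_lit 10) [(nat_lit 386), (nat_lit 122),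 (nat_lit 119), (nat_lit 374), (nat_lit 1108)])) (.leaf .df))) (.node (.node (.leaf .df) (.leaf (.cyc (nat_lit 35) [(nat_lit 10503), (nat_lit 2122), (nat_lit 9249), (nat_lit 2063), (nat_lit 2065), (nat_lit 11454), (nat_lit 11187), (nat_lit 11188), (nat_lit 11190)]))) (.node (.leaf (.cyc (nat_lit 7) [(nat_lit 2008), (nat_lit 4938), (nat_lit 4939), (nat_lit 383), (nat_lit 380), (nat_lit 1119), (nat_lit 3000)])) (.leaf .df))))) (.node (.node (.node (.node (.leaf .df) (.leaf (.cyc (nat_lit 3) [(nat_lit 1573), (nat_lit 1576), (nat_lit 8894), (nat_lit 5609), (nat_lit 6359)]))) (.node (.leaf (.cyc (nat_lit 1) [(nat_lit 4545), (nat_lit 540)])) (.leaf (.cyc (nat_lit 21) [(nat_lit 12948), (nat_lit 12946), (nat_lit 9534), (nat_lit 10506), (nat_lit 12990), (nat_lit 12988)])))) (.node (.node (.leaf .df) (.leaf (.cyc (nat_lit 20) [(nat_lit 8800), (nat_lit 1206), (nat_lit 4684), (nat_lit 989), (nat_lit 10942), (nat_lit 5972), (nat_lit 9512), (nat_lit 9514)]))) (.node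 (.leaf (.cyc (nat_lit 0) [(nat_lit 5671), (nat_lit 2589)])) (.leaf .df)))) (.node (.node (.node (.leaf .df) (.leaf (.cyc (nat_lit 25) [(nat_lit 9673), (nat_lit 9916), (nat_lit 3452)]))) (.node (.leaf (.cyc (nat_lit 5) [(nat_lit 1574), (nat_lit 1573)])) (.leaf .df))) (.node (.node (.leaf .df) (.leaf (.cyc (nat_lit 23) [(nat_lit 2928), (nat_lit 1084), (nat_lit 363), (nat_lit 365), (nat_lit 1088), (nat_lit 6406), (nat_lit 9760), (nat_lit 9758), (nat_lit 4070)]))) (.node (.leaf (.cyc (nat_lit 19) [(nat_lit 1926), (nat_lit 7868)])) (.leaf .df)))))) (.node (.node (.node (.node (.node (.leaf .df) (.leaf (.cyc (nat_lit 3) [(nat_lit 6912), (nat_lit 8638), (nat_lit 3062), (nat_lit 8211), (nat_lit 8623)]))) (.node (.leaf (.cyc (nat_lit 15) [(nat_lit 242), (nat_lit 4405), (nat_lit 4382), (nat_lit 4380), (nat_lit 16), (nat_lit 14), (nat_lit 52), (nat_lit 172), (nat_lit 4495)])) (.leaf (.cyc (nat_lit 22) [(nat_lit 12733), (nat_lit 3876), (nat_lit 3873), (nat_lit 11562),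 (nat_lit 11565), (nat_lit 7564), (nat_lit 8804)])))) (.node (.node (.leaf .df) (.leaf (.cyc (nat_lit 20) [(nat_lit 7128), (nat_lit 6481), (nat_lit 6480), (nat_lit 2773), (nat_lit 10683), (nat_lit 10638), (nat_lit 10635)]))) (.node (.leaf (.cyc (nat_lit 4) [(nat_lit 858), (nat_lit 283), (nat_lit 281), (nat_lit 850), (nat_lit 2382)])) (.leaf .df)))) (.node (.node (.node (.leaf .df) (.leaf (.cyc (nat_lit 14) [(nat_lit 7349), (nat_lit 3425)]))) (.node (.leaf (.cyc (nat_lit 5) [(nat_lit 1312), (nat_lit 1311)])) (.leaf .df))) (.node (.node (.leaf .df) (.leaf (.cyc (nat_lit 0) [(nat_lit 6228), (nat_lit 4004)]))) (.node (.leaf (.cyc (nat_lit 4) [(nat_lit 3236), (nat_lit 1223), (nat_lit 1221), (nat_lit 7607), (nat_lit 7608)])) (.leaf .df))))) (.node (.node (.node (.node (.leaf .df) (.leaf (.cyc (nat_lit 3) [(nat_lit 7187), (nat_lit 9150), (nat_lit 7004), (nat_lit 2682), (nat_lit 2684)]))) (.node (.leaf (.cyc (nat_lit 2) [(nat_lit 821), (nat_lit 820)])) (.leaf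 (.cyc (nat_lit 22) [(nat_lit 13245), (nat_lit 13004), (nat_lit 13005), (nat_lit 11489), (nat_lit 9371), (nat_lit 12393), (nat_lit 12392)])))) (.node (.node (.leaf .df) (.leaf (.cyc (nat_lit 9) [(nat_lit 7010), (nat_lit 5773), (nat_lit 4850), (nat_lit 1733), (nat_lit 3875)]))) (.node (.leaf (.cyc (nat_lit 6) [(nat_lit 7102), (nat_lit 6953)])) (.leaf .df)))) (.node (.node (.node (.leaf .df) (.leaf (.cyc (nat_lit 33) [(nat_lit 9877), (nat_lit 10173), (nat_lit 6036), (nat_lit 7829), (nat_lit 9330), (nat_lit 4866), (nat_lit 1782)]))) (.node (.leaf (.cyc (nat_lit 5) [(nat_lit 1855), (nat_lit 1854)])) (.leaf .df))) (.node (.node (.leaf .df) (.leaf (.cyc (nat_lit 13) [(nat_lit 12221), (nat_lit 7567), (nat_lit 10229), (nat_lit 10227), (nat_lit 10235), (nat_lit 10234), (nat_lit 6637)]))) (.node (.leaf (.cyc (nat_lit 28) [(nat_lit 7180), (nat_lit 8126)])) (.leaf .df))))))))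
noncomputable def c4P1111111 : BT Pf := (.node (.node (.node (.node (.node (.node (.node (.leaf .df) (.leaf (.cyc (nat_lit 19) [(nat_lit 6170), (nat_lit 8307)]))) (.node (.leaf .df) (.leaf (.cyc (nat_lit 5) [(nat_lit 4170), (nat_lit 9787)])))) (.node (.node (.leaf .df) (.leaf (.cyc (nat_lit 17) [(nat_lit 7858), (nat_lit 10366)]))) (.node (.leaf (.cyc (nat_lit 1) [(nat_lit 6257), (nat_lit 2066)])) (.leaf .df)))) (.node (.node (.node (.leaf .df) (.leaf (.cyc (nat_lit 17) [(nat_lit 9335), (nat_lit 9340)]))) (.node (.leaf (.cyc (nat_lit 2) [(nat_lit 1032), (nat_lit 5240)])) (.leaf .df))) (.node (.node (.leaf .df) (.leaf (.cyc (nat_lit 29) [(nat_lit 3237), (nat_lit 11387)]))) (.node (.leaf (.cyc (nat_lit 10) [(nat_lit 2855), (nat_lit 1052), (nat_lit 1049), (nat_lit 5302), (nat_lit 2953)])) (.leaf .df))))) (.node (.node (.node (.node (.leaf .df) (.leaf (.cyc (nat_lit 17) [(nat_lit 2318), (nat_lit 8827), (nat_lit 6717)]))) (.node (.leaf (.cyc (nat_lit 8) [(nat_lit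 152), (nat_lit 4384), (nat_lit 148), (nat_lit 466), (nat_lit 4734)])) (.leaf (.cyc (nat_lit 13) [(nat_lit 4268), (nat_lit 2958), (nat_lit 5304), (nat_lit 2960), (nat_lit 10481), (nat_lit 10482), (nat_lit 12924)])))) (.node (.node (.leaf .df) (.leaf (.cyc (nat_lit 25) [(nat_lit 3704), (nat_lit 10876)]))) (.node (.leaf (.cyc (nat_lit 0) [(nat_lit 6774), (nat_lit 6781)])) (.leaf .df)))) (.node (.node (.node (.leaf .df) (.leaf (.cyc (nat_lit 22) [(nat_lit 7710), (nat_lit 9486), (nat_lit 9853), (nat_lit 5624), (nat_lit 9762), (nat_lit 2147), (nat_lit 2145)]))) (.node (.leaf (.cyc (nat_lit 5) [(nat_lit 1507), (nat_lit 1506)])) (.leaf .df))) (.node (.node (.leaf .df) (.leaf (.cyc (nat_lit 3) [(nat_lit 10842), (nat_lit 10367), (nat_lit 5809), (nat_lit 3693), (nat_lit 11901)]))) (.node (.leaf (.cyc (nat_lit 33) [(nat_lit 1574), (nat_lit 4804), (nat_lit 7758), (nat_lit 1149), (nat_lit 5446), (nat_lit 7619), (nat_lit 3253)])) (.leaf .df)))))) (.node (.node (.node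 (.node (.node (.leaf .df) (.leaf (.cyc (nat_lit 3) [(nat_lit 3044), (nat_lit 3047), (nat_lit 8234), (nat_lit 7690), (nat_lit 5978)]))) (.node (.leaf (.cyc (nat_lit 2) [(nat_lit 167), (nat_lit 166)])) (.leaf (.cyc (nat_lit 11) [(nat_lit 4155), (nat_lit 2402), (nat_lit 5092), (nat_lit 911), (nat_lit 2528), (nat_lit 12333), (nat_lit 4225)])))) (.node (.node (.leaf .df) (.leaf (.cyc (nat_lit 13) [(nat_lit 9935), (nat_lit 2010), (nat_lit 10622), (nat_lit 1283), (nat_lit 4708), (nat_lit 1279), (nat_lit 5489), (nat_lit 2213)]))) (.node (.leaf (.cyc (nat_lit 1) [(nat_lit 6493), (nat_lit 2315)])) (.leaf .df)))) (.node (.node (.node (.leaf .df) (.leaf (.cyc (nat_lit 7) [(nat_lit 9598), (nat_lit 5970), (nat_lit 6931), (nat_lit 1156), (nat_lit 4671), (nat_lit 1161), (nat_lit 3094)]))) (.node (.leaf (.cyc (nat_lit 18) [(nat_lit 538), (nat_lit 5501), (nat_lit 872)])) (.leaf .df))) (.node (.node (.leaf .df) (.leaf (.cyc (nat_lit 31) [(nat_lit 6473), (nat_lit 2723),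 (nat_lit 11646), (nat_lit 3988), (nat_lit 1973), (nat_lit 1970), (nat_lit 11028)]))) (.node (.leaf (.cyc (nat_lit 22) [(nat_lit 7550), (nat_lit 3183), (nat_lit 1201), (nat_lit 4681), (nat_lit 1089), (nat_lit 6348), (nat_lit 6347)])) (.leaf .df))))) (.node (.node (.node (.node (.leaf .df) (.leaf (.cyc (nat_lit 21) [(nat_lit 9085), (nat_lit 3090), (nat_lit 1158), (nat_lit 6936), (nat_lit 2641)]))) (.node (.leaf (.cyc (nat_lit 10) [(nat_lit 485), (nat_lit 154), (nat_lit 151), (nat_lit 4551), (nat_lit 764)])) (.leaf (.cyc (nat_lit 0) [(nat_lit 12383), (nat_lit 13181)])))) (.node (.node (.leaf .df) (.leaf (.cyc (nat_lit 14) [(nat_lit 9817), (nat_lit 11134)]))) (.node (.leaf (.cyc (nat_lit 20) [(nat_lit 6690), (nat_lit 6699), (nat_lit 6700), (nat_lit 5031), (nat_lit 995), (nat_lit 2720), (nat_lit 7036)])) (.leaf .df)))) (.node (.node (.node (.leaf .df) (.leaf (.cyc (nat_lit 11) [(nat_lit 3527), (nat_lit 1416), (nat_lit 4993), (nat_lit 4553), (nat_lit 678),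 (nat_lit 10110), (nat_lit 5729), (nat_lit 3609)]))) (.node (.leaf (.cyc (nat_lit 6) [(nat_lit 1780), (nat_lit 1779)])) (.leaf .df))) (.node (.node (.leaf .df) (.leaf (.cyc (nat_lit 19) [(nat_lit 10837), (nat_lit 12157)]))) (.node (.leaf (.cyc (nat_lit 4) [(nat_lit 7651), (nat_lit 7637), (nat_lit 2588), (nat_lit 2586), (nat_lit 8062), (nat_lit 6417)])) (.leaf .df))))))) (.node (.node (.node (.node (.node (.node (.leaf .df) (.leaf (.cyc (nat_lit 29) [(nat_lit 6549), (nat_lit 8446), (nat_lit 6313)]))) (.node (.leaf (.pin (nat_lit 0) [(nat_lit 0)] [])) (.leaf (.cyc (nat_lit 9) [(nat_lit 10308), (nat_lit 6620), (nat_lit 11597), (nat_lit 11601), (nat_lit 4197)])))) (.node (.node (.leaf .df) (.leaf (.cyc (nat_lit 19) [(nat_lit 3636), (nat_lit 10493)]))) (.node (.leaf (.cyc (nat_lit 9) [(nat_lit 6357), (nat_lit 2054), (nat_lit 6261), (nat_lit 5009), (nat_lit 2199)])) (.leaf .df)))) (.node (.node (.node (.leaf .df) (.leaf (.cyc (nat_lit 29) [(nat_lit 3286), (nat_lit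 9469)]))) (.node (.leaf (.cyc (nat_lit 0) [(nat_lit 5343), (nat_lit 1178)])) (.leaf .df))) (.node (.node (.leaf .df) (.leaf (.cyc (nat_lit 3) [(nat_lit 7826), (nat_lit 5368), (nat_lit 8463), (nat_lit 9147), (nat_lit 3957)]))) (.node (.leaf (.cyc (nat_lit 2) [(nat_lit 3056), (nat_lit 3055)])) (.leaf .df))))) (.node (.node (.node (.node (.leaf .df) (.leaf (.cyc (nat_lit 28) [(nat_lit 7526), (nat_lit 8957)]))) (.node (.leaf (.cyc (nat_lit 13) [(nat_lit 4810), (nat_lit 213), (nat_lit 65), (nat_lit 63), (nat_lit 206), (nat_lit 4507), (nat_lit 615)])) (.leaf (.cyc (nat_lit 3) [(nat_lit 10664), (nat_lit 6091), (nat_lit 7725), (nat_lit 7722), (nat_lit 4303)])))) (.node (.node (.leaf .df) (.leaf (.cyc (nat_lit 1) [(nat_lit 9831), (nat_lit 3808)]))) (.node (.leaf (.cyc (nat_lit 6) [(nat_lit 2634), (nat_lit 2633)])) (.leaf .df)))) (.node (.node (.node (.leaf .df) (.leaf (.cyc (nat_lit 4) [(nat_lit 1534), (nat_lit 1531), (nat_lit 8395), (nat_lit 6370), (nat_lit 9982)])))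 (.node (.leaf (.cyc (nat_lit 6) [(nat_lit 1646), (nat_lit 1645)])) (.leaf .df))) (.node (.node (.leaf .df) (.leaf (.cyc (nat_lit 13) [(nat_lit 12029), (nat_lit 3927), (nat_lit 6075), (nat_lit 10467), (nat_lit 10474), (nat_lit 10472), (nat_lit 11789)]))) (.node (.leaf (.cyc (nat_lit 19) [(nat_lit 1110), (nat_lit 7933), (nat_lit 2817)])) (.leaf .df)))))) (.node (.node (.node (.node (.node (.leaf .df) (.leaf (.cyc (nat_lit 19) [(nat_lit 731), (nat_lit 8701), (nat_lit 1123)]))) (.node (.leaf (.cyc (nat_lit 3) [(nat_lit 155), (nat_lit 4385), (nat_lit 4371), (nat_lit 100), (nat_lit 317)])) (.leaf (.cyc (nat_lit 13) [(nat_lit 11821), (nat_lit 11820), (nat_lit 10760), (nat_lit 9521), (nat_lit 5832), (nat_lit 3733), (nat_lit 12798)])))) (.node (.node (.leaf .df) (.leaf (.cyc (nat_lit 1) [(nat_lit 8601), (nat_lit 10749)]))) (.node (.leaf (.cyc (nat_lit 6) [(nat_lit 2442), (nat_lit 2441)])) (.leaf .df)))) (.node (.node (.node (.leaf .df) (.leaf (.cyc (nat_lit 10)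 [(nat_lit 2093), (nat_lit 4969), (nat_lit 7046), (nat_lit 8479), (nat_lit 9726)]))) (.node (.leaf (.cyc (nat_lit 2) [(nat_lit 1387), (nat_lit 1386)])) (.leaf .df))) (.node (.node (.leaf .df) (.leaf (.cyc (nat_lit 20) [(nat_lit 2386), (nat_lit 10584), (nat_lit 3598), (nat_lit 11773), (nat_lit 11150), (nat_lit 11148), (nat_lit 7432)]))) (.node (.leaf (.cyc (nat_lit 23) [(nat_lit 1308), (nat_lit 448), (nat_lit 4462), (nat_lit 4721), (nat_lit 4722), (nat_lit 4731), (nat_lit 1349), (nat_lit 5599), (nat_lit 3296)])) (.leaf .df))))) (.node (.node (.node (.node (.leaf .df) (.leaf (.cyc (nat_lit 8) [(nat_lit 4953), (nat_lit 2055), (nat_lit 9209), (nat_lit 2011), (nat_lit 5328), (nat_lit 3021)]))) (.node (.leaf (.cyc (nat_lit 4) [(nat_lit 601), (nat_lit 4701), (nat_lit 441), (nat_lit 5116), (nat_lit 5118)])) (.leaf .df))) (.node (.node (.leaf .df) (.leaf (.cyc (nat_lit 0) [(nat_lit 9957), (nat_lit 11261)]))) (.node (.leaf (.cyc (nat_lit 6) [(nat_lit 2812), (nat_lit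 2811)])) (.leaf .df)))) (.node (.node (.node (.leaf .df) (.leaf (.cyc (nat_lit 8) [(nat_lit 3638), (nat_lit 10151), (nat_lit 8646), (nat_lit 6291), (nat_lit 7041)]))) (.node (.leaf (.cyc (nat_lit 5) [(nat_lit 1931), (nat_lit 5365)])) (.leaf .df))) (.node (.node (.leaf .df) (.leaf (.cyc (nat_lit 17) [(nat_lit 12105), (nat_lit 12284)]))) (.node (.leaf (.cyc (nat_lit 18) [(nat_lit 7168), (nat_lit 8188)])) (.leaf .df))))))))
noncomputable def c4P111111 : BT Pf := .node c4P1111110 c4P1111111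
noncomputable def c4P11111 : BT Pf := .node c4P111110 c4P111111
noncomputable def c4P1111 : BT Pf := .node c4P11110 c4P11111
noncomputable def c4P111 : BT Pf := .node c4P1110 c4P1111
noncomputable def c4P11 : BT Pf := .node c4P110 c4P111
noncomputable def c4P1 : BT Pf := .node c4P10 c4P11
noncomputable def c4P : BT Pf := .node c4P0 c4P1
noncomputable def c4R : BT (List ℕ × ℕ × ℕ) := (.node (.node (.node (.node (.node (.node (.leaf ([(nat_lit 32), (nat_lit 32), (nat_lit 32)], (nat_lit 0), (nat_lit 1))) (.leaf ([(nat_lit 32), (nat_lit 37), (nat_lit 32), (nat_lit 37), (nat_lit 32), (nat_lit 37), (nat_lit 32), (nat_lit 37), (nat_lit 32), (nat_lit 37)], (nat_lit 5), (nat_lit 7)))) (.node (.leaf ([(nat_lit 32), (nat_lit 37), (nat_lit 32), (nat_lit 37), (nat_lit 32), (nat_lit 37), (nat_lit 32), (nat_lit 37), (nat_lit 32), (nat_lit 37)], (nat_lit 5), (nat_lit 3))) (.leaf ([], (nat_lit 1000), (nat_lit 0))))) (.node (.node (.leaf ([(nat_lit 48), (nat_lit 36), (nat_lit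 33), (nat_lit 37), (nat_lit 32), (nat_lit 37)], (nat_lit 3), (nat_lit 2))) (.leaf ([], (nat_lit 1000), (nat_lit 0)))) (.node (.leaf ([(nat_lit 37), (nat_lit 32), (nat_lit 37), (nat_lit 32), (nat_lit 37), (nat_lit 32), (nat_lit 37), (nat_lit 32), (nat_lit 37), (nat_lit 32)], (nat_lit 5), (nat_lit 4))) (.leaf ([], (nat_lit 1000), (nat_lit 0)))))) (.node (.node (.node (.leaf ([(nat_lit 37), (nat_lit 48), (nat_lit 36), (nat_lit 33), (nat_lit 37), (nat_lit 32)], (nat_lit 3), (nat_lit 1))) (.leaf ([], (nat_lit 1000), (nat_lit 0)))) (.node (.leaf ([(nat_lit 48), (nat_lit 33), (nat_lit 36), (nat_lit 32), (nat_lit 48), (nat_lit 33), (nat_lit 36), (nat_lit 32)], (nat_lit 4), (nat_lit 4))) (.leaf ([], (nat_lit 1000), (nat_lit 0))))) (.node (.node (.leaf ([(nat_lit 37), (nat_lit 32), (nat_lit 37), (nat_lit 32), (nat_lit 37), (nat_lit 32), (nat_lit 37), (nat_lit 32), (nat_lit 37), (nat_lit 32)], (nat_lit 5), (nat_lit 0))) (.leaf ([], (nat_lit 1000), (nat_lit 0))))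 (.node (.leaf ([(nat_lit 32), (nat_lit 33)], (nat_lit 1000), (nat_lit 0))) (.leaf ([], (nat_lit 1000), (nat_lit 0))))))) (.node (.node (.node (.node (.leaf ([(nat_lit 48), (nat_lit 48), (nat_lit 48)], (nat_lit 2), (nat_lit 2))) (.leaf ([(nat_lit 37), (nat_lit 32), (nat_lit 37), (nat_lit 32), (nat_lit 37), (nat_lit 32), (nat_lit 37), (nat_lit 32), (nat_lit 37), (nat_lit 32)], (nat_lit 5), (nat_lit 6)))) (.node (.leaf ([(nat_lit 48), (nat_lit 49)], (nat_lit 1000), (nat_lit 0))) (.leaf ([], (nat_lit 1000), (nat_lit 0))))) (.node (.node (.leaf ([(nat_lit 32), (nat_lit 37), (nat_lit 48), (nat_lit 36), (nat_lit 33), (nat_lit 37)], (nat_lit 3), (nat_lit 0))) (.leaf ([], (nat_lit 1000), (nat_lit 0)))) (.node (.leaf ([(nat_lit 32), (nat_lit 37), (nat_lit 32), (nat_lit 37), (nat_lit 32), (nat_lit 37), (nat_lit 32), (nat_lit 37), (nat_lit 32), (nat_lit 37)], (nat_lit 5), (nat_lit 1))) (.leaf ([], (nat_lit 1000), (nat_lit 0)))))) (.node (.node (.node (.leaf ([(nat_lit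 36), (nat_lit 36), (nat_lit 36)], (nat_lit 1), (nat_lit 2))) (.leaf ([], (nat_lit 1000), (nat_lit 0)))) (.node (.leaf ([(nat_lit 48), (nat_lit 33), (nat_lit 36), (nat_lit 32), (nat_lit 48), (nat_lit 33), (nat_lit 36), (nat_lit 32)], (nat_lit 4), (nat_lit 0))) (.leaf ([], (nat_lit 1000), (nat_lit 0))))) (.node (.node (.leaf ([(nat_lit 48), (nat_lit 48), (nat_lit 48)], (nat_lit 2), (nat_lit 1))) (.leaf ([], (nat_lit 1000), (nat_lit 0)))) (.node (.leaf ([(nat_lit 37), (nat_lit 32), (nat_lit 37), (nat_lit 32), (nat_lit 37), (nat_lit 32), (nat_lit 37), (nat_lit 32), (nat_lit 37), (nat_lit 32)], (nat_lit 5), (nat_lit 8))) (.leaf ([], (nat_lit 1000), (nat_lit 0)))))))) (.node (.node (.node (.node (.node (.leaf ([(nat_lit 36), (nat_lit 36), (nat_lit 36)], (nat_lit 1), (nat_lit 1))) (.leaf ([(nat_lit 36), (nat_lit 32), (nat_lit 48), (nat_lit 33), (nat_lit 36), (nat_lit 32), (nat_lit 48), (nat_lit 33)], (nat_lit 4), (nat_lit 6)))) (.node (.leaf ([(nat_lit 36),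 (nat_lit 37)], (nat_lit 1000), (nat_lit 0))) (.leaf ([], (nat_lit 1000), (nat_lit 0))))) (.node (.node (.leaf ([(nat_lit 33), (nat_lit 37), (nat_lit 32), (nat_lit 37), (nat_lit 48), (nat_lit 36)], (nat_lit 3), (nat_lit 4))) (.leaf ([], (nat_lit 1000), (nat_lit 0)))) (.node (.leaf ([(nat_lit 37), (nat_lit 36)], (nat_lit 1000), (nat_lit 0))) (.leaf ([], (nat_lit 1000), (nat_lit 0)))))) (.node (.node (.node (.leaf ([(nat_lit 32), (nat_lit 32), (nat_lit 32)], (nat_lit 0), (nat_lit 2))) (.leaf ([], (nat_lit 1000), (nat_lit 0)))) (.node (.leaf ([(nat_lit 37), (nat_lit 32), (nat_lit 37), (nat_lit 48), (nat_lit 36), (nat_lit 33)], (nat_lit 3), (nat_lit 5))) (.leaf ([], (nat_lit 1000), (nat_lit 0))))) (.node (.node (.leaf ([(nat_lit 33), (nat_lit 36), (nat_lit 32), (nat_lit 48), (nat_lit 33), (nat_lit 36), (nat_lit 32), (nat_lit 48)], (nat_lit 4), (nat_lit 1))) (.leaf ([], (nat_lit 1000), (nat_lit 0)))) (.node (.leaf ([(nat_lit 33), (nat_lit 32)], (nat_lit 1000),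 (nat_lit 0))) (.leaf ([], (nat_lit 1000), (nat_lit 0))))))) (.node (.node (.node (.node (.leaf ([(nat_lit 36), (nat_lit 33), (nat_lit 37), (nat_lit 32), (nat_lit 37), (nat_lit 48)], (nat_lit 3), (nat_lit 3))) (.leaf ([(nat_lit 32), (nat_lit 37), (nat_lit 32), (nat_lit 37), (nat_lit 32), (nat_lit 37), (nat_lit 32), (nat_lit 37), (nat_lit 32), (nat_lit 37)], (nat_lit 5), (nat_lit 5)))) (.node (.leaf ([(nat_lit 49), (nat_lit 48)], (nat_lit 1000), (nat_lit 0))) (.leaf ([], (nat_lit 1000), (nat_lit 0))))) (.node (.node (.leaf ([(nat_lit 32), (nat_lit 48), (nat_lit 33), (nat_lit 36), (nat_lit 32), (nat_lit 48), (nat_lit 33), (nat_lit 36)], (nat_lit 4), (nat_lit 3))) (.leaf ([], (nat_lit 1000), (nat_lit 0)))) (.node (.leaf ([(nat_lit 32), (nat_lit 48), (nat_lit 33), (nat_lit 36), (nat_lit 32), (nat_lit 48), (nat_lit 33), (nat_lit 36)], (nat_lit 4), (nat_lit 7))) (.leaf ([], (nat_lit 1000), (nat_lit 0)))))) (.node (.node (.node (.leaf ([(nat_lit 36), (nat_lit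 32), (nat_lit 48), (nat_lit 33), (nat_lit 36), (nat_lit 32), (nat_lit 48), (nat_lit 33)], (nat_lit 4), (nat_lit 2))) (.leaf ([], (nat_lit 1000), (nat_lit 0)))) (.node (.leaf ([(nat_lit 37), (nat_lit 32), (nat_lit 37), (nat_lit 32), (nat_lit 37), (nat_lit 32), (nat_lit 37), (nat_lit 32), (nat_lit 37), (nat_lit 32)], (nat_lit 5), (nat_lit 2))) (.leaf ([], (nat_lit 1000), (nat_lit 0))))) (.node (.node (.leaf ([(nat_lit 32), (nat_lit 37), (nat_lit 32), (nat_lit 37), (nat_lit 32), (nat_lit 37), (nat_lit 32), (nat_lit 37), (nat_lit 32), (nat_lit 37)], (nat_lit 5), (nat_lit 9))) (.leaf ([], (nat_lit 1000), (nat_lit 0)))) (.node (.leaf ([(nat_lit 33), (nat_lit 36), (nat_lit 32), (nat_lit 48), (nat_lit 33), (nat_lit 36), (nat_lit 32), (nat_lit 48)], (nat_lit 4), (nat_lit 5))) (.leaf ([], (nat_lit 1000), (nat_lit 0)))))))))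
noncomputable def c4Tt : BT Nat := (.node (.node (.node (.node (.node (.node (.node (.leaf (nat_lit 0x445001e007800801b006d01ac06c01a806b01a406a007c01d0021114007c06801a513b014406701a0066019c01e0194066453005b0190065018c064444c01c00700080074062018c0610189112003512100c001b0021113007401c0180061017c060444400b0068007017805f017405e006c05c017405b017005a016c05901691100064019001c01a0160059015c058015805701540560060007444001a006405401540530150052014c051014910f005c01700180180140051013c050443800e448c0330058006443c018005d117008c04e013d10d0054015001404d013804c0134016012c04c012804b00500054434016447402b012404a0054048012404701211150084046011d10c004c013001401401140460110045010c044010804300480054430014004c0410108040010510b0044011001003f010003e00fc01200f403e00f003d0040004442c012447002a00ec03c004403a00ec03900e803800e403700e110a003c00f001001000d803700d403600d003500cc03400380044428010003d109003400d000c03200cd10e005c03100c803000c400e0030003442400e00bc030444801c00b802f00b402e003402c00b402b00b002a00ac02900a9108002c00b000c00c00a0029009c028441c007444401b0028003442000c002d10600240090008026009c02500980240094023009000a0020002441800a008802300840220080021007c020002401e007c01d00780070009105001801c007401b007000844100060018001006801b441c00b006401a0060019001c0050005104001d105002110300080170060016005c0064408004001000000540160050015004c01400480130014003000110200140110048010004400f004000e003c004003400e003000d00080004404001002c00c002800b000c0090028008002510300180070020001000110000040020018007001400644040030000000440000243fc0000004004001400300100000004002000d0ff00040010008000)) (.leaf (nat_lit 0xb63cc3785a46ebad8061f85a096a25c434e859478925ca7911bf2c992fe59df20749700d36a291a1ac662fbc9718f0c9356cfc5dc25bc34d677c81e677857a851c87525c254229061e7134678e2bfe1e8159614b153896e0d3496f80fc92b80f83e8b534c2693ec6c7677081a25b034c25b59db1971d9527899da16068442c7896b0d319dc206c96c676081825a834b67e06e5676435240fccc840f8cc725ac9690d2d9d8206607c1b7d9d70d4103d331a7742be896a89bc59f25a034ab784c478be871a40f0cc5bea0ca925a609d109a09c21f19d4201c9660d261e221e6ea431d896782603d5825c43d824075b825898f25903498264423259503b3312bed2f5abef2f5d03a330c9620d22bdf17ec96325803478780436c008cbb70107ff85c4a1485b84d82586dfd2bdadfb23459d0204495f0d1eb8e2eed9cf2038960ae407bfbe24ca325783476740812700892d67383ea257e1c022d5039330895d0d199cd2009d01267a40b1c7895e67b4823672c6db673080e2570345befccaf40e0cc12576beb2f56c592fb495b0d159cc203d9cf204ab8f2eec95cb630c36937c6ea67a882267246d9672880c2568345256ebda2f4ef142b85d041105d0326449590d159ca203495ab004bdba0a0b19672080a2560343af2cbcf69f8643256695f298695a13c09570d0d9c8202da762189a7d1908958a0b0b1b82dc659a55c55b2554342bed8cadb23cbf7255adff2681037330247426f2fa132a09520d0a0b2198895367044c467004dc66fc34967508162538341823c759253ea152d99cd0221d9bc10a1ab622299bb201494b0cfc94cb314bffb97882f9b90ad440d8cbf252833f66ec806252dcd42631cfd26699ba200c9490cfa3a10fc23a024c894a8e7c3f58e78939252033e66e88048224978824875b25259b70e049450cf59cd20419b80d1b0d4299503432f894640cccbd40c8cbc67a082182286fc82b04cf251033d251615f135e556292215e0d3c9400cee15d19ceb5c2ebc941))) (.node (.leaf (nat_lit 0x52e041e112c16f72285822e449712e409707f1c94e113044a05bd4b8107dc382531bb91008b8e25bdbbb242844b2e3496e7c90951112416e52dc3fb71c496971d061e1128b8b25b68a51ea5f342425f320f3c44805b94b60fd04492e1c96c81a0924111c16d52d4251715095b715840f112044505b14b20a7d8291ba54b30aa0b8525acb8425a8446714c46f71481932e0c969714495b52c4418111016c1115f5f255df5e10294b00a517f31b1844305b14b11064444110816b52bc1952e049686d488d82e009678f248df110e23211cdfd422a14ad0ba98cc1db54ae105444105ac4428c288427d1c934641879855c82fe110016b52b841611054ab104c43e05a6ad8180eae01f88b782598b77259443f10f416952ac4147b9c8982dd4964772849b7b8032110f8b72258e36e1ed843c05a54aa064cb702589b51236043d52a441010ec1682dbc9612db89602db495f2db095e10f043a05a14a91044b6b2574b6a257230f0d9a310211c43b641c7987cf493a716424710e4168715841b2d9895b10e94a71034437059cb642569bcf2464b6325664ab1f7043810d8167529c40e529830d64947b05294307833c59e10dc434059a06e0a8df631089f6205c8b5e25620741bf84356b8c8a0528839a528c40a10cc1667f7c3ef6ecc90910d1f5e1060b5a255c43205994a3102e0570a797671960433528040810c41655d30642528425491f48ba2d5c95610c843005954a01025c0d24c149f0fb0b562554b552550431610c6f960d02b1842076460cc6f0527840610bc16510c0b53254ea71228d7f11b0cb51254842e059549e101c42f527440410b41642d409512d3c9502d3894f7ca046b10b842c059149d1015fca1974b4b2539fcf1da5fce1db442d7c604ec2d1c94d10a81647c483f87efc58252683ec10ad4991004429058dbb91078b462531bb82421bb70f3c42a10a0163526440296404ee2d1094b2d0c94a2d0894910a57f01b0d4970a4df140fe8427058d5501281544125c428)) (.leaf (nat_lit 0x3df86b7b4bc710b4c4becb4c0b9cb4c8b97c8a0d293dfed2a2f28f7d1adb15333fad2b288ad2d2776d2c2438f7eb47cb2c3df06b5b4887b1b4809a1b48cb22b4847b33df6d151c5ad161b72d132cead14217cf7b1ac2d123068f7cb4389ff3de06acb440a82c288cd8b43cc08cb2cd473de6d0d2cbaf953296d0c2c10f771ab2d123072d0b1ac0f783dd86abb420b2ab4288e6b4249b9b88cc56ca70d403ddcf751aa6cfe1c16d012f82cff1d86d002236d02224cf76b3f0865b8e8c5dc3bcce8ce0cd6c3dcc6a8c3d0ad03dd2cf52872cef280ecf42e28f721a9ecf72d7acf03050f73b888c56ca84c49b3b8c143dc46a6bfa0a93c108cc23dcafe92a62cf629f0f701a9acee3056cf0305acf82d78f71c84cab9b3ecadfb87cc55cf54d7db3c89613dbc6a63dc324834bb0df338ef1c323ef252aeacec3044f6d1a94f6ebd70b84cda0d66b3aca8fbc74c913db06a5b3b0c123db6cea303cf6b1a93163325337235a316234033103554f6c3da86a4b3a8c10cc88aafcde0d6acc84d57cc8cc463daece92864f691a8ed5e2286d5c30ab0ec339ed5d22b4f6ac8b8c24c8bcce6c8c4badc8b4d2ab3a0a213da06a33da6ce7302cf671a8b37c35af2362ebb23528c32341f9cf683d986a2b39cc0cc8e0cb4c8c0cb9cb18d46c8e4bea3d9ece42b2ece52a0ace32860f651a86ce6254ad5a30a8f66b38894a3d906a0bbccc88ceecd78b3e4b4bb3e86ae3d96ce02b66ce12170f631a82cdf2b2b2cd351ed0f306cf64bdc89b1bdc4c9fcb10d46caf49e8b374c063d8469e3d8ad7d30cecdc23fad42308f17433e8f601a7acdd301cf61b5d0915bca8c94b36cba03d7c69dc1ccccfbbecc893d831e8324327634e2d73231b1613402cda300cf5e1a74f5fc11ccc3c5dcd05b59cc2fb638c363d7469db368c043d7acd63004f5c1a7310b33bacd72deed493096cd822f8f5d3d6c69cb358c02b334b2ab32c7f3b3309f3b33cb833d72cc922eecca2ad4f5a1a6ecc62ec6cc72c46cc8260cf5b)))) (.node (.node (.leaf (nat_lit 0x89c0b04b1c22018d45c518d05c4868c1f986884ce08a0632170e32f138d2c6087422602c0630170862f17042278c984688c9418f08940b04b1821e4c3c2754b140cd08992c4086c22402bc62c170062b16fde4e0611e50111c225088c0af4b1021c18a05be189c5bd18985bc18945bb089062416e93200a192c3086422202bc62316e462216e022318845b718805b608840af4b0c21a187c5b518785b4088861d16cc61c16c92ec06a955b129d2c2085c22002b8221186c5b118685b04ba824918645af087c0ae4b0821808812c1085421e02b461816b861716b461616b061516ac21f08740ad4b0421618505aa184c5a918485a818445a7087934d0ae5347039421c02b52bf03cd6a016652c0083421d560c120086c0ac4bbc24e56081b64b98245560016d087156912cc610169821902b12bd02f157c13053710b8021a183c5a518385a44af021008600ababb426618305a308655cf07b9638154c21702ad2bc08452bb03cd3460ac4218182c5a218285a118245a0182059f562412708580ab085c607167860616752b9083421402a86051670604166c215180c59a55644a6084c0aa4ae420e4b00214180859908520e009c20df032d69c0aba0de12992b8082c21202a821317f859817f459717f059617ec59508440aa4ae020c08492b7082421002a45fa16505f9164c5f816485f71644211083c0a94adc20a4c882894b280d57e805684bfc25f08405f516405f4163d2b6081c20e02a52d608b92b502d420f17cc58e8d0042d08340a94ad82084b202214ad00b108392b3081420c02a05f116345f0163159404c55930df820d082c0a84acc2064bf425c17bc58b4bd025317b858a08305ed16245ec162020a02a12b202ed6db0c805ea161c20b17a458617a058557404e7179c5844ac420208240a708285e6160c5e516095a1131965a0e78208029d2b1080c209179058151603c24ac01ba081c0a6178c580178857f0821b3d0e905e015f967b0d314560f052af07fc2060298207)) (.leaf (nat_lit 0x34084b279bc52dc768d19a164b23b4d8c204340d52340ccff12c5e2f1aca4b018a64b8246a4af273e4bc2570d0033f44b0aea06eec978bdea198b29ae28bbaacd8ba633fa722280ecf53059e2a286ccfc12c1e2d1a89e2521bccfd9a98aca433cd5133ec4b078a8a1ca17c91ea71468a33f24ca20eccf812bb2f6353d0ce3543218349721932eccf978846a3b3a4c0e78809a933d04ad93d89aec518cfc33d667f1d9268325c1e1f1a86ce33029e1e285ccf312b4cf49434573a000b129430838943884333c84ad7878a1833cccf112ade1d1b2a5021abe5011b36d6930be503261ccf2c940d314334d4f9410a0d941c8e533bc4ab942869433c1e1a284ccee12ab2e2353327434e1e1b1362171204ccef33b44aa7868a144330d4ebc64c8c9a40abfc370ce233ba6cb29fa125165a8c22ce2124166ccec12a9e1916bcced7860a1033a84a8a244b309c7c8729c74ae79c786bc33acce912a1e182846355276a35423b283320b682f2c6ccea9414a0da318b388d246b733a04a8784862e783c63433a6a821d46aa62e2e0ed17baa7b2dfde0d157cce5129cce6a31cb389414a0f88d88e59410a1578306d033904a5339712533c90cb3535e0a193ebf92f6218323fcce31290ce4952ca444328d4c780c4f433844a387647eb87285163389dfd2824cde12869e21a36c6f2fce9e12272fae32accdf33744a177f4a0aa860b67a78c9f6a78092cc598d01337a2491ee676a2be4cdb128623a13829df2d7e9852d38cdc336449f81e0958a14ca31a144586c244cd4aee4bc83368cd7127a358276ee931572e921d76fb932bb2d93528cd89090763335449db2f4b00b2f0b0bbac4bc0b62cc353359df312d8cd312723f21849e661ddadad2382c302f90cd4b3bcc169c88a1c8d3c6b69c8487133304998d4c8ec3334cc9125e4a727532013486c5f26b293c2d1293d26b4cca77a049b7cac941779ca0033204967f944d47bcc93033265a32989fe613c4cc71259de72805ff51385ef424b8cc8))) (.node (.leaf (nat_lit 0x3bdcba9ada0ad1ad8496aad8081f1a7c2435ca46201a8172716bc69e090973c18c57280931c741075c7325a469f95e09503bccba85d3c64571f096c5c9861c1a742421a7a4be25727e72c2572413d654a290c69c0909726187469d5c8c61a1a6c24184ac5ac84a07a89f6c5a2a364b3d1a7069a0905723186df772429c8525b4ef22e9e6352a3469bbad0b003bc0ba687c88673bbcba55c886181a642411a6a565294e1d421e972f189e1d00d6c69809057221864699a1dc59979e851e5c806161a542409460a287d344ba1a5a3111e7e8b42cd06940901720185dab020a571e18206951a4823f93a054c9ec8ab390f89be9130310912c7b21a4e3f719b63f6099571b184c69008fa3f50b1a3f41c946913bb8ba48fe87081a3c23e5c6c614aa48b863bb4ba31a430bc279ceeb2e8a3f31dda3f2281068d08fa3f10b8c68e8fac7655f706b15c646101a3023d3ba8ba13ba4ba01a36b1825c8ee82e7c68b08f571918457c61a7d7c70a0068c8fa86ce3b9cb9e8fa46c08fa02915c6060e1a2823d1a2d7c813d280a1bed7c91a7a1db1fa468908f5718183c68a5c5c5c01a2023b79689fa796449893f89d7795c49e1a25715182c68708e973a18b97160928ee62e74ee52e706881a1823a5c5460ca4b09989ab0acca46c8f89ab4aa01a1cee42e6cee32e69e5d0bb9e3c1271714182468508e8686795052599a0aa7794c398794852a1a1023a5c5060a1a15e390a6c68308e571f1621e601dd571e1859ab120a46845c3c6061a002388b143058b105bc8b0c9fc8b0848e1a0467f08e170f181e6f22b69e7c1dce89e0c21e7e12dc6805c3428d5f9c6ba5c3060419f82385ce462d5c3824a19fdb220c39b210b3467d08e170c1815e7b14e66aa2b3067e5c2c60219f0237ab7c7e2ab604143b88b993b84b9819f467b08dd70b180e6672a94ee02e5e6661e14edf2e5867c5c244455c2848a19e82375c204913b78b953b74b9419ed70717fc67908daaad2786aa82e32aac1aeaaab0e2c67a)) (.leaf (nat_lit 0))))) (.node (.node (.node (.leaf (nat_lit 0x484015347a406c47a006047d8131048005a47a812004851e7023926d06f11e6047411f01643640d4c3630d481204f5c2a80d883510478059479811e4f543390d84350047c3600d3c35f0d391e5023526906dd1e4046c11d016411e0d7834d0d7434c0d7034b0d6c34a0470059479011c047435a0d243590d211e3046411b01603580d1c3570d1811c0d583450d543440468058478c11a4f483384f50175046c3540d0c3530d083520d043510d011e2045c119016011a0d4033f0d3c33e0d3833d0d3433c04600584788118046411701591e001bd22205b11e101d532a03813290a481180d3033b0d2c33a0d283390d24338477c1140458056045c3480cdc3470cd91de019920104f811501591df04541160d183350d14334477411204500550d103330d0c33204543420cc43410cc011301551dd044d3b10c683400cbc1140cfc32e0cf832d0cf432c0cf032b47701100448055044d3b509d033b0ca93b402913b3031411101551dc04441120ce83294a801f3476c10e04400540ce43280ce032704443370c983360c9410f01511db043d280073d281025011059081c80cd03240ccc3234a781f1476810c0438054043d3550b043320c8928207383310c8410d01511da043410e0cc03200cbc31f4b4c22b47540b4475806c043005304351d802d810b014832e0c7832d0c7432c0c7032b0c6c10c4a381db49fc0980ca831a49f81cf0424051474c05204283290c651fc04e11d2041c10801403280c603270c5c1090c983160c94315041c05047481084aa81fd4ab014c04203240c503230c4c3220c491fa04d91d1041410601401070c843110c803100c7c30f0c7830e04140504744106041831d0c3431c0c311d00398104013c31b0c2c31a0c281050c643090c603080c5c3070c58306473c102040c04f04103150c143140c103130c0c3120c08102013d1cf040c1034738100040404e0c443010c403000c3c2ff0c382fe040810001391ce040430d0bf537b06c937a07d13790288101)) (.leaf (nat_lit 0xa6fcb51a7246ad2b643dc6f649206f607caa2345d02b69bd52474ad60f6a9f12d9285e2ca29c41a2a85f286cad72b543da6f5491ea6f05b66f50889a6ecb53bdd4ca02b5abe12e4109a3476e7a31ae1812654ad40f65bd315d4ad5c45ccf1c1c48946f4882ac1b8cce2b4c3d86f4458f2b51bd02464ad20f5e4b8287a4b618a68932cc24b72580ad32b443d76f4091a6f3c40e713095a6f388fca50cb452b49bcd245cad00f5a49d258f069333649c11b249b2170ad12b3c3d66f349189314853c2accdaa844786930c3dc2b427711e0638d121e38a23171653405bc92454acc0f54acdbca4c94b5d0c058e209ed8e2c8c72b2c3d56f249162b329a01754aca0f52edf320ee9c31d31e5346ee9d30d8acbc1d8aebc4b8c28c77cd1ac6a8d102b203d46f1c9032b25bc62444ac70f4e39612ea395162639424d23930fc4ac82b183d36f189128e008b980bc9ca91a46678df89af2b1dbc3243cac30f4b1e3346e04c24190993472f6a3278ac42b083d26f0c910a760b5d81146dc85e88c2811c9312b0cabe0f467d12129bbf22edbbe15dad2c3079d8b2774abfa53062b97e4504bc1c799ace4ba76ef490c2af43d12afa3ce258afa732a5da127aaf2b3254abc0f45bbd2434abd6ef090a2aec3d0a678b4fadd4bb2a6747debea8caa2af0aba0f41bbc242df7625b5f771869bbb1079c8725bcabbae44bbc7cd46312ae03cf7cd041c6ecc40b7f803ef2ae5fd711a9fd62739f400fd9f3b24e8ab60f3dbb81008ab7a3d8b3fbb78c836ec46582ad43ce846c75385cc6da2ada04d231ad191abe04c2441098346e04b0fa0ab40f38ab56ebc9042ac83cd9b588ae9b545579b505059b4ca792accab10f35baf24168d82cf274b169213116b9bab1f08ab27dc04217dbc9736ea49022ac03cd6f1c9136ea03d42ac674c27d6ff532e0aaf0f35ba9240dba32145ba20f40ab0b8acc5ab58cbc4c48ccf3b584c2c6e749002aa43c92aaa9e72d820bb229a1991a669fd1cecaa80f25b9d2404aa9))) (.node (.leaf (nat_lit 0x581450b5a1456858103ae15c81da9918a9b580c51d15cde7a185e87816656021474571076254c2910d9d2a7057269043946b2c89615c01d8580851e580c51f3670a9b15c688427ecd9a2a69e7908fde78164243c119856f0760570caa06ef3660a99365ca983658a97580051a15b41d715b8d952a58d942a54d932a50d922a4c56c075d600146c56d57fc51815ac1d69714a723644a929d5c9743640a9115b056a07595ff1465a682161a020dc0d8f2a40d8e2a3c56b3634a8e3630a8d98bca8b8a2c8af15a41d657f84fa15a95fd14545680755cd1262dab810d21ca282e1d81fac569159c1d557f45168a5852066f433f8a608ca8a6453f15a15fc0dec5660750d8b2a31a8121961f525b61f425b056767f882b3628a8b57ec51215941d496c4a69685c8371598d892a2a5b21cc056407515fb144d5f90dde1cd189c56557e0510158c1d33620a8959505529888765975c7ee1590562074d5f8144562114f15f7079667d210cd862a20563913c9af3614a873610a86360ca8557d850e15841d3158a1af0f29fa61af65ed29ea1bf22d4560074d5f6143c56157d450c157c1d298588473604a843600a8335fca82158055e07495f514359961f50d7e2a061041d521030b7055f5a10568581451f58ac54657c81e915741d257c44f915795f0142455c07466c327e66c229d66be0c126bd1e9455d156c1d157c050a35e8a8035e4a7f9b205ad35dca7e15725de22ba5dd1f625e10cd055a07465db0cad653154855b57b450615601d098188ccaa6862435d4a7d35d0a7c156455707415ed141cd7329ee1b31fb61b20f2e1b1195c55835c8a7a58b054657b050415581d035c4a799b50905155e5f9243694d18ac55507415ec1414d6d29e25e71f8c55657ac50215501cf585452e59c0573582852735aca771554553073d5eb140db1d11599a21fe19a51f3d9a4196455435a8a7635a4a758400754844068757a850015481ce154dfbd277cd6829d19791f699a7196855107395ea1404552)) (.leaf (nat_lit 0xc7ec9d1c7e8a29ca58d3fc7e09ccc7e4b79427093742771f2329b1f125831f02ee71f3330909b24971f431a109c426891cc7b0b90c7bcc4bc7b4bffc7b8ce5cc98d58426f2b2350b3d235f31e9296f1ea32131eb3279099244109ac798b59c79cc7d4260906c78c910c790c36c794914426509723e71de27b71e134431df244f1e02fcf1e22dad098c764966c7609e1c75cb23c768a1f42588f7ca98a99425f3cd35ef1d232631d42d8909423d32fb35431d32f99095cf00d79c744b58424c8f1c730d13c7349fec738ae3425332e356b1cb2cf71c4276f1c533971c731b509223c509342408efc708cf4cea0d74c8ecd2bcb4cc5ecf6cd7e42473d635f71c033571c12c4908f23af36235973003545090c6fc9dcc6f8c4bc730d17c7248f1c6f4bcd42388e9423f1b8310d08d23a31ba32373e035ff1b932e31bb2e1108ec6dc969c6d09b6c6d495fc6d893b42308e6c6cc99a42371ab32ab1ac343b1aa244f1e1346908b23931ad30f908cc6a4cbfc6a0bbecf04d79c698c58c69cbcc42288e3422f1ac344319f32ab1a1343508923733c735eb1a02e0508acec4d69cec8bfc42208dcc684d0ecebcd75c690cdd422719a2c91087235f19d310f19b238319e327319c2761088c660b28c654c48c65ccb142188d4c664968c658992421f1913425085234f1942a5736c359f1922ee71932b3d08642108d3c644d0ac63cc54c6348e7c638c6fc6408eb421718c319318a267718b341d083234b34e358736e359d084c620945c624a2342088d2c62cd08c618cd6c61c8e7420f1852cb72fc3541081234317d33f717e2a6317f3311082c5dcc03c5e0cc3caccd42c5d4ca7c5e8c5142008cf420507e232f16e2a53171255716f233b17031ff172308d07fc5b0d0241f48c7ca50cb3c5b48f6cb049e8cb00d4541f907c231f16c340f16933171682c7316b319b16a31c907dc59cac3cd64d63c59491641ec8c5c598a09c59092c41f315f23d507a22fb1613013160231b3113557162304107b)))) (.node (.node (.leaf (nat_lit 0xcbc10b4eec32023e07d351043a76c146306c5044e0cc08f51f488f41f453ba0c7432e04288f31f41d13115432f23c47cf5b105c10cb410a4ee831e4ee422b743c4620cbab211ac08ef1f399530f6c8ee1f353b80c6c32c042832d23b47cc8d1c59423ac7cb23a87ca0cac10a4ee031c0cb13b705014420ea13b6073c32a04253c90cbd3b1044832b4ebc1380ca410851a83d74ec015323a47c923a07c80ca88e71f1c8e61f188e51f148e41f113ae0c5c3280420329238c7c323887c251703c523847c10c9c1084eb83180ca13ad0c54326041d94711e48e01f008df1efc8de1ef83270c941074eb431657482605db865f57444e77ea44ea0c993ac0c4c32404188dc1ef48db1ef1ea9122d93c078c3250c8c1064eb031423647bb23607ba235c7b923587b80c91a311c488d41edd3aa04d832204194690f593ab054c3234ea43100c8410564bc22c64b85e1234c7b623487b50c8832004153a90c448d11ed08d01ecc8cf1eca44c1854321516c3c54e9c14b4ea030e0c7c10568b071068b42bd0c81a270b35b22181031e04153a80c3c8c91ec5a371eb831f4e9830c0c74104231c7b0529840d830c6f583082af0c7831c04113a60c358e21df13a50bc60c41bda0cb165431d623c7404e902d354d84924e7828d4e7430a0c6c1040c708c21ebc8c11eb95391169538062c31a041139d0c2c31b4e703080c6410323007ad22fc7ac22f87ab84f053e0c68318040d39c0c248bc1ea88bb1ea689f12de89e181831951e015951fc3e54e6c3060c5c103833859e529440d0c608b71ea20d51670316040d39b0c1d8e11ded39a0bc43174e643040c541027e1c5bc8b146078a143267e345ce0c5831404093990c148b11e9c8b01e988af1e966be142831554e845a4e5c2bb4e603020c4c10251dc16051d83e30c5148b0fc48ad1e9031204093980c0c8ac1e8c8ab1e8831322a87a122a47a04e583000c4410122a079f229c79e0c488a61e748a51e7031004053960c0557112e48a41e6c311)) (.leaf (nat_lit 0xa3d0880c40ccecc3e8ceab18487e3924583a11c5cb392a8451bd68432baa8442068e4816068462a870ff33ace49a1047b0a1086bca0f8923a100aeaa0e46d7391c5813922df228f304b32af168340b049331690f2a68e4415f8e45a0b8659a0b0809a0b486c390857da0bca10a0c482d390e82b25bedb230f282a21ab0e23390e4115f68291a10e42a0a080bb00cbdba09c873390057cc954d32ad18a413904e3e15ea823173f32a356a82428e3206318f2043484e3f38f4579a0887ebae58940ae50bbcc8fcd2cbe20ca238f8e3b15e28ed24e2e6b31a6d40308a81f2c328202c3ce3ca0786c0b504c2338e8578a0707c6a074a74ae4cbbc38ee81126d280e1d168102964e3915de812197e80f1f10e3abfe0cbaa0107f7a0186fb38e0574a01c7eaa014a8938e6800285ce3715ce80323af1c1345280127728022778e389ffc8fb9ff46da9ff8b0638d8572a5c0983b31cc0038df307354e90128827fb2c3ce3315c67fc1d4a7fa208ce34ab3c64aaf9cbd438c85719fecb10a080b169fccb0c38ce7f12b967f21e6ce3115c27f02ba297620a28fb1d98e32a9e4b7f43d4d76a5e09e3a5e45e838c056f9fbc82538c67f527827f41974e2e15ba7f81d9e7f32c3e81f2c58e2fc44ccf0b41c893b2f0a059facb00b2e474a38b456e38ba88e274ed842e3a7e9164a88b17427ea2c24e2b15b4e2c9f9c61c9fa095ca5a0b4ca39069738a856d9fa8b0a38aeeba31e6d372e567e220d67e621a0e2915b27e11ed0e2a9f78a7d38a056babf0aa49f7ca4babe0a51cd1cd5f38a67a825227a41e567a315ca7fe2c44e2715ae7a92c0ce289e885c7a768b5e9e846bd389856abe2cca3c284cd8389edba30fed1721827a01ab2d0c3068e2515aa79f1ab4e269e78a7738905679eac69a9eb0a579ea4b069ea856b38967f91d9eebb31ea79d2c04e23159b05f332737d35ace249e70944c800d2138885669e74b029e6cae5becccac388eeb52e9aeb418667eb2c2ecbd2816f522ac8e211598e22))) (.node (.leaf (nat_lit 0x8ee89b93ed4c4d61ec72a8ed08e11ff82c461bc7201ffd86e1c747fd0b0edfa2344fb4313240b204240c26787fe1ff02c361b871eb830356b82c82bb96ca703ec4c4b1ff6d4b255586c1a7d8791ca6b282c947fa0b0e3fe1b247fb1fe02c2687c523a46057e6b30897a45c8f53ec0c4a1fe58681c647f60b022fa205edde311e2f90cda2f80dac7f71fd42c061a071a628074c619c2d83ebcc49b66cc3a1fd98661c5c7f40afea7f16caa7e2d22a7d2dfea811d347f51fcc2bf61987189988aa663cc788c058aabaef0bc91fd29d91b72d1530718651c547f20afcfad3120fac311c7f33eacc46b9a08d91fc42bf6194716627c74b61902d81fc87ef0afa1381bd0fa931162dd213a0a10cfa3b11d1c7f061882f561803e48b946801fb82be8b9c5c7a75cb5d1fbda321edda310c4985f1c447ec0af5a301591a2f0ee87ed69ac85968cc3c91fac2bd617c71261786d26db48ee1fb2d2f307e34b1adda2b0eedb1e18b47e90af5a2c0c3c7ea8a007f2a2fc72368d07b98a1032661704951fa02bc1fa585b1c347e70aea48819ea4121d7a4281aae4141d887e81f982ba616c70e9f2885b62583f33ea0c443e9cc431f9e0b315fe08519458591be07e50ae60860cf185a10947e674b49b275109bdb104be77a5c66c1f8c2b97a706711f91a0a10807e20ae22d321467452bca2d20d9e74a16907e3681c358683083361587081f802b88fe072661547041f863fa184eb302e907df0ae18561c26dbf31018541c087e0614c7061f782b784d459aa2ecb3784d05b08bac8601f7c7dd0add8531c1ea672df240a1c8cfa63108fa531047deb3f8c188ef06a91f702b761486f273684358b6836d1f76c002f6ab292b587db0ad98511b258551c263f91c987dc7308984613c6e861407021f682b59b40369a60479c1f6eb2c27ba6cd16b47d90ad58501c0d8541c20fa431007da67ec826b5b0aed72fc98261346e6a5f44bc1f602b51f6584c1bfc7d60ad2a6c2df69221f44fa330fe0ba22987d7)) (.leaf (nat_lit 0)))))) (.node (.node (.node (.node (.leaf (nat_lit 0x45ec03546100ae027c03145e403c49dc1c445e80910281178027409e00c01ef07ad28b07641ee07a81ed07a409f027403045e009e47200fa45dc04c07b01e807ac1e7027923d061922c01f01ea079922b05dd176026c09c00c009d07a41e507a01e447fc13b079c1e3026c03045d809c0271175026409a00bc1e607881e507841e4078138203ec09b026402f45d409a07881df07841de07801dd077c1dc026927f04241de076d174025c09800bc1dd07681dc0764099076c1d807681d7025c02f45d0098471c0f945cc04c0261172025409600b928804841d907581d807541d70750097025402e45c809607581d307541d207501d1074c1d002591fe04ed1700195171024c09400b928104381d2073c09507441ce07401cd024c02e45c4094073c1cc07381cb02501cd07281cc072516f024409200b41cb07201ca071c09307241c607201c5024402d45bc09245e809f071c1c402481c6070c1c5070927103401c4070516e023c09000b4091070c1c007081bf07041be07001bd023c02d45b809002401bf06f11e7047916d00c808e00b01be06ec1bd06e808f06f01b906ec1b806e81b7479411c45b003d023402c023808c00ad16a015d25d030516b01781b906d81b806d408d45a408a022c02a06dc1b406d81b306d41b206d01b1023008a00a9169022d21b05891be01c41b306c01b206bc08b06c41ae06c01ad022402945a004147cc12e06bc1ac02281ae06ac1ad06a81ac06a41ab06a008800a516700e008906a81a706a41a6021c028459808546a80db46ac04402201a806941a706911ac03681a6068c08600a116501f0087458c08402140274598087459002806941a206901a10218084009d16302141a3068123806081a2067c1a10678085068019d5440125067819c067419b4588082020c027021019c066819b066523305e419a0660082009d162020c08345840800204026482414906641974810143066019602080800099161020419706541960650195064c1940648081)) (.leaf (nat_lit 0x6b8489e28c4399bba4c8741b8cf4b088531b08476e28c8a300e65ae1227eec82e16ec72692ec62b1aec519aca316b6889c28b43976b705389a9cacb6b6c774bb28c7e28b8a2c0e5dada2276a1c2daa316174efac32ae9e12828a2d89b47f928ac3969b7c591a220b2e72d87d2a47898028b1ad711b1d72273ca290e59ad311c1ad51695ad4121ca2a6b487fd28a0395b14cb35c278cd7b148beb41b4cf328a5eef1225ad011f9ee82591ee7104dacd225ca270e54a289098757b780c476b3071ba45457e28983956b34898289dacb1474a250e51b4423261b91359b3723061b722b0a266b284f66c9062d6b247fb289039441b0cf2c274cd72897071246d06b33c5ac8224ca220e4ef4f14a5ac71de8a23b41cb0b41a8cf028843936b20894b408c186b1488d2889ac42244a200e4aab91242ab827faab72e32ab617e4a21287c3926b10892b294b5641a4cefb290bd1b55cc2928830ae24830b02150a1e0e49ac3220af0f1516f0e2b84a1fbd68af0c21ccd1bc2cc8b6b0079028743916afc5422879dd527f1abd1281abe2234a1c0e42c572fb62af19f0a1d76449d66b187c0286c3906af888e6b14893b400c1828722bd208305d3325f7e1e89f7d0f962ad1fc8a1a0e40a1b6ae488a286038f6bbc8a96ae86fab278bfba02c6932864a170e3dab9222dab62019ab510a1cce2629ab710d0a186e9c8df6e983b46f5091da6e45b66ad058c285838e285f08b334daae20d5aaf20a5e6d14b4a150e35aad2110a167340806a850b666ab0886285038cc434cb441a0cee2856fc530e2fc42ef4a130e31aac221efc332c106733b4a148a887a2bd28c9b733c98a8ac07ef6aac884284838c284e2a1150e2a00eb656d295629f1eaca110e31aab2214a12aa507ecbf74cb5283c38b8ae048f6e388fe6e3c3c52841aa720c8a0c0e29ac32241aa80e4b0ad336b0703338a0dbe34ca46e347c5bf04cb06e308fe6a907ba2824389282906633b28f42c7df1a24fa4f426b4a070e21f7b0f94a08))) (.node (.leaf (nat_lit 0x81dc9583364a077c6c93f6ba08a513881a6553433a138e357276ccd728184e1069554c0b75e5718364ff275c4e23354a059094763552829b60306d1552449c13801a51384cd32811df112d9e3c1829e5e0bb84df069554912744e07ca894177a0a01552049a13781a47b7c3217728413137ded90c8ded81f684dd0691548126ddc427e9dc512284de13641a37b4c45773189865ff04318d488ec3330a03136ac7c1ce5dc31239e591835dc227e954611204d8068c4d992989d43324a0213581a2550c4275510400553c4a0135d54212544d50684cc82804cc72801ef111a9ef20b084d613501a1550849655042f380084df55002bc617070f135553f124c4d30681f801e8ddd327f20c71bddf911e984d413481a054fc494764c9e254f847a33049ffa4ac998134dd4626fd53c11795340a355360c2d53512444d106804d2792c39879284485c2060154f423713401a054d44921345533123c4cf067ccbd27faab92248cbb27f6ab323bc4d0133819f54cc4908ae08838adc38b8ae87418ae42d4133ddc31262c7d1ce553212344cd067e2c2181ccb427f04ce8a247f07a085be133019f54c848e76489e154c447a1335530122c4cb067a87f169ccb027edeb00e16a5a209c4cc132819e54c048c7aac53d7aa87a57a941e37aa4314132d70a180552e111552f12244c90679dc51268ca927e84ca7bc047e7bbc898132019e54bc48a32989f9b1fc73a1324ca427e0ca327dd52d121c4c70674ca227d8ca127d44c88e349169dc8781131819d54b44886b5089a6b585a5131e443270a222128a21809aa21b06b552c12144c506744c6326c9f432689f388b867b88ac26c131019d54b048613144c3067152a114e20b1cd152b0edcc9727c9afa22c04c454a4482130819b32589f132549f032509ef324c9ee130c4c1066d529120e3852311d2a1140c9227b4c9127b04c232409ebbc0879e130019a549c43754a03b96d9c8e813065f61fb552411ad52511fc4be0664c8d27a8c8c27a44bf)) (.leaf (nat_lit 0xbdc4c07bdbc9b1bdb0a4ec900d2cbdb4adb404c7ad40510101eaaf682d36f6b2cfef69249ef6a24431eb3471011bd907e3bd8c922bd88c3dbd94b98403c7a7bd84ade404100e1e96f5f26fb29b350329f34a2f60276319e343100fbd2888540347a2bd58a77bd2c7e8c234cd3bd30ab1403b3c935eb2e532ed00b1e76f41314af4220fef4323cd00cbcf8af1bcf0a2dbcf4c98402879cbd00bb7bcfc855402f1d234633ce35ed0091e72f3d3266f39291ef3a24cd00a402079abcd87fcbce0a6aca2cd3dbcdca8bcd98d664026f3526a727a34eafb032b2f33279af342ec90071e65008bcb89facb50d49bcac90cbcb09eabcb47d74018798401ef2a3016f29245737035a31633042f2830c10051e5d006bc9c8ed4010794cc4ccf8cc48d55cc54bf1cc50cba4016f2621bb0ea339d0031e52f222a2b37135a2f23323d004bc80ac9c2e0cdcbc74c11bc7ca8fbc78c904004793400b27534e31e83012f5b2bc2ffa32e90001e4ef1e3245001bc6cc413ffc792bc90ababc70c12bc8cc92cdccd684002f1a3234ffe1e471b22f0f1af23931b1292b1b026a0fff3ff4791bc68c8e43f8d7fc6e8d12bd98c3dbd9cb823ff8ffc1e42f172f2ef19284f2f2353af182ff33ba35dcffdc02cab7bd54ab23fec790bc2c88fc448cefbc30ae23ff2efc2608ffa1e3eefe263aefd2ff70943356eff313cffbbbe8c84ccf4d5cbbe4c2e3fe478fbbecc05c1dcccf3feaef42e2aef2268b3bc35e2ef33024ff81e32ef12480ff9bba09e93fd8789c498cf4bba489fbbac8dbbba87fd3fdf04631f339235bcff51e12ee73147045330f31a2f18ff6c4b0cf5c214ac7bb88c7dc210cd1bb84c843fd07843fd733c3572efa32271ea3472ee4296cff31e12ee13214ff4bb78907bb74b3fbb70c74bb7c9143fc4782bb6cbd73fcaed626c0ff01deeed81f92ed726e2ed925d724534b8ff1bd60aa63fb8778bd78ac7c07caa8bd74a72cd5cd633fbef992d2737935a8feb1de300a2adf0112aab00432f0fec)))) (.node (.node (.leaf (nat_lit 0x52c841a4ce016c4ce429e0aa40de8190421818c1720aaa05f0f847991b5c2a803793390a7e052196205710282a91e586d61e546d54d7c2bc1e506d44cdc29c0a9c0dd0aa07931b4e77e158535d0b247911b482a603753370a742a778e823978e46081e3c6d1552849d4cd81b30a940dc0a993350a642a4036d3630b3878e1b4135a0b1c78d1b3c2a50a8c0db4cd429a1e306ce53a03601e2c6cd53d44540a9078a1b307891b2d55e12b07881b293340a5c2a203682a37af84467afc1834ccc18553a444b0a840da4cd02980a894ca10bc7851b2533206842a00365efa0fa5efc056c2a11e086c81e046c74cbc17453004260a7c0d94cc017c0a8132e05c029e03607801b194b0106077f1b1477e1b1029f525c4001df46c34cb42920a740d84d242b44cb00e40a7877c1b0877b1b0429c036132d0a4d3290459328038029d4c9c2900a6c0d78fa060f1de46c08f986af8f942880a7029a035d3270a4536e0b707761afd3680b4e0f909d029b4c9428e0a640d65dac65c4c9825f1dd06be1dcc6bd0a6829803593250a3c7721af17dd1ac87711aedf9d15202991dbc6ba5c346054e7830b54d04924c9028c0a5c0d60a623da1a4076d1ae53a10b3d3a003b829603593240a342974c8c28a0a540d58d346371dac6b81da86b71da46b60a5829403553230a2c7681ad47671ad286c17ca714117c2957ecc4d97ed45800a4c0d54c882091d886b31d846b20a513210a1c29203507601ac475f1ac23e50a4475d1abc2930a440d44c842881d706ae1d6c6ad8f7c5c68f842200a4932008696bd16e8290035131f08847581ab1698164c29160280eb0a3c0d31d5c6ab1d586aa1d546a992346780a417c517f07521aa131d0a0c28d034c7511a9d56812c428e1d406a6924c6910a300d34c742845e346774c6c26a0a3531a0a0428b034874e1a9474d1a920e417b20e617c428c0a280d24c682821d286a31d246a21d206a11d1c6a00a2d555129531806a531909fc28903497c718407461a7c28a)) (.leaf (nat_lit 0xadfcbb399648373688521995093799548cbbf8ccb6368e7d92126e9731ca9d02d6e65124e26571778da11484da29940787afe09959b9cad5b4a4852367c520993c979368264d27b2937259328d34fadec3128d9d147a64c2910d9eab907e2991c9c49920a49992ca7d367051d991851f3674d9a147288527ee91127b290b2d0e91015fa90f2c70d9b366051bcaa46efca9ccedcd30d60ca98d19ca948f73666fea29f2fe930526432a5cd97146f181331317e3418d98c6105e9c60cb79365851b990ca989a68ac29904534365e6402a54d95146a8b62b771f531a28b52cd3220349cd96365051a9900a964398d67c650d0ab81494db818a63365716e341263e232e63f2a4cd93146afe4269727334dcd94bf9c5edbf985f4364851a98fca94c10ccc2bfa0c15364e63c1bf663d1788d91146663a29ca63b20bf07f3344d929d7c5749d80aa2c4a4cf59d6c8aa36405199d6097436470a422d314333eedc631066372a0e6382a3cd8f1460d90aa14b81a92c5f0bc7cc91b3acc11363851898e0a90363e6362a34d8d145edc2310273f2bc67411b0a74025c8d8e363051798d8a8ea520af798d0a7998d461aace8ba736369492bdf24b34be6322194d8b145263318966312544d8c362851398b882b98c08af98bc5174394d66bcdcc97362e62b1cc0d89144af22324a62c1e52e36317262d1cc4d8ab090be298a06f098a85523620511a014b1398a47ea36273553586b6b2eb667b2ad90e43594d86144267e210cd87361450f98989afcd58d63b4eca6ccac0d42b4f09d2361b14a33f660f22de6112a14d84143e6121be66102a10d85a240b309850595360c50f9844a86c098cbd9838a81361268120e66181978d811436617211e6102a1a6131be4d82b840c50b71472498dca90b70cc419830a82360050d3606ce5302a6a92b2f0a03362d10306cd7f143660c2a0cd80986476d986866135f850c982c7d49838a85c094cbd35fe6d11bce8d72cf260a29fcd7a14269ea2d872f7353cd7b))) (.node (.leaf (nat_lit 0x61b071cb5309555f105fcaa44b861d182805f186101d1d7c31a7474509fe1dc1fa57c91838f61301cf6030187461d1027f5f0c69e3d7cc05ac64ba03d78c043d74c031d14f5c3008f5b30057d31aa20e717a474209fde290df47435ef869a1cf427dadc0bb13d68c009e6097f9e5c42e1cf873c09f57be1a6e573295e7ab2c0e568294e571269873d5ef46981cec27ca7fc73b86649003d64bffaff0bd91cf073a09f17bd1a661940f8219322825ba29b4f582ff873b5eec6961ce027ba390b09a5a8b4ca38c35fa38883d1ce473709ed7bb1a5ecaa27ae1a71e58f572ff651e28b073886ac7449518a427e905691cd827b5ee065c5ed85841cdd7b51a4c73409ea50b269cf562ff250a285650912ac7351ccc27a5ed4694a030aa2a034ab0a02c88b3d54bfb1cd29622d20f542fe873209e97b212929602d197b316c4733924c28392486a6aa8cb8baa7c5f75ec46901cc42791cca3db1ae63da0a323d91d363d80b6473009e57b11a44731aa80b899f006691cb827889104af5eb8664b0b0be31cbe79510ce7942624f532fe679325fd7ab159472b09dc72c5ea868c1ca8276b1b4bf3a788a0ab1a8bf0c13c8dc1cac72909d97aa1a36c8829daa1f28dec870b42c861ce072a3d44bf8a8d49bcb230bf63d40bf71ca02765ea46811ca472609d6a3417769c70df29c621ba9c5286e9c424787278c508463d3cbf65e9c6881c94275866c5638c9c3ee1c9a19f1e5e19e0bf472409d57a71a2653228d97a2171072583c82ac1c84273844050183c4754b1e47393d38bf51c8979f1a1471f09c6a2a2902a282db2c682fbea2920787201c782715e7c68684549bf3d34bf4845045a914c44f1c7e48322ea4820e9c71d09c579d198a8292c6979e15f471eac00b983d30bf35e6c55f1c6c2709e0cafd83b08d31c70f4b2fc8f4a2fc6a882e08f492fc20ea17b471a09c071b904474d903c6ae5e646631c6026f5ea468b5e602761c66191158871709ba2e60afa2e51c4e2e40dce2e3217c718)) (.leaf (nat_lit 0))))) (.node (.node (.node (.leaf (nat_lit 0x133c490133848f133448e133048d494c19e0688084068c4cb12304ca122c4c912284c812241a10211253067c1a2543c1250680083131c48813184871314486131048506854f2114c4c31211251066c19e020d51c11e1250065c19f130848313044820674083494419c5428470493c194067924e066419c02094d110dc4c012054cd10ca2080b2019d066c082493819a12f848012f447f12f047e12ec47d06704ba11f04b911ec19a020924d05e551905195180edc19b12e047a12dc47906640814930149494019c12d847806684b511dc4b411d84b311d44b211d0198020524b050c19952bc417492416b4928194065c080889026912c047306604af11c84ae11c4196020124a065524f066c4ad11c0197714841912ac46f52a8412491c1694920192065408006584aa11b84a911b44a811b22560dbc1940201248064c1954918190064c07f129846b129446a12904697b941a4065019201fd24606454850fb524505754d610f53e00d101938c9421d1284468064407f490c17849100e94d502c106484a0119c49f1199242063419001f849e119449d11901911270463126c462063c07e490818e537c445126846106404991180498117c49711784961175241062c18e01f818f125445c125045b54e030a124845a063407e490418c063849111644901161240062418c01f448f115c48e115818d12344551230454062c07d490018a5378444122c4530632d050e4c48911484881145e900b9123f061c18a01f418b1218450121444f121044e6c603a6062407d48fc188062818801f123d02714bd108d23e05cc4821134481113018948f0184061c07b120044b4ccc297539c36011fc44a062018601ed23c061447e112447d112047c111de4e08701877afc29711e444611e044511dc44448ec182061407b061923a02e523903992380211254068018401ed23b060c18553603ed11d844348dc180060c07a11d444211d044106114c10d18473110018201e923706054bf109847210fc183)) (.leaf (nat_lit 0xaaa4b8c9ab8accae30bbba4c899b2fd444374209a02fda4d91935d062089d052674bf2110a40c1c79d012040bf3c628d08b97cc642fc4442741499ec9b4d3674009992fc9cff266cbf01106d832e3703e3306d8130ced821ba0bf12fbc44173fc99ca4c899fae34bbba4c09e2a4c48f22fc1cfd2011cfb2631cfc2664bed11031b334463b82398bee85f096185ec9312fb044073f099a740099d42ccd362fb5cf9265cbea10fe92d2b3292c182e92b124e92a27fcbeb2fa443f73e4998c950d3273e098185f89739570a502faaeaf18e692f1dd4be810fdcf62641cf72626d4e3098be9afe0a9dafdc787860491cb9dcc6b73d49942f9443e2f9ae52319712433ce17f1942bfb2f64be410f9cf52654be52f8843c7fe84e173cc7fe73c892d875498b90207242f8f25734cb22734a603323e8bdf10ef196342e17d25a0be073a49902f64439740c80c73a8441936064a935c64e2f68bd810e5ce92645cf62659ce810fd0b234d65aa299cbd9b750c4586008e28258815827875b2f5c43973949772f630952cdadfc234aca82ff6efe3229cdf2634bd010dcbd142c4d34c6f0ae09334728b89cc572f3c437737c98e2f41cfb2669cd420124031c88bcb10d63a221228bd2cdcbcc9520a4387244d22f1c4347344516901c72487549932f221d713922a31eb62b11fbdccf2214bc610d1cce2228bc79e5068e2f08433a4b88f893587e0b53cc2673dc9962f0e00c191a5f329edcc810e21c31d10bbf10ce1fb1b6cbc02ef4432882873eac3cb9e93306d8940ca16b5a0c2f2efa83021b30e53394bbc10c5cc61266b712ec69a72888bbda694a24a6989a3af08bcaa690b582eec43173146ca2ef1cc41ba1cc21c0dcc3260cbba10c296b2d3296c28c8bbba5bcb2fa5b85922ee4430730c984b320c00a5c0b112eead6e1e3eefc3229cc11b99cbf1c0697224acbb810c0bb942c0d33bac0ba573e099742bcd3293507e02ed842f2ede92621ccbb410ba924174655e294291e226e91d1f48bb5))) (.node (.leaf (nat_lit 0x89c034a89bc817182020f5a985a09f5084b39a0b3c18256a41674607083a12d16ad83b1bce0cf10360ce0c1c608181820e5a9059e5bd45ec5a8c230399cb3b3998b3a181e0d50c1a0d41ea212616c20d21bd16a2166c60508386063994b39a1e47fb8490a123990b38181020e5a8859c18156a112986030834e632cde1351c1ce622cd8e612cd4604a1e051ea1dc6179b28a7ea1d8b2d180820d5a80214180d69d165c5fe082ce602cd26ff2b7ce5f2ccce5e2cc85ff17f420b5a745983974b31833077b9bbcad784e47ac17fa125284a6cc29f969b16545fc082e2a9152969a0ab05fd9850a853970b3017ec20b5a6c596832c30c60f86f617f23470c6e3461f31699164c5fa082a3451b3a6dd2b485fb8d1044b8d0c4a917e420a5a645945a602865f586ac17ea96e260ce5a2cbe88a17427e92c2969716445f808285f99b84aa09b8053a3964b2e9b7c89b17dc20a5a5c59217e1694163c5f50821e78147169508fe87c16a4e582cb45f617d02085a5059065ac3d65a4c5876f4491b5b743d817d633f10b45f3081ce572cb0e562caea47271ce542ca85f45a443555a3c3775a4058c17c4206394cb293948b2817c8e512c9ce502c985f0081969016359680e39ab422245f193846498e049ca17bc2055a3825c5b785d95b7c22917c235927c8e4f2c956e01761b62238c5ee081568d094c5ef5a3058817b42048e549127d3c4ba8e444248e4045e17b85ec081168c1625e5f1dd571f1820e4e2c90e4d2c8c5ed3930b2265987ca5a4c58f65903d617a82045b7032017ad68a16145e9080e851281e52628c684d29cce4b2c845ea17a02035a2858686303c65ee427c862c6d3863c56217a5fb71561944136c5e7080d689139d7b61a5576c19705e85a20582179820294d4a393928b208bd45cb3924b1f179c5e50809688160dc8d25c5c8a107dfc00fb1fbf100c5e65a1c3c217902013920b1e676881a391cb1d81006d71795fb50a25fb113667262ba5680153167f15fc5e308045e4)) (.leaf (nat_lit 0)))) (.node (.node (.leaf (nat_lit 0x50e439e0eec13d28fc8ab596455428f88aa28f48a90ef03ba04f54390e7d65a08096581318a3c22a0a3b229c3bb50e039c0ee013c6ba487d28e88a628e48a528e08a40ee43b704f14380e74a37228ca362288a352286b1f1ac43b8592455d50c833950d039a0ed813c50d416750cc16f0edd4a2102ca3322803b504f14340e6e9201f454bb10883b628c489f28c089e58402ed636477450c43980ed013b0ed54e31121e4b124560e14a9e5318243b304ed4310e643b428b489d28b089c0ec813a50bc36550c0178532042b0ecca2b226e26e1fe550b11c0a2922683b104e942e0d843b228a089966c87fd50b42c10ec0139289c89828988970ec4a252259a411474a2422559af1fed42c0b283af04e43b0b418452b4141882888894288489350ac3920eb81380ebca202248a1f2245aa82208a1e22403ad04e142b0e4c3ae50a83900eb013758a02f0638077a589c542287488f0eb43ab04dd42a0e44a1c2238a1b2234a1a22322ae1fc83ac286088b285c88a681483250a43580ea813750a01e60ead4270e343a904d996a17659690c80a16222596816303aa0ea0136509c38e65b836e65b43d8693884428548880ea54260e2c3a704d4a14221ca132218a122214a1122103a80e98135509838c8adc48f283c883aaac6006e486ba0e9ca0c2209a0820c94250e243a504d593f14e99391ef03a685046e189e47cd0e90135509438a282488164dc7ba0e954230e1c3a304d154e12814240699f7a0f94a0722003a40e88134508c38858c854e6a5887b57d04fb281887f0e8d4220e143a104ce15506e215413261500d2a14f15ec3a20e8013350883867ad88766a7044da9648277ac048c0e849ff21f89fe21f439f04cd4210ce89fd21f09fc21ec3a050803820e7813227ec87a27e887927e487887984d10e7c39d04c94200e0d51f11f09f721dd4f411189f621d839e507c33d66dc8020e7013250781758570820856c34f0e7541d0dfc39b04c49f521d5a8621ac9f421d09f321cc39c)) (.leaf (nat_lit 0x3ba0610ac5c972cb54d49bf7ccb5ac58b9ab08c7a13ba4ee7183eb0e1b3ab101b62b0f261eb121b9eb111bacee8b020653b02cbdfbad8c79b01cbd4ac34b9c3b9860c3b9eb0c29a6b0b1b3ed30307ec552fb0ee51832b0d2e74ee6ac18b9a3b9060aba28c6fac1c755ac2074cac247513b94ee3182ab062e6eb0527a6b04275ec1f1e86b162e7cee4aeb8bc2ac0cb88c9c8d37ac04a7cac08b983b886033b8ec6c2fceb001a0ef653276db530f4ee1180eb022e64ee2b49c628b4987b13b80602abfcaa5c894d29b4c8c1f3b86af723bb099335aaf42da2af61e04edf180aaf31e14ee0b4dcb08bae4c79ab54966c898d29ab50b943b786013b7ead328a2ad21e9aad11aead343080edd1806ad42e54edeab409e3b8a0c57ba20c6eab34752ab38b263b705ff3b76aca2e44edb17f6bac2f0aacb18eeacc2332b792ed0edc3b685fdab28b92bfb4b79ab248b1ce6cd7143ecd7c3b6f1ec3476be12470ed817eebf51e0ebdb2f4ebe92f54ed9ce3cd6ecefcd78ab1885e3b585fac1a0ccdab1c82a3b5ed842c2ad86274ed8530cad871e32ac52e34ed517e8ed6ab0c928ab10b23c100cc1b60c99c3b505faab14b8e3b56aae2b32aa9267eaa81802aaf2784ed317e6ab72248ed4aa98a0eaa9c7513b405f7aa8c691aa90742aa946323b46ef5268aef43222a9e1a9ecf4305aa9d2e24ecf17dced0aa88669aa8068faa84b5cba84c753b385f7aa74b8a3b3eb032e66bad2f0aa9c1d04ecd17d90fa35ef2d63524ecebee0caebb04c7baa4c7ecaa58a783b305f6aa606243b34ecb17d6a8f1952a911a7ea9017f2b242e8ea92184ceccbbdcac4afd8782aa289a4bb2089e3b285f4aa307433b2f369359af5c3046a892e0cec917cf1bb344aff432e0ecac688bf0b340ad33b205f3aa24b84b33cc01b3449f33b24ec617c6a871ed6c692fc2a881a0af673236db430f4ec73b145f0aa14a8fbffcbf2aa18b73c680d0ecf18d7a3b1b0cd3382dfe23cb3ad35d713f33e4ec417bea842364ec5))) (.node (.leaf (nat_lit 0xa2c8b348c446168c4883f9548a47643479e22a030122a6f021206f0127ae309210ae0f313c8a70c0590d1e7c8a8643079c2298300b870c52402cc9ab5bcc2eb5c0a2d229c8a50c0190c1e7500a326500932629811c0e9800da48a69fc8b0e9e34ae57d149347d209392290300642c4b922963071ff1008325c8a10bfd9091dba3060d9630521188a2bc2447f22802febc20ba7bc1c90d401cc96bc18bb22285f3c24e9907103c89e0bf9906105500632566201f5c89f22702fd867c6886dc08ed64106d34014c94b5dcc3022761a916e21a815c21a71a5acac27ad9031e5489b0bf489c9e90b0670c894864084c0949ca3222682fd640c796226d004324e2cd23b662c2a29003324990113dc8990bf089a9470a2bbf547e5640079222602fb4004c914000c902264fff323edc431048970bed9001e4d8ff1dc6ec931f48983ff8c8e3ff4c8d6b045449c00ae063f879022582fb225eee62f2cffc3231ac0223cffb322c8950bed8fe1e448963fe8c8ab5b89823fe4c89b5acc2e63f478e22502fa2256aef19ba3fb1beab312e929b12d5c8930be98fd1e3c89463f078c22482f9a838a36a834a3da8305baa82c86e224c8910be58fc1e36d872e3ad8830caa0f2480ff83220892223c2f8ad90668c994bdd85a896bae94bc185ac9212242d9830ea69f2b158f91e2488e0be268b2af18f51b8c88f3fd8c87b0789e922342f863e478a859481f859034e223a6722ac266114a18f31c5e6602a998f21e1c88c0bdc88dafdc9959940a9d63bc74bb9c0c6a222c2f763c878822318ec1e1488a0bdaa13274ebbd2f26a120f72a11245c88b22242f663b0786abd4a51a578a61abccb96999860222298eb1e0c8880bd2ee33144ff53218ff43214ff33210889221c2f463ac784afd4b90afd05fbafcc650afc89ab2222bf62e16ef82b108860bd18ea1dc2bf02f5cff1320c8879dc84879dc4916abd8b96a864b6863a078022102f322168ba2cde73b2bbe7692be676815788830bcd8e81e04884)) (.leaf (nat_lit 0))))))) (.node (.node (.node (.node (.node (.leaf (nat_lit 0x46a407246a002104c012e469c0db451005e017801b017c12f04b412e04b116b023125e030405d006d144017c05e450c05c017001a04b012b04ac12a04a812904a4128017405b00691430174128049c12704981260494125049005c453001d453c066450805a016801a04901234518062016c123048812204840590069142016c1210480120047c05a45040580160019047c11e047811d047411c047011b01640570065141016411b046811a04641190460118045c05845a808c44fc02b45000560158019452c0224528064015d15501bc11704580550065140015c1160454115045005644f805401500180450113044c112044811104441100154053006113e0154110043c10f043810e043410d043005444f403c46500c544f00520148018043010b454c06c014c10b04291d902d8051006113c014d1d3042513a014405244e4050014001744ec01e454406944e80520424109014404f005d13901441080420107041c10604181050414050013801644e0023041010446d00e6040c1030408102013c101040410004000ff03fc0fe03f9137013404d005804e03f40fd03f00fc46bc0dd03ec0fb013001644dc04e0135136012c04b005517702740fa03e9173025c0f903e404c012801544d804c03e00f803dc0f703d80f603d40f5012c0f403d00f303cd1ad03700f203c8049005513500ac04a44d0048012001403c40f103c00f003bc0ef03b80ee0124047005113401240ed03b40ec03b00eb03ac0ea03a804803a40e903a00e8011801444cc021039c0e703980e6011d1320114045004c0e503940e403900e3038c0e20388046011001344c804603840e103800e0037c0df03780de01140dd03740dc0371131010c043004d1ab021c0db036c04403680da03640d9010801344c404403600d8035c0d7010d130010404100480d6035918b02e40d503540d40350042010001244c004245a008944bc029034c0d303480d201040d103440d003400cf033c0ce033912e00fc03f0048040)) (.leaf (nat_lit 0xa33c6a5a3384a7b450c1ca334b3a8b8c6802768373276c9d70dca26011e2ac217eaac62e3eac128ceac013089d8b9e0c6b89949de69bc85c2758372925c9c869b8858275ece130226f82b649d50dc9a6f217649b246225b11b09d669b085a27503719f2c3f39f2870d9f248e29f203b627549d30dc5a6c216e7c5117e7c427027c22acd058337c9d469a83c969ac711274837169a43d9c0dc8318988477274e8d22cee4bf211c9d10dc1a681461a6e217649827209d2415ccde4158cdd4154cdc4150cdb2740370699c82e27463691f2e25a1b1236c1eda36611889cc0dbe36517909cd272836e9ed87b2c168cc8698483cbcfcc99ae10bb7272f0b02241bda2482dda1d389c50db2ddc2d22e7231a89c693047c9c054aaa414ccda9314917697c852270c36c2712e751782e742ca6d292a76d282b549c20db1a5f214c9c3270436b697437e9d1caf28b4c70a6e903d06e8c9022709a5c213c9c00daaf301f56fa632a6e49318105233649c126fc36a6970850b988c67b790c48b940c64b7948bf27022ea23fe2e90f1e2dd1c52dd63115a5b21349be0da89bfc26ccd76968841696437369c886026f436a696c84e26fb05b3322f3b2ccdbad1f089bc0da6f842d8af8532849bd9f589c19f545e426dc3689f603f2a350b3c9f5059f26e27d1243a7d00f467cf24ca7ce2389a5521249b60da09b7ba60c729f64a9e9f685a29f7094226d4368695484a26da7232b9d0513361a5321049b20d9a8be2cde3a226309b392fc858a34cb3b985ca84985850d8c4041026c436626cac8b2fda3141a263131e82315174a3051e689af0d949b0bf18cb1ab887e18f089368f288df26ac3648dac5e526b1a4c210c9aa0d89e7414ada4d20edaad2221a4e0e349ab26a436269308449438a17692c83899f8a8899f451026aa30b24d230a1056e0e313e3091e79a4a21049a80d889a9696884d4140cd76924366694c848269c362692884226a1a4820fc9a60d8504f335904e335676f157a76e2be09a7))) (.node (.leaf (nat_lit 0x126018c53f846030e09c09f1485a9c5028aa1b45f2126553c1248c3426fd4fc1174497063239016254fd10904988e6c3f08e68933125818c53f045e30c49be30c09bd125d4fb116c495062e47f22ea45824f4c2d26f0c2c26ec496125018b53ec45c91c026391ac66730a49ba9188760125553b0aed53a0c0c492062d5390c2a452113e1141a1449353e4458124418a7a5467d74b09b291cc66691c8263124849006294f91165ca825ed4f810a8c2226e610f1fd04917b4c4997b481a36c7065b7b3c2a653dc456123c18a1240c1d26e0c1c26ddb1b1fe1b1d140848e06294f7115c48f53d845412341898dbc6c430689b6744c31e74487d0123848c06254f61155ec812a5eca18d94f50a657ff1b3448d54a848453c819c72dc97d53c442c122c18953c044412304890622d060e4cc1826d6c151db0c1626d0c1526cc48a6c6862f6c646557a3c2e41220188921867a304c9b212254ec113c486061dd2a120a3862310c1126c5d70258c487121418753b0450303c9b030389af914c685914845a1219b161fe1cb825f5b170e98484061db140c7db1318c048530309ae302c9ad6a703857adc87653a844c1208186120cc0a26b0c0926ada9a21f0c0826a848106194ea11344827b184a98d1059353a429712001857b0897d30109a91204c0326a0c02269d4e506b1557129447f06154e60d8048030049a630009a5539044811f81847934239793023c11fde4a12454e30e6047d06114e411254e2068d546126047e2ff49a47a845f92fec9a32fe89a2794021c11f018411f4479060debe0a5deba25d94f310b5a9021d94f40e0847a54b848a5c24601538044411e018353fc461537c18d11e4bf72685b1f18d0477060d4e011154f0114d4de062447811d818153743ed804c3ca80486462fd89a02fd499f11de4de1b164dd1904bf22678bf126754dc110447506044762fc099c2fbc99b73a8991741080c11d0181537044211d447306014db0d18bed2668bec2665cde20ce3ad2384474)) (.leaf (nat_lit 0xc740ae2c728c713f20735b9088e9ccc4d5bb90ca6f3f24fc71cd2e41272f2d22ce72d135210fd35fb2d33454fc8b8e8c17b8f08653f18731b8e0abbb8e477fb8ecc5a3f1ee3e1cf2e60319ae3721b70e83398fc51cc6e362a28fc63f1072fb8c874aba50c72b8cc757b8d4944b8d0a2e3f16e2e2f12e2b2406e2d3164fc31cb2e3b3176e2c1dfcfc4b8fc86db9009cc3f0872cb8b4c5abaf4c7ac7fcd203f0f3a735d2e2a2b6f1a6343f3c335e6e292f6cfc11ca4fc2b8a0b93b8989e3b89c98d3f00728cae4d44cba0d4d3f072a03126e223056e2423a0fbf1c9f29d3502e233064fc0b884872c3d4ce9cf60d7db87cc13b880c543ef87273efee8631b6e251d42e1e239f18f3424fbd1c9ee203154fbeb874c523ef0726c1e882cc1e4ccfcd74d64c4a8cf53ef4fbb1c9ae1d314ef41326ae1c1e772e4353313c33e0fbc3ee4725c20c82ebb9cc86bb8c784c5ec8cfc5e8d053ee8fb81c92e102a0ee121df6e111ccae1428eae131cf4fb9b83495d3edc722b83c79eb838842bbfcc8ac24ccd53ee2e61319ee561cf4fb61c82e071d1b03032fee0820acfb73ed471fb8009b9b80cc27c9b8d36b804a5db808c243edadf82bf33ac35d4fb41c7adf92346df71d1ae553194fb5c6f8d13c0ec9dcb95cbffc7bcd1d3ec471db970a703ecadee2fa6ded2ba6dec2a7329034f8fb01c6edeb23d4fb1ca84c15ca80c56c140cc6ced4d76b7a8c3a3ebc7193ec3195342ede32ca2de4213ee65319ede2311cfad1c58faeb780897b77c757b77871ab7848173eb0716b788c483eb6e672364fab1c5715e2ab2de622ff323303f324355cfacb75c8e2b75098fb75884e3ea4714b9d8c6bb76474e3eaadd322f315233fadd02e8b03a20c6dcf310cfa81c34fa9b7348e8c6e0d12b7308e0c674d0c3e9c70db73cc443ea2dcb2bd2dca2fd6dc72ceedc830fedc93104fa61c18fa7b710792bc6cc8fb70ca83b718a903e94706b724c423e9b072333efd132cadc02bc6dc22a38fa41c0adbf1c20fa5)))) (.node (.node (.leaf (nat_lit 0x99c0c64c002604c9828f1b9865c4bfc2097e8456809a06e5196c6e4196930b09c86e319652fe097426603142671b886581b84657514c3bd1b8065609940c54bf825e09992fc096c264031168e162d2fd08146df19546de1950265098c0c44bf025c1b7465356583781b706521b6c65109906da19406d9193c6d819386d719352fb096426203102631b5864c1b5464b4be812d4f9434809840c44bec25a09892f9095c260030d70617fc6d4192970117e06d31924261097c0c34be42581b486481b446471b40646801c43c098257b15dc6cd19152f704b12f8072825e030d2f606a425f4bd425409740c21b306441b2c6437fc81c97fcc4f2097825c03092f509554a110246c81909f0e0fe06c7190425d4bcc12e4ff43634bc8252096c0c25a3458a4bd020509706c619006c518fc25a03092f2094da790d0d5950de025b4bc425009640c152d441b4ffc16d1b0c63e5ccc62b096825803052f109446c218f559b12f86c118f06c018ec2594bc024e095c0c01afc63a56603791af86391af4638096025603012f0093d59906d92ef084d75f175d59a12f82571aec6371ae86361ae46351ae06344bb824c09540c009586b718cc6b618c972818786b518c425403012ee09342554bb424a094c0bf1ad06301acc62f6c2c3ca6c2814e095025202fd2ed092d71618306b018b970e18146af18b42534c482794bac0cf5ad45af4ba821709440bf4ba41a809492e8091c25002f86ae18b06ad18ac6ac18a97360b84251093c0be4ba02487168168716440f1aa46291aa0628094172513d46a7189d2e7091424e02f86a618995970de424f1a946251a9062409340be4b9c246561416d4b9821309392e5090c24c02f55b809dc6a3188d5b613415b706f024d092c0bd4b942441a886221a846211a806201a7c61f093069e18796b716bd2e4090424a02f469d187469c187024b1a6c61b1a6861a09240bd4b902421a646191a606180929e730779e7614ac695185c69418592e308fc24802ec249)) (.leaf (nat_lit 0x96745559678936caa8d4196689d0966ca5e353c4ee3542bd42f4b0d133869bd2d432b5350cd4e13ba59b297cd4f35344ed9660971b518c259664954b510c24b804c4d353b13b2be313a33debcc2f3f345357cd4c13b259713c4d4da40c947352c4ebbb90c84c7a4d1cb5c4ba4b5c8c2835329be2d42a50178cd4813ae58e25268a9249e5832890d49351c4e995d494e95e8577a040b1495d8a43a37883e352259c252ec892af6574229cd4613a2a2028dea1d2da8d4795c8a5635144e59eb0b0395cc69acc2cd5399a8aa73518d441396572295e9822d3656e16d68a7289656f16fcd45bfc8b7b437cd6095ac7ab95b488495b0a54350c4e5351256a17865691dcef743282a412db4d42139656c2954d43959c87a959461895985b435044e395c09a695a069a350a7e41eccd40138a5641b5656119e65621c8656314dcd41957ca5034f84dfabf8a61abd47854378d5fabe0b0734fcd3d137e55f294655e2602928174655c265e55d25ccd3ea310940a3147ac956c5b134f04dda30cb384374d5e34f6f702dd2f6e2b5f24134b2f6c327e55a2934d3b1374d3caf64638b30872c4370d5dc90cd2d34e84dd9568a4e34ef1222edb121189b13733dd0db3572559292cd39136cd3a9c386b4992866c9f7cb07abf4aa434e04db9564a4c34e4d37136a55815510da356f338356713426a31b13238d3899249c9ca30d3e9810a7d9920a9b34d84da955ca4234de5562000d35135f24c34c3217349713533db1362394d3634d04d695509f1954879f954c83f9544933bce4c9834d65502914d331356c9d2feadf4236ebfa2f6323a34acd3434c84d59540a46c29ccd99538a3c9a38abe953c6e434cf2e1353254b282e54d1fe8d31135664c2a7254c1478d3234c04d2952098b952861c95244f5a37483e95d8a5934c65461a565431d125452334d2f134a55729265441368d3034b84d1950881cad1c921adb4bb0ad18b19c958d3234bcd2c13427ba270ea262db2a2a1a1a9cc16da9cb1900d2d))) (.node (.leaf (nat_lit 0x5e2c67692c46295db83151ba4260652c7c4a048b141baa6182a1268220e623111ce230273d76d19746e809806e99fd0b0c92a09e07f2c94e7f284041b9c2605db465e1ba1d9627899db20686e6097d76b0a3d76c16117b81a546e75da865a1b9425e7b382a66c704577b346ea74c89b61b986e4097976a196d9a714019a61f6ac121db0f372f806e582dc809a0b8b1b1b8c25e5da4272669050265647cf1b91766195c6e209757680f39bb1241d767102a0520a786e31b8425d5d9865897f8632848473f86c4506847c3cb1b89765158e7862bf86e009757640ef61180b6e0a90aac6e16c644515d8862f5d8c4c26c0c8b85d846541b7c25c1b82a8f2e19e8617d575d175de8717f46de097176119546df3cd8bdfb020b9d5d703781b7425bad0ca6882d857c1b78f352f78f342f76b9c2ef8f332f7175b19446dc096c6dd821470c82d057f3cc8bdb3cc4bda1b6c25b5d6c6521b7175a193c6da0968f302f6617f2652be626aebf31e0c6db1b6425a5d686503cbcbd87828a0ca584b47782c5b21b69a752188f2e2f5d75919346d8096a4d7264575819286d99368822936499e1b5c25a5d6464e78144de5d5c6471b61756192c6d60966bb62f1ebe426aebb42f10f2d2f586d71b542595d5864c95fc9b43cb0bd595f457995f86481b58f2b2f52acf2c3c6d4096175517fd758193a4d826446d593809ca938458b3ca8bd394a0a331b4c2585d505f81b52b8b2eed75218c1753191c6d2095e57e192db8815e46d396009b594a4a331b442575d4c6485d5c64d78184de1b4a5f029ee00c2622012110db0c0f2a00a10f06d0095c6d11b3425695f057771ec96c5d3c61d62cc75c849c7a81b39bf12495c0b24bd74e190c6cc0956bd12ac0f292f486cd3ca0bd13c9cbd01b2c2555d3864469f880b3c98bcf1b32a3129aea2e2db86c8095174c1025a7d2029a7f21886c9937444292106c57c409463c94bce1b1c2547c3c3f81b2174918fc6c6094a3c024d574a16869cb29029b616d86c7)) (.leaf (nat_lit 0))))) (.node (.node (.node (.leaf (nat_lit 0x10703f7106c3f610683f510643f4486415e058407005884180fcc4170fc84160fc44150fc016001c1219057c16110503ef104c3ee491419010483ed486015c057c06f05804110fb04100fad21703a53570b0815e01bd218057415f485815a057406e103c3ea4f843447bf029610343e9057815c01b9216056c40c0fa14890a8440a0f9c4090f9815d10203e551e0307101c3e410183e34854158056c06e05704050f8926706d521403a13530b0015a01b9215056415b4848156056406d487c167484c07310103e1100c3e0056815801b5212055c4020f7d4610f304010f784000f741590ffc3dc0ff83db505437e0ff43da4844154055c06d05603fc0f643fb0f614180d9d41704a015601b52110554157055406c484011f4ec03190fe83d74eac3120fe43d6055920f054415401ac3f80f543f70f503f60f4c3f50f48155054c06b483c1520fd03d10fcc3d06cbc1456cc03b405512ad02952ae07f920d053c15201ad21e059920e01cc1530fc03cf0fbc3ce054406b48341500fb83cd0fb43cc054920c053415001a83ec0f2db870b55b0a092c3e90f28151053c06a483014e0fa03c90f9c3c80f983c70f943c605414190d9d2d408ad20b052c14e01a92ac041d2ab07f414f4e9c30f0f903c5053406a482c14c0f8c3c40f883c3053920a052414c01a43e10f0944b0ec83e00f043df0f0014d052c069482814a493019748240810f783bf0f743be05303dc0ef53c60cb12a907f52080295207051c14a01a414b0f6c3bc0f683bb510c3a80f643ba0524069481c1480529206051414801a03d80ee43d70ee03d60edd5190660149051c06848181460f503b60f4c3b50f483b46cbc15105212d002cd2d208a9205050c14601a03d00ecc3cf0ec81470f383b10f343b005140684814144492c196481008105192030504144019d448075c3cc0ebc3cb0eb83ca0eb4145050c067480c1420f243ac0f203ab0f1c3aa0f183a905103c50ea13b70c6920204fc142019c3c40e9d2cf08a0143)) (.leaf (nat_lit 0xc07097b4294d287d0c93bc6d4d11718495e2db44112dbb02229b301e2b230f633a701a2aa4b6c1045c61257cb6d9014722b834c4f718095c2dac410a3a07c7be4cca52db27e82c264be1870b6a1041c6025764bc287a4bd273cb6b7bac46971d4635714441971c89692d9840f715041b2d9dc4d1da9c4b1de9c4c2464b64103a4bb11be4ba274cb654290d27b298aa37128768712077992a87dc2d8c40e2d92078281e077127e0761b067532bd60751bf8b5e1030b5f2d6840a7d7c418b5d8c307d948c285c85369a84ac72d6e47b1f42f9e329ea4c2dda47a178cb57102647e22e8b58b53069fb52c71ca4cc8cec5c4d0471089542d584082d5e2f417261b823065992976d483094b551021c422554b56a9c08a32d4c406964c4ef96508ad9648a27428cd262d530fd33a90a23494b511019c3e1b0ed5b30aace63028b527c9041d7c8c96e70f49502d4040598c4a8c7f606252d46b3e2ea25781874b4f1015c3d2545fc325c5fc424e8b50907c7487cb077e7c84941c7f4d207c9c46b2d384052d3e5752965fc913a4b4b1011fcb1975fc7107dfc625c0b4c2d1c4037c644ec96a4a6796b06c89698a63b814a952d224f327950a13490b461009c381079f201e928a11ea8b47b228abd9670a582d1040196444ee7c7c93ca938b762d169a91a82ce2302658c12e258b289dc362524b431004b44c81cd23af34bcf9638a5a96344eb2d0840170d894a2d0dc321e567a82c18b3f0ffdc3024adc3112da512288cb40a4104eba40ca5b94b4a34a3dcb402cf83ff70bc9282cfea522dda4f72186bc92f39f101905c2d2514b3d0ff8b3ea414a23c620d074280d23427cd222cf03fe70b49462cf509e348679c2c05c2412f4b380ff252028bae35316cb39acd4621ad58baca4e8b44c180cc9708c9422cdc3fc2ce28dc20fb08e33527dc21267dd1688b360ff1c23250cb377caca017ca849b4274d207c8494f70889402cd43fb2cda8a61eb28c4293eb922ef2b962c5cb340fedc222504b35))) (.node (.leaf (nat_lit 0x597855e16f41f259802705e6c683597c4a77834a0e16f85bc07c965e157e7681e00e182be4e172be276f21005bd5920339592439b6bc88ac591c3a016ec1f259184d316f1645156c5ba07c694f1d76e93281a94618b0e122bdc5bb16e41f1591455ca560342a55c809a5548613838af616e85b707c165d0f8275925d25be13f8e0d2bd4e0c2bd05b8382caf36bcc8ac58f855816d81f058fc4e958f44f016ddfb6136dfb716105b507c163e15665b829b997c1f6c5b658f055616d01ef9b549056bd48ae3828af23824af116d45b307bd63c155d63b0cc963a07f2cd417cce072bc05b48f149369674a5fabc866eabc426658e455416c81ef16ce558292a54713696590e7daf122ac5b107bd63915545b258e021016c01ee3814aef9ce49f4380caeeabecaa416c56560d685af07b5654144662a2a2565314225d90cac5b08a304f996d4a6a16b01ed59483a159c857458d41fc16b5634153c5ab07b21660d3a1440a9252f28d4e012bb45ac16a81ec58d05503800aec72446c237fcaeb9d1082c16ad63115345a707ada9821ed6320e1e14c0d3614b20705a816981eb58c454e93b46f593b06bba0f092337f0aea169e4e818564e708fd6801600dfb2ba5630152c5a507ac5a637e8ae886905c55a0c5685a081f716901eb58c054c169562f15245a307aa2ab1be4df92b9e2aa0ab22a916585a416881ea58bc54a37e0ae67e786b3c0cc83093a86b8168e84f2292dbe1af85a107a962e13edf9d0a39f9c1aec5a2167c1e98a4c33c37d0ae537ccae49c1c5679c181f6168162c14165ec29e859e07a562b142e28f1bf228e0acc59f58a854416741e837c4ae337c0ae237bcae1bc3c890167859c07a162a1514ded2b81ac11e4651b28a5ac212ec59d6d183ad8a8488458a4542166c1e837b0adf638c77c1670deb2b78dea2b7459a07a1629150dabf223d6270e4459b589854016641e737a4adc37a0adb379cada3798ad91668598079d6261504de52b60de42b5cde32b5a6ed27c4599)) (.leaf (nat_lit 0xcd24a64cd20b46cd14a5ccd18bcfcd1cb074378a51437f34230b33432bbb3da35fb34433c90dd293f3412ce10decf70d7ecee4d77ccfcd2d4370a4dcd00ccbcea4d74437733d322733c32110db293333933df33a2f0b33b35650dcccccaecccc0d30ccdcd594368a4accd0a6fccc4c5f436f32d2cf732e34590d828e332a2c6332b2d0732c2f1d0d9cca4d58435ca31cce0a4accdcd5bccecd5cccd8bc243610d628c73293567327318f32533b3326347732833950d7cc80d54cd8cd65cc7cc664354a30cc90c46cc84c0f435b31634fd0d428bb3182f1b3d035f331731cf31b2f150d5cc38a60434ca2ccc48c93cc3ccf8cc40c10cc44d0043533643597320355d0d2288f30c30c7350358b30d31c10d34344a20cc1cb10cc28cd3cc20cf0cc24aa7cc2ca57434b3de35ff30534df3042ccb3062b790d0287f30330810d1433ca1bcbf8acacc04c70cbfca21cc00d14cd84d6543432fc341b2fd2cb50ce286b2f9353f2fa2f9b2fb34610cf4334a15cbd4d31cbe4d50cbd8a1acbdca80cbe0b61433b2f333672f02d2b2f232310cc284f2f42d5b2f1350d0cd432ca0ccb9ccf2cba4c2dcbbcccbcba0c57cba8d4443310ca282f2e129132e334e32e228532e633e32e431490cb43249fdcb74a79cf2cd7bcb78c77cb7cca4cb80add432b2db2afb38535b50c827f72d833832d9281b2da32b90c9cb50c95431c9facb5ccb5cb54b9fcb58b88cf30d7b43232ce2cc50c627c32d1317b2cf2ce72d034d33c235e50c743149efcb24cffcb30cfbcb28d26cb2cc1bcb34c08431b2c72e8f2c82b090c427a32c4301f2c52fab2c6302d0c5cb0cd20cb08b5acaf8b42caecca2cb00d03430c9e843132b7350d0c127932ba34f32b828a72ea35372b9315d0c243009e4cadcd44cad4a5ecad0b50cbc4d4ecad8b5643073d135f32b234732b1329f2b334150bf274b2b02a1d0c0cab8b52cab4cef42f89d0caa8a5fcaacbf6cab0af342ff29a2fa10bd273729e34a329b327329c306729d31590be)))) (.node (.node (.leaf (nat_lit 0xdcc1244fd8360269083ea3a87c7268883da38c6970dd16a5168159c13053f50d7437204909a020f099f20ec373267883aac546e50dc41244fd435e2670839266c8380dc93f40d6c370048da1511a099a20dc99920d9a1a13d83710dbc1234fd035c8740618873c62787a867426508350dc165707b5656154836d04895910ac93f205d94c410a036e584c52658481dc5314429264c8344fc43580db01220db499220cda071c254290e3c99120c836b04893f10d6436c2640831263c830263882f263482e4fc03560da81210dac98c20b498b20b098a20aee0c1c7436904853f00d5c36a50383775a4458d4fbc3540d98120502036e4fb812a0d9c98820a898720a436504813ef0d553f90d8d3ed0498366261882826148272610826260c8254fb03520d9011e0d9498220921791b619d920659f91b9436304793ec0d4c3640d8811d4fac2a825fc82367d456f25f482293447280d8e11c1d4c97a20859d7206207d1b7c36104753ea0ce43624fa434e0d8011c858033b8578800856c38125d48200d8435f04713e90d3e1670a9216615421641e24971207c3604fa034c0d7811b25c081e25bc81d25b881c853054e0d7c35d046d3e80d3567c0f0567b080096c206c96b206835e25a881925a48184f9c34a0d7011b66b47f956944ca0d74968205e270167c35b046d3e70d2d67815ee1500e1835c4f983480d6811a259881666fc807826842325908150d6c35904693e60d253e509653e404b6bde17ec962205035a877c4362580813257c81225788114f8c3460d6011a0d654db11014c106019b8200895d204035704693e30d1c3584f883440d58119257080f256c80e256880d256480c0d5c35504653e20d153e1056d4830fa93e006414d710f43564f7c3420d50118256080b255c80a69e837869e42520d5435304613df0d0c9552026958156e0b11988952202035481e86de820c6f84f783400d48118823875925388070d4e0a50b860a40bdc35104613de0d0540d0dd53dd04b4352)) (.leaf (nat_lit 0x3a685c8a77067ba890b6ba7749f5a778b4ea77ca083a6e9da2c14e99171ef9d329a9db2d2ecf83052cf73058e9ac074aa8cdbcd68a7586dca76090fa75c7133a605c73a64e97171a9d41cfee9f31d6aa12e269d51dc2ec331f0e98a7488b3a74c9bba73c938a740a9ea744b5a3a585c53a5f2c235171fe34829cd28fa9ce29d0e9517169d12d6ce96bb94c7dc798d1ba6ac6cbb550c28a6a8b583a505c03a571d1345d0f835e69a42616bc02f28e9317029aa2d64e943a445bfa6bc8dda6c478eacc8ba4a6c08abc4e0cf73a48e8f16f69b422a711033beca522472b6350f2f43538e90a6609d2a65c836a6587dea6645d43a385bda654b4d3a3ef7b1eace8b16e73a335ceff032df11a33c72602f78e8ca8ecb71a8e85de3a245b9a6385e7bddcca0a6ec91d3a2b2af33bf2ae350698d2d44e8816dd0f735e314433ece89a6306ada6fc91f3a1c5b7a634b52a62c5e7a8e4b703a22a4f178e9be296b2b4350e9bd297acaf28ace8616dce87a61cb4e3a005b5add8bb2a67890bb25cbf9b26c6cc3a04e7f16d69872d3e98624b299a175698528229de2d7ce80bda0c9ea6107aa39f85b5a608a56a654b55a60c5bd39fe9672d2ce7d16d296a1a5e9682c2696928ca96b2610e7e39f05b4a59cb4ca76cb5ebe6cca6a5986aeb3e4c0939f72f0353b0a833669652d24e7b16cf00f2ae720f3490e7ccdd8d6abe64c8039e85b3a594b4aa5905eea9d8b7e39eec9c2fea9621a4aa7e1c60e7916cae6f31aaddc2150e7abedccadc2c49feaa0c74fb92cc6139dc5b2a58464f39e3348357ebd629910f635debd52f48e7616c69601a48e77a4fc83d39d45aea50863ea50075ca50c919a5048fc39da93924c8e7316b305e332693a250e93b26b693c2808e74a430977c1a8ccda42ca9aa4349ec39c45aaa4488f639ca90a19bce7016a6f87328b2be3516b2e27c2b2f2764e71a420acdb9f4c6ca41c75839b45a8b2fcbc7ccacd5a39ba90628bf06633328f7251e8f828d28f92cfce6c1698e6d))) (.node (.leaf (nat_lit 0x21542e279a85feb6a08d5b0c4be4ad54b273f8cc78215a46c199de98259e4121c3a48919ea3d01ae48540b8885562d075c21442e0ba48a06a53c55cba40c713f88c7721488500b818b41d769402d158b218fa1291ea18b3191485162c475a213c2df827898f824081582488038244978214084e0b7d8b11d6e4ef2080fe131da4ee24fa4f021dc84f3f80c753f7cc7421342df62c02f5823c8078238341213acc32f64fde31cd8ac16a29072d058ab1d5c84a0b7884bb77cc479098897b8ccc5b3f74c7221242de62ac758212ae6931a2b0a1d06e8731b4fdc31c58aa1d548480b748493f6cc7094009ddac1cb9b3f68c6f211c2dd62a875621221020cbde931d860f11a1e10014048450b72104143084684748218470350629c73e21102db85d06da846c907211642c1aa88420b6aacd2e4cfd931ba4d2208e7fc2c40843aa9cb8baa08a0e629475021002daac24b9b629074c2106e253150fd831b483f0b698a51d464170b958a31d24840628874e20f82d9b928c61aa0cb47ba04a3b3f5cc6c20fc83d0b658a21d3eddb0db2dda2152dd93114fd631ac83e90406ae904468120f02d98f64690aa04718aa00b7f20f61231b7f00e2ae083b0b618a01c658a41d46b082e6c83c63c42eb63c07703f54c6a63bc78720e82d8627c71520eee32316d89d1cbd89e1d248390b5ecba15bacb92c2c83ab2ec7793f50c6920e02d7627874a628c75090602e520e64201dfa41f253e41e0b7989b1cb641c1b448370b5c838626874620d42d68ecc36d8ec88338ec47148ec033e20d88340b5989a1d1ee0731398991c82e543196df73130835a038b1496089b46e048fb6e083c4624c74420c02d520c6543290a1ab1a561c326221c610e082f0b558931d148306e587c1b4d4c20624874220b82d4aa30b85aa345f420be6031192c2a19a882d0b518921d0e5ff18caaa42e2c82eac287563f4cc68aa385f6aa70b8820ac2d48ae848f20b082a0b4d88f0c2ec502fad8901cda7101ad270f2b9882b)) (.leaf (nat_lit 0)))))) (.node (.node (.node (.node (.leaf (nat_lit 0xabc2a50ab82a40ab42a30ab02a246c00de037c04503802ab0a842aa0a802a90a7c2a80a780de01151b0037c0df46b80dc037404447240fb46bc04d0a9c29d0a9829c03780dc01111ae03751bc03c91ad01282a50a6d26506cc0dd0a9029a0a8c299469c05f47d012e036c04446a808703711a403640da010d257068d1ac02182a20a602a10a5c0db036404346900da0a8029649541a14cc417c0a7c295036829e0a5132b05c029d0a4c29c0a491a3035c0d8010c0d90a6c2910a6829046880724874165035c043468c0d803602990a3c2980a391a102e40d601082970a342960a300d70a5428b0a5028a4b282090a4c28946800d4035404203582920a202910a1d2c908842900a180d401091a003540d50a3c285602c0eb0a342840a30283467c0d2034c041035028b0a0828a0a042890a0028809fc0d2010519f034c0d346780d003440400a1c27e0a1827d0a1427c0a1027b03480d0010119e03452750705271024028309e927204b00d14bac2490a0827946740ce033c0404c1426846700c9034028109e028009dc0ce010119d033d26e06f919b03180cf46680cc033403f4b3422609fc2764b1421d09f827503380cc00fd19a033427d09d027c09cc27b09c827a09c40cd837c20c09e0270032c03f46640ae09dc26f09d826e03311c503e027509b519803240ca00f827409b027309ac0cb09c826a09c4269032403e46600ca46700cf09c0268032826f099c26e09991c303d826d0995197031c0c800f80c909b026409ac26309a826209a4261031c03e465c0c803202680980267097c0c600f5196029d19b033927006f80c74650053031403c4ecc11046540a4099825e099425d03182640970263096d193030c0c400ec262096826109640c50980258097c257030c03b464c0c4496c1a90978256031025d095425c095025b094c25a094919203040c200ec0c309642510960250497805e497408c030403b46480c20308257093c256093919102fc0c000e8255093425409300c1)) (.leaf (nat_lit 0x29f03b46e9c8898f288458efc9368f244178f2096729f5da227aa74e2bc9b5d2374a7b0ed29ac1b2ebb02f0ca7ca6bcb57a6b85bf29e83b46d748de6d705a16d6c5d829edb5a236ca790ecd0893439088343704f1a3704e2fc0a7a29e03b36d688dcb7d0a46b7d4bfab7cc7fdbbacc8729e5b59230e03a0f99b582364a770ecee64319db572358a78b9a0715b99cc4629d83b36d608daaa10b806d4c5ef29dca750ec9b500f31b52105dc7025a1b511049c632588a76421cd0cbaacb246d3c8d629d03b1b694c39b698b6429d6da430ef0533318a730ec5b4f235db57236ae63319ca74b6ac63ab6a8bc1b6a4be4b6a075f6d388d429c83b129cefcd19cafcc2fa9086342efcb32c4a710ec5b4e2354a724214d0a4210d096d545ef29c03b083b06839e14afd29c6dfc263b0962cd90833421082341db4c2344a6e0ec0a6fb7ec812b248af6b7e4c4cb7e871e29b43b06d308d229b9b4b233ca6c0ebf14b33f5081341a5ef29eb02d218ca6d29ac3af6d2c8d09a6cac399085344200d05c5ecc5129b2e04309f10933bb16f34129332554a6a0ebdb4a22cca6b6d248cc29a43ae8a744d29514a428a704a38a6c4d729a8a680eb9b492336a991892606141eb782ed2acc2e48a6998f8a9441f8d046d1c8ca29983adbf88cb69954a9f299ef7f2ddef7e1798a650eb5b47232db4514fe2981454a666d0c8c829903ac86ec4d66d10896967ca6086f04ef2994a630eb1b432325b6c23b9b420ef276c2be677b2bf0a6441f4d0341f0d028e2c9158e1c9ed6d048c629883ac298ed1b1abe04d241b1603402d733010a610eb1b41231ca626d008c429803ab41ecd018e28916be80ca7ba6cc742984a5f0eadb4023163861142385120a384272a383119ca6080e43e66d648da6dd88f56ce83c029783ab6ce48b2297ca5c0ea9b9b0f19f65255ed7830c1fe124c617a243ca5d86e09548bcc5c96cd88c0296c3aa86d88ac6cdc89629721b5132e1b41398a5a0ea9b362305b6b23b5b350ef0a5b))) (.node (.leaf (nat_lit 0x34f8a5134f4a50800849580042f314ac1c2571c4e014b15c6137452a070602910fa18623fde06191de05193452b14a41c157184de34f0a4f5ed05b134eca4e34e8a4d14a99c0201d5c413115c307255de13cc5270705fed0fac52865105847ed855857084da14981c034e4a4c34e0a4b149e5471550d37292852507015c2136e5442908d3629245267ec45807ecc2897ec056b7ebc1f8148c1c07eb81c514921700e8216f22b55c0135c52206fe16e204de1b285052334d4a48857c80014841bf57004d88a6c8cd78084a3148a55527c4d34291e1b9225a1bb23255bf135452006fc52134cca4634c8a4534c4a4486e87fa147c1bf56fc4d614815bd134c51e06f95d913b55be071dfc124c1fe5280451f14741be56f44d4572c4e656ec1c4591855d56f01f2147a1c9262cd30290cd2f290a29d23355ba09f451c06f451d879c81c34b8a4156e44c4146c1bc8798383879487814727b9270cd2c29015b509a177b199051a06f15b6091051b56d027214641bb82bc6de82b82ab82b433d82b0801146967715ecd2b28fd5b3133451806ee1a2087d5b207e451934a8a3e34a4a3d145c1bb56cc4ce56bc3bd56b81f514615ab076451606e95ad09b579519fd5ac099578219b051759284e686d48c056a84ca14541b934a0a3c66c07fc145a16c1b8cd2728ec51406e55aa132d5a50d2d9ac1fe45153498a3a3494a39855038614481b8854c9aa3490a38144cd2328de2f225ea2f1088e2f0172d5a2131c51006e05113488a36a82477f8bbc5cf8bb8225143c1b856884c814415a006f450e06dd6580e795a108095ce07b95cd139850f93907bc939483c5e206733480a35567c4c414341b714395c413719c1201d59e06f15b9134450c06dd59f131450d56744c2142c1b690e092a7a205fe347ca349440a20143050a06d959d130db0d22e17631956ac02178d1d28cc50b567035e5a9c5a014241b555e836355ec2e055f0212142850806d157907d8d1c28c99021e54d1b28c61a615a4509)) (.leaf (nat_lit 0xc314c7ec3109c6ce78d72c318ad3416085ac30cab341670be3375057215f0c131fb0c22dcb0bf27170c026910584158857c2f8cdec694bf1cd9cd66c690d0dceb8d75415f0b832470b52b270b7336d055215f0b927030b62e89056ce84d72c2e8b754150857c2dccdcc2d0a6ac2cccd241570ac25e30aa2caf0ab245d053214f0af333b0ad2209054c2a0b4acbccd4ec298a3cc29ca454148850c294c60414d051212309f2b9f0a2306f0a02a0b0a12c170a3328d0524140841c26c84dc278899c270b35c274895c46ccf241470992e5b09723bb098335504f210309a239f186341d050c700d14cf5cd7d4138840c260cd6c24cc4fc250c8a413f08e250904d20fb09229bf08f30af0902f23091281d04e4130835c22c888c450cf0cc28d53c230ab1c234c9b413708a2eab39835c104b20c30882f970b3336f08929a904cc21c88fc218af0c210c85c1f8c7dc1fca92412882f412f07d32fb27934e504820b707b21a707c318b25334c5049c1d4cb2c1c8c40c1e4c53411c82cc1dcc89c1ccc05412306f22e306d330706e246d04520ab070220b0af3369046c1a8b43c1ac977c1a4918c1b0963411082ac1a0b8f41170662d0306328bf065279104320a306728ab06427ad044c184cca4108825cbbcd4dc188c2dceacd74cd00d5d410d0412097061332f2ec30d32ed30df2eb30b72ee30dd042c17488c4100820c180943c178b44cdfcd6bc17cb02410705c2ccf05b213305820f305a2157059331d03f2065040c158acec154ab6c150aedc15cad140f8819c164cc840ff053235b05230ef3b435db05031270512be903d206103ecdecd6bc2a4aafc124b1cc5a4d02c128ca940f081740f70482f5903b20531802b4339c35c717f341b1812a6103cc5e0d05c11cc0340e8814c110bd7cc64bc6c114c8640ed039204304122d71f3347b0c92ee704230570432a4d03ac1b4ccec0fc8b8c0f899cc100b8d40e080fc0f4caf40e5037202303c268338635b70dd338f0cf33870d02fe1038)))) (.node (.node (.leaf (nat_lit 0x213c75b213875a4e202f5213475951ec2c00bb80f40bbd36f0b742ec03ca4211cb641e1d2084a1d608491d5c2ed0bac0f24dbc2de553049e552c1a52120756211c7550bb136d0b6c2ea03c57ec1afd36e0a4210314308451d502eb0ba40f14db42dc2110753623073e84642ab84606560ba88421d4a42d1aa88401d4483f1d4136c0b642e803c42e920f874f20f474e8f6069020f074d0b9c0f14db02da0ba136b0b5c2e603c18671c6483b1d318641c5483a1d2c2e70b940f04dac2d820e474a20e074920dc748906c6d10b988351d1c8341d197e41ae63d719b42e403c136a0aec2e54da42d40b8c0ef6e1c14e6e183cb20c074520bc7440b902e203bd3690b5482e1d0c82d1d0a2b9123c82b1d042e34e9030b20a87404d9c2d20b840ef83dc2744da02900b8a0fd09860fc19882e003bd3670b4c8271cfc8261cf82e14d982d00b7c0ee209473da7dc5cd208c73c208873b0b802de03b93660b448211ce88201ce481f1ce2c871a302df4e8c23c4e882210b700ee4e8428c207473720707360b742da03b620605ed8031b413630a6881a1cd48191cd02db6c84604689c30e8b2c6d620547334d882cc0b640ed0b688141cc88131cc58711c848121cc02d803b53620b342d94d842ca0b5c0ec204472f204072e203c72d203872c0b602d603b13610b2da1c148c80d1cad36004e542c0e502d74e482fc4d780ff60386d24d7429c0b540ec4d702ba0b5880c1ca880b1ca535b0b1c2d203ae208066a20710c82d3202472820207270b440eb4d6c2c860086cf4d6829a0b493590b142d003a98750be88071c988061c963f518502d10b3c0ea4d642c620107249018436200872320047220b408001c8580f1b493580b0c2ce03a87ff1c807fe1c7c2cf1ff471e1ff071d0b340ea4d602c48ff46c91fe871c0b39a1e148c7f81c6d35705702cc03a5ef2125950611a82cd4ef43224d5410c4d5813950b43954d5018f0b2c0e90b307f61c687f51c6535305602ca03a147c03d147b0b7c2cb)) (.leaf (nat_lit 0xb3ecc13c850ab99bfc598a2ccb349bf877c37b054337b66fd2b74deb150b306354a8ad2ccaf6132768ae1e9cdec37a85429bf4adec7d8c68a2d8a96cb80d4bbe40ca437ae6fc1dd26fa28966fb2b6cde915068ca2ce68ac2b60deab8a8c5843ccd7437a05419becadc9be47adbdb4c9f37a68a224f2c722fd26f41dce6f2181a6f32b64de71504de89be085cb380c08a8fcb749bd45e037985419bccada379e6f1289eece31fe6f02b5cde515028ac2b728c92ce4de6bdb8a4ea908b7437905409bc0ad89bb87ac9bbc5973796b291c12bfe2f6a6ea289a6e8298a6ec27c4de31500de49b98ad4378453eb4a08529b9ca9d43c8d73a1ccb2c3788de014fa6e62b5702e32fe6e42016bff2f6a6e519c8de1b340b83c68cbf0c318cdf43c4d729b8c7af377c53d3780dde14f26da1a86f9232966db20e66dd16526dc1b38ddfada061fad9cba9c15ccc79cbcaed377453c9b647bd377a6d82b3cddc14ed0f035c718033130f4305f0f31aa0ddd376c53b9b60ad0c540a65c53c863c64cd0ac538bb937726c52adb056331e6c42b34dda14ee6c627ee6c129d4ddbb9f8c6ca420b41376453b9b10acec530cfd9adca7f376a6ae267eaae2e326ac182e92d26626aa1810dd714e4dd89aa4a82b390c0a9a9c89d37585389aa07a0bff8bf2375f2fe35466a6286ecdf30226a41a826a52b24dd514e0dd6c2d4cdcbc80c919bd85df9bdc9c837505389a94aca375701e257aeda29b26a21b88dd314da7782bee6a31b04dd4c214c85c4accf5c06caa8bd78c819a849573748536374cdd014d6bab1a9f39935c2ec231f2b6519aeec62278dd19a7c78ab668c3a9a78ac4373c535ce54d709a74ac33742ef81e0aef72e14dce14d669e2b16ea031d669c27dcdcfcd68d63c59cd0137345349a6c8cf9a74ac543bcd70373b2c8351b17c2e8d0ee35bd0ed35b8dcc14d269a2a5cdcd9ef87b49ef467eb0fcbe69ef07c39a54ac0372c5333732ea731da69924b67bf19a6b5a2ebcdca14ce6952b04dcb))) (.node (.leaf (nat_lit 0xc034ab8848c74c81f435081f081860706de1e942a31e998421be207a0d0581b0aae0af133c7a40a8d81c1b7c7a51e882a281fc338a9d4b7e9dd4afaa958b78a5e85e81e8ed1630729d91c5a045243e9d62d747a10a858190fb47a2672c80f67bc82360606da1e802a087ec98887f04331e867fd2c4617523ec79f0a818181b6e173241e1741d4c7a03e34c2db2c8bfd672480d67b0822605c6d81e782a01e7e1790d4a17820924cc261eb102e7879d0a818171b6479e1e6429e81803e1817487481703de8100581a0e4b1d1e698131b547960a762cc1cce2cb0b34f8c30b22ca1cb87971e5429d604c6d692286799590a5290a86aa923c9f81e59a401eedf8a16f07940a758120af22c61cc18e51df87959df45611e4c29c64107976dbc8ed6044562862c5851e5180f0b118701c847910a7180e0b25b6e23b985e1c4479260342e76314766603049d1e3c29b906c2d790707481e42bc42f30f8b30ac78e0a698030b398041295e0c283478fac2cb9c96cca69601467792409f81e3429a60082c71e3ab0e2e7a3ea183d8010d8078c0a666dc2b4a345165078d3e28c2aa340b3a9404a168f906af5ffc4541e2c2991e317fd1b2c78a0a60f8930a6bc12f2ec9b2d3ec9a2fe478b1e242985ff46cc3e20c28a6acb59aec4bc3a6b08de1e29e1d285982612ac7880a617fa12b1cc526157fb10c47891e142965fdc42f61447045fe02b68ff871c8ff42c31e197f41b1c7820a565ac25365ab299ebca2f38f87309c7831e042955fd06c893ec81b3e18c2693e843a93e48241e0aa6d2288f8530957f310607800a51c820fddc8124ec781921064193784428dd46ec3e10c245fc86c41dfc2941e0225a215a3711f2e37026da36f115477e0a517f21b1477f1df42935fc040070f89525fc4406a3ccb20a3c0b3e1df97ef1b0477c0a49c91153e72c2bb1c9025ca7412a3877d1dec2925fbc6c29d50af581d89589a8cac89ddcafb1df0f83308e81e2c547790a463e9183e10b1d9210a0b9877a)) (.leaf (nat_lit 0))))) (.node (.node (.node (.leaf (nat_lit 0x161452f161052e4a441de0788099160c52d160852c078c58114ade7309001e10265291077d37e0bac57f14a81e2974c33315f452915f052815ec5274a401dc078009907856120d645791498578149457714901df026529007741e007780984a3810957844f64a3c1cb15d852315d4522077c57414845731480572147d4470eb928d07641dd02601de4a301ba56ac4cc4a2c09e4a681eb07700984a341da077528a075c1db025c5711478570147456f147243d11981dc07680974a281d851243af512014215b451b15b051a076c56b146456a14601d9025928904855e513e8569145c1da15a0516159c5154a181234a1c1764a141d40760096076456614515fa0dec565144c56414481d7025928507541d8158c51115885104a101d20758095158450f158050e075c55f143455e14301d50255284074d5e413e455d142c1d6157050a156c509156850897883344a0c1d007500950754558141c5571418556141455514101d3025528307441d41550503154c50249f81094ed831a07480944a0010e074d27d07341d1024d3bc0c852820430552140455114001d2074009349f41ce15404ff4f04327153c4fe15384fd074454d13f054c13ec54b13e854a13e527c072c1cf024c1d015244f815204f74a3c1db151c4f6073809349f01cc073d27a07241cd02492f8095927b04b054613d454513d01ce073009249e81ca15104f3570c4dc150c4f27fc825507356430c91642043454013c453f13c1279071c1cb02481cc14f84ef14f44ee56f84d414f04ed072809249e41c8072d27807141c9024556d0ff853b13b156c12d453a13ac1ca072009149e01c614e44ea14e04e97eb84d97eb41c0072453513a0534139d5bb134c53313981c70245277027c1c849d81c2071809014c84e514c44e414c04e314bc4e2071c1c50241276070dffe0fa452d138452c138052b137c1c614a84de14a44dd071009049d40d07fb03eb149c4dc071527406fc1c3023c526136c5251369fad071452313641c4)) (.leaf (nat_lit 0x971ca747ef4500bef4cafa04c9b331f0479763c9e031f62652176e7931add8c2774c7a11de8022c4a2642770c7b9400755ba38c7031e447776309de762c90eb4b4c1e31eb03b312f1bf344dd8922f0c7611da264277a8012c48c778d60a068d5c49ec398ce5c710d1676209da31d447631d9d8722db14533f1d8623b23552840c7411d9d88276cc7531cc475760c8f076149b17610478acbcb4276b49f031d1d81275cc7211d1d9c279dd8211f719c3432f603270c7331c447476049d8ac10b9a767c9e993fc49e93f860d31c9d901f01d912235d7b2754c6a11ca4ae27564ad19d8c6b75fc769760067531a447275ec9d688a867692b89d631aa4a7280a4a6125dd8e2782c582fb64a51da8c6811c8c69b618b8ea238b0aaeecbc9a84c78692e895a319046f319649e20da9982d5635f1788c6211bad3c2a1d0bf3508c63b2c4a29c7ecd1f8d747d08de06ed317c46e8d705d63182ae51f66ae6198e59a297d0be3504c5b11b624c13a0c5c75c889a316846c88c065e75cc47392f495c92bca1e316dfd62420c5411aab772ecdfd9189729834fee3d2aecc5542f4d40b11cbe8314046975a047e7ba863197d0a7b3146e403166d9621b71f8347d0bc34fdd63272cc4b11a0c4cb904c5e96d073475844f875889b73128468758c9cc312e381162e4e0192602f244637f22e4c48119e3842310c4942ecd3e9924a4975789bd311c4667a6467f9c9cae93121d5c271cc4511966f72b25d5d177e49821624972174c46311046575709c8a9245f2a914b75a920b2aa91c58e31170c4337f00131f9d571ed4c431195d58176dd562710c44754c7a775507bd310046475487afaa2c9a4c2fccde31066472a6eae31f88c3f118dd512695d562719d59176cc409ee8a409ee44d091247b230f04609ee052b91387c330f6444128a443121ac652fbec2b2f8dd4a2704c3a1180c3b91145e49f5884b910067e910496730e446075289c230ea71719e2c4f2fae7c42168c38117edd22e8b0b93370c39))) (.node (.leaf (nat_lit 0x3ac8b733ac4b7275749c89bd8ac9195422c5ba05e0195aa3a2d4ceb02dc56e60e8c65308aa65814866572a78654a8d068aa8cc2753abcb703ab8b6f5b945dc194822a194db3f20763c424d693526ecead2db865108a96e517746525b8c5da19402295bd85ed5b9023175649c475609c6194464f08a56e3176d6ec17996e208ba33b23aa8692cac6503ab0b6d3aacb6c5b6432065a838e19382295b7858b193d6d8175c64d08a1b61238d6e01629b5b23756e1168464e19302285b605d87a245fd5d746545d804be5d7c24e1934eaa2daea172d9d6d7170464b089e35c274635b11b864ca6843d4a680914a668b4ea67092c5b585d41928227192e6211f5ea212daa9992d5699b1f78649089d6d6175464aa3b8b3e8ce05a38c5889c3aa4b6a5b545d2192022619269c821bcea82da6315211a3371e8064708996d5174c6485b505d01918225a4a0a50a4909803a9cb683a98b67191c64508956d4174688b2c2a88a164a88d247e88c1f28646a08cb188bd857a190c2258bbc4c7a21cb2e5b445c819116d0173464208922881fc0ea52d99f8d0c162860c9864319042245b405cea7dc2d1a7d873d3a90b65a7f087d1908ea22d90ea12d8c64008916cf16eaa051df6a060bc86415bc85eb9ae4a7f8bc04c818fc223a11cb1f8bd45831900e9e2d8ae1a1ffd6f017a8e9c2d856cd172463d088c63e8bcc8c18bd095494dca3a3a6cb6018f02235b345ca18f622f19ece9a2d7c63b08896cc16956d1173e8892cb863c3a64b5e9e88b058cd43ee18e42203a60b5d8b9c71318ea19c1cfce972d717a609b97a509e463608823df0a1c637869054b9c90ae85b205c418d421f3a58b5b3a54b5a18da4a10fd24a024dc634087d6c817157a21a2253128d86358ccc4e318c821e8cc847b5b1c5b88cc09765bb45e618ce32d11c232c0bfe32b20da32a10ad6c5170463008786315b1031d65607cf5b0c2275b5c5d618bc21e5b145c218c171208ed71718356c216fc62c0870e942d64e932d6062d)) (.leaf (nat_lit 0)))) (.node (.node (.leaf (nat_lit 0x2b909236a3c87551c83cc100815680c443b2b88922100e1f72198ae0248605c1b5da8d21d14710f74401055840284bc5ab83286f77dac42181c86ff100015651c43de10054700f6c3ff0554ada2480ad9247e4c3245ea121e184000ff815551c03dc65587cd654c31c89d43a265503250ffcad62478ad524743fd055546e0df99501f2d46f0f5c3fe51b03d80ff015469a485951b437165b05752b5091c0ff43fb055146c0f6596d0e3546b0db96dd163cad3246c3fc2b4891a2b449190fe815351a831951bc3da65487cb0fecad02460acf245d964161d96b163c3f9054d4690c483fa805443d826081551a03d40fe01522b309162b2c9150fe4aca24529a117543f705494680f55ba8240cac8244c3f82b1c9122b18911808817e8094439519c3d20fd81520fdcac32440ac2243dbe323e60350f983f505494670f4c3f69f4084a2af890e51983d00fd01512af490d2af090c0fd4abb242caba24283f305454660f45ba22409ba421443f451903ce0fc014f7cc841c2ae09096edc4022ad89080fc43ef053d4640f3cab5241d7681960ab4241a04e0fa03f02ac89052ac49042ac09032abc902518c3cc0fb814f0fbdb5023614620ec946105594720f7c3ed053d4630f343ee65847d36c3c4616e182d50fb014e847c65786c85060fb61ad1af61af1439b0c191a013110c3e90539b0b092c3ea68cc71169a885951783c80fa014d2aa49012aa09000fa5b801cd9b7f1ccc3e7053545e0f25b7c23edb7e22803e88ba484e2a988ff65c056465bc57551743c60f9814d0f9db9b2309b9a0eaa18d09f218c16143e5053545d0f1c3e60f9014b516c30f65247c151703176e3c8832a8c8fe0f94aa223f4aa123f1b821d14aa023ed45a0f0c3e3052c3e4808043e807c17f51641fe59d85790f8814b51683c40f8d458080568716054570ec83e10528a9d23e8a9c23e43e22a6c8f82a688f7515820059f034c51543c00f8014a0f86df01fe8a9823d9b3a230ca9723d43df05294550f043e0)) (.leaf (nat_lit 0xb02cb9d3cd8653b034666b030bbfbf24cb1b118be83cdec0a2f74f35194b2612ca725e28772602d5325f33c4f363cd0652b028bdec99896bc99478bc990d2dc98c96e3cd6c352f96c0921c4f33194ac052efb25c34cec062f50f34b00cb19b00480bb008bda3cc8651b010729b8a4c583ccebfe2b5ac001c10f311946c022f6ebfd19cabff2b50f32ba64c73b30c758afec9943cc0650aff0699b310bff3cc6e852de30db338abf92830f2f193f23c34aebfa2918f303cb864eafb8862c110cc3afbc814bb6cc83afc07823cbebed20530483312e9a31cf31d2f14f2d1932bec2f10f2eb168bedafac80e3cb064bafa09b4afa4b90afa8bd33cb6be72c3cf2b192ac072e76eb831e6c062f7325b34ccf2cbc48ae1af6880caf80a333ca8649afa8bd5af6cb903caf0d23386bd4297abd52d1b3b835dcf291912bd32ac0f2aaf48bd03ca0643b28ca71b27cbfbb554c29b2908913ca4f27190ebd22f4700332f2bd02a8ebce1bf6bcf20d0f28af34949c824d23cd18d5faf30a5c3c98643af2c80b3c9f34f358b20c3488f251906bc9251ad52309ebca1b20f26af1c97faf20a71af14bcc3c9063faf188e9c6f4d133c96d5f30aebc41b40f2318febc52f36bbf238f1a7343cf24bc5cc8cbb98790af046ccb558c29aef8bca3c8863f3c8ebc31adad2a307abc02d62bc22614f2118febbe2f2cf223c8063eaee87dbaef4786aeec9d3aef0717c05caab3c86bb72f1cf1f18f6cb62ffabb823f6bb9281f0903350f203c7863daedcbc8af949abaed864cccb0d5ab2fcb413c7ebb52f14f1d18f33d335f3318355b31a321b319330cf1e3c7063caed4bc6cc74bd6cc78c73cc6cd56cc70c733c76d632406e2e3168f1b18f2bb32edabec2f5abb41930f1caebc7353c6863baec88e4c6c8c8eaec08deaec46cb3c6ebad2e22bae2e64f1918eebac2e4b336356733a3570f1ab6a88d53c6063ac968d33ae8cbbaae90921ae9478b3c66b9e25ab22934a8f1218e2b9d2eaeeb230d6eb12814f13))) (.node (.leaf (nat_lit 0x8b3c92e4094cb0244432889f47b872c097c66087dd24499811dc89100c9e99b17529962d56fa932aa99d242c911a7909f6ab70965242c32565fc7d266087df72c497c2432f80328502432bd97d1f6c9090c924ab103a4aa256490aaee8bc9a51063e242032465f47dc65f055896eca6e2425ed812689050c8d9a6196997914019a11fe197a0cd49069894663ab949d0408ccae4088cad65d87d8240c32324125dd1421af722b99750ca59871f8c9020c8d9761f64903a888b6a98845d4987876f24043229880798bcb4c95240afab30a502132b102032ad01f32a99731f548ff0c88900bcc8c61bcc473a4078ca9bcc085023f832265cc7d623fec391cdc8fd0c8660b2a05996143261b1daee6c31a48fe6c4046165843cb65883a723e031f4074ca86c048b623e595c1f448f50c7997f1f7595d0c9691d2601cb6226c8f623d031e65707d2a488700a9a8b7da484422a48039a23d501c329e47b255a3761bb635d2745d1211548f30c788f465605c123c431d656832a66247e66564659669450223c88ef0c72b221ac29ef2d8ed9330e28630df286221b48f089e438989e06e123b831c65583dba9c88a2a9a4b7d23be34616508ed0c6dd1c269a7ae15b5d18268d01b32988ee8dc46c48da485665447ca23ac31b65483d765403da23b1966161e8542c888ea0c6d9511f2e88c1741bd8247c8ebc050aaa930485392d462892d046f653c7c823a431923ab0182aae37224ee8552c8a8582ad08e80c6594f1f248e965387c6239c318a3a835fa3a483e4064ca5a3a095d23a08e60c6194e1f1e81c2c5681b15e281a1fa68190cb48e76e348814060ca465347c423943187eec32465307c0239a4ac1da25bd29b48e40c6194d1f1680f2c5194b197c8e565287c2238c3179ef0ac1b100be691389c39eec52b23908e20c5d94a1f0dbae0da5bad2131bab241213216b88e3b4ccc206e58743238431765243c5bd188f4b5fc83a2389ac62235d9027588e00c5994811e594c1f15fbc0c908e1)) (.leaf (nat_lit 0)))))))) (.node (.node (.node (.node (.node (.node (.leaf (nat_lit 0x3340cd03300cc46140ae032c0cb00f801244b804000fd12d00f403d00440ca03280c903240c803200c7031c03e00f001144b403e46000a703180c644b002c45b008d00f40c5031513d014d179027d12a00c403b004512900a803c44a003a00e801003100c4030c0c303080c203040c100ec039004112800ec0c003000bf02fc0be02f80bd02f403a02f00bc02ec0bb449c03800e001002e80ba02e40b900e40b802e00b702dc037004112700e5167022112600a4038449403600d800f02d80b602d40b502d00b402cc0b300dc035003d12500dc0b202c80b102c40b002c00af02bc03602b80ae45ec09f449003400d000f02b40ad02b00ac00d40ab02ac0aa02a8033003d12400d40a902a40a802a0034029c0a702980a6448c01700c800e02940a502900a400cc0a3028c0a2028912b00b116d023912200c4031003803202840a102800a044a803c027c09f00c000e448803200c409e027809d0275121007002f003409c027009b026c030026809a02640990260098025c097448002e00b800d00bc096025809502540940250093024c02d003512000bc02e447c02c00b000c024809202440910240090023c08f00b402b003111f00b408e023912b00c808d023512c00f402c44fc057023008c447802a00a800c44d404a447401500ac08b022c08a0228029003111e00ad12900f111c004402a446c02800a000b44bc04102240894498038022008800a4027002d11b00a51640214087021d15e01f00860218028021408502100844468026009800a020c0830208082009c08102040800200025002911a009d14d019407f01fc02601f807e01f407d01f007c01ec07b4464024009000a009407a01e807901e407801e007701dc0230029119009402444e004f445c0164460022008800901d807601d4075008c07401d007301cc0210025118008d149019114b015c02246a005f01c407244cc047445401444580200080009008407001c406f01c006e01bc06d01b801f00251160084020)) (.leaf (nat_lit 0x26943616920840954ca478c4879f76c08f3bd08c9a269904d33528dc250a8e91f1c9a40d7e8de29668dd290c9a5a36c5aea4fcb45a394b2fa368b3da388697268835f268e4e51315a4f1ef1a6121570583321a4520ec9a00d789a1932c4ae9328a1a693484479d452b267c35e691483c2682b141b9499e0d76f8e3292b852eded7f1f06f4423d099f9a0865e9a04a849b6cad2be44ca5690c838267035d2675cba25f9a4210b1a4b210e50c285c99b0d75a4320e499c9964a9fadf8bb3266835c6858468685c51396c0a69266e9972d5649e2749a1410ae32b1709a1913d89990d7099a6ab88884130cd36a108689f88b08265035b87ac6742656c452f9dca225e49930d65a0d10a6bcf2f41a0e1bf4994683070926483588ec87478b7036d8eb08e17378440264da080e29aa722089910d61a050e3da061bc9ca925ec99268108302640357c0e8c44c0e4ba2c0e0477c0dc859264498f0d5da0420c70352f9504b334b0341ae30331524990b978805b964bff680c82e26383574128cd198eca92263f08331470821c9498d0d5da0320bda67215da010dc098e680082c2630356a0c88694120cd0a0c4b1ba0cca10263498b0d59a0020b5047333f07a314e744153e7432bac98c98b8a8b67f8513b82c71d2628356b820c4ec0bccbf262d9fd20a49880d510453339bd2246eac72e3d0443334989261c35467f482a79b052d6abc8886ac46086ac061626219fc209c9860d4d043333297727929751d9a9762c38987261435367f0828b9fcc6ca95cb78a96848ca964385261ad6d2bb59fb1c059fa20949840d4ed8930d19f61ba49854108ccb4104cca260c35367e88269fbcb0d67c856f26121781b609820d4a04423ded7c30ce4f91b1e04210e898367bc6db67b480f67d056f25fc3519fe8b1093487522601d06267a4da19359ec1b659ea20364d01ca097d0d4497e25e8350847475382306fc67a08019e40aff9c0cae425ed04033262bd2232ea331da4ef1d689750d3e15c0e04976))) (.node (.leaf (nat_lit 0x2fa89982fa499773a09902fa099611c8180536842611cc47005fe0200f0e18523fe0291378be52654be42650471825c81580543d5535443c11bc17f535c344535819011c1ff91384be2264c46e05fd4d510f6007095e00a191846f535043a11b417e2f7c99280d08fa80c892280c43df11b846c05f94d410edbf824a1bf70f9e04220924fa1b1c46d2f649912f6099080943d311ac17e73989772f5c98f11b14d210dc46905f61c61d11cc826221c809fa7a715c846a11a017d5348438549c481534419a2f4098e2f3c98d11a61e0204e1df0d1e4060b164091c914d00ad846705f4468533c434119817c2f2c98c90107228b6436d7368705119c46505f14cf10d5ab81458bc7262dab72228bc626284662f089899e5468e5338432118817b87f06db2efc988118e2091cf8bbd261c46105ed4ce10ce2070b214cd06684625330430118017a5ff04992ef09865fec6ca2eec985118445f05e94cc10c4bba2610bb9260cbb8260a97324ac4605fdc6c95328296532c42e117817a2ed898193547e0117cbb4260292721cc45d05e94cb10be7971a6cbb125fc45e8d002078cfc58e53cc4467ae4976532442c11701791175a4220e0bad25f94f1114cbac25f445b05e54c910b445c68804fa2eac97c8ca85c2685083653203971168178116d4c710a445905dd4f81160ba925ede910b91e921d8445a1160177531c42a6834834531435961006f856302b0116642f19c63b71c81ab522299bc20194c40d6845705d845811541747c143ea550c49753081a22e9497a54444711159a9b21f209d20594c00a5445405d14da10fd4bf060045552f8424114c1732e8c9792e88978616870c821c33c115045205cd4be1095503119cba025dd4fd117a3911624453a2045a72e74976114417352f4186826481582683491148b9925d4b9825d044f05c9f6310314bb0e6a9211f444502e589737dc090381c46ff7dac3dd1134172819029f1139a0b0ae1a0a1c2a13f1b84b9225c94b9079044c05c444d)) (.leaf (nat_lit 0xb6e4860b6e8b04b720c42b6dcb3bb6e08a63e8c7003e92db61f98fa21bfaff332e2fd01fd71ad34431ae2390fa33e846f6b6cc9f9b6d4b98bd88c9db6d0b82bd98c8d3e8adb22c6adb125befce32cadaf1f96db02bb0fa01bc4fa1c148cc6b6908d6b688b713e746efb67cb6fb674a3d3e7ad9a2b16d981e2ad9930e4f9b1bbad9b1c66dea3124f9cba34c6fb9c4c6a3e686eeb664c3ab65cb64b6948d73e6ed942ef6fc5221ad931f3ad952d8ed92228cf991bb0f9a3e606ebb63c81fcbb4ccab640c34cbb8ccab644c2d3e64f971baad8c2036d8e300ed8d30bee9d24531e4346cf983e586e9b628bb0baf0c7abbbc96eb62ca05bac8bc03e5f24434b728434f2d9030df2ec3328f951ba6d892098f96b5f88feb5f4c06b5f0824b6008f73e506e8b60499c3e56d7b26ccf931b9ed881e32d852e3ada12dc739435bcf94b5e4a343e486e6cc30d54b5e8a23bf6cbacc558cfe3e4ed752bd4f911b92d78230ad76255ed771e5ef283250f92b598c2e3e406e0b634c36b59cc03b5a0987b5a4a163e44f8f1b82d6630bed6b1e3eef93226d6a28b6d6f1e74f90b590bfd3e346d9c188ccbcba4d4db644c37cbaccca3e3b11f2bbb342357ad61240711e33ced621cb8f8c1b58f8d3e2c6d0b57cbccc23ccd4b910a6fb580b2fc410cec3e32d582ce8f8a1b36d5c303ad592286d5a302ad5b2548f8bbebccacbeac7d6b558bcb3e246ccb55c891b554bd13e2b12e244f12d2baed542d64f881b2ed72296ed532e90f89c428ceeb8108cec9c0d36b80cc4d3e1c6c8b548bce3e22d5021d2d5121fcf861b1ed4d206ed4e265ad4f2624f873e146c6b5148a2b520954b518a5db51c8beb524c023e1b0e7339b22e3034f841b16d431bb2e023136d442974f85b504b153e0c6c0c5cccfab508c06c5c8d04bb3cc7f3e12d3d3084f821afed402c5ae6e31a6d3e28fad3f26d4f833e046bfb4f4c22b4e4a6bc09ccbdb4e093db4e89b03e0ad351d0ed331f06d342e50f7f1aeb303354ad36287cf80)))) (.node (.node (.leaf (nat_lit 0x939c54c1a486155a5459079e451c091c0bb4b8c24009212e208f424602e8690185068f184e3ef0b8c68d184824709140ba4b8823e1a306111a2c6101a2860f1a2460e09192e108853a30b3d2e008ec24402e9e4c11252df08e42451a2060d5c485c0090c0ba4b8023c5c105fc4b7423509106871830686182d2dc08e424202e0685182868418242431a0c60878e829b09040b84b7023a4b7c23c79344490908680181c67f181867e181467d18112db08dc24002e024119f060319ec60254f449119e860108fc0b84b6c2380900679180067817fd2da08d423e02dc67717f867617f423f55ac4b44b781af08f40b74b682364b7423b19d45fc08f867417ec67317e867217e467117e12d908cc23c02dc23d19c05f719bc5f619b85f519b45f408ec0b74b6423408f066c17cc66b17c866a17c466917c12d808c423a02d823b19a05ef199c5ee5b905db19985ed08e40b64b6023208e92d708bc23802d56a3167466517b20e1129a0e306a823908dc0b54b5c230198c5eb5bec33119845ea19805e908e065f17a065e179d6e2176865d179823602d52d608202374b5422c08d40b419705e5196c5e419685e319645e208d823402d12d508b4658178592f0c446561780655177c2354b5014c506836708cc0b44b4c10b74384624ee431d08d12d2051023202cc653177943d0e8c6521774651177023319405db193c5da4b4422808c40b35b7c58b19385d908c864d176064c175c23002cd2d108a52cf05014400e9c2314b3822608bc0b2192c5d65b0c5c119285d519245d408c022e02c92ce089d31009d92cd0334648174c647174822f19185d119145d08bb84c7190c5cf4b3022408b40b208b8642173864117356be16e8640173022c02c92cc089422d4b2c22208ac0b118fc5cb8bc44c818f45ca18f05c908b022a02c52cb088d6ae169463b17216a8168226c0dd022b4e882cf4b8423c4c7c2864b240d408a40b14b2020708a92c7087c22802c0639171e3340fba3e10a1c6361718229)) (.leaf (nat_lit 0x34ac4ce94f057b94f866f94f457fca48cb3ca38d3e34b253b28f4d2a133681629d29cd2d6a81526d6d3e3088d2b34a44cd94eca3ea83478d94e8a36b674c3ba8d8b6f34ab04c32aedf22c7254e29170a633665391ff0d28132cd29349c4ca94e06e3ba10738ba0cc60ba08c6cba0474f34a253628e4d2613269e52d8253717269fe1cf6e143140d2734944c994d8a3aa120b2094d4583c52497ec934d30349ae311cb6e3016aa8242c610d83568d24132653426a8d2594cc97a348c4c8a87c68cb208a76a878b6aa880a583492a081dfcd22131e53a28f6a0e1e3653117125321a20d23b0f8be6ad7466b34804c594b86739cb8aed94bc55034869741b9ad7930c68f82d0252d251e52c2880d1f130cd2094a464796049b594a0649af80bd334744c2ab0485e347b10233aecb52ffa5271e54d1c130296c26129692d30d1d435cd594358d589498586a14ca079494569346c4c03472a5f16a0d1a12fd0d5355ee96319aa5e1f9f2353030d1bc18cccca418b409488a2e34604bf948c8b1948463d34650d4355b29934fcd1712fe52228bee34316e5202510d18bcf0c99b704af1947ca2c34584bcb5c079db5a8c2e345d0d33556f452980d1512f251f28b651e1a5aca92ff4d16bf507e594707939474a2a344c4bbb2c05b7b2bcb50345321b349acad2dbcd1212ee51d28aecab27af0673330d13c7e8d1fb2c49d1cae0d44ca08d3c34444bb946c544344a51a1e9aad32e5251924ce8b12cccd1012ea518185cd11bb30c7f9bc4ad8962c94a343c4b8c868d2696489533442f86328a5951efa5a4298a6ea2b5a58613b4d0d12e0d0e9be8adc94507749454a24342c4b7a2a85bfa29ca5634328ab268e9a52614d0a12de5152896583296a8a8249cd0bc624d07a414945b5e8c314348d54944894834204b634265112884d0712d6d2b307b15533fa9a7261ab722ec4d0834184b59444a22cbfcd51cc08c70a6a06a3b3a0c0d341e9012c410d1354cd0512d250f1d9a510130e52c28d0d06))) (.node (.leaf (nat_lit 0x1b142525d246403c90bcd3c8cbcc3c88bcb3c84bca1b1a9441f6cf202f258b21d729422d1574718ac6c309446c43c7cbc83c78bc75d184be1b082509484a2f6bf08b11b0cf1d2f18f1c2f16b802ed8f1b2f1174518ec6c109406c23c68bc38838735ab2cb923c64bc21b002505d1463c1b04f182f06dab23557440de46bf093eb492ea2b4a29906c0bab4775babc996ad48ba6ad50b275d0c6381af824f1afecc11cb2bd92936b512eacf122f006bd093d74318e46be5d046361aec24d8d386b88d3428b3c44bbf3c40bbe1af06ba093574118ddeca1151e1612a5e150a99e1412b06bb71d495b7bb04695d006341ae424d6c447b75cfc62f1ae9b1f1111d0926846b8093574018d5e0f283d73e18b86b95cf46321adc24c97f47ee97f032ead38baa3c3cbbd1ae06b6093173d18ce6001cfe5fe195eaa52e2e5ff1d086b77cd49093c38bbc1ad424c5cf061e97c4a7b7ba89cd1ad97521920f0d2eed73b18bc6b4092db131139b050c7c6b55d886556c684511acc24b5cec6305cfc6356c387b71ad24271d88f0c2ee86b0092973a183173e18d1e12283c6b16c908956c984f66c787106c8c3bb1abc24a5ce46051ac21e121e4f0b2ee573818ac6ae09229472bde94615706afa534504a53090d1ab42485ce062c5ccc2515d1c63e1ab8f0a2ee0f092edd7370f89bf224957350b846ac09206ad92c465f92c867692d891a92c0a1e5cc06281aa42471aa9c761ec6d272e5dc5b11be4b51f246a8091d73018a46a91a9c2465cb84f5873c35b5cbc618873451287303771aa31212930f062ed8f052ed4f042ed172d0de46a609186a75cb06241a942457f649ce3c0cbb37f6095198cca8c1a986a4091572c1896a9a141ea992332a982e1ea9b17d86a53c08bb23c04bb11a8c2445cac27787cc8673c00bb01a90eff2ebeb4f1fb972a18846a2090cefe2eb8efd2eb46a33bf0bacacd49431a842435ca8622acd0ba53becbab1a8ac1d11f6c1c27a27c119a0ef82ea9729187c6a0090c6a1)) (.leaf (nat_lit 0))))) (.node (.node (.node (.leaf (nat_lit 0xf0c3a60f083a5050406748081400f043a40f003a305083bf0e883be0e85201045014001995a806e43bc0e801410eec39f0ee839e50d817159381ec480013c04fc06605003b80e743b70e703b60e6c3b50e6813e019920004f413f04f406547f80944a501e347fc09b0ed03990ecc39804f91fd04e413c01914010d943b20e5d3f70d843b10e5813d04ec06447f413a0ec03954d582c10ebc3944d802ca04f11fc04213af0c651fb04dc13a018c3ae0e4c3ad0e4813b0eb03910eac39004e406347ec1384a581e60ea838f04e83a90e383a80e351fa04193aa0c491f904d4138018c1390e9c38c0e9838b0e9438a0e9038904dc06347e413604e03a30e203a20e1d1f80188136018522d05dd22e01e01370e843860e803854f6033a0e7c38447dc13204d406104d839e0e0c39d0e0922f05d439c0e0413401851f704cc1350e6c3800e6837f47d811f04cc0600e6437e565020604d03970df43960df03950dec3940de91f504bc13201801330e4c3790e483780e443770e4037604c406047d413004c93fb0d8d2f3094d1f4036c130017d26106b11f3022413147c812c04bc05e4f903484be82594f743400e3c37504c012e01791f204b527b07292f70959272034131409e812f0e383740e3437347c012a04b005d0e303720e2c37104b438a0dc03890dbc12b01751f004ad3ee0d543880db812c0e1c36d0e1836c0e1436b0e1036a47bc12804a805d04ac3830da43820da141705503800d9c12901751ef04a412a0dfc3660df836547b812604a005c56280ab562420f04a437b0d9158e0ac012701711ee049d3ed0d503790d8c1285440083543c19d0dd83620dd436147b4124049805c049c3740d803730d7c3720d783710d7412501711ed04941260dc035c0dbc35b48c01764a181d547b0062049005b04951eb048412301695900ac836d0d6836c0d6436b0d60124048805a47ac1224a241d64a200960da83570da4356048d58402b1583084c3660d543650d511ea047c1210168122)) (.leaf (nat_lit 0x708493e2ccc3fa7c708a57c6c49fb204a76c3eccea2cd0b320fe9c2124fe4f226b5f1a22024f121de4ee1d68b332cbc3f98f345e5916045c92008ba91549b0b4e0c212cc2c732fd28a22b68b2e0fe5c1e1e92a4d2dd9f1f252cb2f8dc87c8c064aabc6d8d117d0c95f72046c62c983f72c9df3d103df3c1e61f3b2420b240fd9fc42541f3a25c4b258e788032c803f57d2079b70689349e24afe90c89292c868ed2c5a8ec15e26512a7a9cf2d6dc1712f4b1e0fd4b1f92805c42c743f49950a9f994c5214270d1fbfacb792c7a59e297e3c515563bf237e3c22115c1324d4b180fc8b198f105dc8f0c81d8ef85a18f006402c5c3f2704c9362c61f47105630b2109c1a24e5f451e6cb150fc63942448b168e6845d2c503f0a2bcb339464a28bce8c989544a472c563a516b29392d123a4238a7cf212a3a02010b120fc0b1385ec9997f889612c3c3ef7f903f7811c90f7f848c22c4291922cb14233e8b080fb1c0d1021ef32805fc11350b09702c6447024925702892e2c183eb7c787bb800c4e42c1efc032c22cf1f7cb050fadc0a24bdef42801ff61384b069a64ac0ba98c7673c8993700c7fe2c003ea70088112c0624712bcafe0fa699c17569862d3b16434069e02824aff2be43e880fc81b70c09486ff03ffa5cc430a5c89822be9bfa24a4af60f9e43917fa438130e4371dda43612c8af72bd43e76fe892a90d03fd90cc5a690c89399e20afe2bda8fa2c8eac32e34af40f9dbf810e9c2f251dbf90ffcaf56fcc9262bb43e3bda4c9ea3d4b3fa2a0a24a2a4a5a2bb8aec0f8dbf3249e78b159e78a2bfb11633c278c2ba0aed702492f6fc46446fc862a2bac3e2c7dcc68426cd1e2bb2068106e06725b0ae60f85beb23f206f1bfdbec1ec0ae76fa08752b903dfa0fcaeaa0f8b1da0f4aeaa0f054d2b96f6332766d71f8df7125ceadb2594ae20f7e03210ecae32b803de87e0866adbcbb0ad1ca4185ac78bae90bc12b85bda21530ae2241bd9247cada0f72ef13222a0f1e30adb))) (.node (.leaf (nat_lit 0x634c77158902ec589453e165c1e78a645156d148ca1660de12b54de02b50596079d62514fe13c0c2613b1eac59716541e6588852a68ec7a57aac48b377cad368e87af165a6801a84dde2b48594079562114419401ef4ddd2b445953770ad0376cacf3768ace3764acd164c1e5979033416526e0164665b2a80592079161f0e8993e1ef193f0e28593587853816441e38b005bb6358772375cacc79ec6041648590078d61e14e4dd62b2dadc2274dd52b28dd42b24591586c53616341e296bca6958704f7958ca528b20721163858c078961b14dcdd32b218fa1b88dd22b1e172255c58daea86a73740ac6373cac53738ac458682f9162c1e2163161914cc58a0786642233cdcd2b0e6412a5cdcc2b0858b16241e158645349a604ae9a5c9f7372cac13728ac0162961814c45880780dc92afcdc82af8dc72af669316cc589161c1e05860532643c7a13714abc633c76eb08889f1620dc32aecdc22ae858607816170bf18f80a958f71b88587585852e16141df3704ab999b8aae3700ab836fcab71618584077d61614bd67115cd615140cdbe2ad8dbd2ad458579bca1f79b84b279b488879b0829585052c160c1df1610dbc2ad0dbb2ace6692a9e7b115b0582077d61414b458379d824016041de79d483b79d08449eec7c39ee09c3160962214f560f0799e52182560e0e6057f077960d0bac58015f41dd975033336e0ab236dcab1bd4077abd3c89415fa6611e20db52ac160b149c57c0774db42abcdb32ab857d36c8aad36c4aac15ec1dd582c5289730a77582850315f057907716130d64db02aacdaf2aa8dae2aa4dad2aa057a36b0aa77950609582052415e01dca570a6136a8aa615e4da92a94da82a9057707716081494da72a8cda62a88578687c71b68782c2687472b68702ca581c52215d81db15dcda52a866b116edcaf25f0da32a80575076d607148c576581852015d01da994c9373688a9f3684a9e99605de15d4573076960614862970cfe296145629525e4d9f2a74574)) (.leaf (nat_lit 0xca64a2ecc58d5642f09ccca58d1fca5cabbca609ce42f728c29250bb2727290312b28d2a7328e28ff29332cd0bcca1cae642e89baca2cc97ca20a6aca24cf4ca28b7242ef28430d328334b728228a72ba35110b926df2812ddd0bac9f0b20cd78d64c9ec9e542e09aec9fcd2fc9f4aad42e727a32590b726a737435a727e2ab738a2da738735b50b8c9e4cd0c9e0cbecf14d7ace2cb69c9dcd3842d89a742df2763013275324327428532e335310b5269f27734e50b6cc14d52cf84d7fc9c4a7cc9c8b99c9cca9442d09a542d736a359f26f31e326e3137270309d0b3266726d26750b4c9b0b32c9accedc9a0c78c9a4b24c9a8a6742c899042cf2672b810b1263728627cb2852ddf3c435e72d035210b2c964ba542c0981c974bbac968bc1c96cbd4c970bdc42c725834a725726490af2607254265f25629072552c650b0cbd4d4fc940a15c944cfc42b897ec94ccd0c948c6242bf330356f24f2bb324e349724c292324d28e50ad25f90aec92ca8cc924af7c928d2e42b096fca00aadc9fcd3b42b7247338f24830490ab25bf24a34bf245320b24625d50acca0cd3cc910c34c90ca4dccfcd5d42a896ec990bdd42af23d34ad0a925af240327f241293b23e328b23f2c5d0aa42a096bc8f4d2cc8ecd15cea8d74c8e8a46c8f0bd842a72292f010a725ab22d303722a2eb722b2d8f22c32e50a8c89c992c960d32c898b954298966c8a0c1fc894b97429d0a5257f22425ef29f327329e350339f35cb3e235fd0a6c878aa34290959c888bb8c87cab8c880a96c884b34429721c2dbf21b28ab2ca351f21d33ed0a3254f21a289d0a44288952c854ceac85ca48c938d30c858cbbc860a1a428d0a1253320e27972102bef21225d720f2d2b2112ae50a2c824bcfc81c949c820d224280945c82cd22c828a66428720c2f3b352358909f2517208348f20d299b20b348d0a0c800b014278944c8089acc804a02c810b18c80cc63427f1fe2d6b2c335171fd253d09d25071ff31671fc31e909e)))) (.node (.node (.leaf (nat_lit 0x4f7033e0d4011766f45158a5c520252c80625288050d4434f045d3dc0cfc9492010948200e3b01d1e0a11c503502514802507c3814f6c33c0d38117251080182b44cf0d3e293151e29207a434d045d3db0cf608710960861c3034e4f6833a0d301152500800858034f24f87ff24f47fe0d3434b04553da0ced4210e113d804cd54d127d3d9069834c50c839b592055d4f583380d281154fa83504f5411d0d2e07f1b7607e0a8834904553d60ce53d305d53d2046434a4f443360d2011424ec7fd24e87fc24e47fb24e07fa0d2434704513d10cdd40c0dd09371fe54060dae2f91c683484f383340d181134f4032f4f3c1fb65e87da24d47f80d1c345044d3ce0cd65e207465e114225e414ee5e307943469750529974c1dd24c47f724c07f64f343320d101130d1492f1fd492e1fd13cc07f163b1558343044d3cd0ccc3444f2c3300d081125bec22f5be85eb5be05f024b47f30d0c34104493cb0cc492c1fc892b1fc492a1fc09291fbc342841476184087544f281fb4f403350d001124f2431a0d053c80cb433f04465fc18cc9251fb89241fb49231fb03400cf81114f2032e24887eb24847eaa0647c6247c7e90cfd3c605214520ef53c50cac33d044566f15cd3c707ec33e24787e824747e70cf01114f1432c9764552976c5080cf433b04413c409d091a1f9995a1f3c9191f949181f9033c4f0c1f30ce810f245c7e365d47d824587e224547e10cec9141f81cb41cae27c1ee09111f7d3c20c9c339043c33a24407de635c7724f041cd57a44ff0ce010f4f083280ce53c00c94337043a2841c3e2831ee6286173a2850c143380cd810e4f0032665747d2242c7dd65503db89dc3a20cdc334043564307209091f709081f6dfbc1f01fbb1f1433524147da7b6449a4ef81f10ccc10d240c7d924087d80cd033204313bd0b049011f5e61f1dbc8ff1f588fe1f5433323f47d4b0e87370cc410c4ef01ce7b804137b7c49b0cc93bb0c7c330042d9690e396d917656dc161d6db0810331)) (.leaf (nat_lit 0xbb74c83a3d8907a3d4927bdacc9e39ac5a6a3e4b4039b0e6a168e8ee174e8f125c28ef22a28f01b0e8f22c80e6bc72cd16ccb4d5aa36883da398b2fa36461b39a45a239aa8d72a028d61bce8d516928d82410e68167e8d4212ce69a34c847a348858b6dcc3fb71cc42a344b3a399c59d39a28d01b36d5830aa8cd217ed133070e6616768d12cece67a3207fb399459bcb3cd48cb48c5ea324ad8a328adc399a8c6283e8c72834e64166e8c2284b341357a8c3293ce65a2f0aefa2e8780a2ec707398c59aa2f498ca2f88483993096234b095263a8b92bba8b72be28b82cd4e621668e63a7e4b65a3046b3c270cd7b14c899398459aa2e0b36398a8b4185a8b21e7e8b32b7ce601663221349e8b52a58e61bcec84cc170cc8a2c4a28a2bc933a2c0b32397c598398310733b726c34d68ad2b7b3043548e5e16628b02ccce5fa25c9f0cb38d48a25877b3974597a2609bfa2547a93978e5c16568902a1689221ca891284689425828932468e5d3968592a5bc983a398b3da39483dc414cecb580c2b396ef943296d0d306a888226ce5916468891722887173ce5acbf4d50c614d06a1d8599a1e8a7e3960590a1ec5a939668721ad6d1f30768712cace57163a8732b573a435cce58c2a8cdaa1c0978395858ea1c4b2ca1a45daa1bc8ea395ed083066cce1aae86a1fceccd3004e54163aa48271ce55b9d0852a1945e0a198a1dc984bdea190b28394c58d3952de33123198342e85e247a9f22d90e5216368642ca4e53a174b26394458cad50639acdcba6baa4c78ad5475f3948e50163285d2c9ef112b8711933c685c17feace2e4ce51393c58aa16c9f2aca071caca8729ac98777ac9ca623942eab235f19a343326934d6eaa31e285a2c8ce4e1620e4fab10b8da3e8928a164a1fc75cd193934588a168b24393a8541f28e4c161e8572ad28551f228561eced233074e4da124affa1289aac3f8ceba12c87f392c586a130a73393335f359327c34ece4a160e84828e68f22cfa8f31b0ce4b))) (.node (.leaf (nat_lit 0xa750b5c86705c684846579800632623873e209c2d220a220a261e20910c988c0b6d8a71d4c8260b4988e1cfc827b958c4e3f48c67a7d85cd20942d1b84cc50a7f8a3a2098fd1319ae3e3170fd03194fcf319188a1cec8230b448243f38c633f34c62a7f4900a7fc69920882d1622873c208ef311f54fcb31858891ce48210b42c7f1226c7e27e4822b1f448eb1f049820802d0622473ab1e8bf5b1e46872086c842dfac8321d8fca3182e8428eec861a3081f0b40820b0e8321b0e47d4a7ccb65b1d4bf5621c73620742cf2079b251ccdb800f218901d02c512fac81c0b3d8871cdc81d883863baebcbc388348e93f20c5f621473420682ce206e5b4272cfc7317a20c0ede20b12108190b398851cd481a6dfc3c86c9473620542cd8b306d668883bb620472b20598801cc48140b32e1131422ce1df6a662df2a012d98815204c2cc62007329a1cabb3f18c5d98b4a8a3f14c5c20525b2144a62b2a288120b3187f1c862c71dfa2c61b50813627474a3f10c5b61f872e20442cbb2dc8fdb2f8bb6204a5bf29bdcb513f48100b2d87e1cbe2ca1b5ad6230b081190885aab8c4a38626c74890842de61f472c203c2cb2042cc22936cc118e0fc33168fc2316480e0b2d87d1cb480f72d032872cc7e020342ca6874523620473368843bb203987a1ca480c0b223ae238587b1c7d8980fce3d519b480d202c2c861e872aaca8b2561e471c3f04c58b010bdb20318771c9c8090b1cfc0315e4cd26364d10d464d0208880a20202c761dc7283efcc5693388e83ef8c553ef4c542024fbc314cfbb31488070b198760bea3f91c123f81c24808c20882e3ee4c5161d02ef63547718fd061420182c6201edc52a0cfb8314240910d88040b16408264e407262c805a2fc70fa3007f29028706a994b7c61c872220082c5200cfb7313e405257640410d640326308010b158721c8c80261c06d220002c461fc73061c42cc8b205379588a5220063b710a243019c58991d18fb6313986f1c7c7ff0b10800)) (.leaf (nat_lit 0)))))) (.node (.node (.node (.node (.leaf (nat_lit 0x94c24b094824a02fc03a46440c049681a809442490300250092024f091c24e091824d091519002f40be00e80bf0930244092c2430928242092424102f403a46400be02f918e02ec0bc00e52bd084918f02b11c001c51bf03c80bd02ec03946380bc4ac820446340a80920240091c23f02f024608f824508f424408f024308ed18c02e40ba00e40bb46d40e648e8182462c04246840d602e403946300ba02e918a02dc0b800e024208e824108e424008e023f08dc0b902dc03846280b808f823608f423508f023408ec23302e11d901491d8042918902d40b600dc23a08c823908c40b708e023008dc22f02d403746240b64ad420808d822e02d823508b423408b11d5042c23308ad18802cc0b400dc0b508c822a4b4014408c422908c022802cc03746200b402d022f089c22e089918702c40b200d822d089422c08900b308ac22308a822202c4036461c0b24ad020708a422102c82280880227087c2260878225087518602bc0b000d80b1089021c088c21b088821a088421902bc03646180b002c1184027c0ae00d5199032d18500fc220086021f085c0af0878216087421547040f30870214460c0ac02b403502b821b084d584048118f02f021908480ac00d518302b40ad46080aa02ac0340860211085c210085820f562812702b00aa00d118202ac214083821308342120830211082c0ab084020a083c2090838208083420746040a802a403402a820c081820b081518d02ec20a08100a800d118102a40a945fc0a6029c03346580c6460003d0824203082020202a00a600cd17f029c207080526b06e8206080020507fc0a708101fe4ab41504820148080c1fd45f80a40294033029820207f020107ed19503153b404400a400cd17e02940a545f40a2028c03207fc1fa07f81f907f41f807f01f702900a200c917d028c1fb07d81fa07d537904001f807d00a345f00a0028403107dc1f307d81f207d41f107d01f002880a000c517c02841f307bc1f207b81f107b41f007b00a1)) (.leaf (nat_lit 0xb4748a129643a9b798c46c570aacb79484fb944c64296907a3401b7723d5b3322f4a570ea6cd8300ad473094a58bfdccb9b3647f629583a96ccc8be41e4cffa798b60295d07833fadd33111b3211d9d892771b3122eca550ea0a5699e4ab5b324c006ca45766efc90e29503a86cc48bc2954a520e9e4831a1248024f647f117247e255a47d1024a53918c76bae68bbf8dfc9ca8e009116c9c8b829443a6294b03f330706f3339b031955b0d1308a500e99b2722e4a51983ca8641dccfd6c088b6293c3a5a0d0869c378ce3294107633f1d872768a4e0e95b0222ddb011f4efa332a0a4fc104cc2870081086fc50e97b8a7a6c008b429343a5293907533ef0a42a421be2682f8c328ca4c0e95b0022d4a4da4d09bba748b5b6bfc8b229283a46d288ce6bf83af292d07433ea91924c0a490e91aff22cdb39230dafd0eaca4a6bec8b029203a3ab24b91bfb0b796bf063d948ca2f2924a470e8dafb22c5b6923aafe132d9afa1211db227c8a4841cccf941c8cf88a2c51798c0a8b6be08ae29103a12915af71f625de1421af5155e6d62414a430e85af822bca4485bc4d829083a0965095386f44efb574c0ec3b4ce7290daf3156674f2bcca400e81af215761b7225a1b62304a419d784fe9d74a706bc455428fc39f41c4cf7a6c0b57290107033dab1a2e8275b2a4506f33d5af022a4a3e0e7ca3fa6d0b56a6cc5bd6bb86fa6bbc88b28f439f6bc08aa28f9fd4105a23311ce8ef2cf9c8925c1aed229ca3c0e78a3db918c60a1488a56bac4e895d0a5828ec39e6bb48a828f20bb24029e82d80a3a0e75aea21f60ba1c02db830fca3ba1488a7b920c606ba049f7c7093f6b9c8a428e439d28eadbd1afa84f15227552bd276129cca380e75ae72294a39a9c4406a9c09536b988a228dc39ca9bc6ecb648c3828e2d453096a6d1b18a360e71ae6228ea6b2df6a721f34a37b4783a9b4748bfb564c2ab578c0eac786b128d439c28d8a330e69ae3102e1931a61ae40f81b7e0f21b7d23eca34))) (.node (.leaf (nat_lit 0x3468a30a9805a83460a2f345ca2e7d484b4141c1b4142157712f450506cd59b094174618f559a0939760175c50614101b355dc4be55d83fc709094455d43f5705c938141557412ec50306c8d1628b4d1528b297e0ad697d1c0450414081b255d04bc344ca2b3448a2a6b085443444a29140df500ff450106c5f4f16263962449f4d185cd1028a050255cc2e362fc76013fc1b155c02e7642c79b55c4300140156f12dc4fe06c0d0f289e58c2528d0d289a58713b44ff13f41b055bc4b8342ca253428a2479f8606a27c30813f9df11271df3281156e12d44fc06c0d08288dc3125204fd341ca223418a2113ec1b055b84b6575c4eb55b01c613f04fa06bd56b08d5f541d98d052881f5306d1f5212fc4fb5abc5a655a421255a84b213e41af798877579842ee13e9e6e14b4d02287c4f806bd56a12ce43624a9e651dd84f95f786b233fca1e13dc1ae559c37f55a02845f446a713e2ba71bb8cfd2874cfc2870cfb286c4f606b95660de84f789203e9891c92c891068f890c278558c4ae13d01ad13d4cf8286a4cb20ee4c727de69814cc4f306b556312bc4f455844ac13c81ac33d0a1974789a933cca1833c8a1713cc4f106b156112b57fa1b2955e0a61e1418d955f0a984f260986ca33c4a1655744aa13c01ab942469433bca1513c4cee2850ced284c4ef06ad55d12ad6b616bccec28484f08d0c5937b1844b78586367b2045455704a813b81ab13bccea2844ce92840ce8283e34a1adc4ed06ad55c12a44eea33885f5f3c6a5556c21813b01aa3394a0e597c55f13b555908356a1166a0de08320dd0ab84ea06aa0e108c04eb13a41a95554280555c44a55581ac3390a0d60106d013a9553128c4e806a17b21a4955409e8ce3283218423fc4e9139c1a8554c4a43384a0b577c4f478084d78a708cd13a2222121a444270955211c44e6069e22919d622d19ec4e73378a0a3374a0988fc4e0336ca0813901a789002781395abd2239dd427f04e3069954e0e2154f125d55010004e4)) (.leaf (nat_lit 0xc0c4bbec6a4d0f40d8805c0b8ad4c0bc82bc0c0c4e40df27834e707d33430282bdb0292fe1034200b0d52995035c08ccbc40cc801c09cc21c090a6bc094a81c098a8540d1032200702332f70052a8f0032f4300432030122aa9033cb94c9acf20d7a40c47ffc008813c864a1ac858d2540c90301fdeff82c4effa3242ff92bc3314324effb2fc503140bc7f6bfdc8bdc8c0c0bc438cb4c8b0d2ac43cb6340c2ff5240aff627d502e1fd6ff330faff42e131b9344902fbfb8cb640b47f3bfc0b54ce88d73bfbcb6dbfc4b7440b902c1fcefee32defe122c2fe023aafe32a7efe2232d02dbf7488340ac7ecbf7cb9fcb5cd49bf78ba9c3c0ce840b2fdc32cd02a1fa710e32e7238302f10c33bb10d221d02b40a47e9bf70cb4ca548f6ca50d03ca4cd3eca48a3f40aafd13103075333d0271f96fce30f2fd22b82fcf1fd502840987e1bf18845bf2c8d4c65cd0bbf1cbe8bf24bdf409d0251f7efc024bafc223fafc1220710633b6fc3221902640907dcbef0ca1bef89b3bef49dfc0f4cc1befc80f4096fbb31eefb82e1efba32b50231f672da352afb92819024c2c89febedcb4740887d9bee8caebed4bf7bed8809408d0211f5afaf30a6fb1279afb0325afb32c06fb22b95022c12cb1cc130a3cbeb4caa40807d6beb8a0abeb089c408719f343b1ab344101f1f5afad32aefaa242efa91f79020be9c90cbe94962be9885040787d5bea0817c128cc5407f0e03392fa42dc2fa12022fa226f2fa322d901d1f4d01ebe7895640707d0c5d4d05cac4d42be7cc74be808c54076f9c25831f2347af9b2d2ef9d2d7901b1f32f9a268d01cbe54c1abe50b2ebe44839be48ad2be4c95d40647c740690181f16f8d2206f8f2edef8e20eaf902b772df352d019be24811405c7bfbe308b4be289a0c28ccd8be2cb0540610161efaf86289b2bb3516f872d0af882c5f23e34b1017bef0cafbe007dcbe049ee40547bebe1484cbe08b6240590141eeaf7321e2f762db6f742952f752476f772d4d015)))) (.node (.node (.leaf (nat_lit 0x1fd07181fcc7171fc87161fc47154d482be0b240e80b2a1371bd07ef1c507ee1c4e2e61a002c803a13520afc2c94d442bc0b1c0e71fb07121fac71168b430f1fa47100b202c6039d3510af58121b5135f0a747e81c3d54012542c74e5c30354ec45a4d402ba0b140e74da82d64d3c0f00b187e71c387e61c342c4039d3500aed35c0b2534e03b02c50b0c0e54d342141f9470c61046f87a6c6711f8c70b0b107e21c29a0b10807e01c247df1c2134c0adc2c203942c31f787071f7470660e86f21f707050b040e54d302b80b0934a0ad42c003917f81b247db1c1134b05f54d010d82c10afc0e44d282b61f687031f647021f60701a5f84bc0b007d61c007d51bfd8381bc47d41bf82be03913490a4c2bf4d202b20af40e38a984fc1f486fd8a385461f406fc0af82bc038d3480acd5910d6959004887cf1bec7ce1be82bd60d04071f346f94d102b00aec0e34d182104d140f30af158e049958d0d902ba038d3440ac558c10a47cc1be02bb4d0c2ae0ae40e21f2c6f71f286f6830830d1f206f50ae82b803893430abe0dd129969c08307c71bd07c61bcc2b91f146f21f106f14d082ac0adc0e260d86bf1f0c6f00ae20f409ce0f21a1c2b603893420ab569a165a2aa15282b74d042aa0ad40e182b84cf606c6de82a465684642db0ad82b403853410aad38f0be534003f47bc1bbc7bb1bb82b51ee86ed1ee46ec1ee06eb1edc6ea4cfc2a80acc0e10ad13eb0d453d704754b310687b61ba42b2038533f0aa42b34cf82a60ac40e01ed46e81ed06e71ecc6e61ec86e50ac82b0038133e0a9decf115dece196d55f12b1e1518d82b14cf42a40abc0df1ebc6e41eb86e31eb46e263e05300ac02ae037d33d0a9614415421670d387a91b847a81b802af81b840c81b41664cf02a20ab40df1e946df1e906de0aba07e0ce07a21b742ac037d33c0a8d38e0be133b03f42ad4ce82a00aac0de522415a52203e852183ed1e846dc0ab02aa037933a0a847a01b6c79f1b6879e1b6479d1b602ab)) (.leaf (nat_lit 0x9e08afdb240bf79a3cabe3724532c364ce29a40a1337290ec35b72db3528dc814ca68f2afe68d1b9268e2914dc9b224a58b22894b9e045609e00af39a485b3371c53237232dc31dd0eb35b0dc514c66891e8668a1b8e68b1e28dc69a18aba370c530b8e0c5d9a1c731b8f49ceca5cd3f3710dc214c26862aeef25304af24323f37535a737a35a8dc3c850adfc84cc139a14aae370452fc844d24c03cb4a370b00e1d3300d1b7f21f349f2232ee26842adcdc014bcdc1c030ab2c02cc8bc028c80c02477836fc52f9a10ab83703055331e6c52b3b360359667b2a2267a2ad4dbe14b8dbfb328c0099e48bb99e07e7bf68bac36f452e99e8ab636fa6772accdbc14b28581f228572c8b0f833a6d242a94dbd36ec52c99dcab49f189be9ec8615c30ccdf9f0885a36f2f55322f00c2ade6742ac4db814a6f53159af522c00db9c8dcbaebed09e636dc52999d0ab2bd30c9bc230cd336e0db514a26721e2280d1a4e6732a8abd32f4abd11910db6c2a4cc543a8d6b43a4d6acc88c0f99c4aae36d052836d66701b8a66f1f9266e14be6852ae4db314a26712abcdb499b4aac36c8527c9f8d3a43a0d69c9f4d3bca00d2f36ccdb1149e66d2ab715c22ff15e311b15b2deb15d3398db2c06493bc0607c899b0aaa36c0526c05cbc9c05871736c7015214f0141f24daf149a66c2aaf01232f30113200db0c080becc084b68c06895ec3e4ce999acaa836b852636bd0e735a301d2d7701f320701b2b1cdad149a66b2aa4dae99a060936b05259ec056c99a452c99a8a57cc24d5336b6f591de2f5832066601e226621c5cdaa149695d2984dab997caa436a4524abfcb97999c602b490ab4c3dcce936a8da8149265f2a96afd292eafc2c1eafb154eafa2bb8da9b298959c878d27af40bd0c014cbc9978aa2369c52436a27602a4665d15d26732ac280c1a4cda6149265e2a8cda79ac05bb36945229acc6be9ac89ffc400ceba118b1e369a65b14ea6e11644da3148a65a25f26ad182e91a23e0da4))) (.node (.leaf (nat_lit 0x3e08c223e04c211dd82905fb02dc60d46f060d82ad1ddedbe1522dbd2291ddf27fe6b32a857ea1af47740a3c7757e9850e86b43ca7e8856a9e84b051dcc28f5fa86be1dd28422c759261ec17e91ac87720a3a71e284671c2b9c7737e687a37e6477c93b054d83046f57e705481dc428e1dc97e7181476f0a34f7f3082ad12e51b920e2eaac18007701db428c8f6c6908f5866d5f902d68f442e28f4075e1dba4eb19c271919f476b0a2e34e18de4ea152703420c076c8d2c7103df8c1f8d284a88d24a0f5f886b61da828b1dacf7d307abc32f2a72021c634f280c7690a2d7e21adc76a3df0c1da1c8b2c5f846b41da028a9cf0aef9c586651da671819b270e292c7670a297e11ad670c2b9a7101d00768a304b35a7e0b657e785499c34ae65f7c6b21d882891d8de2f28797de12c57dd0a397e91af07610a257df1acc7625f7061190347655f6c6b01d80288ac7c39cac788a11d86b221f3ab210c7075f0a217db1ac6d0b3068f7b3070760b464906b46c8c68f906cd9408a161d742888f982911d7a40f1a064101d357d81ab475c0a1ecfa30269662d2c75da72491fa630b511d6c2875f606ae9e7cb04903856a1d70f78306e6e227fcf77306a7a02c117d6164c7580a18759b338b2a3dd8c195f546aa1d5c28590a476290a070e1d6242d0b6a42c1d487560a157d51aae48e27e242a1b547578ef07053dd4c1892509f38eec7f492306781d542851d587520a117d217f20e817a57d31a730f32b40f73305c753aeacac6aea85353dc8c16aa78b8a5f444b11d442841d4a4921a447500a0cf713054f703050f6f304ecf325847515f3c4a7a33c85f5f386a41d382823db4c123db0c111d3cf6b3040f6a303c74d0a097ce1a95e2c21c2a3d2dcc74e3da4c0e7884a195f2c6a21d282813da0c0da6a0a211d2cf673030f66302c7490a057cb1a8de2b21bde2d287074a9b68ad29a0053c3d94c0a787ca185f286a01d202811d24f6430269a9252a6a42b28f6330207470a057ca1a84748)) (.leaf (nat_lit 0))))) (.node (.node (.node (.leaf (nat_lit 0x70808f49d01c014884d814844d714804d6147c4d5070c51e135051d134d26f06f41c1023d270031926e03381c249cc1b756804c6070008f49bc1be14704d24c5827d070526d04781bf023851b134559e13115b7091051a13401c014644cf56c427214604ce145c4cd49b01ba06f808e06fc516133128c076526b02992b008041bd023926c06ec1be49a81b806f008d14544cb14504ca56a43a056a013e06f41bb023526a06e451213261550e18510132050f131c1bc14384c649cc1bd49a411c06e808d14344c514304c406ec50b130c50a1309582084d599093926806d41b902301ba499c15851d03e24fe836314244c106e008c49a01b606e52a307d8508130126606cc1b7022c50712fdf5312d01b814144be14104bd06d808b49981b449940dc4cd829b06dc50312f050212ed37b04013940bf526406c41b5022c1b614044ba7d303fd4ddc2e713fc4b906d008b49901b206d44fe12e04fd12dc4fc12d84fb12d526306bc1b302281b44b7823513e84b413e44b313e04b206c808a498c1b006cd26206b41b1022541c0dfc4f712c54110de84f612c01b206c008949881ae886c4864c7026a13d04af13cc4ae06c44f212b44f112b155612954e511281af022526104b81b049801aa06b808813c04ab13bc4aa13b84a913b44a806bc1ad022126006ac4ec129d2ec08620e308c04ea12981ae4c6028013a44a5497c1a806b00884bd8256496c0c306b44e812904e7128c1ab022125f06a52e9092525a02fc1ac49641a606a808713984a25448471890827813904a106ac1a9021d259069d4240e204e312813d90ce84e2127c1aa49601a406a0086552c2dd138449e138049d137c49c06a41a7021925806944de126c4dd1269ee50645ee111a41a87b4845713644990698086495c0da13604985388448069df0c0581f0b0fe14c2109c4d6125d25606841a502141a61354496135049549540d94cc8296069008549581a206944d312504d2124d25406081a302104d112484d012441a4)) (.leaf (nat_lit 0x30d045e7518492b1c0bf48454685a2647a9a260b3130d6f5f32728861e9643e18567c62acdd4526f4c311174c32751070b750c9b2750846675789c930c045d75149be30c6a351a2ec932fe2fa232a24742021d4026ecc2d1170c2ea74cb5ba4d08b3a8b0b6ea4d45dc30b045c75009bc30b50ba34f6c372b9a4641986c262f8a4611d80c29116cc2ab800c4d8ee871fb424c198ee48e684387f43088458308dd3626dcc1d115aed73209d371f92c712fd30e43390c1e307045674d89b875889cb74d44f8a950b7742e4d3c30771b4344637325a4c1a11563701b11d32196e3741ba8c1b9604a339600647b05076c3060452b4fcc22a054a3e30665821d168112c52be82f5657f192dd2f26ccc161148c17a05c6e7b5ecc32a04c9dfbef8caf305445274bc9b43059d4326f5d2d1c2dd2c1165e9619f4c13114648719e8c14bdbcc9fbdc8c0774a447876149d975bc9633044450304a89a1deeed63209d2726bcc0f113ed3a308645524f4c109898a87913c50f303844f749c9b08df891191a8667303dd2626b4c0c11350b834ee4f5279714733f24f62864c0d302c44d74989ae93d088093c893ea4f4a02a4ecb443031d2526acc0a1132c5f280b2023486c5e2fbac6021f8c0b302444c74949acaf9064caf94bc7afc8783af98650302a84a2c867992bfcc081131d2321f253428e21531324c0942dcd3abcd4c9674784ad7880a19301044b7b0c97d3015d1d269cc03112b1332baf13233db1b0323b1342928c04300844a74749a8b29cbfc942c69442d8d3942d4d38300dd1b2694c0111267ad15b5d1c1f325711a6a570294cc023000449746c9a675449c4746846342d0d37bf90a943005ea017e4bfd111eec7227aa8a2e170c0337aa8b2714bfea698985a2aca24745c9a22fec447be68ca674607cc2ff2ef23222ef52e28bfa111dd17268de8417d5d16118cbfb74246342fdc444b480c1d74287b1a910b75742c5e12fe303c3302dff2022f8a328e1be22d1d08267cbf6110cbf7))) (.node (.leaf (nat_lit 0xa6b88dd3a44b5718ac21c5b085c095bca56a2a8a2518b1e82123628a1fc16c016f4628086e5c329c62be13fc629a6cc8a93a3cb56189c21b5b005bea60cb4d3a38b5518a1f8a1b51f891eee2c4181df870c156bf16ec626086c6279ac45229ac0aa18afc7728b00539189421b5afc5bc18996bd0a1862408696cf17316be08929c121baa0c1e346253a2cb54bdf07ab5bb85e73a24b535af05b8188c21a18921a515c21a91e596c7170e33611ec62208696bc16e46235aec5b618842193a20b523a1cb513a18b50b2c0a2b188862008656bb16de9b922269bc24769b619029cc29006213a00b4f39fcb4e95b8a5639f8b4d5ae85b4187c2191880e7d2d30e7c2d2e32e138e566294c61e08656ba16d461f5ae45b2187421839ecb4a39e8b499a4c5329a48abd187861c08616b916cce792d22a7f1c61e0b193ce772d1c61d5ae05b0186c2175ed04dd956ca4f5ecc69239d8b46187061a085d6b816c61331bd212616722de21821341c1c61b5adc2425c9c61e18642175ad42497864a125ad84aa1868e752d168db20f56b416b4618085a1321f0a13124106199b34702acb49ee185c2165ad05ae9b24a7e9b205091860e732d123a524ca12a1ea212b186d6b316ac616085861784c06f784bc3dd84b86f384b459e18542165acc5ac185ae3028e24221cb56b216a4614085691323d8e712d0c61539c0b42a1f466f184c2155ac85aaa1ecb2da1f05901852a6012fea5f28c0e6d2d058ac1d616b1169c6120854613a208976a204423a2009fba1fc48c18442155ac45a8184861008496af12ce43324a56b00ff4e6c2d00e6b2cfc6115ab45a4183c2115b305c85ab82226b584876b5489a184060e08456ad169674b24128d52cf274a1c2a7490d9c60f8ce05d339a8b3e5aa8364894846d1830211aba826618356a9168460b083e7dd250a7da2124e692cf67db186c60c182820f5aa45a25d286408ef89355b845d86d708dd182d6a713056a50d796a6167c609083e26a0dd16a8088860a)) (.leaf (nat_lit 0)))) (.node (.node (.leaf (nat_lit 0x2a588f42a548f32a508f265187bf51503be0f781490f7ca9323c6abe17e0a9123c0a9023bc3dd05254540efc3de514832c0f701485d90656514c25d56c01f556bc4cd0f754510eec3db051db422320a8f23b9b352300a8e23b43dc0f6814751443bc6c8c62d68ac710688472b68887330f6ca8d23b0a8c23ac3d9051d4500ea1a2f1c4966315903da2a2c8ea2a288e9513c3b80f601462a248e854a04810f64a88239ca8723983d7051944f0ee551611d552211fc3d82a188e5884c67754ac484883073454601980f581460f5ca832390a82238d44d0ed43d405167c8216ca8023883d529fc8e129f88e00f4c14551343b654544746cac5760f51ba62224a7c237ca7b2378a7a2375b3005443d205143d329e48dc29e08db29dc8da29d88d951303b20f401440f454620f30a75236144b05294570f083cf051144c0ecc3d051283b00f3814329d08d729cc8d629c88d529c48d40f3c3cd050d44a0ec4a70234db5617bca6e2348a6d23443ce29b08d029ac8cf0f3014251241d76bf88b329a88ce0f34a692334a6823314470769604147d4460eb43cb05083cc8a808846d1854329988cb29948ca0f2814251183ae0f2ca642324a6323214450eac3c90504a62231ca6123183ca29808c5297c8c40f2014151143ac6bf48b229788c30f25b9a0f18a5c2308a5b2304a5a23014440ea43c705043c829648bfb4788a1295c8be29588bd0f1814151103aa0f1d4420c683c505014500ee9443051ca5522f0a5422ec3c6920868429488ba510431f65887d351002280f101400f1543f0e943c304fdb18061db171138a5122e4a5022e03c40f0813f50fc3a6293c8b729388b629348b529308b40f0db3e15f9b3d0800a4a22cca4922c943e0e8c3c104fc3c229208b1291c8b050f422a5b985de0f0013f50f83a40f0543b0e843bf04f961f14e943c07922770c962750f6c3c00ef813e50ec3a2594855159441ed29108af290c8ae0efca4222b617013616471574a4022b03bc04f95a906e43bd)) (.leaf (nat_lit 0xae688b9ae6c76bb030bdfae60666ae64bbe3c446373c4b1a8343f03132fec052f72b9c1948f1018deb992efcf11bf10886b650c38b05cbe1b138bea3c3c633ae5cbaa3c40f0e18c6b912426b942c5eb922502b932c56b9529d0f0f3c34630ae2c648ae3499bae3099fae3c80eae388123c38f0c18bab881d8aba32f0725d34ceb892e9ab8a2874f0d3c2c62cae1c879c324cc2c7c0d1ec538acfc648d0a3c32b862edcf0a18ab2232ae3222349f3b635d90fc35f4f0b3c2462aae18bb8ae1483abe3cca4ae10855bd00c993c28f06189b1222932bb32f12b8018f2cbe1cbeb8123f4f07adf4babade8a63adf0bb43c14626ce10d6cadecbb33c1b39a35c733e2e84f04189ab7c2ed6b792e4ab782330f05adf8837adfca9f3c0c625addc9ceadecbb5ce08d6c3c12b732ec4f02188eb75242eb762d3ef061e66f343258f033c04623adccbb2b318c00adc069badc8a22adc49863c0ad8a30d6b6e1ba6b6d2906b6f2484f00188eb6c219cf01ad607ee3bfc622ad68ac0ad64669ad70800ad6c6733c03232279b2372ac7236303337e35aeb572eb4efe1888effadaca88cd50d61c8a8d2ac8c4c0d3bf4622ad5cbae3bfab56250cefc1886fda2ad6fd91f9f15433fafdb30c4efdad4ca63adf4bb5ae74bc0ad446383bec621ad40ba53bf339735c308a3348ef81882b4d19a2b972ef6b4e18ccef9ad9cad13bdc61fada8ba1ada46e0c3c4ce8bf78cb53be0ef31876b3e2542b4129a2b3f219ab402992b4918e8ef4acecae4acf0877ace490dbc20799ace8a8d3bc861a3bccef01866eb52c02b372c9eb5218e6b362876b892ee8ef1bac0981c964d333bbc619accc867ad40babacd06213bc2b301c20eee184eb322d5eb311e3ad5330a2d71296ceefc5f0ac2cb1cd46ac94777bb34c7f3bb4613ac90b863bb8eeb184b0bd279f03920c6dd031130b63372dd22700eecccf8bb4ce74d71ac6c6e0ada8ba9ac70ba03ba86113baeb1a22ab12f33dab191a76cdb3014ee91846b1c2e84eea))) (.node (.leaf (nat_lit 0x405cca3ae4081165183bf6dd08f265147be237c3162382595289901632890153285dae27b88de0c599451efc8df75509c568f87a765047bc23703149b64ad1650053c2375a4f20f24e413148db0c519411ef59390e2993e14e88dc7e245bc69006d464e07ba236431393884e47c7892f236a4e321e101432808d80c4d9381eed9370e25aa422048d99dacaf98924a088a0c32668d070f64d87b8235c31323625b729baca02fee27d1f7e27c0ca08d60c4d9361ee48d7235031268c871268e446168e07ae6c3862f6c44635235636e104a36d258dd10118a36c215992b1ed48d30c448d4aa1cb8275685f17430465755c9c6234831164ac7b6234e44d19fa7be2b0592a1ecc8d10c427e12c224e915b08d29f944e29f90a52234031064a87b4b484c1da158b2223467b621567b50dba44a1182449270e44b18548cf0c408d0b498b9771d862874289a1b488c1d68d87ae232430e23299261af28412c7592510348c70c35bec24920701bfc8c864807ae230830a75489c5648446468e853d9b8cad3230c8c10c299201ebda381edd91f1185a370c39a361ec48c28a8c98a8a904e464787ac2300309404cc9f9be4adb23068c5293e8a625008bf0c2591e1eb6139165e6ee2b5c8c0bdf05b9bdecb548a7c88495aca5584ec53e22f830922fe9842d35010327991c1ea48bc0c228a125328a01e908bda29441ca29096d22ec30864707aaa254b31a2649bf22f20d416708b70c1a128186e12a16b212719161291d708b868f87bd754c9c564547a622c4304a2b8ade403cc9d22caad22e5251a28a08b00c119151e9df9112520c81bdc8b1a2189be4038c9c7aa848b68ec53d9af450a22bc30422c08ad0c099120fc5c1e24f19130fe68a01ea9f2025308ae7e0877c7e686bb7e049fc7e0049464447a222b030222b500d326e2a222159100f95f7e22308ab0c099111e8c8ac64387a022a83019a24abc643c531b08cb9fb07cb9a22ac8a90c0590e1e86337174a313211affd2fca6a82b2c8aa)) (.leaf (nat_lit 0))))))) (.node (.node (.node (.node (.node (.leaf (nat_lit 0x64c191064819048c4178064418f01fc0264580065020115f01f407e0094190063818f063418e063018d062c07f01f4025457c07e063018a062c1890628188062418701f922c0270188061915d01ec07c0095165021915e00a007d061c185061818401ec025457407c0614183061018201f115c01e407a00901830604182060018105fc18005f807b01e4024457007a05fc17d05f817c05f417b05f017a01e817b05e417a05e115b01dc078009122e04d017905dc07905e017605dc17501dc024456c07805d817405d417301e017405c817305c417205c017105bd15a01d4076008c07705c016e05bc16d478411605b816c01d4023456807601d915901cc074008816d05ac16c05a816b05a416a05a007501cc0224564074484c15705a4167483815005a016601d007100851a9017c16705951a2035c1660590165058c072455c07001c002046f808a059016246f40f247000bc01c406f008115701c416305841620580161057c160057807047801164554056455806e01b8020057c15d057815c01bc15d056c15c056806d008115601bc15b056415a056006e05641570560156455006c01b001f055c155055815401b51e9047c155054c06b007d15401b5153014d1d6042c06c0550152054c1510548150054414f454806a01a801f01ac150053814f053414e053014d052c069007d15201ac06a053014a052c149454405101a001e0528148052414701a4148051814705141460510145050d150019c06700780680510142050c1410508140050413f019801e4540068019d14f016c065007414004f91de045013f04f413e04f006645c009404f413b4538064019001d458007f4534026019413c04e813b04e4063007514e019514a015d14900880644520062018801c04e813804e413704e013604dc135018c0610071148018d14701851f804d1146016d1ec048c0624514060018001b04d8134451c06204d413304d0132018405f006d145018413304c51e8047c13204c013104bc060)) (.leaf (nat_lit 0xb544c26ad20874a12cb214194ceb28183876a884fb281da9d21f49ff0e12c612c7d06433aac6026b2c622fb8a0027f83846a7487e6ba88a66ba439da7f05cda7ecb6527fe09c2059a9b1099d2326a9a9a1131a9921ec9fd0e109feb0b4be36a5c86b6a583876a6054e27f03846a6487c27f61d41862567294da9421e49fb0e0e1d30f8a1d213cc9fcae1cbb9878462c27e83836a5087aba94c76878881627eef7332824e31eea1ec19d21ee138a1e513449f90e0c9faacf0ba79c20ae427dc3826a4447c93c075a93c493e27e2c831ce2a782df9eb71135eb60e149f60e09a9011189f76a3c3df6fa09236a3886b27d4380851c81d851857a27dab4821fed503099a8d0f7a05d1b5da8c21cc9f40e009f5a49c42ea498980852057ca09cb1927cc3806a3087427d106333a6e21315671f28468922cc1a8b21c49f20dfc9f3b024bdcb0d0be59c84a039c806b627c437f6a2c87227c906233a29eb2d85a8a21bc9f00df6a3e2dcde2c1a909f1a86cb69a7205d227bc37d6a288707894a1c78ac6a227c1061339ef26324a9c61a289ed0df2a0b1e369c116e89eeb6589ccb8fcc594180ce6b8dcc5ca1887ce27ac37c27b105f3396830261a14915f682d2c6da8721ac9e90dec9ea6a5c87bb0b8be36a183806a3887527a037b6a1c86c27a5a8521a49e70de905e339282a2c6aa2f2dbaa272db09e8279837a6a1486ac1eccd0a0c882d4174ce3a0d08b7279da83219c9e50dda7e62c21a8420d6c542fb21ed19e49e627903766a0c868acccba587c8619adb0bb087cc62327961f824861f70f7ab3f2ea2b4529a1a8221949e30dd89e4b8f0c5db3f0c176a0451498c8a8c27883766a08866278da80218c9e10dd505c338905b3386e4c318505a33809e227803756a00864c53cacfc35ca65c0b48d0c0b0a7a2786bee2f5da751939a7b21849df0dd5a7f1909a7620289e093dc946a944b76277837569ec862a558af6a55455b277ed172c12db930fda7221349db0dce2eb1c1e2de16c09dc))) (.node (.leaf (nat_lit 0xbc282febc2479912f4199549448054883b8548c47512f9ad02261ef01225d68273552011a552111f44bc06644bd32209e8b07462076089d832189e712ec199548447e12f151e11ec4ba0661a9121dd51f0e08c852798c8427944bb12e4198547847c8cd85b88cc85c332049e432009e312e951d11e44b8065d53e124cc7f27895311234c7e27844b912dc197547447a65207c0651c31631f49e031f09df12e2260217a25f0dc9d842765d2926c44b6065d51c06704b7546c47612d419631e89de31e49dd8988859c0e083112d84b4065951b11dcc762771b3222f0c75276cc7427684b56dc48f031cc9d9546847412cc196548c47f54583b812d0c722760c71275c4b2065951a11d5b2a15d95150ed44b388cc8a888c841675cc9cf88c465e12c0195889426912c551311c44af0650c6a2758c692754c6827524a41da84b012b8194544c47254481a755484a25444427729497a12be3040bfe32d1709ad3226950b0e584ad065150a066c4ae12ac193714c41992d07c9716c62831909d392ec95a12b150811b44aa0648c62274a360178a35b1758c5f27444ab12a4192542046e89485a3894436489344e8316c9d012a8c5a273dad7226a2580dbc4a8064a25b217249c24604a9549048097dc7ed541c46a12981917ca04057c9c94f129cc542739fd724204a5064550711ad5060b09ef112584a67bb06357bac95b548047e31409cd7b841a4129019112944a1063e3260875a1620dda150d70c4b2730c4a272c4a25408466128018e727c977540c4248e0c8c431209ca128449f0639502119cc472725d4226f643d076243c14704a031149c831109c7310c9c674307b55404464127818e127ec2919aa6031d099211ebcc40271449d0639501119449e5400462127018d74689a530fc9c474589a27a145f5127449b0635500118e3662159d101ed9d0f0c75d0e08ac49c6c3c3cb6c407d3647c7ae68e47b7126818d53fc445126d4fe117c4990630c3c270e44a1ec8c3a2708c39270449a)) (.leaf (nat_lit 0xbb38ad8bb30a27bb34ba33fa8777bb3cc23c5c0d043faf001271b0c5337eecb2dcb0c1337aeca2274fe91dd0feac79cd1bbb94b59c1f8cd1bb88c85bb247923fa07713fa739335bf046321aec22b1b39635c2ec32d70fe71dc0fe8bb04b87beeccaebafc962bb007e13f9876fbaf89643f9eebb2c08fe51d9eef025baebc30d71fc3482ebd3164fe6bae4b95bae8b08bae0bd4bad8b9dbadcc6e3f907633f9726f34db36d359eeaa2c9326834d4fe31d7eea92c9cfe4ce00d6ccb70abccb78d4bcf28d7b3f8875dbaa0c713f8eea624b6ea72b00fe11d6aea32082ea4205aea521e4fe2ba78c743f80759ba84b89ba7cb5cba889f7ba80ac43f84fdf1d66e9e31d6e9c2452edc320ee9b2316f9f329cfe03f78758ba64bd9cc78bc5ba68bd6cc70bc5cc5cd563f7ee972a7ae982124fdd1d5ee94316f16a340ae953198fdec728c5fc73cae23f70756ba3cc6dbaa0c77ba4075d3f76e8e2774fdb1d573022887301354730d35533533588fdcba30c6aba34c393f68755ba28b9bba2c8ebc638d093f6ef132b8f3a635ccfd91d4ae882e4ee891d8eeb731e4fda3f60750ba18c54ba3cc71ba1c756c7208f1c71cd163f66e7d2d06e7e2b36e7c2de2e7f209cfd71d3ee8228ecfd8b9e49deb9e085db9dc995b9e891c3f5874eb9d8c453f5ee7130e6e8c31bee701e1cfd51d2ee722152e6f2d20fd63f50749b9a8779b9b8c22b9acb16b9b07d4b9b476b3f54fd31d06e691d5b1f52a5b1f62b771f4347b1f72494fd43f4873db984c4eb994c48b98884fb98c8d6b9908da3f4ee603170fd11cf2e9628c331f355ee9531cb16b3408fd2c474cf3b948994b94cc643f4073cb954c4cb9507463f46e5f267718c3420fcf1cf2e533196e5122fee50213cfd0b93cc623f3873bc814ceccc9cd58c80cd21c818b183f3cfcd1ceee4f318f35b3592e5d29c325234c707c3340fce3f2c73abcc87d5b92cb47b92874fc328ce0b9308643f32e482296e46229ee8328ecfca1ce30a53366e492140fcb)))) (.node (.node (.leaf (nat_lit 0x1d1469e1d1069d0a200d24c6428078a037d1d0869c0a2619707d2198159131709f428703467a615ca1c810e02881cf469b1cf069a0a180d14c5c27e4c581bd56e84d20a1c73b1a6473a1a617b9161618d0f1931509ec28503442861ce06971cdc6961cd86957e945690a100d14c5427c0a147341a507331a4d55412907321a4931404b028303402840a080cf4c482495e945c64c4c26e1cc46911cc06900a0d31109dc281033a24312bc72e1a3e2401286242069c2820a000ce4c442785cac62356e02441cac68e59905650a0472a1a347291a3027f033531008997981a047281a2c280a8cc5dd1c9868a1c946891c9068809f80cd4c3c21d09fd3c40ca93b5044130e09cc27d03320f90a420f70b4c27e1c8468783d02ac09f00cc4c382745ddc6635de026209f55b106ed5b4133d769196530b097930c09c427b033027c1c7c6861c786855de46621c7468409e80cc4c3027209ec278032e0e0083071b1a0d660157c71a1a0a0eb17b42795dd82e65dd40f61c606815dd06634c2426e09dc0cb09e07171a02192158931309e57a61718276032d30909bc27709d40ca4c200f81c5067f56b44cc1c4c67e1c4867d09d871119f223c138222b121470e19ed30709ac27403282751c3467a1c306795df46651c2c67809cc0ca4c1c26c09d130609a4272032531c06b6218121931b0a0c70a19dc27309c40c94c1826a1c246761c206758894473889019509c870519d070419cd77a19915b513402700325305033c2714c1026609bc0c81c0c6721c086711c046701c0066f09c026e0321304099eaf115546fe19baaea168eaed084426f8fd86141be866d09b40c84c0c0f61be466c56b04cc09b9302098c26c031c6f819ac6f719a86f619a46f519a026d09ac0c74c082641bd066791c045b91c84591bc466609b06f019946ef1991301098426a031d77809cc6ee198c26b1bb466283f42d209a40c74c042621bac6611ba866009a9300097c26803186e9197d5d20c546e819786e71974269)) (.leaf (nat_lit 0x9ae45cb9ae05eb35e45099828a809adcacdc544cfd35ea6cc165a6cb284a87a2cb66ca1664d7714266c916b4d78981c56b9f78b07992ca9b9810a499814a7c35d450735dacf63052fea2a62b012e6727134dcd74141e60529f4d7597cc98897c064697c87ed35cc50697d09cd97c463135d25ec1518d7214165ee22d65ed143b02c218e5ef2340d73cb74d4bc5049fd98d0a8da528af79b4c90535c450535cac162f866241982a962e1e5d61fb25e61f8cd6d1410d6e973c5679e78b0397347e8bd58c9b35ac503973052735b25cb29d4d6a1406c8228dec881a330fc33aac8124fcd6b35a4501972ca769b0850a97209f99b04ace97289fb35a8d6814025c7277e9ce2d6a81628fab952ef281d2c54d699718a72359c4ff9d848a49d44af4a130b21a13458635a0d6613fe5c629ce63a2a4a5c51467358358ef5d3204d67af20bcd971097fb288bfbb28cbd135944ff970c5be359a75d22acd6413fae5d31890e33592e5c312ee5b1c74d6535844fd96fc72eb910c2bc248cd4b90cc5fccd0d5b358aca12fee5b71ee25b929b4d6013f65bb1f6e5b81560d6196f47c496f0768357c4fd96e4a6eb2ccbfe96e86983582eda2b23022257ad3b2a1d0e2358e5b629acd5e13f0d5fa8c0b6ea8c4642c090cbdb4e4c2135744fc96d8a6c357a5b51544d5c13e728834f6f38325f089334b0b4336cd5d96cc6cfac30b9c356c4f796bc53796c083796c451335725ad299cd5913ceb45219ab412ea2b4415f2b43194cd5a35604f396b4a6896ac6c896a494d96a8990c9a8d3535665a82994d5713c90e135890e0358720a348f20d3488d5835584f296a0a66c35c863c540acfc354cbec350802355ebd62d1b349357e5a7298cd5513cab4a18eab402ea0d56ade8bb5ad4cbab35504f2969ca64b818a95969894d3554d5313c65a328026e82b5a5a4289ab272c965a51ddcd5435444f0a57c80aa578785abf8a51a574aa6a570525354af4528b330e35565a127be5a023ccd5013be59f2324d51))) (.node (.leaf (nat_lit 0x71bc9683d20bef5e544cc1c5026d9ca0ae97a649c91c567bd2b0644d1ed1c6d259e440270579419f471309b47149c646b89c686707a589b27a544591c4826d5e5067e1c4e23b138071109b0f472fba23725ea2af2238f462fb4712a770b5f88bc5c81c3826c88b848588b44a25e406751c3d78f19e470d09ae4891d7a4881c3a48726ca486114470e1c3026b5e3c67a9584a5292286d587b48683d14bec1c34f442fae717270070b09ad78e199648d0a1648c1aa470c884c3b788488e588449f860146cf1c2826a5e342831c2e4b218a578b197d78c19d470909a64ad275a22a275470a76009d563347691c202695e306765e4067b88a44a21c2578919cc70509a21ef138a1ec21e21eb20d61ea0d6c7061c102685e2467494b8a355e204c5ad6cbaf85748001c14f432faafcd235178719c4703099e6e52b52bfd2f6870490c072090bc4281c082675e1c6727a7070b7a6c2b91c0e71a19f64eb1ae0f412fa4f402fa178619bc701099c702a1f45a9a428b4282d457f94f8a3f1c002675e186701c06af01beaaef1e386fe099aaf21556c432f9eaee27d06ff1be82658fdc6148f5c2d68f586b98f5472a8f503f31bee64a292e7181ad1e971c2cf3f2f9d78213306f909946faad74a353cf8be65e0466a1be0264bb1489ead94ac61be6c2a1d0ac2911906f7099178119aec252f88f3c2f946f89f0068faa88b89ad64baf9efcac05e006681bd82641bdeb641e2eb630be2b4d2eaa7c118806f5099178019a46f691b496791b075e91ac45b1bd026391a89af91a49111bd4f3b2f9247123eab982efec0d2f7c6f1098e47311646f25df06641bc02625e386785df426b9c586b59ce8aef1bc46ef098977c199577b134177a09a0f3a2f8d7ae1a3c6f0ab989d098947d95dd026f5e646811bb82625ddc2731bbe0fc0b486ed098579d1a1177909c60b220220b10d086ee9868a81919476d3ce4be291909ba5dc06601bac2611bb262429e0f382f8576f0b998c41d946ea098577019846eb)) (.leaf (nat_lit 0))))) (.node (.node (.node (.leaf (nat_lit 0x807c3c311c043e11bc43d11b843c48d817e060407a060846d10ec46c10e846b10e60220f4c18001e923605fc18111a443811a043748d417c05fc079119c4364d2c2b6060046610d446510d017e01e523505f53300a55331036417f88182ce880c0ed1188433118443248d017a05f407905f846010c445f10c045e10bc45d10b817c01e523405ec17d48c817805ec078493419848cc082117042d116c42c05f017a01e123205e5243063d23101fc45a10ad4300e5c17b116442a116042948ac09c4a5c1e605e407848b413405e922a05d417801dd2870755230048c45710a13f20d6817905dc07748a8176507838148bc1324f501194f4c33805e1f040fa8455109c454109932f0a5522905cc17601dc177114c425114842448f8186114442305d407748a417405d922805c417401d9f62103044f108a0630a7c44d108417505cc07648a0172593c1ec50d813d113042050dc1e405d132b036132e0a5122605bc17201d9f410fd922505a8173112c41f112841e05c4076489817050cc39b489016705c922305b417001d54930fec449107548e0fd0448107017105bc075488c16e4ffc251111c41b5600213561424505c13380a7c445106816e01d522204584441064443106016f49241951108417488416a05b40741104416110041505b922703dd37c0ba016c01d122105ad22505c1f420fd816d10f841410f4413491c19310f0412488016805ac07405b043b104443a1040439103dc5a091c16a01d122005a416b10dc40e10d840d05a4073487c157489016f50d439b05aa06d0a8c4341030433102c432102816801cd21e054016910c440910c040848740d7059c07210bc40710b840605a042d101442c1011f110fe042a100d21c058c16601c816710a440210a0401109c4007c543fa0594072487016405984250ffc4240ff816401c521b02294790f904230ff416510883fc10843fb4868160058c07010803fa107c3f9059041e0fe1f0c068816201c121a05854750f8d4770c0c163)) (.leaf (nat_lit 0x9710a71af1cbcd9e4c68eb260bf92ec442e9e6069b2ec8bad10b1cba20e10ae34c714833f10ad34c314928e4bae72e044e72e47f82eb042c72dc4537b0c9a97b0844b2eb4bab10adcae13ea65a2a81caf1489cb11f75cb01f7cbacc890d28c07095f2ea442a72a045872a483272a86f22eaa2f2132253328de23719f2c5d2fb9ca511c4ba5109cba67288834b110be772849782e8c425993ca9d8a545202e928702caf0ac3368ba21095ca125e60911d6e089200cba3c1acccda430b432e80424727c467739498f73984392e84b9d108e882169deb910b5eba111a33a179a330170cb9e72609742e64422c848d249de4afbc918d2ebb64c822e68b981089c9825d675a13fa759156a7582a467571464b997dbc9032e58421ab689657dc49229574a5085f89972e5eb172e7eb181840b9210821401b867402a39c901b08b939660a5d7f084ed2e4441f72345827ce893a7f0c9502e4a68328624961d91c8922a28f12cf9fc62538b90107cb91b6c4c3ca0acb1a42b0d2f42acd2e721c90a2e3841e2e3df232544b8d1076eef30d6ef031eb2632f750aa34b4b8ea2907a92e2c41c721461a7dd890a721096c87d45142e320672490b87106dc7c1875c7b19161f41451c8425b4b8842a4d2c42a0d2b85a878bc998bdd71dc96a2e1441a2e190a734aab9e2f02168207eb61187cb841069c7725acb858dcc9b6c6dcd1171c895b2e0c41971cc61e71c441d2e12c642fbdc6f19fdc702360b81105e17d264b199342cb827a6075e91b466791049c171b467e8f208df2e004172e06ad627871d934650a634a6ad52e55c672594b781050b79ab707ddab749f6ab6c922ab689732ddc414719c9662de29372a7293627b0b75104dee82262ebe31ee61d1dbcb768db47b62dc8412c1b0ccd927491875c045075bc9b12dcefa532a63ce2432ae11f86ebf31edc632360b701048b717f8893185f099971889602dbc411b3cc6a6b3c8c132dc31f1347af9c3298b6e1045c6225864b7246a8942cc0b6f))) (.node (.leaf (nat_lit 0x82d065182cc70c94f4a3f82d466f178820159fc580178c5e00801b3e0e92915225e9181c6ce442c729102a685e159f457c177c1ff3908b1b852486c5e786843904b1a17805de07fd67d15f4e402c6614821ce0b6194eb4429a05df94f0a3f59dc4ce59e457a17741ff853c38659e034a177a2f6173ce3e2c605dc07fd67915ee14621d59de20745dd66407eb38f4b1759d83c3176c1fe6e2064895f464b17728ec24e0e3b2c5a81b1f18e3a2c5567515dc5da07f85db95f064595ec25638e4b1495e8a5917641fe59d4578176967415d45d807f5bbe2439b2922edb2b0ed5b2a11d05d9175c1fd59d057665bc3c759cc5646f4c91c65b03d9176265d2a8a75f2a44e382c4d8451bec5d607f167215445d738dcb129434a1759c050359c452e17541fb59bc32c17585d407e966e13a8e362c467a32c1a7a710e27a609f85d5a4002e9a3fc76c38ccb1038c8b0f59b4570174c1fa17521a81e5a1a516e27252ba0e312c385d207e966d15c45d359b056e17441f967d435167d082367c882538c0b0d17485d007e566c15be7f71d9ce2e2c30e2d2c2ecba1d285d159a856c17381f89eb87cc9eb49a638acb0a38a8b09173c5cd07e166a15b67b114b27b02a9e4e91ed0e292c205ce38a0b07981ca7d17301f87ec04d99ea8b03389cb06173566815a45cb07dce262c15fa21af640e1ab4e252c105cc17281f759a056a7e9427b7e9069586984c09494a31172d685147d684142c5c807dd683152dfa1097dfa008245c93890b03973ca779e1cafe9e2c92617181f69c1c547171d66515945c507d4e232c08e222c04e212c02f532ac85c617101f5599456687a081c387caff59902775eac68e171619809f85c307d167315d59700f1d6630ee9a301c485c43878afe5d94656598856217041f48ca43ee866c689170a19209ba1911a005c007d1662158e18f16158111b4c5c19df829c9df46d33874afd3870afc598456016fc1f31700e1b2bece1a2bea7502bce7812af45be07cd66115845bf)) (.leaf (nat_lit 0xcf84d37cf78d52cf80d1243f8c8dcf88d28cf7cd7243ff3dd35df3dc35773d933cb3da357b3db34550fd31790fecf5ccd5cf58d14cf54c13cf60c5543f0bb8cf50d7643f73d234733d1350b3d0355b3d32f190fb2e473cf35c50fccf38c98cf34d18cf28c77cf2cd4bcf30d4943e8b8843ef3c832ef3c932690f92da73c534e73c62e073c734390fa43e0b58cf00d17cf0cc58cf04d0fcf08d48cf10d3443e73bf2e3f3be35bb3bb30273bc32233bd33ed0f72d490f8cee4d5dcf74d7ecee0bd243d8b46cee8c8ccedcbfc43dd0f52c373b32dff3b531273b4331b3d435f73b62ee10f6ceb0c4c43d0afccec0cf9ceb4b80ceb8cddcebcd0d43d50f32b6f3a731633aa34af3a834573a935773ab332d0f4ce98c6ece94ae3ce88cb7ce8cb54ce90b2c43c8ad543cf3a02dd73a1336d0f12b4f39e337f3df35ff39f34a10f2ce74ba1ce68bb4ce70cc443c0ad0cf3cd7cce6cb9143c7398334b3972eab39631f33992b190ef2b0f3952b150f0ce48c86ce4cc7cce44d6e43b8ac2ce50c32ce40b7143bf3be35e338f2e3d0ed2b0b39135bf38d33eb38e35810eece14d4a43b0abece20ce3ce18cc0ce1cd3ace24b6943b50eb2af338031df383305f38133a33822ecf3842ed50ec43a8aafcdeccc5cdf8baecdf0c0ccdf4b02cdfccc943af37932033762d27378303d0e92abf37a2aeb37735a50eace30bfccec4d0d43a0aadcdd0d3acddcd6acdd4aba43a736f2d750e72aa337230433703253373323f37132490e8cdb4c78cda8d36cdb0d0a4398a95cdb8d08cdacd61439f36830473692e1336733773652fc7366325d0e52a2d0e6cd8cd57cd90d544390a88cd80ab6cd84d51cd88d14439735e34ef35f2c810e329c335b318b35c33d735d314d0e4cd64d01cd68ac34388a6ccd58a87cd5cc81cd60a72438f352348b34f2f3b35135850e1299b35331c335035510e2cd50badcd54a884380a66cd44d62cdacd67cd38d0843850df295734a2def34c2a6734b33b738e35bb34d33e90e0)))) (.node (.node (.leaf (nat_lit 0xe681315074380559c4b150701ae27c887227c48710e6da5d214541b0dad46e0f694150555593081839904c439a504c37c0e5c13027c087027bc86f78a469c78a027f0e6039604c14130df49ed21ba9c71a289eb21b68631f3839757e81d457f0514504837a0e5413027a486c27a086b0e589e721a89e621a439404c14120ded56612c141106b839550403780e4c12f566024f5d1063a565c2465cb46260e5039204bd4100de5596096d75c194d5950949a7a0d0c3935a3c58d5038355503c3760e4412f873062757e45120e489e521a09e4219c39004bd40f0ddc9e321989e2219439127848642780863277c86227788610e3c12d50343400e4140b0dcc38e04ad9ab1fe540c0cda26c088a26a168038f0e3412b502c374276c860696484d276885f8b906800e3a25f11e09d721789d621749d5217140a0dc438c04ac38d275085b274c85a51b43d927488590e2c12b50283720e314090dbc38a04a9a0214609d12161a0120b89d0215c38b0e2412a50243708958192896046c8d885e427308560e2a7b51ec89ca215546b0f6196e0e3438804a94080d54389501c36c0e1c1298b708338ecc7478b687058b644350e2038604a54070db49c52152ddb1d389c3214c9c22148387506c37e2704851501436a0e141298be071a50183360e189c021409bf213c38404a54050dac9be21389bd213438550103680e0c12826f084c6eb87c2a60079c9b407030e1038204a14040da67d70fc89b7212c9b621289b52124383506822b506414c0e0012850601549d245a48b4870a0e054020d9437f049c9b22121a4921049b1211e30f10403800df8127500836650bc397500413a26bc8468c1879a0dfd58d0ac037b049a25111b56aa168e36a17949ab211437c4ff42534fec12e55e84c14fe81b50de41264fe43540de89aa21109a9210d3f80d8437604949a821089a721043772698840269483f0dd41254fe036250b83964fdc13a0dd93f60d7c37404914e80a658011b394e611294e70614375)) (.leaf (nat_lit 0xceccd76a9e4b0da9eca0e3b0c5eeaa0074da9f47183b12a7821dac841ce2a772beaa751b76a762d24ec217b8ec3a9a0b7c3b005eca9a87d1a9b0700a9a47cda9ac8a23b04ebf17b2a682df6a651c8ea671c1aa642d9aa661cc8ec0cd28d60bfc8a55b35cc02c420cee3af85eba98c7f73afcebc17aae171df70eb339f15a33ff0e9339b15b2ab0ebdc60ca973aec5e9bfb08b1bfb4b91bfac937c7e4d1f3af30d8338ae852f62a57209ee7c31b0eb917a2a561b74eba3adc5e6bdfc8caca14d34a94c9f2ca04d3ca9509b73ae2a512186a522518eb6178ea4c255aa4e252ea4d24f0eb7c2e8cdbce80d72a9149c7a9285f23ad45e1a9109a13adaa422b5ef702938eb31782a3f2b66ff132dea402db4eb4a8f0b723ac85dfaa18b81c000bf2a8f46a4a8f88703acceb1177ea3c2dcf0c2337aecb31fb28a34f712733d0eb23ac05dea8ecb53b68c6efb688c3bce40d6fb684c323ac6fa432a30e33392a382dbceaf1776a392d46a37179ceb0b2b4a2ac870d263ab85dda8e0b70a8d8a3db67cc3b3abea2e190aa3029acead1772a2c26eea2d2db2a2f21a8eaea8acb6c3ab05d9a904a54bdd8ca0a900b74bfbccb73ab4eab1766a2b2db6a281a1aa262902a2721aaa2d2db8eaca88cb673aa85d6a8949f5a890b5fc788d1ab1b8bf33aaea211752a221f5cea9174ea1c2272a1d2962a1e28dceaa3aa05d2a86c86fce2cd3943e4d7ace24d6dce28d3a3aa70212aa6c562fb2a191e06af42e5aa1a2d9cea71744ea8a85c5d6a88cb6ba8589f6a860a093a985d1a868b683a9ea14221ea152018ea5173aa001fc2a011ccaa642df0ea6a7e06b3a7e4b35b1dcbf5a7cc737a7ec87d3a905cd3a969f02d8cea217329f22ca29f1247ada6235ed9730e4ea33a845cca7c0b64b654c38a7bc7cec43ccb9c8acd2a3a8ae191ffce9e172af8323d31d43462f823286f842130e9fa7ac870c3b8ce83a705caa7a45eacbe0d4fa7a8a803a769e8229a9e72400e9b17269e528ea9e622f715733fce9c))) (.node (.leaf (nat_lit 0xa8244c7a820a36639c77e22082f2b8b0c5ab8e4c5d220df2c253e4201d208810bc98e71dfd8e51b522c71cc0882b85cb7ab8585ea8b38732b848c5021fc2f2a8145cc2201f991aedf821e8c87e0bc58e20c318e3150e6fe2b7c87f3fc0c82a2689b08330597a258b3121f42f1638430621f9c4b25698df1da98e00e4487c0bc1ac72252f5014a487db9a8c69b2ec74971209596374768637877821ec2f021f0fee3206f592a9b0092adcfeb320087a0bc18de1de487b637077621e42ef3fa8c7fac94ba39694a62ac98b2521e88780bbd8dc1ddde6628123f31849e6512ca43724a8879a4bc996bab46397980608797c58821d42ee79884b321da51428966fc2b718d90e648740bb4fe931f9adb227487595a4a5479f45e179f06069bd0ada636077221cc2ed21d18d70c9d9811f798d614e62bf16ec8720bb58d81dcc87321c42ec634c53f635472563502ef3fa0c7d63fc79221c98f01d2c8700bad8ea1e098d20bd0fe731f29d52d70871634076e21b82ea987c32298787d798749643f98c7b21bc86d0ba98d01dbd9091e698ce0bfec21227d8cf14c486e91946619864a81633041621b02ea7f38404632c76921b68ff15c486b0ba6c15114ac1426d6c132f82c12196886cae6cbbf918c8b921a42e96324760b9b4c69986c7d421a98df1de9c4d25698c81da48680ba24a411ca4a52750869633467575fc9d5219c2e8632076a632c76d7f3c40421a25bc29b64ac1f118dd1de5c4a25658c71d9c8660ba08673f94c7a9fe4b029fe0b0c9fdc56e21942e8631c76821998c51b448640b9e50f2881f5412d28fb2c3a97520a086590346b18fac6116310660218c2e6988c7ee9888511219249625c267f28621091bc2108101c8610b9a10b1b00862909449d9090a05630876221802e53f90c79ba24c6e2186b882eea42718b885f0b958c21d8e4141c3a4291aac8607a4c754841432fb3fcc18b03cbe07a4842a216c2e421718bf12e48590b8d8c91dad8c00ba6462116e46126e885a)) (.leaf (nat_lit 0)))))) (.node (.node (.node (.node (.leaf (nat_lit 0x4d782c90c302fc47340fe03fc04e4e142ef47300fa040030b0bec30a0be80fe01391cd03fd3760b9d1cb03dc0ff47280fc03f404d4d002aa0c242f94cec2a20c202f803f80fc01351ca03f43070bdc3060bd83050bd43040bd00fd0c0c2f30c082f203ec04d47240dd4e0809a4e041e003f03010bc43000bc00fa01311c802751cc03fc2ff0bbc0fb0bf82ee0bf42ed0bf02ec0bec2eb03e404c471c09703e930809b51c503291c603dc0f8012c2fa0ba82f90ba40f90be02e8489c16a03dc04b47180f8472c0fe0bdc2e703e177509bc2f50b9930309951c303211c403d40f6012c0f70bd02e50bcc2e40bc82e30bc42e203d404b47100f603d91c203cc0f401282f00b842ef0b802ee0b7d47c0b000f503cc04a47080f44afc21447040ad4d142b14aec21003d02ec0b782eb0b740f201291bc03711bf02f11bd01c40f30ba82dc0ba42db46ec0f003c40490ba02da0b9c2d903c82e60b602e50b5c0f001251bb03c534f0aec2e40b580f10b8c2d50b882d40b842d30b802d246e80ee03bc04903c02df0b442de0b413a00a302dc0b3c0ee01251ba03bc0ef880c17b0b682ce46e40ec03b40480b642cd0b602cc03b82d70b2c2d60b280ec01211b903b534e0ae82d50b240ed602c0d360282850b482c80b442c746e00ea03ac04803b02d00b182cf0b142ce0b102cd0b0c0ea01211b803ac0eb46dc0e803a40470b302c2485c15c0b2c2c1491018f03a80e8011d1b703a42ca0b0121405602c90afc2c80af80e90b1c2bd0b182bc0b142bb0b102ba46d80e6039c04703a123906091b502e51b4013d1d004100e6011d1b6039c0e74d1c2140b0c2b946cc0e403940460b082b80b042b703982c00ad82bf0ad40e401191b3039532c0a4c2be0ad00e50af42b30af02b20aec2b10ae82b046c80e2038c04603902b90abc2b80ab82b70ab42b60ab00e201191b2038c0e30ad42ab0ad02aa46c40e003840450acc2a90ac82a803882b10a9c2b00a980e001151b103853280a4932a04580e1)) (.leaf (nat_lit 0x2a983c78ba884e86184de861443e86104a4860ca0c2a9ecdc301ad7e30cdb8c2206fc232c0aa30f15b8e220caa46e2c8fc2a883c4aee0bc8b2d0bfeae04bb6b2dc72f2a8caa10f11b8b23f5beb2491b8a0f869412d15bce2464aa285d46da9ffcb112a803c46e047456df48a06df03c82a86471199ac2f2f9203410ee0332649b7a23e4a9d0f08a9e8e249ed425cd1a80e03e66f8c3d22a703c26de88fa2a75b7923dca9b0f0691c1f8292e262691a2a8291b182ca9c2a683c16de48f8b600c338110824ca94a994258d192a6ca980f02df11feb16d340f29532ce9122d0e91316a8a996ddc8bec57cd002a5c3c06dd88c3b7acc4aa45c71b2a61b7523cca960efd0943462f832d8af4420eaf461f04a972a543bf6dd48f49680a6076bc9efbd0cc9a76c083f2a5adfe2e030cc3381b741efca940efe931266dd942788a95aaf45f82a4c3bec724d13424cd174248d16c720c6d2a51d832765b7111d5b7223bca910efaeec2feb13e33e4a92c4a0cf44240d152a403be6dc88f0aacc490aac89fd2a47097335aaf72e58a8f0ef1b6c2321b6d1c45b6e1b48a908b34794bc9cc936dbc6d36dc07972a383bc6dac8c02a3db6a23aca8d0eea3542841d86276a353280e3521264a8e2a303ba6da88ec423cd14a00cb12c640d09ba2cc6f2a35b6823a4a8b0ee6fe032d9b6922c286f2cae33b1768a8c2a283b96da08eab908c5f88347354238d13af18bcd2a2d08d344adcd310e4ce1c9ee243159b671204a890ee4a8a6d988e62a203b8c634d09b878c54c61cd07c268cd62a24a870ee1b66239e3b926e6d0a30663b8266908c3444a8888486772a183b7941ca1588d8a0dc4d8a48c4c4cf62a1db63238ca830edb1af323abb22f0f1ae30f908b3440a842a083b66d8c8e46d8858a6d845d84228d0faefcbcc2a0e180263edd731167ce212a3a424c8a800eda7c9216ca816d7c8e029fc3b58ed071f8eb872a8eb44408eb08332a00a7e0ed5b5f238719b3432dcc310edac2f92dad2810a7f))) (.node (.leaf (nat_lit 0x359ca733598a7257a432715401cd8af85be3594a711544d6429c275e22ae5be156a75a25d15e813f454f073455072d472e3584a6f3580a6e357ca6d15381cd57a04fe153d5e713ec54d07322a71bf62a60accd5e29b0d5d29ac54e15301cc579c4fc58b854857cc1ea6a8887f57d03871535cae25f1a2010ad5e613e454b07315fe145d5e5075854c3570a6a8a3055115281cc57984fa57c450b57901d2152d5e313dc549072dd3526ddd61272d9a81f9a3791bb454a15201cb578c4f85870537356ca6957882fc64047941525b2618b5aca2254547072d5e1076da1a0d71a1920d85485cb86275c942469524a435c9061c57804f415181ca151e8091bed7c818395df128de03282c54507295e013d45463564a683560a6757784dc15101c9874887a7fb83e21514d572998d562994d552990d54298dff3095454307245447f98a00354ca6257744f015001c8965ca5c57704ec150695a2028d51298453f07215dd13c563d15655db13a454057684ee14f81c786f48ad964c95386f08c93540a6014fc53d071d5da13be591252e5901004d4f297cd4e297853e7f089713534a5d14f01c757644d4961c4b89618a2614f5f192535f18100c53b07195d80ff95dc13c4d4c297053c352ca5ba41094796349493520a5a14e81c6575c4b514ed66e15c95d507e95d613a45390715fa90c55fa8139c53a7f2494e351ca5914e01c557584ea576c4f058fc55914e55d3139c5350710d462961aeb229e24c274224d11b453614d01c4574c4e85a2458457402037ea04ea574431514d61b4230164a132c53307115cb134d5cd13195cc07b85343514a573510a5657284e414c81c3350ca553508a5414ce2a41eb61d72628531070d5ca139600324be4e21eec5328cbc21e8ccc5c33504a538cb85b457244e214c01c314c4d40294a7e51ece1ee21e21ef19d052f070d5c9138c5307fe89937fe443c14b41c27fec3e97fd892e7fd4a0014ba23c09b223b19f223a282223f12855c7137c52c070852d)) (.leaf (nat_lit 0xcb24d47c5649efc568b7ac560ce7c55cb6041e48bd41eb152311107822f3155288b153307b15630c71542eb107941dc8b7c528a86c5f4d06c52c8d0c544a7fc530acd41e3145276907622db14825fb25134c7146286714726b9077c50ca9041d48b4c874d26cb30d47c510b52cef4d7841db14224c107422cb174301b173308f34d358338d35b9075c4f4cf841cc8afc4fcb80cec0d75c4f88f0c500bfa41d107222bf13d33e730f3557313324f13c314b2e63531073c4e8a5cc4e4af8cce4d5cc4dca4cc4e0b5741c48ab41cb12f2e8107022ab13226a31302baf13123971352921071c4acac7c4b0c8541bc8aac4a4a91c4a8c53cd70d6441c31c2345712823bd06e227f126321f1272dcb28934f506fc490994c474c65c478c2cc48c90141b4899c470beb41bb2e735371252833344357b3d935fb11b335d06c225506d41ac894c45c91bc464b26c460ae1c97cbdec468b5441b106a224f1132c2f308354f114334f1152ba3116249906bcab4d41cabcb5241a4891c440b56c444ae2c448c8b41ab109233b10a309f1082def10b3009068221f10c32d1069c9acd35c41cb32cd2cd60ca9ca99419c886c418cb041a31032c7d06622033253563205318f10430af1052cbd067c404bfec408a32419487fc3f8b21c3fcb1ec400aa1419b21534970fd254906421fb0fa2c7f0fb24ff0fc29d9065c3d4c55418c872c3e4aa9c3d895ec3dcaa5c3e0ab441930ee2d8506221c338135b30ef305f0f032d70f12ea5063c3a8c92418486ec560cffc3acb7ac3b48adc3b0c0e418b22f30370e730930e8317106021b715d2ab30e92de9061c394986417c86cc714d16c3989dbcca0d58c7b8d1d41830e32dc30e032a30e22c6905e21ab0e426e30e12fd105fc37cc12c91cd2ec374cc0ce20d6dc3788b74174869417b0db2f630d82de30da338505c21930dc284f0d92afd05dc344a5ec348bd2416c864c368ce2c338bf8c33ccc041730cc23cb0cd2e032d8352b0cb27f505a21930ca318505b)))) (.node (.node (.leaf (nat_lit 0x8cb05c28c10470633876e228479a4e542fe0c3c1010c408a01e66f0a11fd572105489e1e6030e04053950bfc30f867868822707974e501b20c34100226c79622687950c3830c03fd3920b2561714c139307808991e515e213dc30d4e442fa0c2c0fe2260793225c792225879122547900c3030a03f93910bed8761c998750b188941e3c8931e3830b224878d224478c0c240fd4e3c2aa4e401e258685350c2ab6319a088f1e2c88e1e2888d1e2430803f538e0a8830982903404e302e14e342f60c1c0fc2230788222c7870c2088a1e188891e1430603f138d0bdd38a078538b0bb030751f83e4618871362c07594e202df4e242f40c140fc0c188881e108871e0d8d21dc08861e0830403f13890bd43054e1c2f20c0c0fb80044df55044952210781220c7800c1030203ed3870bcc8821dfc8811dfaa06173087f1df43034e182f00c040fa4e9430c21f877c4e6830621f477b0c0830003e93860bc487c1de96280e4487b1de487a1de030121e477721e0776635077161d07250bfc0fa4e140ff0c013840bb42fe03e5e5e1271e5d1829e6112cc8751dd42ff0bf40f94e102ee21d0774584039921cc77321c87720bf962414fc8711dc53830bac2fc03e538b0bd937f07842fd21c077063c474b0bec0f94e0c2ec583452a4df81de0bf086e1dbc86d1db886c1db54ad105937d0ba42fa03e02fb21ac76ca400571630076021a476b0be40f84df42ea0be937c05a82f803dc8681da88671da48661da08651d9c2f9219076660346d155c04b94ddc1b10bdc0f74dd80fe0be02f503d977609bc8631d9576f198210a1b008611d902f64dd02e40bd00f52180763217c7629060749905c7500bd42f303d53740b95e900621e8f114485b1d85e9110a82f4216476055cc4b94dcc2e20bc80f58fc46128fbc23e0bcde6917f88551d7c2f103d53730b8c8541d7a3d11ae42f24e302f782943404dc82e00bc00f45cd82485cd462a0bc48511d748501d702ef03d13720b85371084957b13042f0)) (.leaf (nat_lit 0x9e649aaa124b21387c5659e3881c9e3cae49e4082138827861958e1e158e78a249a787159e78824a678924e4e1fb244bf79e08abf9e10afc38745619e148d39e0c68338790f435d6df83130e1c15867842bf677b232277a2be4e1d9dd8afa386c5609de4975c840d249ddc6c19de0ac83870e1a15827762bee7751b76a772dfa77420630513318e1b9da8a089dac7b9386055e9da47809de8afc9db08c8386713933df13b29728b72cda7662bba76e2100e171578e18c924d2fa524a8ca528a79a520a8d384855ca51c62c384ec922346dfd204ac942fe302832f8e0e156e9562184e0f9d886e4b5d4c309d4c9589d506c19d48af4383455a383ac762fd6dcb310a75129ce7552290e0c156a7522bd4e0d9d3c8ac382c5599e00abd9d40560cab0d41b234bf6383274e237a74d27aa7451c2a74721467462bc4e0a155ce0bb704a2dbcf8c999cfca8eb700c4038245579d18af2382b0863346f5a223eff932eaf5b3240e07155acd517cce089cec780a2f0b379ce09f438145539ce86659cf06b5381b343357b11f30b27662be28b92cdaafa2a90e03154ce04b5b0701b5b48269cbcad1c150cc738045509cb8a35380b24f34c3333356e72c1b08e00153e72d1bc6db030f0e01c4b4c28c1d8913c4c0cf6c4cc9a89d0c82c37fc54f38028432c7a7291bd68402c7683f248cdfc153683d248cdfdb7b4c4ab124be937ec54c9c985809c9c9c99ca067f37f27241714dfa152e7f02c3a72515c278c249b11533c0dfbc27ccd89c8c84837e454a9c6c6f99c706bc9c74a1137eac3726eb28734f670d1accdf8152670f1d0270c1ad0df99e3479b9fc4b0e9c24ae437d0547bec8cac9e6cb0137d670821deb3b2e9cdf3151e7092b96703208678f2bfcdf4ce94d73bc4cc6e9c08ae237c4545c738d17bc409fe37cb1cf31c71d0317cdf015167022b8ef0c322f11133bcdf1bc5080cbc48bd3c460cf1bc44b26bc3889037bc54537c31bc263726734d27001e44ded1512fd61fd6fd232c8dee))) (.node (.leaf (nat_lit 0x1f542b4613070081c83dd81c442181c07b081bc9241f58fa230fa9231f987d40ad18491bc6074103207525607d592645e298f0a921f482b38a9c4fc6838834af38bd01f4ec962fe6791207a08a200608c20847d00ace28f15187d1a02860ea0244f46114574a018b1361186fa1f3c2b21f423fb1e3aaf019b9aba222daee22a47ce0ac98461bec7cf1f342b1610c4079c6cae78aac54a984ca849848a861f3a0830d058421b798410ae58591c307cc0ac184010a47cd83283dd84c05ab60fc6f61f2c2af83207a6831c4941f320c627e4fa130f47ca0abd83f1bdd83e16560c40c307cb9ca4aeaa114b1e83046bb93b454d1f202af830c30d1f261381c521370afa0d2167213316c183c1bcc7c70ab87c8a358b3c9b44a8060ec59e84b85ab1f182ae60f06f41f1d8391bc47c50ab58521c1583a0addcaa25eda0620c87c61f102ad60e46f261246fe60e02b43e80c3c9cb4aec1f166282a26c272f89833101e1091d907c30ab58351afc7c4caa4a99caa051b3e74c3bb68cb7160b86ee1ef02aa1ef6ba82876ba712c0f9b30e8f9a30e47bb0aa982e1bbc7bc60b46ec1ee82a98de09d18dd87d08de44f88ddc7e61eec7b90aa582d1bb6d4330923751b14f9930e2a6f228c7ba85a481f3e60c3760b06ea1ee02a9ac44b9e60ac6e71ee64df2034f9730d87b70aa582c1bae37426d9ecd196c7b8adb8bb03e58c351ed82a860a441a67d88263e54c341edd84f1c0dcc426118281b9c7b50a9ed822670f9430cc7b63e4cc32a05c9b31ed02a760a06e860ac6ebac48b9e1ed4f9230c697428d184d1c05cc126098271b947b30a9c7b4ac5435dac5083a67e435267e08191ec82a7609c6e61eccf9130c27622bd58231b8c7af0a9654f291668d2af87b094e0a3b85b04ca1eb82a5608c6e463d478a9a28abc1ebd9a91f926702ab98fa14da6a22b218f714c07ad0a947ae89e07cd8504389850097284fc42060806e01ea42a41ea8f9030bcf8f30bab692ea6b1b2e847a80a918201b847a9)) (.leaf (nat_lit 0))))) (.node (.node (.node (.leaf (nat_lit 0x177c57d177857c177457b177057a08140a64abc20008192ae054020402945db15e54590f0c5da15e05d915dc2051760576175c575080c0a54aa41484aac14c4aa810708112a807ec202029163a15593cc0cc963515445d615d020308040a44aa01fc4f3c3354f2832f4f1c32c175457308095d513a85d415c92a607e41ff028c5d315c45d215c0200174456f174056e07f80a34a981fa56c84ce868c21f07fc5ce15b45cd15b1faf13645cc15ad2a507dc1fd028c1fe172c56a17285695a0854b172056807f00a34a941f807f557913012a306d12a407d41fb028a706151c5c6159c1fc1714566171056507e80a24a901f656b84cd56c03bd07ec5c3159219709f85c1158c5c015881f8028937a04001f94a8010f4f0c3294a7c1f207dc0a116fc56116f856007e05bd157c5bc15781f6028529f07cd5bc134c5bb15741f716e855c16e455b4a7810d4ef83234a741f007d40a107d965c0f805b715685b615645b515601f4028529d07c41f516d055716cc5564a701ee07cc0a016c855516c455407d05b0154d5cf08401f2028129c07bd5cc13995ce13181f316bc552595c35a59443a116b05514a6c1ec07c40a007c85ab15405aa153d64e04f564f05c41f0028129b07b41f1169c54e169854d4a681d907bc09e169454c169054b07c05a315285a215255f313ec5a1152129907a41ee02781ef8a4833c167c54757c850b167854607b409e4a641ea07b859d151459c151059b150c59a1509298079c1ec02741ed16645411660540165c53f165853e07ac09d4a601e807b160f14a859514f529705dc1ea02714280e3d29604dc1eb4a541e407a409b57dc510165053c978c334164c53b07a81e8026d295079543c0e8859214e943705c54b910801e916445391640538079c09b4a5013b64f03147a9448b07a058d14dc58c14d929307841e6026858b14d53900be41e716285341624533079409a4a4c1e24dfc2ec4e282f6079858814c858714c53930bf058614c138103ec1e402681e5)) (.leaf (nat_lit 0x9b886acb438c1b9ac8aa1777c6bea4a89983304493330b0b12d1f0b232b6ab82248cbd1242f102b8f1cd345ccbec504a794324d4bc32cce04320d4aaac88ef32ec49032f1dd41281dd52239dd31251f811e8ccb4123a2c3181ccb5a214a9aa21051c32c048ca2005a79728a759b18ace32c50c73526f2e3255dc21261e5a1834ca91229dc41268caab6ccc3d83186f69720a759b0c50ab1f873a3298489329ddbe27dcca412224901b3e21119de48f1b5648e1aa8ca5328c48876f89f89a5c533931c4ae9a70ac4ba88c753292add25969e41f769e32826a162d9ddbd27d4ca21220ca3bfd8cb89d30902a774b5fa894b6b328448876f49f63289dba27ccc9b1216739154e7382bbeaee19bac422f9cc9c326848576e89f492547f492506a9b344b83b330c01326e85b2c96359162aa532ddf28634d1db222c0c971210c989550a4795544d676c49f032584839bb45409bb0ad6325d0c635228972cc4c95120ddb127c5dad2766b2e2d08c96c564cff4314d4776bc8f39684a6076b09ee32504833256b2d16b6b2c1c09dae1efaf813284c93120ddac27bcc94c778d1a8e248f98e1c8c78e2091576ac9ec3248482324e936259264d2a7290d2d0e9112a68c911209dab27b4c92bc0479e3240481b2b0796b2a8696c190cccb2aca2a324674d2bc9da2237af2c3255da12431da027a4c8d1200c8eb078789bba0c87767c9d7ac14b9a323048076809ea3236c1c1880c8811f72bd301d0c435190c335172c1340cc89c2f4ba2c2f0612321847d76709d8b060be1b12cbe9321efb42ac72322ebaf33325afb132b1d9b2794c8511f0c86c838d2493cc94c93d49aec9ecd3b321047c766c9e632150c135110c0350e97720a30653331d97278cc8111ecc82b898c57ab40b938ce45e8a5e0b0d320047b765c9e43205d952069d961970c7f11e9d93124dd9423ca930266cc80c760d19ab58966aabcb8caab460031f847a764848d31fe4a819767f52c32c5b2fb5d8e2751d8f277cc7d11e4c7e))) (.node (.leaf (nat_lit 0x19e02365c1c6005d5464a5c182583b70b93a170b2619e5e6a1d7de690b89e88130e43924a970517f467708d86783b6cb923b68b917a1c6547a245d719d82365c145fe19dd7d21aa17c50a12a902e197c41a7c67508d570408ec6765c0c5fa19d0234afd07833b60b90af7c814af7834819d467308d170317eced62e3eac22178ed52e38ed42e346747a844477a809a45c085f819c8234aad88923b4cb8c19ceabe0efaabd23c467108d170217e5754192570109606725c005f619c0233aa7c6913b40b8b3b3cb8a3b38b8919c466f08cd70017dcecd2e22a8e1d06a9b1890ecc2e1c6707a186543b2cb865bfc5f419b82337a144637a109a219befe62a4de9e17b466d08cd6ff17d6a8d1d0ceca2e1466e5bf85f219b02323b24b843b20b83b354af0b35055619b466b08c96fe17cea4a2dd6a49271e86d117e86c0a2866c75687b53b18b825bf45f019a823283982825bf05ec19aea4b2a3cec52e0466908c96fd17c599c1fcd6f80cc466a5bdc5ee19a02316d583b06d548d36d4c8d93b10b8019a466708c56f717bcec32dfe0ed2838ec22dfa9642d246687a785f4bf9ca9319982315bd85db83ac27083a8682199cec02df4ebf2df066508c16f516756fc17c60e40a086669ae0a7f5bc85cb5be8331198c22f667c7f73af8b7b1992e161df4ebc2dea9e92d856f017296f117a466108bc6623aecb79c610a97839c69c83a06a8198022f5bc45ea19856ef179c65f08ba9792c36339278e97a1b74eb92de0660197822e5bbc5e8a638b535bb85b9a8dcb70a62cb51197ef7e2328eb72ddc65d08b96ec17696ed170e33a25d865e8f3493d8f303f95bac5e4197022d8dac8458da836419767d5212e445270465b08b56eb1796365215a3620dbc65ca940a5aa93cb5091e89563ad8b765ba85e2196822d196e63d2a4a4991bf636011ba35f274865908b56ea178c65a79f477395a8a5464b8311196022c742c9a13ad4b7519668652ca6e75214a6f52b64eb32dd16e8177c65608b0657)) (.leaf (nat_lit 0)))) (.node (.node (.leaf (nat_lit 0x52583fe10941626ff092b2cfc9486fe49282cf8947109842405894960ffd5d813b156d0718b3d2518b3c25144257d301b17d404ba5ac05a690d0929108c16252543e410914940fec4220584b38251157612f4b37250cb362508423108416152503fc52dc41d524c16e2cd49412cd09401088b3324fcb3224f9f15058df1410014920fe442005844218f305e52cbc93d644c7a42cb893c107c16152483fa1081f0b068841e0581f12100df110591f0f1905f0e095041f52403f6107015f7f909317f8c3ef2c9893b72086c6107441b057d4900fdcb2424e9f402421f4205a9f4105c041c2c809398e7c803523c3f4106815f2c7893855d44bd106cb1d24de4a11710419057d48f0fd54b6107148e05b841a52343f2106015e625870d9f2c85b8f5066d626072a1064417057948d0fce7d8212e7d70da0b1824d8b1724d441864487a4522c30252303f0105815e8e4c9122c54934105cb1424ce39b1174415057948c0fc4b1224ca3a1201041652283ee105015d7f8c3f72c3c9317f809097f7c40b1054413057548a0fbe3340882335171e3271a26329158c41453744435360181104815d521419060646dc52182a1104d4840fac411057149f1020b0824c149a100dfc01608412104015c52103ec2c1892f2c1492e7fb44dc7fb01c11045f05109df0405d14830d1040f056d9ce2044b0024b44102bf892c89204af7fec4e17ff81c2103415b7be8296103a03e206caf924ad4880a8440c056a04e0f3a04b241840d2bd892a2bd49296fdc43a2bd092852003e6102815a102e03a236a039230e0350f4a03823e440905694800f9c40a51fc30710201597df488c64407a27dec8807de838810258601c4d47e0bd547d0f8c40705654950ff547905884082bb49272bb0926101815951f43e451d830351d4160101d47406d44050560aeb249573718a9fee13ce1d321e840681806d7817c29e6e288fc2b9892451cc3e01010157101565d156965c07c1ae422821941a60403055d4730f84404)) (.leaf (nat_lit 0xb96482fb314805c7b4d1db95cc4bb310bd93d646993d6acb528cb10133aecb423f6cb62f20f581a62cb329b4f59b2c86d9b590c2dbbf4c8ab2a098eb2a4a2c3d5c6963d633b2343738c35a4f561a52ca7269f3b735def183230f57b2807b8b284a6eb27cbd1b288a713d54693b27888b3d58f541a4ac9c2d22df5236ec9d291b14033e6eec23c0f55b26481eb2586fcb26097f3d4c68eb2686ccb25cb4f3d52c9326f0f511a2f02932fac942bdb0d033030ce3384f52b240abfb244afd3d4068bb238bf6b23c809bed4cad3d44f4f1a26c8b211ac8e2fdec8c1a2ec8d2bcf2ab3504f50b728c42b1d8af4b1d4737b1dcb653d38687b1e87393d3ec722b6ac7324f0f4d1a16c7026ff0e13392c7126e0f4e3d30683b1b0b98b1bca0ab1b468db1b8b6bc780d1a3d36c6b2fc4f4b1a0b0002dcefff2e06ffe2b2effd1e80f4c3d28682b1acbf2cd94d66c694cddbfeccbacc54c933d2f1a32b4f1a22e0cf491a0ac692e0b04e2372c6a1a34f4a3d2067fb190968b19cbe3b1949c2b19881eb1a06863d26c632f82c5c1fc6c5d25e8f4719f2c6221fac5e26b0f48b16480eb168bd5b1609d4b16c9e03d1867cb15c88e3d1ec562da30202aa6c552e72d31307cf4519e6c5421a0f46b13c9c03d10678b144736b140740c470cf3b1488993d16fcc2350f4319cac4e2ef6c4d2f87239302f2c53518f44b124ae9b7b8c4ab120be83d04670b12c9e7b128be13d0ac47273729a3500f4019c2c482fa6c462f7efc732c4f41b110979b1148343cfc66cb10470bb1089f4b10c66e3d00f3e19aec3e28d6c401f0ec3f2b071d334632fa3540f3fb0d0871b0d4bdcc220cd2c0d48303cf066ab0ccbe23cf6c2f23e8f3b199ac311d7eda92356c302812dac2380f3cb0b886bb0b487bb0ac9c2b19cbefb0b068f3ce86643ceec271bc2c242a26c2626e8f391986c332f96c2519a8f3a3ce0660b058a78b134beab05cbbdb128be9b0609e73ce6c101fc6c632fbac0f1d86d013060f37196ac131db0f38))) (.node (.leaf (nat_lit 0xb8685cab864b62701081340c4cbb66cc7fe24f833b24fe2bc1fbe1da1fa9c0324b5cf3264c93d0ced9b31ffc93e66c83956b4889966c47fc24ec337bba8c87b7cc8db24f2f36325e3071e6893a0cdd9b11ff59b0132e53928f093ba1e459ba320b3966bc3946b2489566b87fa24e433724eadf123dadf00f021ba135654d29109380cdd9ae1fec93989b839689b489b24dc33666ac37466b04ca66b434b24e1cb925f5b1611399a21409b1b11589350cd59a11f68936a010b1340c0cba66807f624c4333a98cb7b667c5eb24cacd922f502f32e49300ccd9a01fde5ce1fa199e1fc493166747f424bc332bf40c3e40b8cb8bf3ccb2bf58ae024c092e0cc999d1fd63bb1aa649527ce10f116210e26e492f40b4cb740b0cb6b32cc01a1a8b2a24b433166705f024ba8c01c8e2801c3d99b1fc492c0cc22ae0e422ad223092db170beeb040be024ac330666c7f266787f697407e824b228a16fa2891236a002d9a28817399991fbc92a0cc092b8aec7ea8af07fe8ac08858ac498a24a433066647f024aab4f188ab582ebc9250cba5fd18ce5d714466231d9492697dc46b97d848086cc50697c8a7b66487ec249032e249502b32d6a94220e5d629e2a932e1c9230cb99921fb4924a088b17664057966447ea248832d87605168764a0b248e1da1ffa2bb1fbc9210cb59911fae6292a268072c4c92240a8cb440a4cb3876c60e877069e247c32da0687c6248198d1f9c91e0caef4b326e5cd29de5d01fc65ce1fd891f247432b66347e8bf64bac99e0ab5c8d0c0ca978a30247a9231bfadb630f99891f3c91a0caa3771bb59a813e091bbf54793bf50a2bb6bcc3c409ccb266207e4246432a246a66f2ab99a91b89d3726e2ed832089180ca99881f949199b5c922bd90c9d661c7d8245c329979c5049798a782462ae32712ae42a6eae01052adf180d9861f849160ca4917ab888454098cb1bb00c7bab84962245432966187e22459cb31cac9140ca24d6262691c23e24d510be4d42604915)) (.leaf (nat_lit 0)))))))))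
noncomputable def c4T (p : Nat) : Nat := row c4Tt (nat_lit 5) (nat_lit 31) (nat_lit 182) (nat_lit 6129982163463555433433388108601236734474956488734408703) p
noncomputable def c4C : Cert := ⟨(nat_lit 13283), c4F, c4P, c4R, (nat_lit 3456), [32, 33, 36, 37, 48, 49], fun c => Nat.land (c4T c) (nat_lit 16383),
  fun k c => fld (c4T c) (Nat.add (nat_lit 14) (Nat.mul (nat_lit 28) k)) (nat_lit 16383), fun k c => fld (c4T c) (Nat.add (nat_lit 28) (Nat.mul (nat_lit 28) k)) (nat_lit 16383)⟩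
theorem c4k : c4C.full 8 6 rl3 [[37, 32]] = true := by decide +kernel
theorem realizeEqns_J4p_D2 : True := by
  have := @CA.J4p.c4P1010111.eq_1
  have := @CA.J4p.c4P1010111.eq_def
  have := @CA.J4p.c4P1010111.congr_simp
  have := @CA.J4p.c4P0111001.eq_1
  have := @CA.J4p.c4P0111001.eq_def
  have := @CA.J4p.c4P0111001.congr_simp
  have := @CA.J4p.c4P0010000.eq_1
  have := @CA.J4p.c4P0010000.eq_def
  have := @CA.J4p.c4P0010000.congr_simp
  have := @CA.J4p.c4P011110.eq_1
  have := @CA.J4p.c4P011110.eq_def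
  have := @CA.J4p.c4P011110.congr_simp
  have := @CA.J4p.c4P1010000.eq_1
  have := @CA.J4p.c4P1010000.eq_def
  have := @CA.J4p.c4P1010000.congr_simp
  have := @CA.J4p.c4P0001001.eq_1
  have := @CA.J4p.c4P0001001.eq_def
  have := @CA.J4p.c4P0001001.congr_simp
  have := @CA.J4p.c4P1000011.eq_1
  have := @CA.J4p.c4P1000011.eq_def
  have := @CA.J4p.c4P1000011.congr_simp
  have := @CA.J4p.c4P0011010.eq_1
  have := @CA.J4p.c4P0011010.eq_def
  have := @CA.J4p.c4P0011010.congr_simp
  have := @CA.J4p.c4P1101.eq_1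
  have := @CA.J4p.c4P1101.eq_def
  have := @CA.J4p.c4P1101.congr_simp
  have := @CA.J4p.c4P001011.eq_1
  have := @CA.J4p.c4P001011.eq_def
  have := @CA.J4p.c4P001011.congr_simp
  have := @CA.J4p.c4P1.eq_1
  have := @CA.J4p.c4P1.eq_def
  have := @CA.J4p.c4P1.congr_simp
  have := @CA.J4p.c4P11010.eq_1
  have := @CA.J4p.c4P11010.eq_def
  have := @CA.J4p.c4P11010.congr_simp
  have := @CA.J4p.c4P0001.eq_1
  have := @CA.J4p.c4P0001.eq_def
  have := @CA.J4p.c4P0001.congr_simp
  have := @CA.J4p.c4P1011110.eq_1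
  have := @CA.J4p.c4P1011110.eq_def
  have := @CA.J4p.c4P1011110.congr_simp
  have := @CA.J4p.c4P0001011.eq_1
  have := @CA.J4p.c4P0001011.eq_def
  have := @CA.J4p.c4P0001011.congr_simp
  have := @CA.J4p.c4P100000.eq_1
  have := @CA.J4p.c4P100000.eq_def
  have := @CA.J4p.c4P100000.congr_simp
  have := @CA.J4p.c4P001001.eq_1
  have := @CA.J4p.c4P001001.eq_def
  have := @CA.J4p.c4P001001.congr_simp
  have := @CA.J4p.c4P001110.eq_1
  have := @CA.J4p.c4P001110.eq_def
  have := @CA.J4p.c4P001110.congr_simp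
  have := @CA.J4p.c4P110000.eq_1
  have := @CA.J4p.c4P110000.eq_def
  have := @CA.J4p.c4P110000.congr_simp
  have := @CA.J4p.c4P1000101.eq_1
  have := @CA.J4p.c4P1000101.eq_def
  have := @CA.J4p.c4P1000101.congr_simp
  have := @CA.J4p.c4P1110101.eq_1
  have := @CA.J4p.c4P1110101.eq_def
  have := @CA.J4p.c4P1110101.congr_simp
  have := @CA.J4p.c4P000111.eq_1
  have := @CA.J4p.c4P000111.eq_def
  have := @CA.J4p.c4P000111.congr_simp
  have := @CA.J4p.c4P0010011.eq_1
  have := @CA.J4p.c4P0010011.eq_def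
  have := @CA.J4p.c4P0010011.congr_simp
  have := @CA.J4p.c4P0010111.eq_1
  have := @CA.J4p.c4P0010111.eq_def
  have := @CA.J4p.c4P0010111.congr_simp
  have := @CA.J4p.c4P1111100.eq_1
  have := @CA.J4p.c4P1111100.eq_def
  have := @CA.J4p.c4P1111100.congr_simp
  have := @CA.J4p.c4P110110.eq_1
  have := @CA.J4p.c4P110110.eq_def
  have := @CA.J4p.c4P110110.congr_simp
  have := @CA.J4p.c4P001.eq_1
  have := @CA.J4p.c4P001.eq_def
  have := @CA.J4p.c4P001.congr_simp
  have := @CA.J4p.c4P0100100.eq_1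
  have := @CA.J4p.c4P0100100.eq_def
  have := @CA.J4p.c4P0100100.congr_simp
  have := @CA.J4p.c4P0001111.eq_1
  have := @CA.J4p.c4P0001111.eq_def
  have := @CA.J4p.c4P0001111.congr_simp
  have := @CA.J4p.c4P00001.eq_1
  have := @CA.J4p.c4P00001.eq_def
  have := @CA.J4p.c4P00001.congr_simp
  have := @CA.J4p.c4P0000111.eq_1
  have := @CA.J4p.c4P0000111.eq_def
  have := @CA.J4p.c4P0000111.congr_simp
  have := @CA.J4p.c4P111110.eq_1
  have := @CA.J4p.c4P111110.eq_def
  have := @CA.J4p.c4P111110.congr_simp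
  have := @CA.J4p.c4P1010010.eq_1
  have := @CA.J4p.c4P1010010.eq_def
  have := @CA.J4p.c4P1010010.congr_simp
  have := @CA.J4p.c4P0111110.eq_1
  have := @CA.J4p.c4P0111110.eq_def
  have := @CA.J4p.c4P0111110.congr_simp
  have := @CA.J4p.c4P000101.eq_1
  have := @CA.J4p.c4P000101.eq_def
  have := @CA.J4p.c4P000101.congr_simp
  have := @CA.J4p.c4P0000110.eq_1
  have := @CA.J4p.c4P0000110.eq_def
  have := @CA.J4p.c4P0000110.congr_simp
  have := @CA.J4p.c4P0110100.eq_1
  have := @CA.J4p.c4P0110100.eq_def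
  have := @CA.J4p.c4P0110100.congr_simp
  have := @CA.J4p.c4P0110101.eq_1
  have := @CA.J4p.c4P0110101.eq_def
  have := @CA.J4p.c4P0110101.congr_simp
  have := @CA.J4p.c4P1010.eq_1
  have := @CA.J4p.c4P1010.eq_def
  have := @CA.J4p.c4P1010.congr_simp
  have := @CA.J4p.c4P1111.eq_1
  have := @CA.J4p.c4P1111.eq_def
  have := @CA.J4p.c4P1111.congr_simp
  have := @CA.J4p.c4P100010.eq_1
  have := @CA.J4p.c4P100010.eq_def
  have := @CA.J4p.c4P100010.congr_simp
  have := @CA.J4p.c4P0.eq_1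
  have := @CA.J4p.c4P0.eq_def
  have := @CA.J4p.c4P0.congr_simp
  have := @CA.J4p.c4P110010.eq_1
  have := @CA.J4p.c4P110010.eq_def
  have := @CA.J4p.c4P110010.congr_simp
  have := @CA.J4p.c4P1111101.eq_1
  have := @CA.J4p.c4P1111101.eq_def
  have := @CA.J4p.c4P1111101.congr_simp
  have := @CA.J4p.c4P0110111.eq_1
  have := @CA.J4p.c4P0110111.eq_def
  have := @CA.J4p.c4P0110111.congr_simp
  have := @CA.J4p.c4P101101.eq_1
  have := @CA.J4p.c4P101101.eq_def
  have := @CA.J4p.c4P101101.congr_simp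
  have := @CA.J4p.c4P1110001.eq_1
  have := @CA.J4p.c4P1110001.eq_def
  have := @CA.J4p.c4P1110001.congr_simp
  have := @CA.J4p.c4P1111011.eq_1
  have := @CA.J4p.c4P1111011.eq_def
  have := @CA.J4p.c4P1111011.congr_simp
  have := @CA.J4p.c4P101111.eq_1
  have := @CA.J4p.c4P101111.eq_def
  have := @CA.J4p.c4P101111.congr_simp
  have := @CA.J4p.c4P100001.eq_1
  have := @CA.J4p.c4P100001.eq_def
  have := @CA.J4p.c4P100001.congr_simp
  have := @CA.J4p.c4P1010100.eq_1
  have := @CA.J4p.c4P1010100.eq_def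
  have := @CA.J4p.c4P1010100.congr_simp
  have := @CA.J4p.c4P10011.eq_1
  have := @CA.J4p.c4P10011.eq_def
  have := @CA.J4p.c4P10011.congr_simp
  have := @CA.J4p.c4P0111111.eq_1
  have := @CA.J4p.c4P0111111.eq_def
  have := @CA.J4p.c4P0111111.congr_simp
  have := @CA.J4p.c4P1000010.eq_1
  have := @CA.J4p.c4P1000010.eq_def
  have := @CA.J4p.c4P1000010.congr_simp
  have := @CA.J4p.c4P011000.eq_1
  have := @CA.J4p.c4P011000.eq_def
  have := @CA.J4p.c4P011000.congr_simp
  have := @CA.J4p.c4P0111101.eq_1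
  have := @CA.J4p.c4P0111101.eq_def
  have := @CA.J4p.c4P0111101.congr_simp
  have := @CA.J4p.c4P010100.eq_1
  have := @CA.J4p.c4P010100.eq_def
  have := @CA.J4p.c4P010100.congr_simp
  have := @CA.J4p.c4P011.eq_1
  have := @CA.J4p.c4P011.eq_def
  have := @CA.J4p.c4P011.congr_simp
  have := @CA.J4p.c4P1100010.eq_1
  have := @CA.J4p.c4P1100010.eq_def
  have := @CA.J4p.c4P1100010.congr_simp
  have := @CA.J4p.c4P01101.eq_1
  have := @CA.J4p.c4P01101.eq_def
  have := @CA.J4p.c4P01101.congr_simp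
  have := @CA.J4p.c4P1111010.eq_1
  have := @CA.J4p.c4P1111010.eq_def
  have := @CA.J4p.c4P1111010.congr_simp
  have := @CA.J4p.c4P01111.eq_1
  have := @CA.J4p.c4P01111.eq_def
  have := @CA.J4p.c4P01111.congr_simp
  have := @CA.J4p.c4P01.eq_1
  have := @CA.J4p.c4P01.eq_def
  have := @CA.J4p.c4P01.congr_simp
  have := @CA.J4p.c4P100100.eq_1
  have := @CA.J4p.c4P100100.eq_def
  have := @CA.J4p.c4P100100.congr_simp
  have := @CA.J4p.c4P010111.eq_1
  have := @CA.J4p.c4P010111.eq_def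
  have := @CA.J4p.c4P010111.congr_simp
  have := @CA.J4p.c4P0111010.eq_1
  have := @CA.J4p.c4P0111010.eq_def
  have := @CA.J4p.c4P0111010.congr_simp
  have := @CA.J4p.c4P000001.eq_1
  have := @CA.J4p.c4P000001.eq_def
  have := @CA.J4p.c4P000001.congr_simp
  have := @CA.J4p.c4P0100101.eq_1
  have := @CA.J4p.c4P0100101.eq_def
  have := @CA.J4p.c4P0100101.congr_simp
  have := @CA.J4p.c4P000010.eq_1
  have := @CA.J4p.c4P000010.eq_def
  have := @CA.J4p.c4P000010.congr_simp
  have := @CA.J4p.c4P0000100.eq_1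
  have := @CA.J4p.c4P0000100.eq_def
  have := @CA.J4p.c4P0000100.congr_simp
  have := @CA.J4p.c4P101110.eq_1
  have := @CA.J4p.c4P101110.eq_def
  have := @CA.J4p.c4P101110.congr_simp
  have := @CA.J4p.c4P010000.eq_1
  have := @CA.J4p.c4P010000.eq_def
  have := @CA.J4p.c4P010000.congr_simp
  have := @CA.J4p.c4P001010.eq_1
  have := @CA.J4p.c4P001010.eq_def
  have := @CA.J4p.c4P001010.congr_simp
  have := @CA.J4p.c4P1111110.eq_1
  have := @CA.J4p.c4P1111110.eq_def
  have := @CA.J4p.c4P1111110.congr_simp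
  have := @CA.J4p.c4P101000.eq_1
  have := @CA.J4p.c4P101000.eq_def
  have := @CA.J4p.c4P101000.congr_simp
  have := @CA.J4p.c4P11.eq_1
  have := @CA.J4p.c4P11.eq_def
  have := @CA.J4p.c4P11.congr_simp
  have := @CA.J4p.c4P0001100.eq_1
  have := @CA.J4p.c4P0001100.eq_def
  have := @CA.J4p.c4P0001100.congr_simp
  have := @CA.J4p.c4P0010101.eq_1
  have := @CA.J4p.c4P0010101.eq_def
  have := @CA.J4p.c4P0010101.congr_simp
  have := @CA.J4p.c4P011100.eq_1
  have := @CA.J4p.c4P011100.eq_def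
  have := @CA.J4p.c4P011100.congr_simp
  have := @CA.J4p.c4P1100000.eq_1
  have := @CA.J4p.c4P1100000.eq_def
  have := @CA.J4p.c4P1100000.congr_simp
  have := @CA.J4p.c4P011101.eq_1
  have := @CA.J4p.c4P011101.eq_def
  have := @CA.J4p.c4P011101.congr_simp
  have := @CA.J4p.c4P0011110.eq_1
  have := @CA.J4p.c4P0011110.eq_def
  have := @CA.J4p.c4P0011110.congr_simp
  have := @CA.J4p.c4P1100101.eq_1
  have := @CA.J4p.c4P1100101.eq_def
  have := @CA.J4p.c4P1100101.congr_simp
  have := @CA.J4p.c4P11110.eq_1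
  have := @CA.J4p.c4P11110.eq_def
  have := @CA.J4p.c4P11110.congr_simp
  have := @CA.J4p.c4R.eq_1
  have := @CA.J4p.c4R.eq_def
  have := @CA.J4p.c4R.congr_simp
  have := @CA.J4p.c4P10010.eq_1
  have := @CA.J4p.c4P10010.eq_def
  have := @CA.J4p.c4P10010.congr_simp
  have := @CA.J4p.c4P110001.eq_1
  have := @CA.J4p.c4P110001.eq_def
  have := @CA.J4p.c4P110001.congr_simp
  have := @CA.J4p.c4P011001.eq_1
  have := @CA.J4p.c4P011001.eq_def
  have := @CA.J4p.c4P011001.congr_simp
  have := @CA.J4p.c4P1001100.eq_1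
  have := @CA.J4p.c4P1001100.eq_def
  have := @CA.J4p.c4P1001100.congr_simp
  have := @CA.J4p.c4P101100.eq_1
  have := @CA.J4p.c4P101100.eq_def
  have := @CA.J4p.c4P101100.congr_simp
  have := @CA.J4p.c4P101010.eq_1
  have := @CA.J4p.c4P101010.eq_def
  have := @CA.J4p.c4P101010.congr_simp
  have := @CA.J4p.c4P0010110.eq_1
  have := @CA.J4p.c4P0010110.eq_def
  have := @CA.J4p.c4P0010110.congr_simp
  have := @CA.J4p.c4P010011.eq_1
  have := @CA.J4p.c4P010011.eq_def
  have := @CA.J4p.c4P010011.congr_simp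
  have := @CA.J4p.c4P0000001.eq_1
  have := @CA.J4p.c4P0000001.eq_def
  have := @CA.J4p.c4P0000001.congr_simp
  have := @CA.J4p.c4P00110.eq_1
  have := @CA.J4p.c4P00110.eq_def
  have := @CA.J4p.c4P00110.congr_simp
  have := @CA.J4p.c4P1100100.eq_1
  have := @CA.J4p.c4P1100100.eq_def
  have := @CA.J4p.c4P1100100.congr_simp
  have := @CA.J4p.c4P1001110.eq_1
  have := @CA.J4p.c4P1001110.eq_def
  have := @CA.J4p.c4P1001110.congr_simp
  have := @CA.J4p.c4P1011.eq_1
  have := @CA.J4p.c4P1011.eq_def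
  have := @CA.J4p.c4P1011.congr_simp
  have := @CA.J4p.c4P111101.eq_1
  have := @CA.J4p.c4P111101.eq_def
  have := @CA.J4p.c4P111101.congr_simp
  have := @CA.J4p.c4P1011000.eq_1
  have := @CA.J4p.c4P1011000.eq_def
  have := @CA.J4p.c4P1011000.congr_simp
  have := @CA.J4p.c4P111000.eq_1
  have := @CA.J4p.c4P111000.eq_def
  have := @CA.J4p.c4P111000.congr_simp
  have := @CA.J4p.c4P1011001.eq_1
  have := @CA.J4p.c4P1011001.eq_def
  have := @CA.J4p.c4P1011001.congr_simp
  have := @CA.J4p.c4P1011100.eq_1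
  have := @CA.J4p.c4P1011100.eq_def
  have := @CA.J4p.c4P1011100.congr_simp
  have := @CA.J4p.c4P010010.eq_1
  have := @CA.J4p.c4P010010.eq_def
  have := @CA.J4p.c4P010010.congr_simp
  have := @CA.J4p.c4P101001.eq_1
  have := @CA.J4p.c4P101001.eq_def
  have := @CA.J4p.c4P101001.congr_simp
  have := @CA.J4p.c4P0110010.eq_1
  have := @CA.J4p.c4P0110010.eq_def
  have := @CA.J4p.c4P0110010.congr_simp
  have := @CA.J4p.c4P0000010.eq_1
  have := @CA.J4p.c4P0000010.eq_def
  have := @CA.J4p.c4P0000010.congr_simp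
  have := @CA.J4p.c4P1001000.eq_1
  have := @CA.J4p.c4P1001000.eq_def
  have := @CA.J4p.c4P1001000.congr_simp
  have := @CA.J4p.c4P11011.eq_1
  have := @CA.J4p.c4P11011.eq_def
  have := @CA.J4p.c4P11011.congr_simp
  have := @CA.J4p.c4P110.eq_1
  have := @CA.J4p.c4P110.eq_def
  have := @CA.J4p.c4P110.congr_simp
  have := @CA.J4p.c4P101.eq_1
  have := @CA.J4p.c4P101.eq_def
  have := @CA.J4p.c4P101.congr_simp
  have := @CA.J4p.c4P1110110.eq_1
  have := @CA.J4p.c4P1110110.eq_def
  have := @CA.J4p.c4P1110110.congr_simp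
  have := @CA.J4p.c4P0101110.eq_1
  have := @CA.J4p.c4P0101110.eq_def
  have := @CA.J4p.c4P0101110.congr_simp
  have := @CA.J4p.c4P0101011.eq_1
  have := @CA.J4p.c4P0101011.eq_def
  have := @CA.J4p.c4P0101011.congr_simp
  have := @CA.J4p.c4P10001.eq_1
  have := @CA.J4p.c4P10001.eq_def
  have := @CA.J4p.c4P10001.congr_simp
  have := @CA.J4p.c4P10000.eq_1
  have := @CA.J4p.c4P10000.eq_def
  have := @CA.J4p.c4P10000.congr_simp
  have := @CA.J4p.c4P110011.eq_1
  have := @CA.J4p.c4P110011.eq_def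
  have := @CA.J4p.c4P110011.congr_simp
  have := @CA.J4p.c4P1100110.eq_1
  have := @CA.J4p.c4P1100110.eq_def
  have := @CA.J4p.c4P1100110.congr_simp
  have := @CA.J4p.c4P0110011.eq_1
  have := @CA.J4p.c4P0110011.eq_def
  have := @CA.J4p.c4P0110011.congr_simp
  have := @CA.J4p.c4P000110.eq_1
  have := @CA.J4p.c4P000110.eq_def
  have := @CA.J4p.c4P000110.congr_simp
  have := @CA.J4p.c4F.eq_1
  have := @CA.J4p.c4F.eq_def
  have := @CA.J4p.c4F.congr_simp
  have := @CA.J4p.c4P0011011.eq_1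
  have := @CA.J4p.c4P0011011.eq_def
  have := @CA.J4p.c4P0011011.congr_simp
  have := @CA.J4p.c4P100110.eq_1
  have := @CA.J4p.c4P100110.eq_def
  have := @CA.J4p.c4P100110.congr_simp
  have := @CA.J4p.c4P11101.eq_1
  have := @CA.J4p.c4P11101.eq_def
  have := @CA.J4p.c4P11101.congr_simp
  have := @CA.J4p.c4P0010100.eq_1
  have := @CA.J4p.c4P0010100.eq_def
  have := @CA.J4p.c4P0010100.congr_simp
  have := @CA.J4p.c4P00100.eq_1
  have := @CA.J4p.c4P00100.eq_def
  have := @CA.J4p.c4P00100.congr_simp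
  have := @CA.J4p.c4P00000.eq_1
  have := @CA.J4p.c4P00000.eq_def
  have := @CA.J4p.c4P00000.congr_simp
  have := @CA.J4p.c4P0010.eq_1
  have := @CA.J4p.c4P0010.eq_def
  have := @CA.J4p.c4P0010.congr_simp
  have := @CA.J4p.c4P011010.eq_1
  have := @CA.J4p.c4P011010.eq_def
  have := @CA.J4p.c4P011010.congr_simp
  have := @CA.J4p.c4P0101010.eq_1
  have := @CA.J4p.c4P0101010.eq_def
  have := @CA.J4p.c4P0101010.congr_simp
  have := @CA.J4p.c4P0110110.eq_1
  have := @CA.J4p.c4P0110110.eq_def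
  have := @CA.J4p.c4P0110110.congr_simp
  have := @CA.J4p.c4P0111000.eq_1
  have := @CA.J4p.c4P0111000.eq_def
  have := @CA.J4p.c4P0111000.congr_simp
  have := @CA.J4p.c4P01010.eq_1
  have := @CA.J4p.c4P01010.eq_def
  have := @CA.J4p.c4P01010.congr_simp
  have := @CA.J4p.c4P0110000.eq_1
  have := @CA.J4p.c4P0110000.eq_def
  have := @CA.J4p.c4P0110000.congr_simp
  have := @CA.J4p.c4P0010010.eq_1
  have := @CA.J4p.c4P0010010.eq_def
  have := @CA.J4p.c4P0010010.congr_simp
  have := @CA.J4p.c4P0100001.eq_1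
  have := @CA.J4p.c4P0100001.eq_def
  have := @CA.J4p.c4P0100001.congr_simp
  have := @CA.J4p.c4P110100.eq_1
  have := @CA.J4p.c4P110100.eq_def
  have := @CA.J4p.c4P110100.congr_simp
  have := @CA.J4p.c4P000011.eq_1
  have := @CA.J4p.c4P000011.eq_def
  have := @CA.J4p.c4P000011.congr_simp
  have := @CA.J4p.c4P100.eq_1
  have := @CA.J4p.c4P100.eq_def
  have := @CA.J4p.c4P100.congr_simp
  have := @CA.J4p.c4P1001011.eq_1
  have := @CA.J4p.c4P1001011.eq_def
  have := @CA.J4p.c4P1001011.congr_simp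
  have := @CA.J4p.c4P0001101.eq_1
  have := @CA.J4p.c4P0001101.eq_def
  have := @CA.J4p.c4P0001101.congr_simp
  have := @CA.J4p.c4P1111000.eq_1
  have := @CA.J4p.c4P1111000.eq_def
  have := @CA.J4p.c4P1111000.congr_simp
  have := @CA.J4p.c4P110111.eq_1
  have := @CA.J4p.c4P110111.eq_def
  have := @CA.J4p.c4P110111.congr_simp
  have := @CA.J4p.c4P11000.eq_1
  have := @CA.J4p.c4P11000.eq_def
  have := @CA.J4p.c4P11000.congr_simp
  have := @CA.J4p.c4P0101.eq_1
  have := @CA.J4p.c4P0101.eq_def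
  have := @CA.J4p.c4P0101.congr_simp
  have := @CA.J4p.c4P10110.eq_1
  have := @CA.J4p.c4P10110.eq_def
  have := @CA.J4p.c4P10110.congr_simp
  have := @CA.J4p.c4P110101.eq_1
  have := @CA.J4p.c4P110101.eq_def
  have := @CA.J4p.c4P110101.congr_simp
  have := @CA.J4p.c4P1101101.eq_1
  have := @CA.J4p.c4P1101101.eq_def
  have := @CA.J4p.c4P1101101.congr_simp
  have := @CA.J4p.c4Ft.eq_1
  have := @CA.J4p.c4Ft.eq_def
  have := @CA.J4p.c4Ft.congr_simp
  have := @CA.J4p.c4Ft00.eq_1
  have := @CA.J4p.c4Ft00.eq_def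
  have := @CA.J4p.c4Ft00.congr_simp
  have := @CA.J4p.c4P0100011.eq_1
  have := @CA.J4p.c4P0100011.eq_def
  have := @CA.J4p.c4P0100011.congr_simp
  have := @CA.J4p.c4P1101000.eq_1
  have := @CA.J4p.c4P1101000.eq_def
  have := @CA.J4p.c4P1101000.congr_simp
  have := @CA.J4p.c4P0000000.eq_1
  have := @CA.J4p.c4P0000000.eq_def
  have := @CA.J4p.c4P0000000.congr_simp
  have := @CA.J4p.c4P01001.eq_1
  have := @CA.J4p.c4P01001.eq_def
  have := @CA.J4p.c4P01001.congr_simp
  have := @CA.J4p.c4P1111001.eq_1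
  have := @CA.J4p.c4P1111001.eq_def
  have := @CA.J4p.c4P1111001.congr_simp
  have := @CA.J4p.c4P1110011.eq_1
  have := @CA.J4p.c4P1110011.eq_def
  have := @CA.J4p.c4P1110011.congr_simp
  have := @CA.J4p.c4P01110.eq_1
  have := @CA.J4p.c4P01110.eq_def
  have := @CA.J4p.c4P01110.congr_simp
  have := @CA.J4p.c4P1100001.eq_1
  have := @CA.J4p.c4P1100001.eq_def
  have := @CA.J4p.c4P1100001.congr_simp
  have := @CA.J4p.c4P0011101.eq_1
  have := @CA.J4p.c4P0011101.eq_def
  have := @CA.J4p.c4P0011101.congr_simp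
  have := @CA.J4p.c4P1010101.eq_1
  have := @CA.J4p.c4P1010101.eq_def
  have := @CA.J4p.c4P1010101.congr_simp
  have := @CA.J4p.c4Tt.eq_1
  have := @CA.J4p.c4Tt.eq_def
  have := @CA.J4p.c4Tt.congr_simp
  have := @CA.J4p.c4P111.eq_1
  have := @CA.J4p.c4P111.eq_def
  have := @CA.J4p.c4P111.congr_simp
  have := @CA.J4p.c4P0000.eq_1
  have := @CA.J4p.c4P0000.eq_def
  have := @CA.J4p.c4P0000.congr_simp
  have := @CA.J4p.c4P1011010.eq_1
  have := @CA.J4p.c4P1011010.eq_def
  have := @CA.J4p.c4P1011010.congr_simp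
  have := @CA.J4p.c4P0000011.eq_1
  have := @CA.J4p.c4P0000011.eq_def
  have := @CA.J4p.c4P0000011.congr_simp
  have := @CA.J4p.c4P100101.eq_1
  have := @CA.J4p.c4P100101.eq_def
  have := @CA.J4p.c4P100101.congr_simp
  have := @CA.J4p.c4Ft1.eq_1
  have := @CA.J4p.c4Ft1.eq_def
  have := @CA.J4p.c4Ft1.congr_simp
  have := @CA.J4p.c4P0011100.eq_1
  have := @CA.J4p.c4P0011100.eq_def
  have := @CA.J4p.c4P0011100.congr_simp
  have := @CA.J4p.c4P1101011.eq_1
  have := @CA.J4p.c4P1101011.eq_def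
  have := @CA.J4p.c4P1101011.congr_simp
  have := @CA.J4p.c4P0011001.eq_1
  have := @CA.J4p.c4P0011001.eq_def
  have := @CA.J4p.c4P0011001.congr_simp
  have := @CA.J4p.c4P0110001.eq_1
  have := @CA.J4p.c4P0110001.eq_def
  have := @CA.J4p.c4P0110001.congr_simp
  have := @CA.J4p.c4P011111.eq_1
  have := @CA.J4p.c4P011111.eq_def
  have := @CA.J4p.c4P011111.congr_simp
  have := @CA.J4p.c4P00.eq_1
  have := @CA.J4p.c4P00.eq_def
  have := @CA.J4p.c4P00.congr_simp
  have := @CA.J4p.c4P0100111.eq_1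
  have := @CA.J4p.c4P0100111.eq_def
  have := @CA.J4p.c4P0100111.congr_simp
  have := @CA.J4p.c4P0111011.eq_1
  have := @CA.J4p.c4P0111011.eq_def
  have := @CA.J4p.c4P0111011.congr_simp
  have := @CA.J4p.c4P001101.eq_1
  have := @CA.J4p.c4P001101.eq_def
  have := @CA.J4p.c4P001101.congr_simp
  have := @CA.J4p.c4P1110010.eq_1
  have := @CA.J4p.c4P1110010.eq_def
  have := @CA.J4p.c4P1110010.congr_simp
  have := @CA.J4p.c4P1111111.eq_1
  have := @CA.J4p.c4P1111111.eq_def
  have := @CA.J4p.c4P1111111.congr_simp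
  have := @CA.J4p.c4P001111.eq_1
  have := @CA.J4p.c4P001111.eq_def
  have := @CA.J4p.c4P001111.congr_simp
  have := @CA.J4p.c4P1101001.eq_1
  have := @CA.J4p.c4P1101001.eq_def
  have := @CA.J4p.c4P1101001.congr_simp
  have := @CA.J4p.c4P0001110.eq_1
  have := @CA.J4p.c4P0001110.eq_def
  have := @CA.J4p.c4P0001110.congr_simp
  have := @CA.J4p.c4P00011.eq_1
  have := @CA.J4p.c4P00011.eq_def
  have := @CA.J4p.c4P00011.congr_simp
  have := @CA.J4p.c4P1000000.eq_1
  have := @CA.J4p.c4P1000000.eq_def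
  have := @CA.J4p.c4P1000000.congr_simp
  have := @CA.J4p.c4P100011.eq_1
  have := @CA.J4p.c4P100011.eq_def
  have := @CA.J4p.c4P100011.congr_simp
  have := @CA.J4p.c4P000.eq_1
  have := @CA.J4p.c4P000.eq_def
  have := @CA.J4p.c4P000.congr_simp
  have := @CA.J4p.c4P01000.eq_1
  have := @CA.J4p.c4P01000.eq_def
  have := @CA.J4p.c4P01000.congr_simp
  have := @CA.J4p.c4P1010110.eq_1
  have := @CA.J4p.c4P1010110.eq_def
  have := @CA.J4p.c4P1010110.congr_simp
  have := @CA.J4p.c4P1011011.eq_1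
  have := @CA.J4p.c4P1011011.eq_def
  have := @CA.J4p.c4P1011011.congr_simp
  have := @CA.J4p.c4P0100010.eq_1
  have := @CA.J4p.c4P0100010.eq_def
  have := @CA.J4p.c4P0100010.congr_simp
  have := @CA.J4p.c4P1010011.eq_1
  have := @CA.J4p.c4P1010011.eq_def
  have := @CA.J4p.c4P1010011.congr_simp
  have := @CA.J4p.c4P1000.eq_1
  have := @CA.J4p.c4P1000.eq_def
  have := @CA.J4p.c4P1000.congr_simp
  have := @CA.J4p.c4P0011000.eq_1
  have := @CA.J4p.c4P0011000.eq_def
  have := @CA.J4p.c4P0011000.congr_simp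
  have := @CA.J4p.c4P0101101.eq_1
  have := @CA.J4p.c4P0101101.eq_def
  have := @CA.J4p.c4P0101101.congr_simp
  have := @CA.J4p.c4P0111.eq_1
  have := @CA.J4p.c4P0111.eq_def
  have := @CA.J4p.c4P0111.congr_simp
  have := @CA.J4p.c4P1101110.eq_1
  have := @CA.J4p.c4P1101110.eq_def
  have := @CA.J4p.c4P1101110.congr_simp
  have := @CA.J4p.c4P1101010.eq_1
  have := @CA.J4p.c4P1101010.eq_def
  have := @CA.J4p.c4P1101010.congr_simp
  have := @CA.J4p.c4P111111.eq_1
  have := @CA.J4p.c4P111111.eq_def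
  have := @CA.J4p.c4P111111.congr_simp
  have := @CA.J4p.c4P0001000.eq_1
  have := @CA.J4p.c4P0001000.eq_def
  have := @CA.J4p.c4P0001000.congr_simp
  have := @CA.J4p.c4P1001101.eq_1
  have := @CA.J4p.c4P1001101.eq_def
  have := @CA.J4p.c4P1001101.congr_simp
  have := @CA.J4p.c4P111100.eq_1
  have := @CA.J4p.c4P111100.eq_def
  have := @CA.J4p.c4P111100.congr_simp
  have := @CA.J4p.c4P1000100.eq_1
  have := @CA.J4p.c4P1000100.eq_def
  have := @CA.J4p.c4P1000100.congr_simp
  have := @CA.J4p.c4P0100.eq_1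
  have := @CA.J4p.c4P0100.eq_def
  have := @CA.J4p.c4P0100.congr_simp
  have := @CA.J4p.c4P10.eq_1
  have := @CA.J4p.c4P10.eq_def
  have := @CA.J4p.c4P10.congr_simp
  have := @CA.J4p.c4C.eq_1
  have := @CA.J4p.c4C.eq_def
  have := @CA.J4p.c4C.congr_simp
  have := @CA.J4p.c4P00010.eq_1
  have := @CA.J4p.c4P00010.eq_def
  have := @CA.J4p.c4P00010.congr_simp
  have := @CA.J4p.c4P111001.eq_1
  have := @CA.J4p.c4P111001.eq_def
  have := @CA.J4p.c4P111001.congr_simp
  have := @CA.J4p.c4P1001111.eq_1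
  have := @CA.J4p.c4P1001111.eq_def
  have := @CA.J4p.c4P1001111.congr_simp
  have := @CA.J4p.c4P0100110.eq_1
  have := @CA.J4p.c4P0100110.eq_def
  have := @CA.J4p.c4P0100110.congr_simp
  have := @CA.J4p.c4P1001001.eq_1
  have := @CA.J4p.c4P1001001.eq_def
  have := @CA.J4p.c4P1001001.congr_simp
  have := @CA.J4p.c4P001100.eq_1
  have := @CA.J4p.c4P001100.eq_def
  have := @CA.J4p.c4P001100.congr_simp
  have := @CA.J4p.c4P0101000.eq_1
  have := @CA.J4p.c4P0101000.eq_def
  have := @CA.J4p.c4P0101000.congr_simp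
  have := @CA.J4p.c4P0011.eq_1
  have := @CA.J4p.c4P0011.eq_def
  have := @CA.J4p.c4P0011.congr_simp
  have := @CA.J4p.c4P1001.eq_1
  have := @CA.J4p.c4P1001.eq_def
  have := @CA.J4p.c4P1001.congr_simp
  have := @CA.J4p.c4P10111.eq_1
  have := @CA.J4p.c4P10111.eq_def
  have := @CA.J4p.c4P10111.congr_simp
  have := @CA.J4p.c4P1000110.eq_1
  have := @CA.J4p.c4P1000110.eq_def
  have := @CA.J4p.c4P1000110.congr_simp
  have := @CA.J4p.c4P010.eq_1
  have := @CA.J4p.c4P010.eq_def
  have := @CA.J4p.c4P010.congr_simp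
  have := @CA.J4p.c4P011011.eq_1
  have := @CA.J4p.c4P011011.eq_def
  have := @CA.J4p.c4P011011.congr_simp
  have := @CA.J4p.c4P0101111.eq_1
  have := @CA.J4p.c4P0101111.eq_def
  have := @CA.J4p.c4P0101111.congr_simp
  have := @CA.J4p.c4P11111.eq_1
  have := @CA.J4p.c4P11111.eq_def
  have := @CA.J4p.c4P11111.congr_simp
  have := @CA.J4p.c4P10100.eq_1
  have := @CA.J4p.c4P10100.eq_def
  have := @CA.J4p.c4P10100.congr_simp
  have := @CA.J4p.c4P001000.eq_1
  have := @CA.J4p.c4P001000.eq_def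
  have := @CA.J4p.c4P001000.congr_simp
  have := @CA.J4p.c4P0101001.eq_1
  have := @CA.J4p.c4P0101001.eq_def
  have := @CA.J4p.c4P0101001.congr_simp
  have := @CA.J4p.c4P0010001.eq_1
  have := @CA.J4p.c4P0010001.eq_def
  have := @CA.J4p.c4P0010001.congr_simp
  have := @CA.J4p.c4P1011101.eq_1
  have := @CA.J4p.c4P1011101.eq_def
  have := @CA.J4p.c4P1011101.congr_simp
  have := @CA.J4p.c4P11100.eq_1
  have := @CA.J4p.c4P11100.eq_def
  have := @CA.J4p.c4P11100.congr_simp
  have := @CA.J4p.c4P1100011.eq_1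
  have := @CA.J4p.c4P1100011.eq_def
  have := @CA.J4p.c4P1100011.congr_simp
  have := @CA.J4p.c4P0101100.eq_1
  have := @CA.J4p.c4P0101100.eq_def
  have := @CA.J4p.c4P0101100.congr_simp
  have := @CA.J4p.c4P00101.eq_1
  have := @CA.J4p.c4P00101.eq_def
  have := @CA.J4p.c4P00101.congr_simp
  have := @CA.J4p.c4P100111.eq_1
  have := @CA.J4p.c4P100111.eq_def
  have := @CA.J4p.c4P100111.congr_simp
  have := @CA.J4p.c4P1001010.eq_1
  have := @CA.J4p.c4P1001010.eq_def
  have := @CA.J4p.c4P1001010.congr_simp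
  have := @CA.J4p.c4P1000111.eq_1
  have := @CA.J4p.c4P1000111.eq_def
  have := @CA.J4p.c4P1000111.congr_simp
  have := @CA.J4p.c4P101011.eq_1
  have := @CA.J4p.c4P101011.eq_def
  have := @CA.J4p.c4P101011.congr_simp
  have := @CA.J4p.c4P1110100.eq_1
  have := @CA.J4p.c4P1110100.eq_def
  have := @CA.J4p.c4P1110100.congr_simp
  have := @CA.J4p.c4Ft10.eq_1
  have := @CA.J4p.c4Ft10.eq_def
  have := @CA.J4p.c4Ft10.congr_simp
  have := @CA.J4p.c4P0111100.eq_1
  have := @CA.J4p.c4P0111100.eq_def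
  have := @CA.J4p.c4P0111100.congr_simp
  have := @CA.J4p.c4P1110.eq_1
  have := @CA.J4p.c4P1110.eq_def
  have := @CA.J4p.c4P1110.congr_simp
  have := @CA.J4p.c4P1110000.eq_1
  have := @CA.J4p.c4P1110000.eq_def
  have := @CA.J4p.c4P1110000.congr_simp
  have := @CA.J4p.c4Ft01.eq_1
  have := @CA.J4p.c4Ft01.eq_def
  have := @CA.J4p.c4Ft01.congr_simp
  have := @CA.J4p.c4P010001.eq_1
  have := @CA.J4p.c4P010001.eq_def
  have := @CA.J4p.c4P010001.congr_simp
  have := @CA.J4p.c4P.eq_1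
  have := @CA.J4p.c4P.eq_def
  have := @CA.J4p.c4P.congr_simp
  have := @CA.J4p.c4P1010001.eq_1
  have := @CA.J4p.c4P1010001.eq_def
  have := @CA.J4p.c4P1010001.congr_simp
  have := @CA.J4p.c4P0110.eq_1
  have := @CA.J4p.c4P0110.eq_def
  have := @CA.J4p.c4P0110.congr_simp
  have := @CA.J4p.c4P000100.eq_1
  have := @CA.J4p.c4P000100.eq_def
  have := @CA.J4p.c4P000100.congr_simp
  have := @CA.J4p.c4P010101.eq_1
  have := @CA.J4p.c4P010101.eq_def
  have := @CA.J4p.c4P010101.congr_simp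
  have := @CA.J4p.c4P010110.eq_1
  have := @CA.J4p.c4P010110.eq_def
  have := @CA.J4p.c4P010110.congr_simp
  have := @CA.J4p.c4P1011111.eq_1
  have := @CA.J4p.c4P1011111.eq_def
  have := @CA.J4p.c4P1011111.congr_simp
  have := @CA.J4p.c4P1101100.eq_1
  have := @CA.J4p.c4P1101100.eq_def
  have := @CA.J4p.c4P1101100.congr_simp
  have := @CA.J4p.c4P1000001.eq_1
  have := @CA.J4p.c4P1000001.eq_def
  have := @CA.J4p.c4P1000001.congr_simp
  have := @CA.J4p.c4P1110111.eq_1
  have := @CA.J4p.c4P1110111.eq_def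
  have := @CA.J4p.c4P1110111.congr_simp
  have := @CA.J4p.c4Ft0.eq_1
  have := @CA.J4p.c4Ft0.eq_def
  have := @CA.J4p.c4Ft0.congr_simp
  have := @CA.J4p.c4P0100000.eq_1
  have := @CA.J4p.c4P0100000.eq_def
  have := @CA.J4p.c4P0100000.congr_simp
  have := @CA.J4p.c4P111010.eq_1
  have := @CA.J4p.c4P111010.eq_def
  have := @CA.J4p.c4P111010.congr_simp
  have := @CA.J4p.c4P1101111.eq_1
  have := @CA.J4p.c4P1101111.eq_def
  have := @CA.J4p.c4P1101111.congr_simp
  have := @CA.J4p.c4P01011.eq_1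
  have := @CA.J4p.c4P01011.eq_def
  have := @CA.J4p.c4P01011.congr_simp
  have := @CA.J4p.c4Ft11.eq_1
  have := @CA.J4p.c4Ft11.eq_def
  have := @CA.J4p.c4Ft11.congr_simp
  have := @CA.J4p.c4P11001.eq_1
  have := @CA.J4p.c4P11001.eq_def
  have := @CA.J4p.c4P11001.congr_simp
  have := @CA.J4p.c4P10101.eq_1
  have := @CA.J4p.c4P10101.eq_def
  have := @CA.J4p.c4P10101.congr_simp
  have := @CA.J4p.c4P0001010.eq_1
  have := @CA.J4p.c4P0001010.eq_def
  have := @CA.J4p.c4P0001010.congr_simp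
  have := @CA.J4p.c4P0011111.eq_1
  have := @CA.J4p.c4P0011111.eq_def
  have := @CA.J4p.c4P0011111.congr_simp
  have := @CA.J4p.c4P1100.eq_1
  have := @CA.J4p.c4P1100.eq_def
  have := @CA.J4p.c4P1100.congr_simp
  have := @CA.J4p.c4P01100.eq_1
  have := @CA.J4p.c4P01100.eq_def
  have := @CA.J4p.c4P01100.congr_simp
  have := @CA.J4p.c4P0000101.eq_1
  have := @CA.J4p.c4P0000101.eq_def
  have := @CA.J4p.c4P0000101.congr_simp
  have := @CA.J4p.c4P111011.eq_1
  have := @CA.J4p.c4P111011.eq_def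
  have := @CA.J4p.c4P111011.congr_simp
  have := @CA.J4p.c4P1100111.eq_1
  have := @CA.J4p.c4P1100111.eq_def
  have := @CA.J4p.c4P1100111.congr_simp
  have := @CA.J4p.c4T.eq_1
  have := @CA.J4p.c4T.eq_def
  have := @CA.J4p.c4T.congr_simp
  have := @CA.J4p.c4P000000.eq_1
  have := @CA.J4p.c4P000000.eq_def
  have := @CA.J4p.c4P000000.congr_simp
  have := @CA.J4p.c4P00111.eq_1
  have := @CA.J4p.c4P00111.eq_def
  have := @CA.J4p.c4P00111.congr_simp
  trivial

end CA.J4p
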